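import Groth.Agent.CAlg4.TopCount

set_option autoImplicit false

namespace Groth.Agent.CAlg4.TopLength

universe u

variable {R : Type u} [CommRing R] [IsNoetherianRing R] [IsLocalRing R]

omit [IsNoetherianRing R] in
lemma dim_sup_span_singleton_le {J : Ideal R} {x : R} (n : ℕ)
    (hJ : ringKrullDim (R ⧸ J) ≤ (n + 1 : ℕ))
    (hx : ∀ q ∈ J.minimalPrimes, q ≠ IsLocalRing.maximalIdeal R → x ∉ q) :
    ringKrullDim (R ⧸ (J ⊔ Ideal.span {x})) ≤ (n : WithBot ℕ∞) := by
  by_contra hlt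
  obtain ⟨q', hq', hd⟩ := exists_minimal_dim_le (J ⊔ Ideal.span {x}) (n + 1) (by
    rw [not_le] at hlt
    rw [Nat.cast_add, Nat.cast_one]
    exact ENat.WithBot.add_one_le_iff.mpr hlt)
  obtain ⟨q₀, hq₀, hle⟩ := Ideal.exists_minimalPrimes_le (le_sup_left.trans hq'.1.2)
  have := hq₀.1.1
  by_cases hm : q₀ = IsLocalRing.maximalIdeal R
  · have h0 : ringKrullDim (R ⧸ q'.asIdeal) ≤ 0 := dim_quotient_zero_of_radical _
      ((hm ▸ hle : _ ≤ q'.asIdeal).trans Ideal.le_radical)
    have h2 : n + 1 ≤ 0 := by exact_mod_cast hd.trans h0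
    omega
  · have hxq : x ∈ q'.asIdeal := hq'.1.2 (Ideal.mem_sup_right (Ideal.mem_span_singleton_self x))
    have h1 := (add_le_add_left hd 1).trans ((dim_quotient_succ_le hle hxq (hx q₀ hq₀ hm)).trans
      ((dim_quotient_mono hq₀.1.2).trans hJ))
    have h2 : n + 1 + 1 ≤ n + 1 := by exact_mod_cast h1
    omega

omit [IsNoetherianRing R] in
lemma maximalIdeal_le_radical_of_dim {J : Ideal R} (h : ringKrullDim (R ⧸ J) ≤ 0) :
    IsLocalRing.maximalIdeal R ≤ J.radical := by
  rw [← Nat.cast_zero, ← Ring.krullDimLE_iff,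
    Ideal.krullDimLE_zero_quotient_iff_forall_minimalPrimes_isMaximal] at h
  rw [Ideal.radical_eq_sInf]
  refine le_sInf fun P ⟨hP, hPp⟩ => ?_
  obtain ⟨q, hq, hle⟩ := Ideal.exists_minimalPrimes_le hP
  exact (IsLocalRing.eq_maximalIdeal (h q hq)).ge.trans hle

lemma exists_extension (k : ℕ) :
    ∀ (j : ℕ) (J : Ideal R), ringKrullDim (R ⧸ J) ≤ (j : WithBot ℕ∞) →
      ∃ g : Fin j → R, (∀ i, g i ∈ IsLocalRing.maximalIdeal R ^ k) ∧
        (∀ i, g i ∈ IsLocalRing.maximalIdeal R) ∧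
        IsLocalRing.maximalIdeal R ≤ (J ⊔ Ideal.span (Set.range g)).radical := by
  intro j
  induction j with
  | zero =>
    intro J hJ
    refine ⟨Fin.elim0, fun i => i.elim0, fun i => i.elim0, ?_⟩
    rw [Set.range_eq_empty, Ideal.span_empty, sup_bot_eq]
    exact maximalIdeal_le_radical_of_dim (by simpa using hJ)
  | succ j ih =>
    intro J hJ
    classical
    let s := (J.finite_minimalPrimes_of_isNoetherianRing (R := R)).toFinset.erase
      (IsLocalRing.maximalIdeal R)
    obtain ⟨x, hxm, hx⟩ : ∃ x ∈ IsLocalRing.maximalIdeal R ^ (k + 1),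
        ∀ q ∈ s, x ∉ q := by
      by_contra hne
      push Not at hne
      obtain ⟨q, hq, hle⟩ := (Ideal.subset_union_prime (IsLocalRing.maximalIdeal R)
        (IsLocalRing.maximalIdeal R) (f := fun q : Ideal R => q) (s := s) (fun q hq _ _ =>
          ((J.finite_minimalPrimes_of_isNoetherianRing (R := R)).mem_toFinset.mp
            (Finset.mem_of_mem_erase hq)).1.1)
        (I := IsLocalRing.maximalIdeal R ^ (k + 1))).mp (fun x hx => by
          obtain ⟨q, hq, hxq⟩ := hne x hx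
          exact Set.mem_biUnion hq hxq)
      have hqp : q.IsPrime := ((J.finite_minimalPrimes_of_isNoetherianRing (R := R)).mem_toFinset.mp
        (Finset.mem_of_mem_erase hq)).1.1
      exact Finset.ne_of_mem_erase hq ((IsLocalRing.maximalIdeal.isMaximal R).eq_of_le hqp.ne_top
        (hqp.le_of_pow_le hle)).symm
    obtain ⟨g, hg, hgm, hrad⟩ := ih (J ⊔ Ideal.span {x}) (dim_sup_span_singleton_le j hJ
      fun q hq hne => hx q (Finset.mem_erase.mpr ⟨hne, by simpa using hq⟩))
    refine ⟨Fin.cons x g, fun i => ?_, fun i => ?_, ?_⟩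
    · refine Fin.cases ?_ ?_ i
      · simpa using Ideal.pow_le_pow_right (Nat.le_succ k) hxm
      · simpa using hg
    · refine Fin.cases ?_ ?_ i
      · simpa using Ideal.pow_le_self (Nat.succ_ne_zero k) hxm
      · simpa using hgm
    · rwa [Fin.range_cons, Set.insert_eq, Ideal.span_union, ← sup_assoc]

lemma exists_sop_with (f : R) (d : ℕ) (hd : ringKrullDim R ≤ d)
    (hmin : ∀ p ∈ minimalPrimes R, f ∉ p) (k : ℕ) :
    ∃ g : Fin (d - 1) → R, (∀ i, g i ∈ IsLocalRing.maximalIdeal R ^ k) ∧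
      (∀ i, g i ∈ IsLocalRing.maximalIdeal R) ∧
      IsLocalRing.maximalIdeal R ≤ (Ideal.span (insert f (Set.range g))).radical := by
  obtain ⟨g, h1, h2, h3⟩ := exists_extension k (d - 1) (Ideal.span {f}) (by
    have := dim_sup_span_singleton_le (J := (⊥ : Ideal R)) (x := f) (d - 1)
      (((ringKrullDim_quotient_le _).trans hd).trans (by exact_mod_cast (by omega : d ≤ d - 1 + 1)))
      (fun q hq _ => hmin q hq)
    rwa [bot_sup_eq] at this)
  exact ⟨g, h1, h2, by rwa [Set.insert_eq, Ideal.span_union]⟩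

end Groth.Agent.CAlg4.TopLength
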