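import Groth.Agent.S14359
import Groth.Agent.CAlg4.SopChoose
import Mathlib.RingTheory.DiscreteValuationRing.TFAE
import Mathlib.RingTheory.Localization.Integral
import Mathlib.RingTheory.IntegralClosure.IntegrallyClosed
import Mathlib.RingTheory.Ideal.KrullsHeightTheorem

set_option autoImplicit false

namespace Groth.Agent.CAlg4.ReducedCurve

universe u

variable {R : Type u} [CommRing R] [IsDomain R] [IsNoetherianRing R] [IsIntegrallyClosed R]

lemma dvr_of_height_one (q : Ideal R) [q.IsPrime] (hq : q.height = 1) :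
    IsDiscreteValuationRing (Localization.AtPrime q) := by
  set S := Localization.AtPrime q
  have hdim : ringKrullDim S = 1 := by
    rw [IsLocalization.AtPrime.ringKrullDim_eq_height q, hq]
    rfl
  have : IsIntegrallyClosed S :=
    isIntegrallyClosed_of_isLocalization _ q.primeCompl q.primeCompl_le_nonZeroDivisors
  have hnf : ¬ IsField S := fun hf => by
    have h0 := IsLocalRing.maximalIdeal_height_eq_ringKrullDim (R := S)
    rw [IsLocalRing.isField_iff_maximalIdeal_eq.mp hf, Ideal.height_bot, hdim] at h0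
    exact absurd h0 (by decide)
  have hT : IsDiscreteValuationRing S ↔
      (IsIntegrallyClosed S ∧ ∃! P : Ideal S, P ≠ ⊥ ∧ P.IsPrime) :=
    (IsDiscreteValuationRing.TFAE S hnf).out 0 3
  refine hT.mpr ⟨inferInstance, IsLocalRing.maximalIdeal S,
    ⟨IsLocalRing.isField_iff_maximalIdeal_eq.not.mp hnf, inferInstance⟩, ?_⟩
  rintro P ⟨hP, hPp⟩
  have : Ring.KrullDimLE 1 S := Ring.krullDimLE_iff.mpr hdim.le
  rcases Ring.krullDimLE_one_iff.mp this P hPp with h | h
  · rw [IsDomain.minimalPrimes_eq_singleton_bot] at h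
    exact absurd (Set.mem_singleton_iff.mp h) hP
  · exact IsLocalRing.eq_maximalIdeal h

lemma dvd_of_forall_height_one (a b : R) (ha : a ≠ 0)
    (h : ∀ (q : Ideal R) [q.IsPrime], q.height = 1 → a ∈ q →
      algebraMap R (Localization.AtPrime q) a ∣ algebraMap R (Localization.AtPrime q) b) : a ∣ b := by
  by_contra hab
  have hne : (Ideal.Quotient.mk (Ideal.span {a}) b) ≠ 0 := fun hh =>
    hab (Ideal.mem_span_singleton.mp (Ideal.Quotient.eq_zero_iff_mem.mp hh))
  obtain ⟨p, hp, hle⟩ := exists_le_isAssociatedPrime_of_isNoetherianRing R _ hne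
  have hpp := hp.isPrime
  have h1 := Groth.Agent.S14359.result R a ha p hp
  have hap : a ∈ p := hle (by
    rw [Submodule.mem_colon_singleton, Submodule.mem_bot, Algebra.smul_def,
      Ideal.Quotient.algebraMap_eq, ← map_mul, Ideal.Quotient.eq_zero_iff_mem]
    exact Ideal.mul_mem_right _ _ (Ideal.mem_span_singleton_self a))
  obtain ⟨t, ht⟩ := h p h1 hap
  obtain ⟨r, s, rfl⟩ := IsLocalization.exists_mk'_eq p.primeCompl t
  have hs : b * (s : R) = r * a :=
    IsLocalization.injective (Localization.AtPrime p) p.primeCompl_le_nonZeroDivisors (by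
      rw [map_mul, ht, mul_assoc, IsLocalization.mk'_spec, map_mul, mul_comm])
  refine s.2 (hle ?_)
  rw [Submodule.mem_colon_singleton, Submodule.mem_bot, Algebra.smul_def,
    Ideal.Quotient.algebraMap_eq, ← map_mul, Ideal.Quotient.eq_zero_iff_mem, mul_comm, hs]
  exact Ideal.mul_mem_left _ _ (Ideal.mem_span_singleton_self a)

lemma span_eq_maximalIdeal {S : Type u} [CommRing S] [IsDomain S] [IsDiscreteValuationRing S]
    {c : S} (hc : c ∈ IsLocalRing.maximalIdeal S) (hc2 : c ∉ IsLocalRing.maximalIdeal S ^ 2) :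
    Ideal.span {c} = IsLocalRing.maximalIdeal S := by
  obtain ⟨ϖ, hϖ⟩ := IsDiscreteValuationRing.exists_irreducible S
  rw [hϖ.maximalIdeal_eq] at hc hc2 ⊢
  obtain ⟨t, rfl⟩ := Ideal.mem_span_singleton.mp hc
  have ht : IsUnit t := by
    by_contra htu
    have : t ∈ IsLocalRing.maximalIdeal S := htu
    rw [hϖ.maximalIdeal_eq] at this
    refine hc2 ?_
    rw [pow_two]
    exact Ideal.mul_mem_mul (Ideal.mem_span_singleton_self ϖ) this
  exact Ideal.span_singleton_mul_right_unit ht ϖ

lemma isReduced_of_simple (c : R) (hc : c ≠ 0)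
    (h : ∀ (q : Ideal R) [q.IsPrime], q.height = 1 → c ∈ q →
      algebraMap R (Localization.AtPrime q) c ∉ IsLocalRing.maximalIdeal (Localization.AtPrime q) ^ 2) :
    IsReduced (R ⧸ Ideal.span ({c} : Set R)) := by
  refine ⟨fun x hx => ?_⟩
  obtain ⟨b, rfl⟩ := Ideal.Quotient.mk_surjective x
  obtain ⟨n, hn⟩ := hx
  rw [← map_pow, Ideal.Quotient.eq_zero_iff_mem] at hn
  rw [Ideal.Quotient.eq_zero_iff_mem, Ideal.mem_span_singleton]
  refine dvd_of_forall_height_one c b hc fun q _ hq hcq => ?_
  have := dvr_of_height_one q hq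
  have hm : algebraMap R (Localization.AtPrime q) c ∈ IsLocalRing.maximalIdeal _ := by
    rw [← Localization.AtPrime.map_eq_maximalIdeal]
    exact Ideal.mem_map_of_mem _ hcq
  rw [← Ideal.mem_span_singleton, span_eq_maximalIdeal hm (h q hq hcq)]
  refine Ideal.IsPrime.mem_of_pow_mem inferInstance n ?_
  rw [← map_pow, ← span_eq_maximalIdeal hm (h q hq hcq), Ideal.mem_span_singleton]
  exact map_dvd _ (Ideal.mem_span_singleton.mp hn)

omit [IsIntegrallyClosed R] [IsDomain R] in
lemma eq_of_le_of_height_one {p q : Ideal R} [p.IsPrime] [q.IsPrime] (hle : p ≤ q)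
    (hp : p.height = 1) (hq : q.height = 1) : p = q := by
  by_contra hne
  have := Ideal.height_strict_mono_of_isPrime (lt_of_le_of_ne hle hne)
  rw [hp, hq] at this
  exact lt_irrefl _ this

omit [IsIntegrallyClosed R] in
lemma finite_height_one {c : R} (hc : c ≠ 0) :
    {q : Ideal R | q.IsPrime ∧ q.height = 1 ∧ c ∈ q}.Finite := by
  refine ((Ideal.span {c}).finite_minimalPrimes_of_isNoetherianRing (R := R)).subset ?_
  rintro q ⟨hq, hh, hcq⟩
  obtain ⟨q₀, hq₀, hle⟩ := Ideal.exists_minimalPrimes_le (J := q)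
    ((Ideal.span_singleton_le_iff_mem _).mpr hcq)
  have := hq₀.1.1
  by_contra hn
  have hlt : q₀ < q := lt_of_le_of_ne hle (fun h => hn (h ▸ hq₀))
  have h0 := Ideal.height_strict_mono_of_isPrime hlt
  rw [hh, Order.lt_one_iff, Ideal.height_eq_zero_iff, IsDomain.minimalPrimes_eq_singleton_bot] at h0
  exact hc (by simpa [Set.mem_singleton_iff.mp h0] using hq₀.1.2 (Ideal.mem_span_singleton_self c))

omit [IsIntegrallyClosed R] in
lemma sum_le_bound [IsLocalRing R] (hdim : ringKrullDim R = 2) {c x : R} (hc : c ≠ 0)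
    (hx : x ∈ IsLocalRing.maximalIdeal R)
    (hrad : IsLocalRing.maximalIdeal R ≤ (Ideal.span {c, x}).radical) :
    ((finite_height_one hc).toFinset.card : ℕ∞) ≤ Module.length R (R ⧸ Ideal.span {c, x}) := by
  classical
  have hJ : Ideal.span {c} ⊔ Ideal.span (Set.range fun _ : Fin 1 => x) = Ideal.span {c, x} := by
    rw [Set.range_const, ← Ideal.span_union, Set.singleton_union]
  let T : Finset (PrimeSpectrum R) :=
    ((finite_height_one hc).preimage (f := fun q : PrimeSpectrum R => q.asIdeal)
      fun _ _ _ _ h => PrimeSpectrum.ext h).toFinset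
  have hT : ∀ P ∈ T, c ∈ P.asIdeal ∧ P.asIdeal.height = 1 := fun P hP => by
    simp only [T, Set.Finite.mem_toFinset, Set.mem_preimage, Set.mem_ofPred_eq] at hP
    exact ⟨hP.2.2, hP.2.1⟩
  have hcount := Groth.Agent.CAlg4.TopLength.count 1 (Ideal.span {c}) (fun _ => x) (fun _ => hx)
    (hJ ▸ hrad) T (fun P hP => ⟨(Ideal.span_singleton_le_iff_mem _).mpr (hT P hP).1, by
      by_contra hlt
      rw [Nat.cast_one, not_le] at hlt
      have h0 : Ring.KrullDimLE 0 (R ⧸ P.asIdeal) := Ring.krullDimLE_iff.mpr (by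
        rw [Nat.cast_zero]
        by_contra hh
        rw [not_le] at hh
        have h1 : ((0 : ℕ) : WithBot ℕ∞) < ringKrullDim (R ⧸ P.asIdeal) := by
          rwa [Nat.cast_zero]
        have h2 := ENat.WithBot.add_one_le_iff.mpr h1
        rw [Nat.cast_zero, zero_add] at h2
        exact not_lt.mpr h2 hlt)
      have hmax := Ideal.Quotient.maximal_of_isField _
        (Ring.KrullDimLE.isField_of_isDomain (R := R ⧸ P.asIdeal))
      have h2 := IsLocalRing.maximalIdeal_height_eq_ringKrullDim (R := R)
      rw [← IsLocalRing.eq_maximalIdeal hmax, (hT P hP).2, hdim] at h2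
      exact absurd h2 (by decide)⟩)
  rw [hJ] at hcount
  refine le_trans ?_ hcount
  have hcard : (finite_height_one hc).toFinset.card = T.card := by
    rw [← Set.ncard_eq_toFinset_card _ (finite_height_one hc), ← Set.ncard_coe_finset T]
    simp only [T, Set.Finite.coe_toFinset]
    exact (Set.ncard_preimage_of_injective_subset_range (f := fun q : PrimeSpectrum R => q.asIdeal)
      (fun _ _ h => PrimeSpectrum.ext h) (fun q hq => ⟨⟨q, hq.1⟩, rfl⟩)).symm
  rw [hcard, Finset.card_eq_sum_ones, Nat.cast_sum]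
  refine Finset.sum_le_sum fun P hP => ?_
  rw [Nat.cast_one]
  refine Groth.Agent.CAlg4.TopLength.locLen_ne_zero _ ?_
  rw [Groth.Agent.CAlg4.TopLength.support_ring_quotient]
  exact (Ideal.span_singleton_le_iff_mem _).mpr (hT P hP).1

set_option maxHeartbeats 800000 in
theorem exists_reduced [IsLocalRing R] (hdim : ringKrullDim R = 2)
    (s : Finset (Ideal R)) (hs : ∀ p ∈ s, p.IsPrime ∧ p.height = 1) :
    ∃ f : R, f ≠ 0 ∧ (∀ p ∈ s, f ∈ p) ∧ IsReduced (R ⧸ Ideal.span ({f} : Set R)) := by
  classical
  have hne : ∀ p ∈ insert (IsLocalRing.maximalIdeal R) s, ∃ a ∈ p, a ≠ (0 : R) := by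
    intro p hp
    refine Submodule.exists_mem_ne_zero_of_ne_bot fun hbot => ?_
    rcases Finset.mem_insert.mp hp with rfl | hp
    · have h2 := IsLocalRing.maximalIdeal_height_eq_ringKrullDim (R := R)
      rw [hbot, Ideal.height_bot, hdim] at h2
      exact absurd h2 (by decide)
    · have h2 := (hs p hp).2
      rw [hbot, Ideal.height_bot] at h2
      exact zero_ne_one h2
  choose! a ha ha0 using hne
  set c₀ := ∏ p ∈ insert (IsLocalRing.maximalIdeal R) s, a p
  have hc₀ : ∀ p ∈ insert (IsLocalRing.maximalIdeal R) s, c₀ ∈ p := fun p hp =>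
    Ideal.prod_mem _ hp (ha p hp)
  have hc₀0 : c₀ ≠ 0 := Finset.prod_ne_zero_iff.mpr ha0
  obtain ⟨g, -, hgm, hgrad⟩ := Groth.Agent.CAlg4.TopLength.exists_sop_with c₀ 2 hdim.le
    (fun p hp h => hc₀0 (by
      rw [IsDomain.minimalPrimes_eq_singleton_bot, Set.mem_singleton_iff] at hp
      simpa [hp] using h)) 1
  obtain ⟨x, hx, hrad⟩ : ∃ x ∈ IsLocalRing.maximalIdeal R,
      IsLocalRing.maximalIdeal R ≤ (Ideal.span {c₀, x}).radical := by
    refine ⟨g 0, hgm 0, ?_⟩
    have : Set.range g = {g 0} := by
      rw [show g = fun _ => g 0 from funext fun i => congrArg g (Fin.ext (by omega)), Set.range_const]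
    rwa [this] at hgrad
  set J := Ideal.span {c₀, x}
  obtain ⟨N₀, hN₀⟩ := Ideal.exists_pow_le_of_le_radical_of_fg hrad (IsNoetherian.noetherian _)
  have hN : IsLocalRing.maximalIdeal R ^ (N₀ + 1) ≤ IsLocalRing.maximalIdeal R * J := by
    rw [pow_succ']
    exact Ideal.mul_mono_right hN₀
  have hL := Groth.Agent.CAlg4.TopLength.length_quotient_ne_top J hrad
  suffices ∀ (k : ℕ) (c : R) (hc : c ≠ 0), (∀ p ∈ s, c ∈ p) → Ideal.span {c, x} = J →
      (Module.length R (R ⧸ J)).toNat < (finite_height_one hc).toFinset.card + k →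
      ∃ f : R, f ≠ 0 ∧ (∀ p ∈ s, f ∈ p) ∧ IsReduced (R ⧸ Ideal.span ({f} : Set R)) from
    this _ c₀ hc₀0 (fun p hp => hc₀ p (Finset.mem_insert_of_mem hp)) rfl
      (Nat.lt_of_lt_of_le (Nat.lt_succ_self _) (Nat.le_add_left _ _))
  intro k
  induction k with
  | zero =>
    intro c hc _ hcJ hlt
    have h := sum_le_bound hdim hc hx (hcJ ▸ hrad)
    rw [hcJ, ← ENat.natCast_toNat hL, Nat.cast_le] at h
    omega
  | succ k ih =>
    intro c hc hcs hcJ hlt
    by_cases hsimple : ∀ (q : Ideal R) [q.IsPrime], q.height = 1 → c ∈ q →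
        algebraMap R (Localization.AtPrime q) c ∉
          IsLocalRing.maximalIdeal (Localization.AtPrime q) ^ 2
    · exact ⟨c, hc, hcs, isReduced_of_simple c hc hsimple⟩
    push Not at hsimple
    obtain ⟨q₁, hq₁p, hq₁, hcq₁, hsq⟩ := hsimple
    have := dvr_of_height_one q₁ hq₁
    -- a uniformizer
    obtain ⟨y, hy, hy2⟩ : ∃ y ∈ q₁, algebraMap R (Localization.AtPrime q₁) y ∉
        IsLocalRing.maximalIdeal (Localization.AtPrime q₁) ^ 2 := by
      by_contra hno
      push Not at hno
      have hle : IsLocalRing.maximalIdeal (Localization.AtPrime q₁) ≤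
          IsLocalRing.maximalIdeal (Localization.AtPrime q₁) ^ 2 := by
        conv_lhs => rw [← Localization.AtPrime.map_eq_maximalIdeal]
        exact Ideal.map_le_iff_le_comap.mpr hno
      rw [pow_two] at hle
      exact IsDiscreteValuationRing.not_a_field _ (Submodule.eq_bot_of_le_smul_of_le_jacobson_bot
        _ _ (IsNoetherian.noetherian _) hle (IsLocalRing.maximalIdeal_le_jacobson _))
    set C := (finite_height_one hc).toFinset with hC
    have hC' : ∀ q ∈ C, q.IsPrime ∧ q.height = 1 ∧ c ∈ q := fun q hq => by simpa [hC] using hq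
    -- multipliers
    have hmult : ∀ q ∈ C.erase q₁, ∃ sq, sq ∉ q₁ ∧ ∃ _ : q.IsPrime, ∀ r : R,
        ∃ t ∈ IsLocalRing.maximalIdeal (Localization.AtPrime q),
          algebraMap R (Localization.AtPrime q) (sq * r) = algebraMap R _ c * t := by
      intro q hq
      obtain ⟨hqp, hqh, hcq⟩ := hC' q (Finset.mem_of_mem_erase hq)
      have := dvr_of_height_one q hqh
      set mq := IsLocalRing.maximalIdeal (Localization.AtPrime q)
      have hne0 : Ideal.span {algebraMap R (Localization.AtPrime q) c} ≠ ⊥ := by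
        rw [Ne, Ideal.span_singleton_eq_bot]
        exact fun h => hc (IsLocalization.injective (Localization.AtPrime q)
          q.primeCompl_le_nonZeroDivisors (by rw [h, map_zero]))
      have hT : IsDiscreteValuationRing (Localization.AtPrime q) ↔
          ∀ (I : Ideal (Localization.AtPrime q)) (_ : I ≠ ⊥), ∃ k : ℕ,
            I = IsLocalRing.maximalIdeal (Localization.AtPrime q) ^ k :=
        (IsDiscreteValuationRing.TFAE (Localization.AtPrime q)
          (IsDiscreteValuationRing.not_isField _)).out 0 6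
      obtain ⟨n, hn⟩ := hT.mp inferInstance _ hne0
      obtain ⟨sq, hsq', hsq1⟩ : ∃ sq ∈ q ^ (n + 1), sq ∉ q₁ := by
        by_contra hno
        push Not at hno
        exact Finset.ne_of_mem_erase hq (eq_of_le_of_height_one
          (Ideal.IsPrime.le_of_pow_le (n := n + 1) hno) hqh hq₁)
      refine ⟨sq, hsq1, hqp, fun r => ?_⟩
      have hmem : algebraMap R (Localization.AtPrime q) (sq * r) ∈
          Ideal.span {algebraMap R (Localization.AtPrime q) c} * mq := by
        rw [hn, ← pow_succ, map_mul]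
        refine Ideal.mul_mem_right _ _ ?_
        show _ ∈ IsLocalRing.maximalIdeal (Localization.AtPrime q) ^ (n + 1)
        rw [← Localization.AtPrime.map_eq_maximalIdeal, ← Ideal.map_pow]
        exact Ideal.mem_map_of_mem _ hsq'
      obtain ⟨t, ht, he⟩ := Ideal.mem_span_singleton_mul.mp hmem
      exact ⟨t, ht, he.symm⟩
    choose! sq hsq₁ hsqp hsqt using hmult
    obtain ⟨sN, hsN, hsN1⟩ : ∃ z ∈ IsLocalRing.maximalIdeal R ^ (N₀ + 1), z ∉ q₁ := by
      by_contra hno
      push Not at hno
      have h2 := IsLocalRing.maximalIdeal_height_eq_ringKrullDim (R := R)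
      rw [(IsLocalRing.maximalIdeal.isMaximal R).eq_of_le hq₁p.ne_top
        (Ideal.IsPrime.le_of_pow_le hno), hq₁, hdim] at h2
      exact absurd h2 (by decide)
    set w := sN * ∏ q ∈ C.erase q₁, sq q
    have hw : w ∉ q₁ := fun h => by
      rcases hq₁p.mem_or_mem h with h | h
      · exact hsN1 h
      · obtain ⟨q, hq, hq'⟩ := (hq₁p.prod_mem_iff).mp h
        exact hsq₁ q hq hq'
    set c' := c + y * w
    have hyw : y * w ∈ IsLocalRing.maximalIdeal R * J := hN (by
      simp only [w]
      exact Ideal.mul_mem_left _ _ (Ideal.mul_mem_right _ _ hsN))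
    have hc'q₁ : algebraMap R (Localization.AtPrime q₁) c' ∈
        IsLocalRing.maximalIdeal (Localization.AtPrime q₁) ∧
        algebraMap R (Localization.AtPrime q₁) c' ∉
        IsLocalRing.maximalIdeal (Localization.AtPrime q₁) ^ 2 := by
      have hym : algebraMap R (Localization.AtPrime q₁) y ∈
          IsLocalRing.maximalIdeal (Localization.AtPrime q₁) := by
        rw [← Localization.AtPrime.map_eq_maximalIdeal]
        exact Ideal.mem_map_of_mem _ hy
      rw [map_add, map_mul]
      refine ⟨add_mem (Ideal.pow_le_self two_ne_zero hsq) (Ideal.mul_mem_right _ _ hym),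
        fun h => hy2 ?_⟩
      have := Ideal.sub_mem _ h hsq
      rw [add_sub_cancel_left] at this
      exact (Ideal.mul_unit_mem_iff_mem _
        (IsLocalization.map_units _ (⟨w, hw⟩ : q₁.primeCompl))).mp this
    have hc'0 : c' ≠ 0 := fun h => hc'q₁.2 (by rw [h, map_zero]; exact zero_mem _)
    have hlocal : ∀ q ∈ C, ∀ [q.IsPrime], c' ∈ q ∧
        algebraMap R (Localization.AtPrime q) c' ∣ algebraMap R (Localization.AtPrime q) c := by
      intro q hq _
      rcases eq_or_ne q q₁ with rfl | hne
      · refine ⟨(IsLocalization.AtPrime.to_map_mem_maximal_iff (Localization.AtPrime q) q c').mp hc'q₁.1, ?_⟩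
        rw [← Ideal.mem_span_singleton, span_eq_maximalIdeal hc'q₁.1 hc'q₁.2]
        exact Ideal.pow_le_self two_ne_zero hsq
      · have hqe := Finset.mem_erase.mpr ⟨hne, hq⟩
        obtain ⟨t, htm, ht⟩ := hsqt q hqe (y * (sN * ∏ z ∈ (C.erase q₁).erase q, sq z))
        have he : sq q * (y * (sN * ∏ z ∈ (C.erase q₁).erase q, sq z)) = y * w := by
          simp only [w]
          rw [← Finset.mul_prod_erase _ _ hqe]
          ring
        rw [he] at ht
        have heq : algebraMap R (Localization.AtPrime q) c' = algebraMap R _ c * (1 + t) := by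
          rw [map_add, ht, mul_add, mul_one]
        refine ⟨(IsLocalization.AtPrime.to_map_mem_maximal_iff (Localization.AtPrime q) q c').mp ?_, ?_⟩
        · rw [heq]
          exact Ideal.mul_mem_right _ _
            ((IsLocalization.AtPrime.to_map_mem_maximal_iff (Localization.AtPrime q) q c).mpr (hC' q hq).2.2)
        · rw [heq]
          have hu : IsUnit (1 + t) := IsLocalRing.isUnit_of_mem_nonunits_one_sub_self _
            (by simpa using htm)
          exact (Associated.dvd (associated_mul_unit_left _ _ hu))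
    have hJ' : Ideal.span {c', x} = J := by
      apply le_antisymm
      · rw [Ideal.span_le, Set.insert_subset_iff, Set.singleton_subset_iff]
        exact ⟨add_mem (hcJ ▸ Ideal.subset_span (Set.mem_insert _ _) : c ∈ J) (Ideal.mul_le_right hyw),
          Ideal.subset_span (Set.mem_insert_of_mem _ rfl)⟩
      · refine Submodule.le_of_le_smul_of_le_jacobson_bot (IsNoetherian.noetherian _)
          (IsLocalRing.maximalIdeal_le_jacobson _) ?_
        conv_lhs => rw [← hcJ]
        rw [Ideal.span_le, Set.insert_subset_iff, Set.singleton_subset_iff]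
        refine ⟨Submodule.mem_sup.mpr ⟨c', Ideal.subset_span (Set.mem_insert _ _), -(y * w),
          neg_mem (by simpa [smul_eq_mul] using hyw), ?_⟩,
          Submodule.mem_sup_left (Ideal.subset_span (Set.mem_insert_of_mem _ rfl))⟩
        simp [c']
    have hsub : C ⊂ (finite_height_one hc'0).toFinset := by
      refine Finset.ssubset_iff_subset_ne.mpr ⟨fun q hq => ?_, fun heq => ?_⟩
      · have := (hC' q hq).1
        simpa using ⟨(hC' q hq).1, (hC' q hq).2.1, (hlocal q hq).1⟩
      · have hdvd : c' ∣ c := dvd_of_forall_height_one c' c hc'0 fun q _ hqh hq' =>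
          (hlocal q (heq ▸ by simpa using ⟨‹q.IsPrime›, hqh, hq'⟩)).2
        obtain ⟨t, ht⟩ := hdvd
        have htm : t ∈ IsLocalRing.maximalIdeal R := by
          intro htu
          refine hc'q₁.2 ?_
          have h := hsq
          rw [ht, map_mul] at h
          exact (Ideal.mul_unit_mem_iff_mem _ (htu.map _)).mp h
        have hyw' : c' * (1 - t) = y * w := by
          rw [mul_sub, mul_one, ← ht]
          exact add_sub_cancel_left c (y * w)
        have hu : IsUnit (1 - t) := IsLocalRing.isUnit_of_mem_nonunits_one_sub_self _ (by simpa using htm)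
        have hc'J : c' ∈ IsLocalRing.maximalIdeal R * J :=
          (Ideal.mul_unit_mem_iff_mem _ hu).mp (hyw' ▸ hyw)
        have hJx : J ≤ Ideal.span {x} := by
          refine Submodule.le_of_le_smul_of_le_jacobson_bot (IsNoetherian.noetherian _)
            (IsLocalRing.maximalIdeal_le_jacobson _) ?_
          conv_lhs => rw [← hJ']
          rw [Ideal.span_le, Set.insert_subset_iff, Set.singleton_subset_iff]
          exact ⟨Submodule.mem_sup_right (by simpa [smul_eq_mul] using hc'J),
            Submodule.mem_sup_left (Ideal.mem_span_singleton_self x)⟩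
        have hmin : IsLocalRing.maximalIdeal R ∈ (Ideal.span {x}).minimalPrimes :=
          ⟨⟨inferInstance, (Ideal.span_singleton_le_iff_mem _).mpr hx⟩, fun P hP _ =>
            (hrad.trans (Ideal.radical_mono hJx)).trans (hP.1.radical_le_iff.mpr hP.2)⟩
        have h1 := Ideal.height_le_one_of_isPrincipal_of_mem_minimalPrimes (Ideal.span {x}) _ hmin
        have h2 := IsLocalRing.maximalIdeal_height_eq_ringKrullDim (R := R)
        rw [hdim] at h2
        have h3 := (WithBot.coe_le_coe (α := ℕ∞)).mpr h1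
        rw [h2] at h3
        exact absurd h3 (by decide)
    refine ih c' hc'0 (fun p hp => ?_) hJ' ?_
    · have := (hs p hp).1
      exact (hlocal p (by simpa [hC] using ⟨(hs p hp).1, (hs p hp).2, hcs p hp⟩)).1
    · have := Finset.card_lt_card hsub
      omega

theorem exists_reduced_dvd [IsLocalRing R] (hdim : ringKrullDim R = 2) (a : R) (ha0 : a ≠ 0) :
    ∃ c : R, c ≠ 0 ∧ IsReduced (R ⧸ Ideal.span ({c} : Set R)) ∧ ∃ n : ℕ, a ∣ c ^ n := by
  obtain ⟨c, hc, hcs, hred⟩ := exists_reduced hdim
    ((Ideal.span {a}).finite_minimalPrimes_of_isNoetherianRing (R := R)).toFinset (fun p hp => by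
      rw [Set.Finite.mem_toFinset] at hp
      have := hp.1.1
      refine ⟨hp.1.1, le_antisymm
        (Ideal.height_le_one_of_isPrincipal_of_mem_minimalPrimes _ p hp) ?_⟩
      rw [Order.one_le_iff_pos, pos_iff_ne_zero, Ne, Ideal.height_eq_zero_iff,
        IsDomain.minimalPrimes_eq_singleton_bot, Set.mem_singleton_iff]
      exact fun h => ha0 (by simpa [h] using hp.1.2 (Ideal.mem_span_singleton_self a)))
  have hrad : c ∈ (Ideal.span {a}).radical := by
    rw [← Ideal.sInf_minimalPrimes, Ideal.mem_sInf]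
    intro p hp
    exact hcs p (by simpa using hp)
  obtain ⟨n, hn⟩ := hrad
  exact ⟨c, hc, hred, n, Ideal.mem_span_singleton.mp hn⟩

end Groth.Agent.CAlg4.ReducedCurve
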