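import Mathlib.RingTheory.Filtration
import Mathlib.Algebra.Module.FinitePresentation
import Mathlib.RingTheory.Noetherian.Basic

set_option autoImplicit false

namespace Groth.Agent.CAlg4.AR

universe u

variable {A : Type u} [CommRing A] [IsNoetherianRing A] (I : Ideal A)

lemma exists_inf_le {L : Type u} [AddCommGroup L] [Module A L] [Module.Finite A L]
    (W : Submodule A L) :
    ∃ c : ℕ, ∀ n : ℕ, (I ^ (n + c) • ⊤ : Submodule A L) ⊓ W ≤ I ^ n • W := by
  obtain ⟨c, hc⟩ := Ideal.exists_pow_inf_eq_pow_smul I W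
  refine ⟨c, fun n => ?_⟩
  rw [hc (n + c) (by omega), Nat.add_sub_cancel]
  exact Submodule.smul_mono le_rfl inf_le_right

lemma exists_preimage {P Q : Type u} [AddCommGroup P] [Module A P] [AddCommGroup Q] [Module A Q]
    [Module.Finite A Q] (f : P →ₗ[A] Q) :
    ∃ c : ℕ, ∀ (n : ℕ) (x : P), f x ∈ (I ^ (n + c) • ⊤ : Submodule A Q) →
      ∃ z ∈ (I ^ n • ⊤ : Submodule A P), f z = f x := by
  obtain ⟨c, hc⟩ := exists_inf_le I (LinearMap.range f)
  refine ⟨c, fun n x hx => ?_⟩
  have := hc n ⟨hx, ⟨x, rfl⟩⟩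
  rw [LinearMap.range_eq_map, ← Submodule.map_smul''] at this
  obtain ⟨z, hz, hzx⟩ := this
  exact ⟨z, hz, hzx⟩

omit [IsNoetherianRing A] in
lemma mem_smul_pi {ι : Type*} [Finite ι] {N : Type u} [AddCommGroup N] [Module A N] (J : Ideal A)
    (x : ι → N) :
    x ∈ (J • ⊤ : Submodule A (ι → N)) ↔ ∀ i, x i ∈ (J • ⊤ : Submodule A N) := by
  classical
  have := Fintype.ofFinite ι
  constructor
  · intro hx i
    have h := Submodule.mem_map_of_mem (f := LinearMap.proj (R := A) (φ := fun _ : ι => N) i) hx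
    rw [Submodule.map_smul''] at h
    exact Submodule.smul_mono le_rfl le_top h
  · intro hx
    rw [show x = ∑ i, Pi.single i (x i) from (Finset.univ_sum_single x).symm]
    refine Submodule.sum_mem _ fun i _ => ?_
    have h := Submodule.mem_map_of_mem (f := LinearMap.single A (fun _ : ι => N) i) (hx i)
    rw [Submodule.map_smul''] at h
    exact Submodule.smul_mono le_rfl le_top h

variable (M N : Type u) [AddCommGroup M] [Module A M] [Module.Finite A M]
  [AddCommGroup N] [Module A N] [Module.Finite A N]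

/-- maps modulo `I^(n+c)` agree modulo `I^n` with maps into `N` -/
lemma exists_lift_hom :
    ∃ c : ℕ, ∀ (n : ℕ) (ψ : M →ₗ[A] N ⧸ (I ^ (n + c) • ⊤ : Submodule A N)),
      ∃ φ : M →ₗ[A] N, ∀ (m : M) (y : N),
        Submodule.Quotient.mk y = ψ m → φ m - y ∈ (I ^ n • ⊤ : Submodule A N) := by
  classical
  obtain ⟨p, π, hπ⟩ := Module.Finite.exists_fin' A M
  obtain ⟨q, r, hr⟩ := Submodule.fg_iff_exists_fin_generating_family.mp
    (IsNoetherian.noetherian (LinearMap.ker π))
  let E : (Fin p → N) →ₗ[A] ((Fin p → A) →ₗ[A] N) :=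
    
      { toFun := fun x => Fintype.linearCombination A x
        map_add' := fun x y => by
          ext v
          simp [Fintype.linearCombination_apply, smul_add, Finset.sum_add_distrib]
        map_smul' := fun a x => by
          ext v
          simp [Fintype.linearCombination_apply] }
  let β : (Fin p → N) →ₗ[A] (Fin q → N) := LinearMap.pi fun k => (E.flip (r k))
  obtain ⟨c, hc⟩ := exists_preimage I β
  refine ⟨c, fun n ψ => ?_⟩
  choose x hx using fun i : Fin p =>
    Submodule.Quotient.mk_surjective _ (ψ (π (Pi.single i 1)))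
  have hmk : ∀ v, Submodule.Quotient.mk (E x v) = ψ (π v) := by
    intro v
    have : ((I ^ (n + c) • ⊤ : Submodule A N).mkQ).comp (E x) = ψ.comp π := by
      refine LinearMap.pi_ext' fun i => LinearMap.ext_ring ?_
      simp [E, hx]
    exact LinearMap.congr_fun this v
  have hβ : β x ∈ (I ^ (n + c) • ⊤ : Submodule A (Fin q → N)) := by
    rw [mem_smul_pi]
    intro k
    rw [← Submodule.Quotient.mk_eq_zero]
    show Submodule.Quotient.mk (E x (r k)) = 0
    have hk : r k ∈ LinearMap.ker π := hr ▸ Submodule.subset_span ⟨k, rfl⟩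
    rw [hmk, LinearMap.mem_ker.mp hk, map_zero]
  obtain ⟨z, hz, hzx⟩ := hc n x hβ
  have hker : LinearMap.ker π ≤ LinearMap.ker (E (x - z)) := by
    rw [← hr, Submodule.span_le]
    rintro _ ⟨k, rfl⟩
    have := congrFun hzx k
    show E (x - z) (r k) = 0
    rw [map_sub, LinearMap.sub_apply]
    exact sub_eq_zero.mpr this.symm
  refine ⟨(Submodule.liftQ _ (E (x - z)) hker).comp
    (π.quotKerEquivOfSurjective hπ).symm.toLinearMap, fun m y hy => ?_⟩
  obtain ⟨v, rfl⟩ := hπ m
  have h1 : ((Submodule.liftQ _ (E (x - z)) hker).comp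
      (π.quotKerEquivOfSurjective hπ).symm.toLinearMap) (π v) = E x v - E z v := by
    simp
  have h2 : E z v ∈ (I ^ n • ⊤ : Submodule A N) := by
    have h := Submodule.mem_map_of_mem (f := E.flip v) hz
    rw [Submodule.map_smul''] at h
    exact Submodule.smul_mono le_rfl le_top h
  have h3 : E x v - y ∈ (I ^ n • ⊤ : Submodule A N) := by
    refine Submodule.smul_mono_left (Ideal.pow_le_pow_right (Nat.le_add_right n c)) ?_
    rw [← Submodule.Quotient.eq, hy, hmk]
  rw [h1, show E x v - E z v - y = E x v - y - E z v by abel]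
  exact Submodule.sub_mem _ h3 h2

/-- maps with values in `I^(n+c) N` lie in `I^n Hom(M, N)` -/
lemma exists_hom_mem_smul :
    ∃ c : ℕ, ∀ (n : ℕ) (φ : M →ₗ[A] N), (∀ m, φ m ∈ (I ^ (n + c) • ⊤ : Submodule A N)) →
      φ ∈ (I ^ n • ⊤ : Submodule A (M →ₗ[A] N)) := by
  classical
  obtain ⟨p, π, hπ⟩ := Module.Finite.exists_fin' A M
  let e : (M →ₗ[A] N) →ₗ[A] (Fin p → N) :=
    LinearMap.pi fun i => LinearMap.applyₗ (π (Pi.single i 1))
  have he : Function.Injective e := by
    intro a b hab
    refine (LinearMap.cancel_right hπ).mp ?_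
    refine LinearMap.pi_ext' fun i => LinearMap.ext_ring ?_
    exact congrFun hab i
  obtain ⟨c, hc⟩ := exists_inf_le I (LinearMap.range e)
  refine ⟨c, fun n φ hφ => ?_⟩
  have := hc n ⟨(mem_smul_pi _ _).mpr fun i => hφ _, ⟨φ, rfl⟩⟩
  rw [LinearMap.range_eq_map, ← Submodule.map_smul''] at this
  obtain ⟨z, hz, hzx⟩ := this
  exact he hzx ▸ hz

end Groth.Agent.CAlg4.AR
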