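import Groth.Agent.CAlg5.RegularHom
import Groth.Agent.EGA4H10.GRingLoc

/-! Regular homomorphisms and localization. -/

universe u

open TensorProduct

namespace Groth.Agent.CAlg4.RegHomLoc

attribute [local instance] Algebra.TensorProduct.rightAlgebra

theorem isRegularRing_tensor_localization (S T K : Type u) [CommRing S] [CommRing T] [CommRing K]
    [Algebra S T] [Algebra S K] (M : Submonoid S) [IsLocalization M T] [IsRegularRing K] :
    IsRegularRing (K ⊗[S] T) :=
  CAlg5.isRegularRing_of_isLocalization (Algebra.algebraMapSubmonoid K M) _

theorem isRegularHom_of_isLocalization (S T : Type u) [CommRing S] [CommRing T] [Algebra S T]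
    (M : Submonoid S) [IsLocalization M T] : CAlg.IsRegularHom S T := by
  refine ⟨IsLocalization.flat T M, fun p _ => ⟨?_, fun k' _ _ hk => ?_⟩⟩
  · have := isRegularRing_tensor_localization S T p.ResidueField M
    show IsNoetherianRing (p.ResidueField ⊗[S] T)
    infer_instance
  · let : Algebra S k' := ((algebraMap p.ResidueField k').comp (algebraMap S p.ResidueField)).toAlgebra
    have : IsScalarTower S p.ResidueField k' := .of_algebraMap_eq fun _ => rfl
    have := isRegularRing_tensor_localization S T k' M
    exact IsRegularRing.of_ringEquiv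
      (Algebra.TensorProduct.cancelBaseChange S p.ResidueField k' k' T).symm.toRingEquiv

theorem isNoetherianRing_fiber {R L : Type u} [CommRing R] [CommRing L] [Algebra R L] [IsNoetherianRing L]
    (p : Ideal R) [p.IsPrime] : IsNoetherianRing (p.Fiber L) :=
  have : Algebra.EssFiniteType R p.ResidueField := inferInstance
  have : Algebra.EssFiniteType L (L ⊗[R] p.ResidueField) := inferInstance
  have : IsNoetherianRing (L ⊗[R] p.ResidueField) := Algebra.EssFiniteType.isNoetherianRing L _
  isNoetherianRing_of_ringEquiv _ (Algebra.TensorProduct.comm R L p.ResidueField).toRingEquiv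

variable {R L : Type u} [CommRing R] [CommRing L] [Algebra R L] [IsNoetherianRing L]

theorem localization_isRegularHom (h : CAlg.IsRegularHom R L) (q : Ideal L) [q.IsPrime] :
    letI := (Localization.localRingHom (Ideal.comap (algebraMap R L) q) q (algebraMap R L) rfl).toAlgebra
    CAlg.IsRegularHom (Localization.AtPrime (Ideal.comap (algebraMap R L) q)) (Localization.AtPrime q) := by
  let p := Ideal.comap (algebraMap R L) q
  let : Algebra (Localization.AtPrime p) (Localization.AtPrime q) :=
    (Localization.localRingHom p q (algebraMap R L) rfl).toAlgebra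
  have : IsScalarTower R (Localization.AtPrime p) (Localization.AtPrime q) := .of_algebraMap_eq fun r => by
    rw [RingHom.algebraMap_toAlgebra, Localization.localRingHom_to_map, ← IsScalarTower.algebraMap_apply]
  show CAlg.IsRegularHom (Localization.AtPrime p) (Localization.AtPrime q)
  let T := Localization.AtPrime p ⊗[R] L
  let φ : T →ₐ[Localization.AtPrime p] Localization.AtPrime q :=
    Algebra.TensorProduct.lift (Algebra.ofId _ _) (IsScalarTower.toAlgHom R L _) fun _ _ => Commute.all _ _
  let : Algebra T (Localization.AtPrime q) := φ.toRingHom.toAlgebra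
  have : IsScalarTower (Localization.AtPrime p) T (Localization.AtPrime q) :=
    .of_algebraMap_eq fun a => (φ.commutes a).symm
  have : IsScalarTower L T (Localization.AtPrime q) := .of_algebraMap_eq fun x => by
    show _ = φ ((1 : Localization.AtPrime p) ⊗ₜ[R] x)
    refine ((Algebra.TensorProduct.lift_tmul _ _ _ _ _).trans ?_).symm
    rw [map_one, one_mul]
    rfl
  have hM : Algebra.algebraMapSubmonoid L p.primeCompl ≤ q.primeCompl := by
    rintro _ ⟨r, hr, rfl⟩
    exact hr
  have : IsLocalization (Algebra.algebraMapSubmonoid L p.primeCompl) T := inferInstance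
  have := IsLocalization.isLocalization_of_submonoid_le T (Localization.AtPrime q)
    (Algebra.algebraMapSubmonoid L p.primeCompl) q.primeCompl hM
  have h2 := isRegularHom_of_isLocalization T (Localization.AtPrime q)
    (q.primeCompl.map (algebraMap L T))
  have hnoeth : IsNoetherianRing (Localization.AtPrime q) :=
    IsLocalization.isNoetherianRing q.primeCompl _ inferInstance
  exact CAlg5.isRegularHom_comp _ T _
    (CAlg5.isRegularHom_baseChange R L (Localization.AtPrime p) h) h2 fun P _ => isNoetherianRing_fiber P

theorem isRegularHom_of_maximal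
    (h : ∀ (n : Ideal L) [n.IsMaximal],
      letI := (Localization.localRingHom (Ideal.comap (algebraMap R L) n) n (algebraMap R L) rfl).toAlgebra
      CAlg.IsRegularHom (Localization.AtPrime (Ideal.comap (algebraMap R L) n)) (Localization.AtPrime n)) :
    CAlg.IsRegularHom R L := by
  have hn : ∀ (n : Ideal L) [n.IsMaximal], CAlg.IsRegularHom R (Localization.AtPrime n) := fun n _ => by
    let p := Ideal.comap (algebraMap R L) n
    let : Algebra (Localization.AtPrime p) (Localization.AtPrime n) :=
      (Localization.localRingHom p n (algebraMap R L) rfl).toAlgebra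
    have : IsScalarTower R (Localization.AtPrime p) (Localization.AtPrime n) := .of_algebraMap_eq fun r => by
      rw [RingHom.algebraMap_toAlgebra, Localization.localRingHom_to_map, ← IsScalarTower.algebraMap_apply]
    have : IsNoetherianRing (Localization.AtPrime n) :=
      IsLocalization.isNoetherianRing n.primeCompl _ inferInstance
    exact CAlg5.isRegularHom_comp R (Localization.AtPrime p) _
      (isRegularHom_of_isLocalization R _ p.primeCompl) (h n) fun P _ => isNoetherianRing_fiber P
  refine ⟨?_, fun p _ => ⟨isNoetherianRing_fiber p, fun k' _ _ hk => ?_⟩⟩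
  · refine Module.flat_of_isLocalized_maximal L L (fun n [n.IsMaximal] => Localization.AtPrime n)
      (fun n _ => Algebra.linearMap L (Localization.AtPrime n)) fun n _ => (hn n).1
  · let : Algebra R k' := ((algebraMap p.ResidueField k').comp (algebraMap R p.ResidueField)).toAlgebra
    have : IsScalarTower R p.ResidueField k' := .of_algebraMap_eq fun _ => rfl
    have : Algebra.EssFiniteType R k' := Algebra.EssFiniteType.comp R p.ResidueField k'
    have : Algebra.EssFiniteType L (L ⊗[R] k') := inferInstance
    have : IsNoetherianRing (L ⊗[R] k') := Algebra.EssFiniteType.isNoetherianRing L _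
    suffices IsRegularRing (L ⊗[R] k') by
      exact IsRegularRing.of_ringEquiv ((Algebra.TensorProduct.comm R L k').toRingEquiv.trans
        (Algebra.TensorProduct.cancelBaseChange R p.ResidueField k' k' L).symm.toRingEquiv)
    refine isRegularRing_iff.mpr fun Q _ => ?_
    obtain ⟨n, hnmax, hQn⟩ := Ideal.exists_le_maximal (Q.comap (algebraMap L (L ⊗[R] k')))
      (Ideal.IsPrime.comap (algebraMap L (L ⊗[R] k'))).ne_top
    let Ln := Localization.AtPrime n
    have : IsRegularRing (Ln ⊗[R] k') := by
      have := (hn n).2 p |>.2 k' hk
      exact IsRegularRing.of_ringEquiv (R := k' ⊗[p.ResidueField] p.Fiber Ln)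
        ((Algebra.TensorProduct.cancelBaseChange R p.ResidueField k' k' Ln).toRingEquiv.trans
          (Algebra.TensorProduct.comm R k' Ln).toRingEquiv)
    let U := L ⊗[R] k'
    have : IsLocalization (Algebra.algebraMapSubmonoid U n.primeCompl) (U ⊗[L] Ln) := inferInstance
    have hreg : IsRegularRing (U ⊗[L] Ln) := IsRegularRing.of_ringEquiv (R := Ln ⊗[R] k')
      ((Algebra.TensorProduct.comm L U Ln).trans
        (((Algebra.TensorProduct.cancelBaseChange R L Ln Ln k').restrictScalars L))).symm.toRingEquiv
    have hle : Algebra.algebraMapSubmonoid U n.primeCompl ≤ Q.primeCompl := by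
      rintro _ ⟨x, hx, rfl⟩
      exact fun hxQ => hx (hQn hxQ)
    let ψ : U ⊗[L] Ln →+* Localization.AtPrime Q := IsLocalization.lift
      (M := Algebra.algebraMapSubmonoid U n.primeCompl) (g := algebraMap U (Localization.AtPrime Q))
      fun y => IsLocalization.map_units (Localization.AtPrime Q) ⟨y.1, hle y.2⟩
    let : Algebra (U ⊗[L] Ln) (Localization.AtPrime Q) := ψ.toAlgebra
    have : IsScalarTower U (U ⊗[L] Ln) (Localization.AtPrime Q) :=
      ⟨fun y t z => by
        have h1 : ψ (y • t) = algebraMap U (Localization.AtPrime Q) y * ψ t := by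
          rw [← IsLocalization.lift_eq (M := Algebra.algebraMapSubmonoid U n.primeCompl)
            (S := U ⊗[L] Ln) (g := algebraMap U (Localization.AtPrime Q)) (fun y => IsLocalization.map_units _ ⟨y.1, hle y.2⟩) y,
            ← map_mul]
          exact congrArg ψ (Algebra.smul_def y t)
        show ψ (y • t) * z = y • (ψ t * z)
        rw [h1, Algebra.smul_def, mul_assoc]⟩
    have := IsLocalization.isLocalization_of_submonoid_le (U ⊗[L] Ln) (Localization.AtPrime Q)
      (Algebra.algebraMapSubmonoid U n.primeCompl) Q.primeCompl hle
    have := CAlg5.isRegularRing_of_isLocalization (T := U ⊗[L] Ln) (Q.primeCompl.map (algebraMap U (U ⊗[L] Ln)))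
      (Localization.AtPrime Q)
    exact IsRegularLocalRing.of_isRegularRing_of_isLocalRing (R := Localization.AtPrime Q)

end Groth.Agent.CAlg4.RegHomLoc
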