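import Groth.Prelude.Def_Found
import Groth.Agent.CAlg1.Regular
import Mathlib.RingTheory.Nilpotent.GeometricallyReduced
import Mathlib.RingTheory.RegularLocalRing.Defs
import Mathlib.RingTheory.Artinian.Ring
import Mathlib.RingTheory.TensorProduct.Finite
import Mathlib.RingTheory.LocalRing.ResidueField.Fiber

/-! A field extension is regular (as a ring map) iff it is geometrically reduced. -/

universe u

open TensorProduct

namespace Groth.Agent.CAlg4.RegularField

theorem isReduced_of_regular (R : Type u) [CommRing R] [IsRegularRing R] : IsReduced R := by
  refine isReduced_ofLocalizationMaximal R fun J hJ => ?_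
  have := CAlg1.isDomain_regular (Localization.AtPrime J)
  infer_instance

theorem regular_of_artinian_reduced (R : Type u) [CommRing R] [IsArtinianRing R] [IsReduced R] :
    IsRegularRing R := by
  rw [isRegularRing_iff]
  intro p hp
  have hred : IsReduced (Localization.AtPrime p) := inferInstance
  have hf : IsField (Localization.AtPrime p) := IsArtinianRing.isField_of_isReduced_of_isLocalRing _
  let _ := hf.toField
  infer_instance

variable (k K : Type u) [Field k] [Field K] [Algebra k K]

theorem geomReduced_of_regular (h : CAlg.IsRegularHom k K) : Algebra.IsGeometricallyReduced k K := by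
  obtain ⟨-, hfib⟩ := h
  obtain ⟨-, hgeo⟩ := hfib ⊥
  let e₀ := (⊥ : Ideal k).algEquivResidueFieldOfField
  rw [Algebra.isGeometricallyReduced_field_iff]
  have : IsReduced (K ⊗[k] AlgebraicClosure k) := by
    refine IsReduced.tensorProduct_of_flat_of_forall_fg fun B hB => ?_
    have : Module.Finite k B := by
      have : Algebra.FiniteType k B := B.fg_iff_finiteType.1 hB
      have : Algebra.IsIntegral k B :=
        ⟨fun x => (isIntegral_algHom_iff B.val Subtype.val_injective).1 (Algebra.IsIntegral.isIntegral (B.val x))⟩
      exact Algebra.IsIntegral.finite
    let _ : Field B := (Subalgebra.isField_of_algebraic B).toField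
    -- the residue field at `⊥` is `k`
    let f : (⊥ : Ideal k).ResidueField →+* k := e₀.symm.toAlgHom.toRingHom
    let _ : Algebra (⊥ : Ideal k).ResidueField B := ((algebraMap k B).comp f).toAlgebra
    have : IsScalarTower k (⊥ : Ideal k).ResidueField B := IsScalarTower.of_algebraMap_eq fun x => by
      show algebraMap k B x = algebraMap k B (e₀.symm (algebraMap k _ x))
      rw [AlgEquiv.commutes, Algebra.algebraMap_self, RingHom.id_apply]
    have : Module.Finite (⊥ : Ideal k).ResidueField B := Module.Finite.of_restrictScalars_finite k _ _
    have hreg := hgeo B inferInstance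
    have hreg' : IsRegularRing (B ⊗[k] K) :=
      IsRegularRing.of_ringEquiv
        (Algebra.TensorProduct.cancelBaseChange k (⊥ : Ideal k).ResidueField B B K).toRingEquiv
    have := isReduced_of_regular (B ⊗[k] K)
    exact isReduced_of_injective (Algebra.TensorProduct.comm k K B) (Algebra.TensorProduct.comm k K B).injective
  exact isReduced_of_injective (Algebra.TensorProduct.comm k (AlgebraicClosure k) K)
    (Algebra.TensorProduct.comm k (AlgebraicClosure k) K).injective

theorem regular_of_geomReduced [Algebra.IsGeometricallyReduced k K] : CAlg.IsRegularHom k K := by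
  refine ⟨inferInstance, fun p hp => ⟨?_, fun k' _ _ hk' => ?_⟩⟩
  · have : Module.Finite k p.ResidueField :=
      Module.Finite.equiv p.algEquivResidueFieldOfField.toLinearEquiv
    have : Module.Finite K (K ⊗[k] p.ResidueField) := inferInstance
    have : IsNoetherianRing (K ⊗[k] p.ResidueField) := IsNoetherianRing.of_finite K _
    exact isNoetherianRing_of_ringEquiv _ (Algebra.TensorProduct.comm k K p.ResidueField).toRingEquiv
  · let _ : Algebra k k' := ((algebraMap p.ResidueField k').comp (algebraMap k p.ResidueField)).toAlgebra
    have : IsScalarTower k p.ResidueField k' := IsScalarTower.of_algebraMap_eq fun x => rfl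
    have : Module.Finite k p.ResidueField :=
      Module.Finite.equiv p.algEquivResidueFieldOfField.toLinearEquiv
    have : Module.Finite k k' := Module.Finite.trans p.ResidueField k'
    have : IsArtinianRing (K ⊗[k] k') := IsArtinianRing.of_finite K _
    have : IsReduced (k' ⊗[k] K) := inferInstance
    have hr : IsReduced (K ⊗[k] k') :=
      isReduced_of_injective (Algebra.TensorProduct.comm k K k') (Algebra.TensorProduct.comm k K k').injective
    have := regular_of_artinian_reduced (K ⊗[k] k')
    exact IsRegularRing.of_ringEquiv
      ((Algebra.TensorProduct.comm k K k').toRingEquiv.trans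
        (Algebra.TensorProduct.cancelBaseChange k p.ResidueField k' k' K).symm.toRingEquiv)

end Groth.Agent.CAlg4.RegularField
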