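import Groth.Prelude.Def_CAlgX
import Mathlib

/-! For adically formally smooth local maps `H₁(L_{κ/A}) → H₁(L_{κ/B})` is injective. -/

universe u

namespace Groth.Agent.CAlg4.H1Inj

open Algebra

theorem injective (A B : Type u) [CommRing A] [CommRing B] [IsLocalRing B] [Algebra A B]
    (hfs : CAlgX.IsAdicFormallySmooth A B (IsLocalRing.maximalIdeal B)) :
    Function.Injective
      (Algebra.H1Cotangent.map A B (IsLocalRing.ResidueField B) (IsLocalRing.ResidueField B)) := by
  let κ := IsLocalRing.ResidueField B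
  let G0 := Generators.self A κ
  let G1 := Generators.self B κ
  let f := Generators.defaultHom G0 G1
  let π : G0.Ring →ₐ[A] κ := MvPolynomial.aeval G0.val
  let M : Ideal G0.Ring := RingHom.ker π
  have hπ : Function.Surjective π := fun y => ⟨MvPolynomial.X y, by simp [π, G0]⟩
  let J : Ideal (G0.Ring ⧸ M ^ 2) := M.map (Ideal.Quotient.mkₐ A (M ^ 2))
  have hJ : J ^ 2 = ⊥ := by
    rw [← Ideal.map_pow]
    exact Ideal.map_quotient_self _
  let e : ((G0.Ring ⧸ M ^ 2) ⧸ J) ≃ₐ[A] κ :=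
    (DoubleQuot.quotQuotEquivQuotOfLEₐ A (Ideal.pow_le_self two_ne_zero)).trans
      (Ideal.quotientKerAlgEquivOfSurjective (f := π) hπ)
  have he : ∀ z : G0.Ring, e (Ideal.Quotient.mk J (Ideal.Quotient.mk (M ^ 2) z)) = π z := fun z => rfl
  let ψ : B →ₐ[A] (G0.Ring ⧸ M ^ 2) ⧸ J := e.symm.toAlgHom.comp (IsScalarTower.toAlgHom A B κ)
  obtain ⟨χ, hχ⟩ := hfs _ J hJ ψ ⟨1, fun x hx => by
    rw [pow_one] at hx
    show e.symm (algebraMap B κ x) = 0
    rw [IsLocalRing.ResidueField.algebraMap_eq, IsLocalRing.residue_eq_zero_iff _ |>.2 hx, map_zero]⟩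
  have hχ' : ∀ b, e (Ideal.Quotient.mk J (χ b)) = algebraMap B κ b := fun b => by
    rw [show Ideal.Quotient.mk J (χ b) = ψ b from DFunLike.congr_fun hχ b]
    exact e.apply_symm_apply _
  let Φ : G1.Ring →+* G0.Ring ⧸ M ^ 2 :=
    MvPolynomial.eval₂Hom χ.toRingHom fun t => Ideal.Quotient.mk (M ^ 2) (MvPolynomial.X t)
  have hcomp : ∀ z : G0.Ring, Φ (f.toAlgHom z) = Ideal.Quotient.mk (M ^ 2) z := by
    intro z
    show (Φ.comp f.toAlgHom.toRingHom) z = _
    congr 1
    refine MvPolynomial.ringHom_ext (fun a => ?_) fun t => ?_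
    · show Φ (f.toAlgHom (algebraMap A G0.Ring a)) = Ideal.Quotient.mk (M ^ 2) (algebraMap A G0.Ring a)
      rw [AlgHom.commutes, IsScalarTower.algebraMap_apply A B G1.Ring]
      show MvPolynomial.eval₂Hom _ _ (MvPolynomial.C (algebraMap A B a)) = _
      rw [MvPolynomial.eval₂Hom_C]
      exact χ.commutes a
    · show Φ (f.toAlgHom (MvPolynomial.X t)) = Ideal.Quotient.mk (M ^ 2) (MvPolynomial.X t)
      rw [Generators.Hom.toAlgHom_X]
      simp [f, G0, G1, Φ, Generators.defaultHom, Generators.self, Generators.σ]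
  have hker : G1.ker ≤ J.comap Φ := by
    intro y hy
    rw [Ideal.mem_comap, ← Ideal.Quotient.eq_zero_iff_mem, ← e.injective.eq_iff, map_zero]
    have hΦ : (e.toRingEquiv.toRingHom.comp ((Ideal.Quotient.mk J).comp Φ)) =
        (MvPolynomial.aeval G1.val).toRingHom := by
      refine MvPolynomial.ringHom_ext (fun b => ?_) fun t => ?_
      · show e (Ideal.Quotient.mk J (Φ (MvPolynomial.C b))) = MvPolynomial.aeval G1.val (MvPolynomial.C b)
        rw [MvPolynomial.aeval_C, MvPolynomial.eval₂Hom_C]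
        exact hχ' b
      · show e (Ideal.Quotient.mk J (Φ (MvPolynomial.X t))) = MvPolynomial.aeval G1.val (MvPolynomial.X t)
        rw [MvPolynomial.aeval_X, MvPolynomial.eval₂Hom_X', he]
        simp [π, G0, G1]
    have := RingHom.congr_fun hΦ y
    rw [show e (Ideal.Quotient.mk J (Φ y)) = _ from this]
    exact (Generators.ker_eq_ker_aeval_val G1).le hy
  rw [injective_iff_map_eq_zero]
  intro ξ hξ
  apply Subtype.ext
  obtain ⟨x, hx⟩ := Extension.Cotangent.mk_surjective ξ.1
  have h1 : Extension.Cotangent.map f.toExtensionHom (Extension.Cotangent.mk x) = 0 := by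
    rw [hx]; exact congrArg Subtype.val hξ
  rw [Extension.Cotangent.map_mk, Extension.Cotangent.mk_eq_zero_iff] at h1
  show ξ.1 = 0
  rw [← hx, Extension.Cotangent.mk_eq_zero_iff]
  have h2 : Φ (f.toAlgHom x.1) = 0 := by
    have h3 := Ideal.mem_map_of_mem Φ h1
    have h4 : (G1.ker ^ 2).map Φ ≤ ⊥ := by
      rw [Ideal.map_pow, ← hJ]
      exact Ideal.pow_right_mono (Ideal.map_le_iff_le_comap.2 hker) 2
    exact Ideal.mem_bot.1 (h4 h3)
  rw [hcomp, Ideal.Quotient.eq_zero_iff_mem] at h2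
  have hM : G0.toExtension.ker = M := Generators.ker_eq_ker_aeval_val G0
  exact (congrArg (fun I : Ideal G0.Ring => x.1 ∈ I ^ 2) hM).mpr h2

end Groth.Agent.CAlg4.H1Inj
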