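import Mathlib.RingTheory.Ideal.KrullsHeightTheorem
import Mathlib.RingTheory.Ideal.Height
import Mathlib.RingTheory.MvPolynomial.Basic
import Mathlib.RingTheory.Polynomial.Basic
import Mathlib.RingTheory.LocalRing.ResidueField.Basic
import Mathlib.RingTheory.Valuation.ValuationRing

/-! A dimension inequality for local domains dominated by valuation rings. -/

universe u

open MvPolynomial

namespace Groth.Agent.CAlg4.Abhyankar

variable {A O : Type u} [CommRing A] [CommRing O] [Algebra A O] {n : ℕ}

/-- Substitute the first `i` variables. -/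
noncomputable def subst (f : Fin n → O) (i : ℕ) : MvPolynomial (Fin n) A →+* MvPolynomial (Fin n) O :=
  eval₂Hom (C.comp (algebraMap A O)) fun j => if (j : ℕ) < i then C (f j) else X j

theorem ker_subst_mono (f : Fin n → O) (i : ℕ) :
    RingHom.ker (subst (A := A) f i) ≤ RingHom.ker (subst (A := A) f (i + 1)) := by
  intro p hp
  rw [RingHom.mem_ker] at hp ⊢
  let ψ : MvPolynomial (Fin n) O →+* MvPolynomial (Fin n) O :=
    eval₂Hom C fun j => if (j : ℕ) = i then C (f j) else X j
  have h : ψ.comp (subst (A := A) f i) = subst (A := A) f (i + 1) := by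
    refine MvPolynomial.ringHom_ext (fun a => by simp [ψ, subst]) fun j => ?_
    simp only [RingHom.comp_apply, subst, eval₂Hom_X']
    split_ifs with h1 h2 h3
    · simp [ψ]
    · omega
    · simp [ψ, show (j : ℕ) = i by omega]
    · simp [ψ, show (j : ℕ) ≠ i by omega]
  rw [← h, RingHom.comp_apply, hp, map_zero]

theorem le_height_ker [IsDomain O] (hinj : Function.Injective (algebraMap A O)) (f : Fin n → O)
    (hfrac : ∀ x : O, ∃ a b : A, b ≠ 0 ∧ algebraMap A O b * x = algebraMap A O a) :
    ∀ i, i ≤ n → (i : ℕ∞) ≤ (RingHom.ker (subst (A := A) f i)).height := by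
  intro i
  induction i with
  | zero => simp
  | succ i ih =>
    intro hi
    have := RingHom.ker_isPrime (subst (A := A) f i)
    have := RingHom.ker_isPrime (subst (A := A) f (i + 1))
    obtain ⟨a, b, hb, hab⟩ := hfrac (f ⟨i, hi⟩)
    have hmem : C b * X (⟨i, hi⟩ : Fin n) - C a ∈ RingHom.ker (subst (A := A) f (i + 1)) := by
      rw [RingHom.mem_ker]
      simp [subst, ← C_mul, hab]
    have hnot : C b * X (⟨i, hi⟩ : Fin n) - C a ∉ RingHom.ker (subst (A := A) f i) := by
      rw [RingHom.mem_ker]
      intro h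
      have h2 := congrArg (coeff (Finsupp.single (⟨i, hi⟩ : Fin n) 1)) h
      have hne : Finsupp.single (⟨i, hi⟩ : Fin n) 1 ≠ 0 := by simp
      rw [map_sub, map_mul] at h2
      simp only [subst, eval₂Hom_C, eval₂Hom_X', lt_irrefl, if_false, RingHom.comp_apply, coeff_sub,
        coeff_C_mul, coeff_X, if_true, mul_one, coeff_C, if_neg hne.symm, sub_zero, coeff_zero] at h2
      exact hb (hinj (h2.trans (map_zero _).symm))
    have hlt : RingHom.ker (subst (A := A) f i) < RingHom.ker (subst (A := A) f (i + 1)) :=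
      lt_of_le_not_ge (ker_subst_mono f i) fun hle => hnot (hle hmem)
    calc ((i + 1 : ℕ) : ℕ∞) = (i : ℕ∞) + 1 := by push_cast; rfl
      _ ≤ (RingHom.ker (subst (A := A) f i)).height + 1 := by gcongr; exact ih (Nat.le_of_succ_le hi)
      _ ≤ _ := Ideal.height_add_one_le_of_lt_of_isPrime hlt

theorem main [IsDomain A] [IsNoetherianRing A] [IsLocalRing A] [IsDomain O] [IsLocalRing O]
    (hinj : Function.Injective (algebraMap A O)) [IsLocalHom (algebraMap A O)]
    (hfrac : ∀ x : O, ∃ a b : A, b ≠ 0 ∧ algebraMap A O b * x = algebraMap A O a)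
    (hnt : ¬ IsField O) (f : Fin n → O)
    (hind : ∀ p : MvPolynomial (Fin n) A,
      eval₂ ((IsLocalRing.residue O).comp (algebraMap A O)) (fun i => IsLocalRing.residue O (f i)) p = 0 →
      ∀ m : Fin n →₀ ℕ, IsLocalRing.residue A (p.coeff m) = 0) :
    (n : WithBot ℕ∞) + 1 ≤ ringKrullDim A := by
  classical
  let m := IsLocalRing.maximalIdeal A
  let M : Ideal (MvPolynomial (Fin n) A) := Ideal.map C m
  have hM : ∀ p, p ∈ M ↔ ∀ d, IsLocalRing.residue A (p.coeff d) = 0 := fun p => by
    simp only [M, MvPolynomial.mem_map_C_iff, IsLocalRing.residue_eq_zero_iff, m]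
  have hMker : M = RingHom.ker (MvPolynomial.map (σ := Fin n) (IsLocalRing.residue A)) := by
    ext p
    rw [hM, RingHom.mem_ker, MvPolynomial.ext_iff]
    simp only [MvPolynomial.coeff_map, coeff_zero]
  have hMp : M.IsPrime := hMker ▸ RingHom.ker_isPrime _
  have hP : (RingHom.ker (subst (A := A) f n)).IsPrime := RingHom.ker_isPrime _
  have hle : RingHom.ker (subst (A := A) f n) ≤ M := by
    intro p hp
    rw [hM]
    refine hind p ?_
    have h := congrArg (fun q => IsLocalRing.residue O (constantCoeff q)) (RingHom.mem_ker.1 hp)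
    simp only [map_zero] at h
    rw [← h]
    show eval₂Hom _ _ p = ((IsLocalRing.residue O).comp constantCoeff).comp (subst (A := A) f n) p
    refine congrFun (congrArg DFunLike.coe (MvPolynomial.ringHom_ext (fun a => by simp [subst]) fun j => ?_)) p
    simp [subst]
  have hlt : RingHom.ker (subst (A := A) f n) < M := by
    refine lt_of_le_not_ge hle fun hge => ?_
    apply hnt
    have hA : IsField A := by
      rw [IsLocalRing.isField_iff_maximalIdeal_eq, eq_bot_iff]
      intro x hx
      have h := RingHom.mem_ker.1 (hge (Ideal.mem_map_of_mem C hx))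
      rw [subst, eval₂Hom_C, RingHom.comp_apply, C_eq_zero] at h
      exact hinj (h.trans (map_zero _).symm)
    let _ := hA.toField
    refine ⟨⟨0, 1, zero_ne_one⟩, mul_comm, fun {x} hx => ?_⟩
    obtain ⟨a, b, hb, hab⟩ := hfrac x
    have hbu : IsUnit (algebraMap A O b) := (isUnit_iff_ne_zero.2 hb).map _
    have ha : a ≠ 0 := fun ha => hx (by
      rw [ha, map_zero] at hab
      exact hbu.mul_right_eq_zero.1 hab)
    have hau : IsUnit (algebraMap A O a) := (isUnit_iff_ne_zero.2 ha).map _
    rw [← hab] at hau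
    obtain ⟨y, hy⟩ := isUnit_iff_exists_inv.1 (isUnit_of_mul_isUnit_right hau)
    exact ⟨y, hy⟩
  obtain ⟨s, hs, hcard⟩ := m.exists_finset_card_eq_height_of_isNoetherianRing
  have hmin : M ∈ (Ideal.span ((s.image C : Finset (MvPolynomial (Fin n) A)) : Set _)).minimalPrimes := by
    rw [Finset.coe_image, ← Ideal.map_span]
    refine ⟨⟨hMp, Ideal.map_mono hs.1.2⟩, fun Q hQ hQM => ?_⟩
    have := hQ.1
    refine Ideal.map_le_iff_le_comap.2 (hs.2 ⟨inferInstance, Ideal.map_le_iff_le_comap.1 hQ.2⟩ ?_)
    intro x hx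
    have h := (hM (C x)).1 (hQM hx) 0
    rw [coeff_C, if_pos rfl, IsLocalRing.residue_eq_zero_iff] at h
    exact h
  have h1 : M.height ≤ m.height := hcard ▸
    (Ideal.height_le_card_of_mem_minimalPrimes_span_finset hmin).trans (by exact_mod_cast Finset.card_image_le)
  have h2 : ((n : ℕ∞) + 1) ≤ m.height := by
    refine le_trans ?_ ((Ideal.height_add_one_le_of_lt_of_isPrime hlt).trans h1)
    gcongr
    exact le_height_ker hinj f hfrac n le_rfl
  rw [← IsLocalRing.maximalIdeal_height_eq_ringKrullDim]
  exact_mod_cast h2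

end Groth.Agent.CAlg4.Abhyankar
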