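import Mathlib.RingTheory.Valuation.ValuationSubring
import Mathlib.RingTheory.DiscreteValuationRing.Basic
import Mathlib.Algebra.Order.BigOperators.Ring.Finset
import Mathlib.Algebra.BigOperators.Fin

/-! Approximation for finitely many discrete valuation subrings of a field. -/

universe u

namespace Groth.Agent.CAlg4.Approx

variable {K : Type u} [Field K]

theorem exists_zpow (O : ValuationSubring K) [IsDiscreteValuationRing O] {ϖ : O} (hϖ : Irreducible ϖ)
    {x : K} (hx : x ≠ 0) : ∃ k : ℤ, O.valuation x = O.valuation (ϖ : K) ^ k := by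
  have hr : ∀ a : O, a ≠ 0 → ∃ k : ℕ, O.valuation (a : K) = O.valuation (ϖ : K) ^ k := by
    intro a ha
    obtain ⟨k, w, rfl⟩ := IsDiscreteValuationRing.eq_unit_mul_pow_irreducible ha hϖ
    refine ⟨k, ?_⟩
    have hw : O.valuation ((w : O) : K) = 1 := (O.valuation_eq_one_iff _).1 w.isUnit
    simp [map_mul, map_pow, hw]
  rcases O.mem_or_inv_mem x with h | h
  · obtain ⟨k, hk⟩ := hr ⟨x, h⟩ (fun he => hx (congrArg Subtype.val he))
    exact ⟨k, by simpa using hk⟩
  · obtain ⟨k, hk⟩ := hr ⟨x⁻¹, h⟩ (fun he => hx (inv_eq_zero.mp (congrArg Subtype.val he)))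
    refine ⟨-(k : ℤ), ?_⟩
    rw [map_inv₀] at hk
    rw [zpow_neg, zpow_natCast, ← hk, inv_inv]

theorem val_lt_one_of_irreducible (O : ValuationSubring K) {ϖ : O} (hϖ : Irreducible ϖ) :
    O.valuation (ϖ : K) < 1 :=
  lt_of_le_of_ne (O.valuation_le_one ϖ) fun h => hϖ.not_isUnit ((O.valuation_eq_one_iff ϖ).2 h)

theorem arch (O : ValuationSubring K) [IsDiscreteValuationRing O] {a : K} (ha : 1 < O.valuation a)
    (b : K) : ∃ N : ℕ, ∀ n, N ≤ n → O.valuation b < O.valuation a ^ n := by
  rcases eq_or_ne b 0 with rfl | hb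
  · exact ⟨0, fun n _ => by rw [map_zero]; exact pow_pos (zero_lt_one.trans ha) n⟩
  obtain ⟨ϖ, hϖ⟩ := IsDiscreteValuationRing.exists_irreducible O
  have hlt := val_lt_one_of_irreducible O hϖ
  have hpos : 0 < O.valuation (ϖ : K) := by
    rw [zero_lt_iff, Valuation.ne_zero_iff]
    exact fun h => hϖ.ne_zero (Subtype.ext h)
  obtain ⟨k, hk⟩ := exists_zpow O hϖ hb
  have ha0 : a ≠ 0 := fun h => by simp [h] at ha
  obtain ⟨l, hl⟩ := exists_zpow O hϖ ha0
  have hl' : l ≤ -1 := by
    by_contra hc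
    rw [hl] at ha
    have : O.valuation (ϖ : K) ^ l ≤ O.valuation (ϖ : K) ^ (0 : ℤ) :=
      zpow_le_zpow_right_of_le_one₀ hpos hlt.le (by omega)
    rw [zpow_zero] at this
    exact absurd ha this.not_gt
  refine ⟨(-k).toNat + 1, fun n hn => ?_⟩
  rw [hk, hl, ← zpow_natCast, ← zpow_mul]
  refine zpow_lt_zpow_right_of_lt_one₀ hpos hlt ?_
  have : l * (n : ℤ) ≤ -1 * n := mul_le_mul_of_nonneg_right hl' (by omega)
  omega

theorem not_le (O O' : ValuationSubring K) [IsDiscreteValuationRing O] [IsDiscreteValuationRing O']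
    (hne : O ≠ O') : ∃ x, x ∈ O ∧ x ∉ O' := by
  by_contra hc
  push Not at hc
  obtain ⟨x, hx', hx⟩ : ∃ x, x ∈ O' ∧ x ∉ O := by
    by_contra hc'
    push Not at hc'
    exact hne (SetLike.ext fun x => ⟨hc x, hc' x⟩)
  have hx1 : 1 < O.valuation x := by
    rw [← _root_.not_le, O.valuation_le_one_iff]; exact hx
  have htop : ∀ y : K, y ∈ O' := by
    intro y
    obtain ⟨N, hN⟩ := arch O hx1 y
    have hxN : x ^ N ∈ O' := pow_mem hx' N
    have hy : y / x ^ N ∈ O := by
      rw [← O.valuation_le_one_iff, map_div₀, map_pow]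
      exact div_le_one_of_le₀ (hN N le_rfl).le zero_le
    have := mul_mem (hc _ hy) hxN
    rwa [div_mul_cancel₀] at this
    exact pow_ne_zero _ fun h => hx (by rw [h]; exact zero_mem O)
  obtain ⟨ϖ, hϖ⟩ := IsDiscreteValuationRing.exists_irreducible O'
  refine hϖ.not_isUnit (isUnit_iff_exists_inv.2 ⟨⟨(ϖ : K)⁻¹, htop _⟩, Subtype.ext ?_⟩)
  exact mul_inv_cancel₀ fun h => hϖ.ne_zero (Subtype.ext h)

variable {ι : Type*} [Fintype ι] [DecidableEq ι]

theorem exists_small_big (O : ι → ValuationSubring K) (hO : ∀ i, IsDiscreteValuationRing (O i))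
    (hinj : Function.Injective O) (i : ι) (S : Finset ι) (hi : i ∉ S) :
    ∃ z : K, (O i).valuation z < 1 ∧ ∀ j ∈ S, 1 < (O j).valuation z := by
  induction S using Finset.induction_on with
  | empty => exact ⟨0, by simp, by simp⟩
  | insert k S hk ih =>
    have := hO i; have := hO k
    simp only [Finset.mem_insert, not_or] at hi
    obtain ⟨z, hzi, hzS⟩ := ih hi.2
    obtain ⟨a, ha, ha'⟩ := not_le (O i) (O k) (fun h => hi.1 (hinj h))
    obtain ⟨b, hb, hb'⟩ := not_le (O k) (O i) (fun h => hi.1 (hinj h).symm)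
    rw [← ValuationSubring.valuation_le_one_iff] at ha hb ha' hb'
    rw [_root_.not_le] at ha' hb'
    have hyi : (O i).valuation (a / b) < 1 := by
      rw [map_div₀, div_lt_one₀ (zero_lt_one.trans hb')]
      exact ha.trans_lt hb'
    have hb0 : 0 < (O k).valuation b := by
      rw [zero_lt_iff, Valuation.ne_zero_iff]
      intro h; simp [h] at hb'
    have hyk : 1 < (O k).valuation (a / b) := by
      rw [map_div₀, one_lt_div₀ hb0]
      exact hb.trans_lt ha'
    generalize a / b = y at hyi hyk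
    by_cases hzk : 1 < (O k).valuation z
    · refine ⟨z, hzi, fun j hj => ?_⟩
      rcases Finset.mem_insert.1 hj with rfl | hj
      exacts [hzk, hzS j hj]
    · rw [not_lt] at hzk
      have hex : ∀ j : ι, ∃ N : ℕ, ∀ n, N ≤ n → 1 < (O j).valuation y →
          (O j).valuation z < (O j).valuation y ^ n := fun j => by
        by_cases hy : 1 < (O j).valuation y
        · have := hO j
          obtain ⟨N, hN⟩ := arch (O j) hy z
          exact ⟨N, fun n hn _ => hN n hn⟩
        · exact ⟨0, fun n _ h => absurd h hy⟩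
      choose N hN using hex
      let M := Finset.univ.sup N + 1
      have hM : ∀ j, N j ≤ M := fun j => (Finset.le_sup (Finset.mem_univ j)).trans (Nat.le_succ _)
      refine ⟨z + y ^ M, ?_, fun j hj => ?_⟩
      · refine Valuation.map_add_lt _ hzi ?_
        rw [map_pow]
        exact pow_lt_one₀ zero_le hyi (Nat.succ_ne_zero _)
      · rcases Finset.mem_insert.1 hj with rfl | hj
        · have h1 := one_lt_pow₀ hyk (Nat.succ_ne_zero (Finset.univ.sup N))
          rw [Valuation.map_add_eq_of_lt_right, map_pow]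
          · exact h1
          · rw [map_pow]; exact hzk.trans_lt h1
        · by_cases hyj : 1 < (O j).valuation y
          · have h1 := hN j M (hM j) hyj
            rw [Valuation.map_add_eq_of_lt_right, map_pow]
            · exact (hzS j hj).trans h1
            · rwa [map_pow]
          · rw [not_lt] at hyj
            have h1 : (O j).valuation (y ^ M) ≤ 1 := by rw [map_pow]; exact pow_le_one₀ zero_le hyj
            rw [Valuation.map_add_eq_of_lt_left _ (h1.trans_lt (hzS j hj))]
            exact hzS j hj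

theorem exists_approx (O : ι → ValuationSubring K) (hO : ∀ i, IsDiscreteValuationRing (O i))
    (hinj : Function.Injective O) (c t : ι → K) (ht : ∀ i, t i ≠ 0) :
    ∃ f : K, ∀ i, (O i).valuation (f - c i) < (O i).valuation (t i) := by
  have key : ∀ i : ι, ∃ w : K, (O i).valuation ((w - 1) * c i) < (O i).valuation (t i) ∧
      ∀ j, j ≠ i → (O j).valuation (w * c i) < (O j).valuation (t j) := by
    intro i
    obtain ⟨z, hzi, hz⟩ := exists_small_big O hO hinj i (Finset.univ.erase i) (by simp)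
    have hz' : ∀ j, j ≠ i → 1 < (O j).valuation z := fun j hj =>
      hz j (Finset.mem_erase.2 ⟨hj, Finset.mem_univ _⟩)
    have hexi : ∃ N : ℕ, ∀ n, N ≤ n → (O i).valuation (z ^ n * c i) < (O i).valuation (t i) := by
      rcases eq_or_ne z 0 with rfl | hz0
      · refine ⟨1, fun n hn => ?_⟩
        rw [zero_pow (by omega), zero_mul, map_zero, zero_lt_iff, Valuation.ne_zero_iff]
        exact ht i
      have := hO i
      have hzi' : 1 < (O i).valuation z⁻¹ := by
        rw [map_inv₀, one_lt_inv₀]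
        · exact hzi
        · rw [zero_lt_iff, Valuation.ne_zero_iff]; exact hz0
      obtain ⟨N, hN⟩ := arch (O i) hzi' (c i / t i)
      refine ⟨N, fun n hn => ?_⟩
      have h1 := hN n hn
      rw [map_inv₀, inv_pow, map_div₀, div_lt_iff₀ (by rw [zero_lt_iff, Valuation.ne_zero_iff]; exact ht i),
        inv_mul_eq_div, lt_div_iff₀ (pow_pos (by rw [zero_lt_iff, Valuation.ne_zero_iff]; exact hz0) n)] at h1
      rw [map_mul, map_pow, mul_comm]
      exact h1
    have hexj : ∀ j, ∃ N : ℕ, ∀ n, N ≤ n → j ≠ i →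
        (O j).valuation (c i / t j) < (O j).valuation z ^ n := fun j => by
      by_cases hj : j = i
      · exact ⟨0, fun n _ h => absurd hj h⟩
      · have := hO j
        obtain ⟨N, hN⟩ := arch (O j) (hz' j hj) (c i / t j)
        exact ⟨N, fun n hn _ => hN n hn⟩
    obtain ⟨N0, hN0⟩ := hexi
    choose N hN using hexj
    let M := Finset.univ.sup N + N0 + 1
    refine ⟨(1 + z ^ M)⁻¹, ?_, fun j hj => ?_⟩
    · have hzM : (O i).valuation (z ^ M) < 1 := by
        rw [map_pow]; exact pow_lt_one₀ zero_le hzi (Nat.succ_ne_zero _)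
      have h1 : (O i).valuation (1 + z ^ M) = 1 := Valuation.map_one_add_of_lt _ hzM
      have hne : 1 + z ^ M ≠ 0 := by
        intro h; rw [h, map_zero] at h1; exact zero_ne_one h1
      have : ((1 + z ^ M)⁻¹ - 1) * c i = -((1 + z ^ M)⁻¹ * (z ^ M * c i)) := by field_simp; ring
      rw [this, Valuation.map_neg, map_mul, map_inv₀, h1, inv_one, one_mul]
      exact hN0 M (by omega)
    · have hjM := hN j M (le_trans (Finset.le_sup (Finset.mem_univ j)) (by omega)) hj
      have hbig : (O j).valuation (1 : K) < (O j).valuation (z ^ M) := by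
        rw [map_one, map_pow]; exact one_lt_pow₀ (hz' j hj) (Nat.succ_ne_zero _)
      rw [map_mul, map_inv₀, Valuation.map_add_eq_of_lt_right _ hbig, map_pow, inv_mul_eq_div,
        div_lt_iff₀ (pow_pos (zero_lt_one.trans (hz' j hj)) M)]
      rwa [map_div₀, div_lt_iff₀ (by rw [zero_lt_iff, Valuation.ne_zero_iff]; exact ht j), mul_comm] at hjM
  choose w hw1 hw2 using key
  refine ⟨∑ i, w i * c i, fun j => ?_⟩
  have : ∑ i, w i * c i - c j = ∑ i, (if i = j then (w i - 1) * c i else w i * c i) := by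
    rw [← Finset.sum_erase_add _ _ (Finset.mem_univ j),
      ← Finset.sum_erase_add Finset.univ (fun i => if i = j then (w i - 1) * c i else w i * c i)
        (Finset.mem_univ j)]
    rw [if_pos rfl, Finset.sum_congr rfl fun i hi => if_neg (Finset.ne_of_mem_erase hi)]
    ring
  rw [this]
  refine Valuation.map_sum_lt _ (by rw [Valuation.ne_zero_iff]; exact ht j) fun i _ => ?_
  split_ifs with h
  · subst h; exact hw1 i
  · exact hw2 i j (Ne.symm h)

theorem exists_exact (O : ι → ValuationSubring K) (hO : ∀ i, IsDiscreteValuationRing (O i))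
    (hinj : Function.Injective O) (fs : ι → K) (n : ι → ℤ) :
    ∃ f : K, ∀ i, ∃ (ϖ : O i) (_ : Irreducible ϖ) (w : (O i)ˣ),
      f - fs i = ((w : O i) : K) * ((ϖ : K) ^ (n i)) := by
  have : ∀ i, ∃ ϖ : O i, Irreducible ϖ := fun i => (hO i).exists_irreducible
  choose ϖ hϖ using this
  have h0 : ∀ i, (ϖ i : K) ^ n i ≠ 0 := fun i =>
    zpow_ne_zero _ fun h => (hϖ i).ne_zero (Subtype.ext h)
  obtain ⟨f, hf⟩ := exists_approx O hO hinj (fun i => fs i + (ϖ i : K) ^ n i) _ h0
  refine ⟨f, fun i => ⟨ϖ i, hϖ i, ?_⟩⟩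
  have hv : (O i).valuation (f - fs i) = (O i).valuation ((ϖ i : K) ^ n i) := by
    conv_lhs => rw [show f - fs i = (f - (fs i + (ϖ i : K) ^ n i)) + (ϖ i : K) ^ n i by ring]
    exact Valuation.map_add_eq_of_lt_right _ (hf i)
  let q : K := (f - fs i) / (ϖ i : K) ^ n i
  have hq : (O i).valuation q = 1 := by
    rw [map_div₀, hv, div_self]; exact (Valuation.ne_zero_iff _).2 (h0 i)
  have hqm : q ∈ O i := ((O i).valuation_le_one_iff q).1 hq.le
  refine ⟨(((O i).valuation_eq_one_iff ⟨q, hqm⟩).2 hq).unit, ?_⟩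
  rw [IsUnit.unit_spec]
  exact (div_mul_cancel₀ _ (h0 i)).symm

end Groth.Agent.CAlg4.Approx
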