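import Mathlib.RingTheory.Bezout
import Mathlib.LinearAlgebra.FreeModule.Basic
import Mathlib.LinearAlgebra.FreeModule.Finite.Basic
import Mathlib.LinearAlgebra.Pi
import Mathlib.Algebra.Module.Projective
import Mathlib.LinearAlgebra.Determinant
import Mathlib.LinearAlgebra.Dimension.Free
import Mathlib.Tactic.Abel
import Mathlib.LinearAlgebra.Finsupp.Supported

set_option autoImplicit false

namespace Groth.Agent.CAlg4.BezoutFree

universe u v

variable {R : Type u} [CommRing R] [IsDomain R] [IsBezout R]

/-- a finitely generated ideal of a Bezout domain is free of finite rank -/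
lemma free_ideal (I : Ideal R) (hI : I.FG) : Module.Free R I ∧ Module.Finite R I := by
  refine ⟨?_, Module.Finite.of_fg hI⟩
  obtain ⟨a, ha⟩ := (IsBezout.isPrincipal_of_FG I hI).1
  by_cases h0 : a = 0
  · have : Subsingleton I := by
      rw [Submodule.subsingleton_iff_eq_bot, ha, h0]
      simp
    exact Module.Free.of_subsingleton R I
  · exact Module.Free.of_equiv ((LinearEquiv.toSpanNonzeroSingleton R R a h0).trans
      (LinearEquiv.ofEq _ _ ha.symm))

lemma free_pi : ∀ (n : ℕ) (N : Submodule R (Fin n → R)), N.FG → Module.Free R N ∧ Module.Finite R N := by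
  intro n
  induction n with
  | zero => exact fun N hN => ⟨Module.Free.of_subsingleton R N, Module.Finite.of_fg hN⟩
  | succ n ih =>
    intro N hN
    have := Module.Finite.of_fg hN
    let p : N →ₗ[R] R := (LinearMap.proj 0).comp N.subtype
    obtain ⟨hfree, hfin⟩ := free_ideal (LinearMap.range p) (by
      rw [LinearMap.range_eq_map]; exact Module.Finite.fg_top.map p)
    obtain ⟨σ, hσ⟩ := Module.projective_lifting_property p.rangeRestrict LinearMap.id
      p.surjective_rangeRestrict
    let t : N →ₗ[R] (Fin n → R) := LinearMap.funLeft R R Fin.succ ∘ₗ N.subtype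
    let q : N →ₗ[R] N := LinearMap.id - σ ∘ₗ p.rangeRestrict
    obtain ⟨hK, hK'⟩ := ih (LinearMap.range (t ∘ₗ q)) (by
      rw [LinearMap.range_eq_map]; exact Module.Finite.fg_top.map _)
    let F : N →ₗ[R] LinearMap.range p × LinearMap.range (t ∘ₗ q) :=
      p.rangeRestrict.prod (t ∘ₗ q).rangeRestrict
    have hq : ∀ x, p (q x) = 0 := fun x => by
      have := congrArg Subtype.val (LinearMap.congr_fun hσ (p.rangeRestrict x))
      replace this : p (σ (p.rangeRestrict x)) = p x := this
      simp [q, this]
    have hF : Function.Bijective F := by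
      constructor
      · rw [injective_iff_map_eq_zero]
        intro x hx
        have h1 : p.rangeRestrict x = 0 := congrArg Prod.fst hx
        have h2 : t (q x) = 0 := congrArg Subtype.val (congrArg Prod.snd hx)
        have hx' : q x = x := by simp [q, h1]
        rw [hx'] at h2
        refine Subtype.ext (funext fun i => ?_)
        refine Fin.cases ?_ (fun j => congrFun h2 j) i
        exact congrArg Subtype.val h1
      · rintro ⟨a, ⟨_, x, rfl⟩⟩
        refine ⟨σ a + q x, Prod.ext ?_ (Subtype.ext ?_)⟩
        · show p.rangeRestrict (σ a + q x) = a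
          rw [map_add, ← LinearMap.comp_apply, hσ, LinearMap.id_apply,
            show p.rangeRestrict (q x) = 0 from Subtype.ext (hq x), add_zero]
        · show t (q (σ a + q x)) = t (q x)
          have h1 : q (σ a) = 0 := by
            have := LinearMap.congr_fun hσ a
            simp only [LinearMap.comp_apply, LinearMap.id_apply] at this
            simp [q, this]
          have h2 : q (q x) = q x := by
            show q x - σ (p.rangeRestrict (q x)) = q x
            rw [show p.rangeRestrict (q x) = 0 from Subtype.ext (hq x), map_zero, sub_zero]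
          rw [map_add q, h1, h2, zero_add]
    exact ⟨Module.Free.of_equiv (LinearEquiv.ofBijective F hF).symm, inferInstance⟩

lemma free_of_fg {F : Type v} [AddCommGroup F] [Module R F] [Module.Free R F] (N : Submodule R F)
    (hN : N.FG) : Module.Free R N ∧ Module.Finite R N := by
  classical
  refine ⟨?_, Module.Finite.of_fg hN⟩
  have := Module.Finite.of_fg hN
  let b := Module.Free.chooseBasis R F
  obtain ⟨s, hs⟩ := hN
  let T := s.biUnion fun x => (b.repr x).support
  let t : N →ₗ[R] (T → R) := LinearMap.pi fun i => (b.coord (i : Module.Free.ChooseBasisIndex R F)).comp N.subtype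
  have ht : Function.Injective t := by
    rw [injective_iff_map_eq_zero]
    intro x hx
    have hsupp : N ≤ (Finsupp.supported R R (T : Set (Module.Free.ChooseBasisIndex R F))).comap
        b.repr.toLinearMap := by
      rw [← hs, Submodule.span_le]
      intro y hy
      simp only [SetLike.mem_coe, Submodule.mem_comap, Finsupp.mem_supported]
      exact fun i hi => Finset.mem_biUnion.mpr ⟨y, hy, hi⟩
    refine Subtype.ext (b.repr.injective (Finsupp.ext fun i => ?_))
    by_cases hi : i ∈ T
    · simpa [t] using congrFun hx ⟨i, hi⟩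
    · simpa using Finsupp.notMem_support_iff.mp fun h => hi (hsupp x.2 h)
  let e := (Finset.equivFin T).symm
  let t' : N →ₗ[R] (Fin T.card → R) := LinearMap.funLeft R R e ∘ₗ t
  have ht' : Function.Injective t' :=
    (LinearMap.funLeft_injective_of_surjective R R e e.surjective).comp ht
  have h := free_pi _ (LinearMap.range t') (by
    rw [LinearMap.range_eq_map]; exact Module.Finite.fg_top.map t')
  have := h.1
  exact Module.Free.of_equiv (LinearEquiv.ofInjective t' ht').symm

lemma exists_det_isUnit (n : ℕ) (f : Fin (n + 1) → R) (hf : Ideal.span (Set.range f) = ⊤) :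
    ∃ A : Matrix (Fin (n + 1)) (Fin (n + 1)) R, IsUnit A.det ∧ A 0 = f := by
  classical
  let φ : (Fin (n + 1) → R) →ₗ[R] R := Fintype.linearCombination R f
  have hφ : Function.Surjective φ := by
    rw [← LinearMap.range_eq_top, Fintype.range_linearCombination]
    exact hf
  obtain ⟨σ, hσ⟩ := Module.projective_lifting_property φ LinearMap.id hφ
  let q : (Fin (n + 1) → R) →ₗ[R] (Fin (n + 1) → R) := LinearMap.id - σ ∘ₗ φ
  obtain ⟨hfree, hfin⟩ := free_pi _ (LinearMap.range q) (by
    rw [LinearMap.range_eq_map]; exact Module.Finite.fg_top.map q)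
  let b := Module.Free.chooseBasis R (LinearMap.range q)
  let F : (Fin (n + 1) → R) →ₗ[R] R × LinearMap.range q := φ.prod q.rangeRestrict
  have hφσ : ∀ r, φ (σ r) = r := fun r => LinearMap.congr_fun hσ r
  have hF : Function.Bijective F := by
    constructor
    · rw [injective_iff_map_eq_zero]
      intro x hx
      have h1 : φ x = 0 := congrArg Prod.fst hx
      have h2 : q x = 0 := congrArg Subtype.val (congrArg Prod.snd hx)
      simpa [q, h1] using h2
    · rintro ⟨a, ⟨_, x, rfl⟩⟩
      refine ⟨σ a + q x, Prod.ext ?_ (Subtype.ext ?_)⟩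
      · show φ (σ a + q x) = a
        simp [q, hφσ]
      · show q (σ a + q x) = q x
        simp [q, hφσ]
  let B := (Module.Basis.singleton Unit R).prod b
  have hcard : Fintype.card (Unit ⊕ Module.Free.ChooseBasisIndex R (LinearMap.range q)) = n + 1 := by
    have := (LinearEquiv.ofBijective F hF).finrank_eq
    rw [Module.finrank_eq_card_basis B, Module.finrank_pi, Fintype.card_fin] at this
    exact this.symm
  obtain ⟨e, he⟩ : ∃ e : (Unit ⊕ Module.Free.ChooseBasisIndex R (LinearMap.range q)) ≃ Fin (n + 1),
      e (Sum.inl ()) = 0 :=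
    ⟨(Fintype.equivFinOfCardEq hcard).trans
      (Equiv.swap (Fintype.equivFinOfCardEq hcard (Sum.inl ())) 0), by simp⟩
  let Φ : (Fin (n + 1) → R) ≃ₗ[R] (Fin (n + 1) → R) :=
    (LinearEquiv.ofBijective F hF).trans (B.reindex e).equivFun
  refine ⟨LinearMap.toMatrix' Φ.toLinearMap, ?_, funext fun j => ?_⟩
  · rw [LinearMap.det_toMatrix']
    exact LinearEquiv.isUnit_det' Φ
  · rw [LinearMap.toMatrix'_apply]
    simp only [Φ, LinearEquiv.coe_coe, LinearEquiv.trans_apply, LinearEquiv.ofBijective_apply,
      Module.Basis.equivFun_apply, Module.Basis.repr_reindex_apply,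
      show e.symm 0 = Sum.inl () from e.symm_apply_eq.mpr he.symm]
    simp [B, F, φ, Fintype.linearCombination_apply, Pi.single_apply]

end Groth.Agent.CAlg4.BezoutFree
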