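import Groth.Agent.CAlg4.CMFiniteType
import Groth.Agent.LC16.CanonLocal

/-! Splitting of a Cohen–Macaulay algebra of finite type over a field by dimension. -/

universe u
open IsLocalRing

namespace Groth.Agent.CAlg4.CMDecomp

variable (k : Type u) [Field k] {S : Type u} [CommRing S] [Algebra k S] [Algebra.FiniteType k S]
include k

theorem trdeg_eq_height [LocCoh.IsCohenMacaulayRing S] (P : Ideal S) (hP : P ∈ minimalPrimes S) (m : Ideal S)
    [m.IsMaximal] (hle : P ≤ m) : (CAlgH2.trdegQuot k P : ℕ∞) = m.height := by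
  have := hP.1.1
  have := Algebra.FiniteType.isNoetherianRing k S
  have hL := LocCoh.IsCohenMacaulayRing.isCohenMacaulayLocalRing_localization (R := S) m
  let L := Localization.AtPrime m
  let P' := P.map (algebraMap S L)
  have hd : Disjoint (m.primeCompl : Set S) P := Set.disjoint_left.2 fun x hx h => hx (hle h)
  have hu : P'.under S = P := IsLocalization.under_map_of_isPrime_disjoint m.primeCompl L ‹P.IsPrime› hd
  have : P'.IsPrime := IsLocalization.isPrime_of_isPrime_disjoint m.primeCompl L P ‹P.IsPrime› hd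
  have hP0 : P'.height = 0 := by
    rw [← IsLocalization.height_under m.primeCompl P', hu]
    exact Ideal.height_eq_zero_iff.2 hP
  have := Ideal.isPrime_map_quotientMk_of_isPrime hle
  have := Gor18.isLocalization_atPrime_quotient m L P (m.map (Ideal.Quotient.mk P))
    (by rw [Ideal.comap_map_quotientMk, sup_eq_right.2 hle])
  have hdim : ringKrullDim (L ⧸ P') = ((m.map (Ideal.Quotient.mk P)).height : WithBot ℕ∞) :=
    IsLocalization.AtPrime.ringKrullDim_eq_height (m.map (Ideal.Quotient.mk P)) _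
  have h1 := CAlgH2.height_add_trdegQuot k P m hle
  rw [CAlgH2.trdegQuot_maximal, Nat.cast_zero, add_zero] at h1
  rw [h1] at hdim
  obtain ⟨n, hn⟩ := ENat.ne_top_iff_exists.1 (Ideal.height_ne_top (I := m) (Ideal.IsPrime.ne_top inferInstance))
  have hn' : ringKrullDim L = (n : WithBot ℕ∞) := by
    rw [IsLocalization.AtPrime.ringKrullDim_eq_height m L, ← hn]; rfl
  have h2 := LC16.CanonLocal.height_add_dim_quotient P' hn' (h := 0)
    (by rw [IsLocalization.AtPrime.ringKrullDim_eq_height P' (Localization.AtPrime P'), hP0]; rfl)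
    (a := CAlgH2.trdegQuot k P) (hdim.trans rfl)
  rw [← hn]
  exact_mod_cast (zero_add (CAlgH2.trdegQuot k P)).symm.trans h2

theorem main [LocCoh.IsCohenMacaulayRing S] :
    ∃ (N : ℕ) (T : Fin (N + 1) → Type u) (_ : ∀ d, CommRing (T d)) (_ : ∀ d, Algebra k (T d)),
      Nonempty (S ≃ₐ[k] ((d : Fin (N + 1)) → T d)) ∧
        ∀ (d : Fin (N + 1)) (m : Ideal (T d)), m.IsMaximal → m.height = (d : ℕ) := by
  classical
  have := Algebra.FiniteType.isNoetherianRing k S
  let hfin := minimalPrimes.finite_of_isNoetherianRing S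
  let N := hfin.toFinset.sup (CAlgH2.trdegQuot k)
  let A : Fin (N + 1) → Finset (Ideal S) := fun d => hfin.toFinset.filter fun P => CAlgH2.trdegQuot k P = d
  let J : Fin (N + 1) → Ideal S := fun d => (A d).inf id
  have hJ : ∀ d (Q : Ideal S), Q.IsPrime → J d ≤ Q →
      ∃ P ∈ minimalPrimes S, CAlgH2.trdegQuot k P = d ∧ J d ≤ P ∧ P ≤ Q := by
    intro d Q hQ hle
    obtain ⟨P, hP, hPQ⟩ := (Ideal.IsPrime.inf_le' hQ).1 hle
    obtain ⟨h1, h2⟩ := Finset.mem_filter.1 hP
    exact ⟨P, hfin.mem_toFinset.1 h1, h2, Finset.inf_le (f := id) hP, hPQ⟩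
  have hco : Pairwise fun d e => IsCoprime (J d) (J e) := by
    intro d e hde
    show IsCoprime (J d) (J e)
    rw [Ideal.isCoprime_iff_sup_eq]
    by_contra hne
    obtain ⟨m, hm, hle⟩ := Ideal.exists_le_maximal _ hne
    obtain ⟨P, hP, hPd, -, hPm⟩ := hJ d m hm.isPrime (le_sup_left.trans hle)
    obtain ⟨P', hP', hPe, -, hP'm⟩ := hJ e m hm.isPrime (le_sup_right.trans hle)
    have h1 := (trdeg_eq_height k P hP m hPm).trans (trdeg_eq_height k P' hP' m hP'm).symm
    refine hde (Fin.ext ?_)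
    rw [← hPd, ← hPe]
    exact_mod_cast h1
  have hnil : ⨅ d, J d ≤ nilradical S := by
    intro x hx
    rw [nilradical, ← Ideal.sInf_minimalPrimes]
    refine Submodule.mem_sInf.2 fun P hP => ?_
    have hb : CAlgH2.trdegQuot k P ≤ N := Finset.le_sup (f := CAlgH2.trdegQuot k) (hfin.mem_toFinset.2 hP)
    exact (Finset.inf_le (f := id) (Finset.mem_filter.2 ⟨hfin.mem_toFinset.2 hP, rfl⟩) :
      (J ⟨_, Nat.lt_succ_of_le hb⟩) ≤ P) ((Submodule.mem_iInf _).1 hx _)
  obtain ⟨n, hn⟩ := IsNoetherianRing.isNilpotent_nilradical S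
  let K : Fin (N + 1) → Ideal S := fun d => J d ^ (n + 1)
  have hcoK : Pairwise (Function.onFun IsCoprime K) := fun d e hde => (hco hde).pow
  have hbot : ⨅ d, K d = ⊥ := by
    refine eq_bot_iff.2 ?_
    rw [show ⨅ d, K d = ∏ d, K d by
      rw [Ideal.prod_eq_iInf_of_pairwise_isCoprime (fun i _ j _ h => hcoK h)]; simp]
    rw [Finset.prod_pow]
    refine le_trans (Ideal.pow_right_mono (le_trans (Ideal.prod_le_inf.trans ?_) hnil) (n + 1)) ?_
    · rw [Finset.inf_univ_eq_iInf]
    · rw [pow_succ, hn]; simp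
  let φ : S →ₐ[k] ((d : Fin (N + 1)) → S ⧸ K d) := AlgHom.pi fun d => Ideal.Quotient.mkₐ k (K d)
  have hφ : Function.Bijective φ := by
    constructor
    · rw [injective_iff_map_eq_zero]
      intro x hx
      have : x ∈ ⨅ d, K d := (Submodule.mem_iInf _).2 fun d => Ideal.Quotient.eq_zero_iff_mem.1 (congrFun hx d)
      rwa [hbot] at this
    · intro y
      obtain ⟨x, hx⟩ := Ideal.quotientInfToPiQuotient_surj hcoK y
      obtain ⟨x, rfl⟩ := Ideal.Quotient.mk_surjective x
      exact ⟨x, hx⟩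
  refine ⟨N, fun d => S ⧸ K d, inferInstance, inferInstance, ⟨AlgEquiv.ofBijective φ hφ⟩, ?_⟩
  intro d m hm
  have : Algebra.FiniteType k (S ⧸ K d) :=
    Algebra.FiniteType.of_surjective (Ideal.Quotient.mkₐ k (K d)) Ideal.Quotient.mk_surjective
  rw [CAlgH2.height_maximal_eq_dimAt k m]
  obtain ⟨Q, hQ, -, he⟩ := CAlgH2.exists_dimAt_eq k m
  have := hQ.1.1
  rw [he]
  let π := Ideal.Quotient.mk (K d)
  have hle : K d ≤ Q.comap π := fun x hx => by
    show π x ∈ Q
    rw [Ideal.Quotient.eq_zero_iff_mem.2 hx]; exact zero_mem _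
  obtain ⟨P, hP, hPd, hJP, hPQ⟩ := hJ d _ inferInstance (Ideal.IsPrime.le_of_pow_le hle)
  have hKP : K d ≤ P := (Ideal.pow_le_self (Nat.succ_ne_zero n)).trans hJP
  have := hP.1.1
  have h1 : P.map π = Q := (le_antisymm (hQ.2 ⟨Ideal.isPrime_map_quotientMk_of_isPrime hKP, bot_le⟩
    (Ideal.map_le_iff_le_comap.2 hPQ)) (Ideal.map_le_iff_le_comap.2 hPQ)).symm
  rw [← h1, CMFiniteType.trdegQuot_map k (K d) P hKP, hPd]

end Groth.Agent.CAlg4.CMDecomp
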