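import Groth.Agent.CAlg1.FlatFibre
import Groth.Agent.CAlg1.CMPoly
import Groth.Agent.CAlg1.Regular

/-! Cohen–Macaulay rings along flat local maps with zero-dimensional closed fibre. -/

universe u

open IsLocalRing

namespace Groth.Agent.CAlg4.CMFlat

variable {A B : Type u} [CommRing A] [CommRing B] [IsLocalRing A] [IsLocalRing B]
  [IsNoetherianRing A] [IsNoetherianRing B] [Algebra A B] [IsLocalHom (algebraMap A B)] [Module.Flat A B]

theorem dim_eq_add :
    ringKrullDim B = ringKrullDim A + ringKrullDim (B ⧸ (maximalIdeal A).map (algebraMap A B)) := by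
  refine le_antisymm (EGA4Alg4.ringKrullDim_le_add_fibre A B) ?_
  have : (maximalIdeal B).LiesOver (maximalIdeal A) :=
    ⟨(IsLocalRing.maximalIdeal_comap (algebraMap A B)).symm⟩
  have hle : (maximalIdeal A).map (algebraMap A B) ≤ maximalIdeal B :=
    map_maximalIdeal_le (algebraMap A B)
  have : Nontrivial (B ⧸ (maximalIdeal A).map (algebraMap A B)) :=
    Ideal.Quotient.nontrivial_iff.mpr fun h => (maximalIdeal.isMaximal B).ne_top (top_le_iff.mp (h ▸ hle))
  have := IsLocalRing.of_surjective' (Ideal.Quotient.mk ((maximalIdeal A).map (algebraMap A B)))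
    Ideal.Quotient.mk_surjective
  rw [← maximalIdeal_height_eq_ringKrullDim, ← maximalIdeal_height_eq_ringKrullDim,
    ← maximalIdeal_height_eq_ringKrullDim, ← WithBot.coe_add,
    Ideal.height_eq_height_add_of_liesOver_of_hasGoingDown (maximalIdeal A) (maximalIdeal B)]
  have : (maximalIdeal B).map (Ideal.Quotient.mk ((maximalIdeal A).map (algebraMap A B))) =
      maximalIdeal (B ⧸ (maximalIdeal A).map (algebraMap A B)) := by
    refine eq_maximalIdeal ((Ideal.map_eq_top_or_isMaximal_of_surjective _ Ideal.Quotient.mk_surjective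
      (maximalIdeal.isMaximal B)).resolve_left fun h => ?_)
    have h2 := congrArg (Ideal.comap (Ideal.Quotient.mk ((maximalIdeal A).map (algebraMap A B)))) h
    rw [Ideal.comap_map_of_surjective _ Ideal.Quotient.mk_surjective, Ideal.comap_top, ← RingHom.ker_eq_comap_bot,
      Ideal.mk_ker, sup_eq_left.mpr hle] at h2
    exact (maximalIdeal.isMaximal B).ne_top h2
  rw [this]

theorem depth_eq (h : ringKrullDim (B ⧸ (maximalIdeal A).map (algebraMap A B)) ≤ 0) :
    LocCoh.depth B B = LocCoh.depth A A := by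
  have hle : (maximalIdeal A).map (algebraMap A B) ≤ maximalIdeal B :=
    map_maximalIdeal_le (algebraMap A B)
  have : Nontrivial (B ⧸ (maximalIdeal A).map (algebraMap A B)) :=
    Ideal.Quotient.nontrivial_iff.mpr fun h => (maximalIdeal.isMaximal B).ne_top (top_le_iff.mp (h ▸ hle))
  have h0 : LocCoh.depth B (B ⧸ (maximalIdeal A).map (algebraMap A B)) = 0 := by
    have h1 := EGA4Alg4.depth_le_supportDim (A := B) (M := B ⧸ (maximalIdeal A).map (algebraMap A B))
    rw [Module.supportDim_quotient_eq_ringKrullDim] at h1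
    exact nonpos_iff_eq_zero.1 (WithBot.coe_le_coe.1 (h1.trans h))
  rw [CAlg1.depth_of_flat_local A B, h0, add_zero]

theorem cm_iff (h : ringKrullDim (B ⧸ (maximalIdeal A).map (algebraMap A B)) = 0) :
    LocCoh.IsCohenMacaulayLocalRing A ↔ LocCoh.IsCohenMacaulayLocalRing B := by
  rw [CAlg1.cmLocal_iff, CAlg1.cmLocal_iff, dim_eq_add (A := A) (B := B), h, add_zero, depth_eq h.le]

theorem dim_fibre_eq_zero (h : Module.Finite A B ∨ ringKrullDim B ≤ ringKrullDim A) :
    ringKrullDim (B ⧸ (maximalIdeal A).map (algebraMap A B)) = 0 := by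
  have hle : (maximalIdeal A).map (algebraMap A B) ≤ maximalIdeal B :=
    map_maximalIdeal_le (algebraMap A B)
  have : Nontrivial (B ⧸ (maximalIdeal A).map (algebraMap A B)) :=
    Ideal.Quotient.nontrivial_iff.mpr fun h => (maximalIdeal.isMaximal B).ne_top (top_le_iff.mp (h ▸ hle))
  have := IsLocalRing.of_surjective' (Ideal.Quotient.mk ((maximalIdeal A).map (algebraMap A B)))
    Ideal.Quotient.mk_surjective
  refine le_antisymm ?_ ringKrullDim_nonneg_of_nontrivial
  rcases h with h | h
  · have : IsArtinianRing (B ⧸ (maximalIdeal A).map (algebraMap A B)) := by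
      have : Module.Finite (A ⧸ maximalIdeal A) (B ⧸ (maximalIdeal A).map (algebraMap A B)) :=
        Module.Finite.of_restrictScalars_finite A _ _
      have : IsArtinianRing (A ⧸ maximalIdeal A) := inferInstanceAs (IsArtinianRing (ResidueField A))
      exact IsArtinianRing.of_finite (A ⧸ maximalIdeal A) _
    rw [ringKrullDimZero_iff_ringKrullDim_eq_zero.mp inferInstance]
  · rw [dim_eq_add (A := A) (B := B)] at h
    obtain ⟨d, hd⟩ := WithBot.ne_bot_iff_exists.mp (ringKrullDim_ne_bot (R := A))
    obtain ⟨e, he⟩ := WithBot.ne_bot_iff_exists.mp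
      (ringKrullDim_ne_bot (R := B ⧸ (maximalIdeal A).map (algebraMap A B)))
    rw [← hd, ← he, ← WithBot.coe_add, WithBot.coe_le_coe] at h
    rw [← he, ← WithBot.coe_zero, WithBot.coe_le_coe]
    obtain ⟨d', hd'⟩ := ENat.ne_top_iff_exists.mp (show d ≠ ⊤ from fun hdt => by
      subst hdt
      exact ringKrullDim_ne_top hd.symm)
    subst hd'
    exact (WithTop.add_le_add_iff_left (ENat.natCast_ne_top d')).mp (h.trans (add_zero _).ge)

end Groth.Agent.CAlg4.CMFlat
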