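import Groth.Agent.RelGCI94.Fibres
import Groth.Agent.E4O.OpenMapDims
import Groth.Agent.S2142
import Mathlib

/-! The locus where the local dimension of the fibres is at most `n` is open and, for algebras of finite
presentation, quasi-compact. -/

universe u
open TensorProduct AlgebraicGeometry

namespace Groth.Agent.CAlg4.FibreDimCompact

variable (R S : Type u) [CommRing R] [CommRing S] [Algebra R S]

/-- The locus in question. -/
def U (n : ℕ) : Set (PrimeSpectrum S) :=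
  {q | ∀ Q : PrimeSpectrum ((q.asIdeal.under R).Fiber S),
    Q.asIdeal.comap (Algebra.TensorProduct.includeRight.toRingHom) = q.asIdeal →
      FlatMor.localDim (PrimeSpectrum ((q.asIdeal.under R).Fiber S)) Q ≤ (n : WithBot ℕ∞)}

theorem exists_point (q : PrimeSpectrum S) :
    ∃ Q : PrimeSpectrum ((q.asIdeal.under R).Fiber S),
      Q.asIdeal.comap (Algebra.TensorProduct.includeRight.toRingHom) = q.asIdeal := by
  refine ⟨PrimeSpectrum.preimageHomeomorphFiber R S (PrimeSpectrum.comap (algebraMap R S) q) ⟨q, rfl⟩, ?_⟩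
  exact congrArg (fun z => z.1.asIdeal)
    ((PrimeSpectrum.preimageHomeomorphFiber R S (PrimeSpectrum.comap (algebraMap R S) q)).symm_apply_apply ⟨q, rfl⟩)

theorem localDim_eq_fibreDimAt (q : PrimeSpectrum S) (Q : PrimeSpectrum ((q.asIdeal.under R).Fiber S))
    (hQ : Q.asIdeal.comap (Algebra.TensorProduct.includeRight.toRingHom) = q.asIdeal) :
    FlatMor.localDim (PrimeSpectrum ((q.asIdeal.under R).Fiber S)) Q =
      FlatMor.fibreDimAt (RelGCI94.str (R := R) S) q := by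
  let h := PrimeSpectrum.preimageHomeomorphFiber R S (PrimeSpectrum.comap (algebraMap R S) q)
  have hh : h ⟨q, rfl⟩ = Q := by
    apply h.symm.injective
    rw [Homeomorph.symm_apply_apply]
    exact Subtype.ext (PrimeSpectrum.ext hQ.symm)
  refine Eq.trans ?_ (E4O.fibreDimAt_eq_localDim (RelGCI94.str (R := R) S) q).symm
  rw [← hh]
  exact (E4O.localDim_eq_of_homeomorph h ⟨q, rfl⟩).symm

theorem isOpen_U [Algebra.FiniteType R S] (n : ℕ) : IsOpen (U R S n) := by
  have := RelGCI94.locallyOfFiniteType_str R S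
  have hU : U R S n = {q : PrimeSpectrum S | FlatMor.fibreDimAt (RelGCI94.str (R := R) S) q ≤ (n : WithBot ℕ∞)} := by
    ext q
    refine ⟨fun h => ?_, fun h => ?_⟩
    · obtain ⟨Q, hQ⟩ := exists_point R S q
      exact (localDim_eq_fibreDimAt R S q Q hQ).ge.trans (h Q hQ)
    · intro Q hQ
      exact (localDim_eq_fibreDimAt R S q Q hQ).le.trans h
  rw [hU]
  exact E4O.isOpen_fibreDimAt_le (RelGCI94.str (R := R) S) (n : WithBot ℕ∞)

theorem comap_U_eq (R₀ S₀ : Type u) [CommRing R₀] [CommRing S₀] [Algebra R₀ S₀] [Algebra.FiniteType R₀ S₀]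
    [Algebra R₀ R] (e : R ⊗[R₀] S₀ ≃ₐ[R] S) (n : ℕ) :
    U R S n = PrimeSpectrum.comap (e.toRingEquiv.toRingHom.comp
      (Algebra.TensorProduct.includeRight (R := R₀) (A := R) (B := S₀)).toRingHom) ⁻¹' U R₀ S₀ n := by
  ext q
  let ι := e.toRingEquiv.toRingHom.comp
    (Algebra.TensorProduct.includeRight (R := R₀) (A := R) (B := S₀)).toRingHom
  let q₀ : PrimeSpectrum S₀ := PrimeSpectrum.comap ι q
  let p := q.asIdeal.under R
  let p₀ := q₀.asIdeal.under R₀
  have hp₀ : p₀ = p.comap (algebraMap R₀ R) := by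
    refine Ideal.ext fun a => ?_
    show ι (algebraMap R₀ S₀ a) ∈ q.asIdeal ↔ algebraMap R S (algebraMap R₀ R a) ∈ q.asIdeal
    simp only [ι, RingHom.comp_apply, AlgHom.toRingHom_eq_coe, RingHom.coe_coe, AlgHom.commutes]
    rw [IsScalarTower.algebraMap_apply R₀ R (R ⊗[R₀] S₀)]
    exact iff_of_eq (congrArg (· ∈ q.asIdeal) (e.commutes _))
  let κ := p.ResidueField
  let κ₀ := p₀.ResidueField
  let := (Ideal.ResidueField.mapₐ p₀ p (Algebra.ofId R₀ R) hp₀).toRingHom.toAlgebra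
  have : IsScalarTower R₀ κ₀ κ := IsScalarTower.of_algebraMap_eq fun a =>
    ((Ideal.ResidueField.mapₐ p₀ p (Algebra.ofId R₀ R) hp₀).commutes a).symm
  let E : κ ⊗[κ₀] (κ₀ ⊗[R₀] S₀) ≃ₐ[κ] κ ⊗[R] S :=
    (Algebra.TensorProduct.cancelBaseChange R₀ κ₀ κ κ S₀).trans
      ((Algebra.TensorProduct.cancelBaseChange R₀ R κ κ S₀).symm.trans
        (Algebra.TensorProduct.congr AlgEquiv.refl e))
  have hE : ∀ x : S₀, E (1 ⊗ₜ[κ₀] ((1 : κ₀) ⊗ₜ[R₀] x)) = (1 : κ) ⊗ₜ[R] ι x := fun x => by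
    simp only [E, AlgEquiv.trans_apply, Algebra.TensorProduct.cancelBaseChange_tmul, one_smul]
    rw [show ((1 : κ) ⊗ₜ[R₀] x) = Algebra.TensorProduct.cancelBaseChange R₀ R κ κ S₀ (1 ⊗ₜ[R] (1 ⊗ₜ[R₀] x)) by
      simp, AlgEquiv.symm_apply_apply]
    simp [ι]
  have key : ∀ (Q : PrimeSpectrum (p.Fiber S)) (Q₀ : PrimeSpectrum (p₀.Fiber S₀)),
      Q.asIdeal.comap (Algebra.TensorProduct.includeRight.toRingHom) = q.asIdeal →
      Q₀.asIdeal.comap (Algebra.TensorProduct.includeRight.toRingHom) = q₀.asIdeal →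
      FlatMor.localDim (PrimeSpectrum (p.Fiber S)) Q = FlatMor.localDim (PrimeSpectrum (p₀.Fiber S₀)) Q₀ := by
    intro Q Q₀ hQ hQ₀
    let h := PrimeSpectrum.homeomorphOfRingEquiv E.toRingEquiv
    let QK := h.symm Q
    have hQK : QK.asIdeal = Q.asIdeal.comap E.toRingEquiv.toRingHom := by
      have : h.symm Q = PrimeSpectrum.comap E.toRingEquiv.toRingHom Q := by
        apply h.injective
        rw [Homeomorph.apply_symm_apply]
        refine PrimeSpectrum.ext (Ideal.ext fun y => ?_)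
        show y ∈ Q.asIdeal ↔ E.toRingEquiv.toRingHom (E.toRingEquiv.symm y) ∈ Q.asIdeal
        rw [RingEquiv.toRingHom_eq_coe, RingEquiv.coe_toRingHom, RingEquiv.apply_symm_apply]
      rw [show QK = _ from this]
      rfl
    have hQK₀ : QK.asIdeal.comap (Algebra.TensorProduct.includeRight.toRingHom :
        κ₀ ⊗[R₀] S₀ →+* κ ⊗[κ₀] (κ₀ ⊗[R₀] S₀)) = Q₀.asIdeal := by
      have hu := (PrimeSpectrum.preimageHomeomorphFiber R₀ S₀ ⟨p₀, inferInstance⟩).symm.injective
      suffices (⟨QK.asIdeal.comap (Algebra.TensorProduct.includeRight.toRingHom :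
        κ₀ ⊗[R₀] S₀ →+* κ ⊗[κ₀] (κ₀ ⊗[R₀] S₀)), inferInstance⟩ : PrimeSpectrum (p₀.Fiber S₀)) = Q₀ from
        congrArg PrimeSpectrum.asIdeal this
      apply hu
      refine Subtype.ext (PrimeSpectrum.ext ?_)
      refine Eq.trans ?_ hQ₀.symm
      refine Ideal.ext fun x => ?_
      show (1 : κ) ⊗ₜ[κ₀] ((1 : κ₀) ⊗ₜ[R₀] x) ∈ QK.asIdeal ↔ ι x ∈ q.asIdeal
      rw [hQK, Ideal.mem_comap]
      exact (iff_of_eq (congrArg (· ∈ Q.asIdeal) (hE x))).trans (SetLike.ext_iff.1 hQ (ι x))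
    rw [show Q = h QK from (h.apply_symm_apply Q).symm, ← E4O.localDim_eq_of_homeomorph h QK]
    exact S2142.result Q₀.asIdeal QK.asIdeal hQK₀
  constructor
  · intro hU Q₀ hQ₀
    obtain ⟨Q, hQ⟩ := exists_point R S q
    exact (key Q Q₀ hQ hQ₀).ge.trans (hU Q hQ)
  · intro hU Q hQ
    obtain ⟨Q₀, hQ₀⟩ := exists_point R₀ S₀ q₀
    exact (key Q Q₀ hQ hQ₀).le.trans (hU Q₀ hQ₀)

theorem isCompact_U [Algebra.FinitePresentation R S] (n : ℕ) : IsCompact (U R S n) := by
  let P := Algebra.Presentation.ofFinitePresentation R S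
  let S₀ := P.ModelOfHasCoeffs P.Core
  have : IsNoetherianRing P.Core := Algebra.FiniteType.isNoetherianRing ℤ P.Core
  have : IsNoetherianRing S₀ := Algebra.FiniteType.isNoetherianRing P.Core S₀
  obtain ⟨t, ht⟩ := PrimeSpectrum.isCompact_isOpen_iff.1
    ⟨TopologicalSpace.NoetherianSpace.isCompact (U P.Core S₀ n), isOpen_U P.Core S₀ n⟩
  rw [comap_U_eq R S P.Core S₀ (P.tensorModelOfHasCoeffsEquiv P.Core) n, ← ht]
  classical
  refine (PrimeSpectrum.isCompact_isOpen_iff.2 ⟨t.image ((P.tensorModelOfHasCoeffsEquiv P.Core).toRingEquiv.toRingHom.comp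
      (Algebra.TensorProduct.includeRight (R := P.Core) (A := R) (B := S₀)).toRingHom), ?_⟩).1
  rw [Set.preimage_compl, PrimeSpectrum.preimage_comap_zeroLocus, Finset.coe_image]

end Groth.Agent.CAlg4.FibreDimCompact
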