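import Groth.Agent.CAlg4.QFAdapted
import Groth.Agent.CAlg4.FibreDimCompact
import Groth.Agent.CAlg4.CMFlat
import Groth.Agent.CAlg1.Miracle
import Groth.Agent.Gor18.Poly
import Groth.Agent.FlatMor66.FibPointFT
import Mathlib

/-! The relative dimension of a flat algebra of finite presentation with Cohen–Macaulay fibres. -/

universe u
open IsLocalRing TensorProduct

namespace Groth.Agent.CAlg4.CMRelDim

open Groth.Agent.CAlg4.QFAdapted (lastVars)

theorem le_dimAt_of_flat {k F : Type u} [Field k] [CommRing F] [Algebra k F] [Algebra.FiniteType k F] (n : ℕ)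
    [Algebra (MvPolynomial (Fin n) k) F] [IsScalarTower k (MvPolynomial (Fin n) k) F] (Q : Ideal F) [Q.IsPrime]
    (hflat : Module.Flat (MvPolynomial (Fin n) k) (Localization.AtPrime Q)) : n ≤ CAlgH2.dimAt k Q := by
  let A := MvPolynomial (Fin n) k
  let P := Q.under A
  have : Q.LiesOver P := ⟨rfl⟩
  let : Algebra (Localization.AtPrime P) (Localization.AtPrime Q) := Localization.AtPrime.algebraOfLiesOver P Q
  let Ap := Localization.AtPrime P
  let FQ := Localization.AtPrime Q
  have := Algebra.FiniteType.isNoetherianRing k F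
  have : IsNoetherianRing FQ := IsLocalization.isNoetherianRing Q.primeCompl _ inferInstance
  have : Module.Flat Ap FQ := (Module.flat_iff_of_isLocalization Ap P.primeCompl FQ).2 hflat
  have hnt : Nontrivial (FQ ⧸ (maximalIdeal Ap).map (algebraMap Ap FQ)) :=
    Ideal.Quotient.nontrivial_iff.mpr fun h => (maximalIdeal.isMaximal FQ).ne_top
      (top_le_iff.mp (h ▸ map_maximalIdeal_le (algebraMap Ap FQ)))
  have hdim : ringKrullDim Ap ≤ ringKrullDim FQ := by
    rw [CMFlat.dim_eq_add (A := Ap) (B := FQ)]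
    exact le_add_of_nonneg_right ringKrullDim_nonneg_of_nontrivial
  rw [IsLocalization.AtPrime.ringKrullDim_eq_height P Ap, IsLocalization.AtPrime.ringKrullDim_eq_height Q FQ,
    WithBot.coe_le_coe] at hdim
  have htr : CAlgH2.trdegQuot k P ≤ CAlgH2.trdegQuot k Q := by
    have : Algebra.FiniteType k (F ⧸ Q) :=
      Algebra.FiniteType.of_surjective (Ideal.Quotient.mkₐ k Q) Ideal.Quotient.mk_surjective
    refine Cardinal.toNat_le_toNat ?_ trdeg_lt_aleph0_of_finiteType
    exact trdeg_le_of_injective (Ideal.quotientMapₐ Q (IsScalarTower.toAlgHom k A F) le_rfl)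
      (Ideal.quotientMap_injective' (H := le_rfl) le_rfl)
  have hA : P.height + CAlgH2.trdegQuot k P = (n : ℕ∞) := by
    rw [CAlgH2.height_add_trdegQuot_eq_dimAt k P]
    obtain ⟨Q', hQ', -, he⟩ := CAlgH2.exists_dimAt_eq k P
    rw [IsDomain.minimalPrimes_eq_singleton_bot, Set.mem_singleton_iff] at hQ'
    rw [he, hQ', CAlgH2.trdegQuot, (AlgEquiv.quotientBot k A).trdeg_eq, MvPolynomial.trdeg_of_isDomain,
      Cardinal.mk_fin, Cardinal.lift_natCast, Cardinal.toNat_natCast]
  have h := add_le_add hdim (Nat.cast_le (α := ℕ∞).2 htr)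
  rw [hA, CAlgH2.height_add_trdegQuot_eq_dimAt k Q] at h
  exact_mod_cast h

theorem flat_of_coords {k F : Type u} [Field k] [CommRing F] [Algebra k F] [Algebra.FiniteType k F] {n r : ℕ}
    (hrn : r ≤ n) [Algebra (MvPolynomial (Fin n) k) F] [IsScalarTower k (MvPolynomial (Fin n) k) F] (Q : Ideal F)
    [Q.IsPrime] [LocCoh.IsCohenMacaulayLocalRing (Localization.AtPrime Q)] (t : Fin n → F)
    (ht : ∀ i, algebraMap (MvPolynomial (Fin n) k) F (MvPolynomial.X i) = t i)
    (hn : CAlgH2.dimAt k Q = n) (hr : CAlgH2.trdegQuot k Q = r)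
    (hmin : Q ∈ (Ideal.span (Set.range fun i : {i : Fin n // r ≤ (i : ℕ)} => t i)).minimalPrimes)
    (hind : AlgebraicIndependent k (fun j : Fin r => Ideal.Quotient.mk Q (t (Fin.castLE hrn j)))) :
    Module.Flat (MvPolynomial (Fin n) k) (Localization.AtPrime Q) := by
  let A := MvPolynomial (Fin n) k
  let P := Q.under A
  have : Q.LiesOver P := ⟨rfl⟩
  let : Algebra (Localization.AtPrime P) (Localization.AtPrime Q) := Localization.AtPrime.algebraOfLiesOver P Q
  let Ap := Localization.AtPrime P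
  let FQ := Localization.AtPrime Q
  have := Algebra.FiniteType.isNoetherianRing k F
  have : IsNoetherianRing FQ := IsLocalization.isNoetherianRing Q.primeCompl _ inferInstance
  let I : Ideal F := Ideal.span (Set.range fun i : {i : Fin n // r ≤ (i : ℕ)} => t i)
  let m := (maximalIdeal Ap).map (algebraMap Ap FQ)
  have hIm : I.map (algebraMap F FQ) ≤ m := by
    rw [Ideal.map_span, Ideal.span_le]
    rintro _ ⟨_, ⟨i, rfl⟩, rfl⟩
    dsimp only
    rw [← ht, ← IsScalarTower.algebraMap_apply A F FQ, IsScalarTower.algebraMap_apply A Ap FQ]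
    refine Ideal.mem_map_of_mem _ ((IsLocalization.AtPrime.to_map_mem_maximal_iff Ap P _).2 ?_)
    show algebraMap A F _ ∈ Q
    rw [ht]
    exact hmin.1.2 (Ideal.subset_span ⟨i, rfl⟩)
  have hdim0 : ringKrullDim (FQ ⧸ m) = 0 := by
    have hnt : Nontrivial (FQ ⧸ m) :=
      Ideal.Quotient.nontrivial_iff.mpr fun h => (maximalIdeal.isMaximal FQ).ne_top
        (top_le_iff.mp (h ▸ map_maximalIdeal_le (algebraMap Ap FQ)))
    refine le_antisymm ?_ ringKrullDim_nonneg_of_nontrivial
    refine (ringKrullDim_le_of_surjective (Ideal.Quotient.factor hIm) (Ideal.Quotient.factor_surjective hIm)).trans ?_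
    have := Ideal.isPrime_map_quotientMk_of_isPrime hmin.1.2
    have := Gor18.isLocalization_atPrime_quotient Q FQ I (Q.map (Ideal.Quotient.mk I))
      (by rw [Ideal.comap_map_quotientMk, sup_eq_right.2 hmin.1.2])
    rw [IsLocalization.AtPrime.ringKrullDim_eq_height (Q.map (Ideal.Quotient.mk I)) (FQ ⧸ I.map (algebraMap F FQ))]
    have h0 : (Q.map (Ideal.Quotient.mk I)).height = 0 := by
      rw [Ideal.height_eq_zero_iff]
      refine ⟨⟨inferInstance, bot_le⟩, fun J hJ hle => ?_⟩
      have hIJ : I ≤ J.comap (Ideal.Quotient.mk I) := fun x hx => by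
        rw [Ideal.mem_comap, Ideal.Quotient.eq_zero_iff_mem.2 hx]; exact zero_mem _
      have := hJ.1
      have := hmin.2 ⟨Ideal.IsPrime.comap _, hIJ⟩
        ((Ideal.comap_mono hle).trans (by rw [Ideal.comap_map_quotientMk, sup_eq_right.2 hmin.1.2]))
      exact Ideal.map_le_iff_le_comap.2 this
    rw [h0]; rfl
  have htr : r ≤ CAlgH2.trdegQuot k P := by
    have : Algebra.FiniteType k (A ⧸ P) :=
      Algebra.FiniteType.of_surjective (Ideal.Quotient.mkₐ k P) Ideal.Quotient.mk_surjective
    let φ := Ideal.quotientMapₐ Q (IsScalarTower.toAlgHom k A F) (show P ≤ _ from le_rfl)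
    have hind' : AlgebraicIndependent k (fun j : Fin r => Ideal.Quotient.mk P (MvPolynomial.X (Fin.castLE hrn j))) := by
      refine AlgebraicIndependent.of_comp φ ?_
      convert hind using 1
      · funext j
        exact congrArg (Ideal.Quotient.mk Q) (ht _)
      · exact Algebra.algebra_ext _ _ fun _ => rfl
    have := hind'.lift_cardinalMk_le_trdeg
    rw [E4O.trdeg_eq_natCast k (A ⧸ P), Cardinal.mk_fin, Cardinal.lift_natCast, Cardinal.lift_natCast] at this
    exact Nat.cast_le.1 this
  have hA : P.height + CAlgH2.trdegQuot k P = (n : ℕ∞) := by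
    rw [CAlgH2.height_add_trdegQuot_eq_dimAt k P]
    obtain ⟨Q', hQ', -, he⟩ := CAlgH2.exists_dimAt_eq k P
    rw [IsDomain.minimalPrimes_eq_singleton_bot, Set.mem_singleton_iff] at hQ'
    rw [he, hQ', CAlgH2.trdegQuot, (AlgEquiv.quotientBot k A).trdeg_eq, MvPolynomial.trdeg_of_isDomain,
      Cardinal.mk_fin, Cardinal.lift_natCast, Cardinal.toNat_natCast]
  have hS := CAlgH2.height_add_trdegQuot_eq_dimAt k Q
  rw [hn, hr] at hS
  have hle := EGA4Alg4.ringKrullDim_le_add_fibre Ap FQ
  rw [show ringKrullDim (FQ ⧸ (maximalIdeal Ap).map (algebraMap Ap FQ)) = 0 from hdim0, add_zero] at hle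
  have hdim : ringKrullDim FQ = ringKrullDim Ap := by
    refine le_antisymm hle ?_
    rw [IsLocalization.AtPrime.ringKrullDim_eq_height P Ap, IsLocalization.AtPrime.ringKrullDim_eq_height Q FQ,
      WithBot.coe_le_coe]
    obtain ⟨a, ha⟩ := ENat.ne_top_iff_exists.1 (Ideal.height_ne_top (I := P) (Ideal.IsPrime.ne_top inferInstance))
    obtain ⟨b, hb⟩ := ENat.ne_top_iff_exists.1 (Ideal.height_ne_top (I := Q) (Ideal.IsPrime.ne_top inferInstance))
    rw [← ha] at hA ⊢
    rw [← hb] at hS ⊢
    have h1 : a + CAlgH2.trdegQuot k P = n := by exact_mod_cast hA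
    have h2 : b + r = n := by exact_mod_cast hS
    exact_mod_cast (show a ≤ b by omega)
  rw [← Module.flat_iff_of_isLocalization Ap P.primeCompl]
  exact CAlg1.miracle_flatness _ Ap FQ rfl (by rw [hdim0, add_zero, hdim])

end Groth.Agent.CAlg4.CMRelDim
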