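import Groth.Agent.CAlg4.QFAdapted
import Groth.Agent.CAlg4.FibreDimCompact
import Groth.Agent.CAlg4.CMFlat
import Groth.Agent.CAlg1.Miracle
import Groth.Agent.Gor18.Poly
import Groth.Agent.FlatMor66.FibPointFT
import Groth.Agent.CAlg4.CMRelDimField
import Mathlib

/-! The relative dimension of a flat algebra of finite presentation with Cohen–Macaulay fibres. -/

universe u
open IsLocalRing TensorProduct

namespace Groth.Agent.CAlg4.CMRelDim

open Groth.Agent.CAlg4.QFAdapted (lastVars)

variable (R S : Type u) [CommRing R] [CommRing S] [Algebra R S]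

theorem point_unique (p : Ideal R) [p.IsPrime] (Q Q' : PrimeSpectrum (p.Fiber S))
    (h : Q.asIdeal.comap (Algebra.TensorProduct.includeRight.toRingHom) =
      Q'.asIdeal.comap (Algebra.TensorProduct.includeRight.toRingHom)) : Q = Q' :=
  (PrimeSpectrum.primesOverOrderIsoFiber R S p).symm.injective (Subtype.ext h)

/-- The fibre local ring as a localisation of the fibre. -/
theorem flat_fibre_iff (p : Ideal R) [p.IsPrime] (q : Ideal S) [q.IsPrime] (Q : Ideal (p.Fiber S)) [Q.IsPrime]
    (hQ : Q.comap (Algebra.TensorProduct.includeRight.toRingHom) = q) (n : ℕ)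
    [Algebra (MvPolynomial (Fin n) R) S] [IsScalarTower R (MvPolynomial (Fin n) R) S]
    [Algebra (MvPolynomial (Fin n) p.ResidueField) (p.Fiber S)]
    (hA : ∀ f : MvPolynomial (Fin n) R, algebraMap (MvPolynomial (Fin n) p.ResidueField) (p.Fiber S)
      (MvPolynomial.map (algebraMap R p.ResidueField) f) =
        (1 : p.ResidueField) ⊗ₜ[R] algebraMap (MvPolynomial (Fin n) R) S f)
    (hk : IsScalarTower p.ResidueField (MvPolynomial (Fin n) p.ResidueField) (p.Fiber S)) :
    (Algebra.TensorProduct.map (AlgHom.id R p.ResidueField)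
      (IsScalarTower.toAlgHom R (MvPolynomial (Fin n) R) (Localization.AtPrime q))).toRingHom.Flat ↔
      Module.Flat (MvPolynomial (Fin n) p.ResidueField) (Localization.AtPrime Q) := by
  let k := p.ResidueField
  let A := MvPolynomial (Fin n) R
  let Sq := Localization.AtPrime q
  let F := p.Fiber S
  let G := k ⊗[R] Sq
  let jS : F →ₐ[k] G := Algebra.TensorProduct.map (AlgHom.id k k) (IsScalarTower.toAlgHom R S Sq)
  let : Algebra F G := jS.toRingHom.toAlgebra
  have : IsScalarTower k F G := IsScalarTower.of_algebraMap_eq fun x => (jS.commutes x).symm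
  set M := q.primeCompl.map (Algebra.TensorProduct.includeRight (R := R) (A := k) (B := S))
  have hM : IsLocalization M G :=
    IsLocalization.tensorProduct_tensorProduct_right R k q.primeCompl Sq (by ext; rfl)
  have hloc : IsLocalization.AtPrime G Q := by
    refine IsLocalization.of_le M Q.primeCompl ?_ ?_
    · rintro _ ⟨s, hs, rfl⟩ h
      exact hs (hQ.le h)
    · intro y hy
      obtain ⟨a, ha, s, hs⟩ := Ideal.Fiber.exists_smul_eq_one_tmul p y
      have hu : IsUnit (algebraMap k F (algebraMap R k a)) :=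
        (isUnit_iff_ne_zero.2 fun h => ha (Ideal.algebraMap_residueField_eq_zero.1 h)).map _
      rw [← IsScalarTower.algebraMap_apply] at hu
      have hs' : s ∈ q.primeCompl := fun h => by
        rw [← hQ] at h
        have h' : algebraMap R F a * y ∈ Q := by rw [← Algebra.smul_def, hs]; exact h
        exact hy ((Ideal.unit_mul_mem_iff_mem Q hu).1 h')
      have h1 : IsUnit (algebraMap F G (algebraMap R F a * y)) := by
        rw [← Algebra.smul_def, hs]
        exact IsLocalization.map_units G (⟨_, s, hs', rfl⟩ : M)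
      rw [map_mul] at h1
      exact (IsUnit.mul_iff.1 h1).2
  let ε : Localization.AtPrime Q ≃ₐ[F] G := IsLocalization.algEquiv Q.primeCompl _ _
  let E : k ⊗[R] A ≃ₐ[k] MvPolynomial (Fin n) k := MvPolynomial.algebraTensorAlgEquiv R k
  have hcomp : (Algebra.TensorProduct.map (AlgHom.id R k) (IsScalarTower.toAlgHom R A Sq)).toRingHom =
      (ε.toRingEquiv.toRingHom.comp (algebraMap (MvPolynomial (Fin n) k) (Localization.AtPrime Q))).comp
        E.toRingEquiv.toRingHom := by
    refine RingHom.ext fun z => ?_
    induction z using TensorProduct.induction_on with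
    | zero => simp
    | add a b ha hb => simp only [map_add, ha, hb]
    | tmul c f =>
      show c ⊗ₜ[R] algebraMap A Sq f = ε (algebraMap _ _ (E (c ⊗ₜ[R] f)))
      rw [show E (c ⊗ₜ[R] f) = c • MvPolynomial.map (algebraMap R k) f from MvPolynomial.algebraTensorAlgEquiv_tmul R k c f,
        Algebra.smul_def, IsScalarTower.algebraMap_apply (MvPolynomial (Fin n) k) F (Localization.AtPrime Q),
        AlgEquiv.commutes, map_mul, hA, ← IsScalarTower.algebraMap_apply k (MvPolynomial (Fin n) k) F]
      show _ = jS (algebraMap k F c * ((1 : k) ⊗ₜ[R] algebraMap A S f))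
      rw [map_mul, AlgHom.commutes, Algebra.TensorProduct.algebraMap_apply, Algebra.algebraMap_self, RingHom.id_apply,
        show jS ((1 : k) ⊗ₜ[R] algebraMap A S f) = (1 : k) ⊗ₜ[R] algebraMap S Sq (algebraMap A S f) from rfl,
        Algebra.TensorProduct.tmul_mul_tmul, mul_one, one_mul, ← IsScalarTower.algebraMap_apply A S Sq]
  rw [hcomp]
  have hE : (E.toRingEquiv.toRingHom).Flat := RingHom.Flat.of_bijective E.toRingEquiv.bijective
  have hE' : (E.symm.toRingEquiv.toRingHom).Flat := RingHom.Flat.of_bijective E.symm.toRingEquiv.bijective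
  let εr : Localization.AtPrime Q ≃+* G := ε.toRingEquiv
  have hε : RingHom.Flat (R := Localization.AtPrime Q) (S := G) ε.toRingEquiv.toRingHom := by
    apply RingHom.Flat.of_bijective
    exact εr.bijective
  have hε' : RingHom.Flat (R := G) (S := Localization.AtPrime Q) ε.symm.toRingEquiv.toRingHom := by
    apply RingHom.Flat.of_bijective
    exact εr.symm.bijective
  constructor
  · intro h
    have h1 := RingHom.Flat.comp hE' (RingHom.Flat.comp h hε')
    refine (RingHom.flat_algebraMap_iff (R := MvPolynomial (Fin n) k) (S := Localization.AtPrime Q)).1 ?_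
    convert h1 using 1
    refine RingHom.ext fun f => ?_
    simp
  · intro h
    exact RingHom.Flat.comp hE (RingHom.Flat.comp (RingHom.flat_algebraMap_iff.2 h) hε)

/-- The relative dimension at a prime. -/
noncomputable def relDim (q : PrimeSpectrum S) : ℕ :=
  CAlgH2.dimAt (q.asIdeal.under R).ResidueField (FibreDimCompact.exists_point R S q).choose.asIdeal

theorem relDim_eq (q : PrimeSpectrum S) (Q : PrimeSpectrum ((q.asIdeal.under R).Fiber S))
    (hQ : Q.asIdeal.comap (Algebra.TensorProduct.includeRight.toRingHom) = q.asIdeal) :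
    relDim R S q = CAlgH2.dimAt (q.asIdeal.under R).ResidueField Q.asIdeal := by
  rw [point_unique R S _ Q _ (hQ.trans (FibreDimCompact.exists_point R S q).choose_spec.symm)]
  rfl

theorem relDim_eq' (p : Ideal R) [p.IsPrime] (q : PrimeSpectrum S) [q.asIdeal.LiesOver p] (Q : PrimeSpectrum (p.Fiber S))
    (hQ : Q.asIdeal.comap (Algebra.TensorProduct.includeRight.toRingHom) = q.asIdeal) :
    relDim R S q = CAlgH2.dimAt p.ResidueField Q.asIdeal := by
  have hp : q.asIdeal.under R = p := (Ideal.LiesOver.over (P := q.asIdeal) (p := p)).symm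
  subst hp
  exact relDim_eq R S q Q hQ

theorem mem_U_iff [Algebra.FiniteType R S] (q : PrimeSpectrum S) (m : ℕ) :
    q ∈ FibreDimCompact.U R S m ↔ relDim R S q ≤ m := by
  constructor
  · intro h
    obtain ⟨Q, hQ⟩ := FibreDimCompact.exists_point R S q
    have := h Q hQ
    rw [CAlgH2.localDim_eq_dimAt (q.asIdeal.under R).ResidueField Q.asIdeal] at this
    rw [relDim_eq R S q Q hQ]
    exact_mod_cast this
  · intro h Q hQ
    rw [CAlgH2.localDim_eq_dimAt (q.asIdeal.under R).ResidueField Q.asIdeal]
    rw [relDim_eq R S q Q hQ] at h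
    exact_mod_cast h

theorem isLocallyConstant_relDim [Module.Flat R S] [Algebra.FinitePresentation R S]
    (hCM : ∀ p : PrimeSpectrum R, LocCoh.IsCohenMacaulayRing (p.asIdeal.Fiber S)) :
    IsLocallyConstant (relDim R S) := by
  classical
  refine (IsLocallyConstant.iff_exists_open _).2 fun q => ?_
  let p := q.asIdeal.under R
  let k := p.ResidueField
  obtain ⟨Q, hQ⟩ := FibreDimCompact.exists_point R S q
  have hn : CAlgH2.dimAt k Q.asIdeal = relDim R S q := (relDim_eq R S q Q hQ).symm
  generalize hn' : relDim R S q = n at hn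
  have hι : ∀ y : p.Fiber S, ∃ c : k, c ≠ 0 ∧ ∃ s : S,
      c • y = (Algebra.TensorProduct.includeRight (R := R) (A := k) : S →ₐ[R] p.Fiber S).toRingHom s := by
    intro y
    obtain ⟨a, ha, s, hs⟩ := Ideal.Fiber.exists_smul_eq_one_tmul p y
    exact ⟨algebraMap R _ a, fun h => ha (Ideal.algebraMap_residueField_eq_zero.1 h), s,
      (algebraMap_smul _ a y).trans hs⟩
  obtain ⟨hrn, t, hmin, hind⟩ := QFAdapted.exists_coords k (p.Fiber S) S _ hι Q.asIdeal n _ hn rfl
  let A := MvPolynomial (Fin n) R
  let := (MvPolynomial.aeval (R := R) t).toRingHom.toAlgebra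
  have hst : IsScalarTower R A S :=
    IsScalarTower.of_algebraMap_eq fun a => ((MvPolynomial.aeval (R := R) t).commutes a).symm
  have hX : ∀ (p' : Ideal R) [p'.IsPrime] (f : A),
      MvPolynomial.aeval (R := p'.ResidueField) (fun i => ((1 : p'.ResidueField) ⊗ₜ[R] t i : p'.Fiber S))
        (MvPolynomial.map (algebraMap R p'.ResidueField) f) = (1 : p'.ResidueField) ⊗ₜ[R] algebraMap A S f := by
    intro p' _ f
    induction f using MvPolynomial.induction_on with
    | C a =>
      rw [MvPolynomial.map_C, MvPolynomial.aeval_C, ← IsScalarTower.algebraMap_apply, ← MvPolynomial.algebraMap_eq,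
        ← IsScalarTower.algebraMap_apply]
      exact ((Algebra.TensorProduct.includeRight (R := R) (A := p'.ResidueField) (B := S)).commutes a).symm
    | add a b ha hb => simp only [map_add, ha, hb, TensorProduct.tmul_add]
    | mul_X a i ha =>
      rw [map_mul, map_mul, ha, MvPolynomial.map_X, MvPolynomial.aeval_X, Algebra.TensorProduct.tmul_mul_tmul,
        one_mul, map_mul]
      congr 2
      exact (MvPolynomial.aeval_X t i).symm
  have hflat : (Algebra.TensorProduct.map (AlgHom.id R k)
      (IsScalarTower.toAlgHom R A (Localization.AtPrime q.asIdeal))).toRingHom.Flat := by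
    let Ψ := MvPolynomial.aeval (R := k) (fun i => ((1 : k) ⊗ₜ[R] t i : p.Fiber S))
    let := Ψ.toRingHom.toAlgebra
    have hk : IsScalarTower k (MvPolynomial (Fin n) k) (p.Fiber S) :=
      IsScalarTower.of_algebraMap_eq fun c => (Ψ.commutes c).symm
    rw [flat_fibre_iff R S p q.asIdeal Q.asIdeal hQ n (hX p) hk]
    have := hCM ⟨p, inferInstance⟩
    have := LocCoh.IsCohenMacaulayRing.isCohenMacaulayLocalRing_localization (R := p.Fiber S) Q.asIdeal
    exact flat_of_coords hrn Q.asIdeal _ (fun i => MvPolynomial.aeval_X _ i) hn rfl hmin hind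
  have hpA : (q.asIdeal.under A).under R = p := Ideal.under_under _
  have hfib : ((Algebra.TensorProduct.map (AlgHom.id R ((q.asIdeal.under A).under R).ResidueField)
      (IsScalarTower.toAlgHom R A (Localization.AtPrime q.asIdeal))).toRingHom).Flat := by
    have key : ∀ (p₁ p₂ : Ideal R) [p₁.IsPrime] [p₂.IsPrime], p₁ = p₂ →
        (Algebra.TensorProduct.map (AlgHom.id R p₁.ResidueField)
          (IsScalarTower.toAlgHom R A (Localization.AtPrime q.asIdeal))).toRingHom.Flat →
        (Algebra.TensorProduct.map (AlgHom.id R p₂.ResidueField)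
          (IsScalarTower.toAlgHom R A (Localization.AtPrime q.asIdeal))).toRingHom.Flat := by
      intro p₁ p₂ _ _ h
      subst h
      exact id
    exact key _ _ hpA.symm hflat
  obtain ⟨g, hg, hgood⟩ := FlatMor66.critere_ring (R := R) (B := A) q.asIdeal inferInstance hfib
  refine ⟨(PrimeSpectrum.basicOpen g : Set (PrimeSpectrum S)) ∩ FibreDimCompact.U R S n,
    (PrimeSpectrum.basicOpen g).isOpen.inter (FibreDimCompact.isOpen_U R S n),
    ⟨hg, (mem_U_iff R S q n).2 hn'.le⟩, ?_⟩
  rintro q' ⟨hg', hU⟩
  refine le_antisymm ((mem_U_iff R S q' n).1 hU) ?_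
  obtain ⟨Q', hQ'⟩ := FibreDimCompact.exists_point R S q'
  rw [relDim_eq R S q' Q' hQ']
  let p' := q'.asIdeal.under R
  let Ψ := MvPolynomial.aeval (R := p'.ResidueField) (fun i => ((1 : p'.ResidueField) ⊗ₜ[R] t i : p'.Fiber S))
  let := Ψ.toRingHom.toAlgebra
  have hk : IsScalarTower p'.ResidueField (MvPolynomial (Fin n) p'.ResidueField) (p'.Fiber S) :=
    IsScalarTower.of_algebraMap_eq fun c => (Ψ.commutes c).symm
  refine le_dimAt_of_flat n Q'.asIdeal ?_
  rw [← flat_fibre_iff R S p' q'.asIdeal Q'.asIdeal hQ' n (hX p') hk]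
  exact RingHom.Flat.tensorProductMap (S := R) (f := AlgHom.id R p'.ResidueField)
    (g := IsScalarTower.toAlgHom R A (Localization.AtPrime q'.asIdeal)) (RingHom.Flat.id _)
    (RingHom.flat_algebraMap_iff.2 (hgood q'.asIdeal hg').1)

end Groth.Agent.CAlg4.CMRelDim
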