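import Groth.Agent.CAlg4.CMFiniteType
import Groth.Agent.CAlg4.CMRelDim
import Groth.Agent.CAlg1.CMPoly
import Groth.Agent.FlatMor66.FibCritAlg
import Groth.Prelude.Def_EGA4b
import Mathlib

/-! The regular locus of a sequence in the fibres of an algebra with Cohen–Macaulay fibres. -/

universe u
open IsLocalRing TensorProduct

namespace Groth.Agent.CAlg4.CMFibreRegular

variable {R S : Type u} [CommRing R] [CommRing S] [Algebra R S]

theorem exists_fibLocEquiv (p : Ideal R) [p.IsPrime] (q : Ideal S) [q.IsPrime] [q.LiesOver p] (Q : Ideal (p.Fiber S))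
    [Q.IsPrime] (hQ : Q.comap (Algebra.TensorProduct.includeRight.toRingHom) = q) :
    ∃ e : EGA4.FibLocRing R S q ≃+* Localization.AtPrime Q, ∀ s : S,
      e (algebraMap S (EGA4.FibLocRing R S q) s) =
        algebraMap (p.Fiber S) (Localization.AtPrime Q) ((1 : p.ResidueField) ⊗ₜ[R] s) := by
  let k := p.ResidueField
  let Sq := Localization.AtPrime q
  let F := p.Fiber S
  let G := k ⊗[R] Sq
  let jS : F →ₐ[k] G := Algebra.TensorProduct.map (AlgHom.id k k) (IsScalarTower.toAlgHom R S Sq)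
  let : Algebra F G := jS.toRingHom.toAlgebra
  set M := q.primeCompl.map (Algebra.TensorProduct.includeRight (R := R) (A := k) (B := S))
  have hM : IsLocalization M G :=
    IsLocalization.tensorProduct_tensorProduct_right R k q.primeCompl Sq (by ext; rfl)
  have hunit : ∀ a ∉ p, IsUnit (algebraMap R Sq a) := fun a ha => by
    rw [IsScalarTower.algebraMap_apply R S Sq]
    exact IsLocalization.map_units Sq (⟨algebraMap R S a, fun h =>
      ha ((Ideal.LiesOver.over (P := q) (p := p)).ge h)⟩ : q.primeCompl)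
  have hloc : IsLocalization.AtPrime G Q := by
    refine IsLocalization.of_le M Q.primeCompl ?_ ?_
    · rintro _ ⟨s, hs, rfl⟩ h
      exact hs (hQ.le h)
    · intro y hy
      obtain ⟨a, ha, s, hs⟩ := Ideal.Fiber.exists_smul_eq_one_tmul p y
      have hu : IsUnit (algebraMap R F a) := by
        rw [IsScalarTower.algebraMap_apply R k F]
        exact (isUnit_iff_ne_zero.2 fun h => ha (Ideal.algebraMap_residueField_eq_zero.1 h)).map _
      have hs' : s ∈ q.primeCompl := fun h => by
        rw [← hQ] at h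
        have h' : algebraMap R F a * y ∈ Q := by rw [← Algebra.smul_def, hs]; exact h
        exact hy ((Ideal.unit_mul_mem_iff_mem Q hu).1 h')
      have h1 : IsUnit (algebraMap F G (algebraMap R F a * y)) := by
        rw [← Algebra.smul_def, hs]
        exact IsLocalization.map_units G (⟨_, s, hs', rfl⟩ : M)
      rw [map_mul] at h1
      exact (IsUnit.mul_iff.1 h1).2
  let j : Sq →ₐ[R] G := Algebra.TensorProduct.includeRight
  have hker : RingHom.ker j.toRingHom = (q.comap (algebraMap R S)).map (algebraMap R Sq) := by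
    rw [show q.comap (algebraMap R S) = p from (Ideal.LiesOver.over (P := q) (p := p)).symm]
    exact FlatMor66.ker_includeRight_residueField p hunit
  have hsurj : Function.Surjective j := by
    intro y
    obtain ⟨a, ha, x, hx⟩ := Ideal.Fiber.exists_smul_eq_one_tmul (S := Sq) p y
    obtain ⟨v, hv⟩ := (hunit a ha).exists_left_inv
    refine ⟨v * x, ?_⟩
    rw [map_mul, show j x = a • y from hx.symm, mul_smul_comm, ← smul_mul_assoc, ← map_smul,
      Algebra.smul_def, mul_comm _ v, hv, map_one, one_mul]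
  let e₁ : EGA4.FibLocRing R S q ≃+* G :=
    (Ideal.quotEquivOfEq hker.symm).trans (RingHom.quotientKerEquivOfSurjective (f := j.toRingHom) hsurj)
  let ε : Localization.AtPrime Q ≃ₐ[F] G := IsLocalization.algEquiv Q.primeCompl _ _
  refine ⟨e₁.trans ε.symm.toRingEquiv, fun s => ?_⟩
  have h : e₁ (algebraMap S (EGA4.FibLocRing R S q) s) = algebraMap F G ((1 : k) ⊗ₜ[R] s) := rfl
  show ε.symm (e₁ _) = _
  rw [h, AlgEquiv.commutes]

theorem dimAt_comap_equiv {k G G' : Type u} [Field k] [CommRing G] [CommRing G'] [Algebra k G] [Algebra k G']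
    [Algebra.FiniteType k G] [Algebra.FiniteType k G'] (E : G ≃ₐ[k] G') (Q : Ideal G') [Q.IsPrime] :
    CAlgH2.dimAt k (Q.comap E.toAlgHom) = CAlgH2.dimAt k Q := by
  have h1 := CAlgH2.height_add_trdegQuot_eq_dimAt k (Q.comap E.toAlgHom)
  have h2 := CAlgH2.height_add_trdegQuot_eq_dimAt k Q
  have hh : (Q.comap E.toAlgHom).height = Q.height := RingEquiv.height_comap E.toRingEquiv Q
  have ht : CAlgH2.trdegQuot k (Q.comap E.toAlgHom) = CAlgH2.trdegQuot k Q :=
    congrArg Cardinal.toNat (Ideal.quotientEquivAlg (Q.comap E.toAlgHom) Q E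
      (Ideal.map_comap_of_surjective (E : G →+* G') E.surjective Q).symm).trdeg_eq
  rw [hh, ht, h2] at h1
  exact_mod_cast h1.symm

theorem isRegular_iff_dimAt {k F L : Type u} [Field k] [CommRing F] [Algebra k F] [Algebra.FiniteType k F]
    [CommRing L] [LocCoh.IsCohenMacaulayRing F] (d : ℕ)
    (heq : ∀ P ∈ minimalPrimes F, ringKrullDim (F ⧸ P) = (d : WithBot ℕ∞)) (I Q : Ideal F) [Q.IsPrime] (hI : I ≤ Q)
    (e : L ≃+* Localization.AtPrime Q) (xs : List L)
    (hmap : (Ideal.ofList xs).map (e : L →+* Localization.AtPrime Q) = I.map (algebraMap F (Localization.AtPrime Q)))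
    [(Q.map (Ideal.Quotient.mk I)).IsPrime] :
    RingTheory.Sequence.IsRegular L xs ↔ CAlgH2.dimAt k (Q.map (Ideal.Quotient.mk I)) + xs.length ≤ d := by
  have hQb : (Q.map (Ideal.Quotient.mk I)).comap (Ideal.Quotient.mk I) = Q := by
    rw [Ideal.comap_map_quotientMk, sup_eq_right.2 hI]
  have hL : LocCoh.IsCohenMacaulayLocalRing L := CAlg1.cm_of_ringEquiv e.symm
    (h := LocCoh.IsCohenMacaulayRing.isCohenMacaulayLocalRing_localization (R := F) Q)
  have hmem : ∀ x ∈ xs, x ∈ maximalIdeal L := by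
    intro x hx
    have h1 : e x ∈ maximalIdeal (Localization.AtPrime Q) := by
      have h2 : (e : L →+* Localization.AtPrime Q) x ∈ I.map (algebraMap F (Localization.AtPrime Q)) :=
        hmap ▸ Ideal.mem_map_of_mem _ (Ideal.subset_span hx)
      rw [← Localization.AtPrime.map_eq_maximalIdeal (I := Q)]
      exact Ideal.map_mono hI h2
    rw [mem_maximalIdeal, mem_nonunits_iff] at h1 ⊢
    exact fun h => h1 (h.map e)
  have hdimQuot : ringKrullDim (L ⧸ Ideal.ofList xs) = ((Q.map (Ideal.Quotient.mk I)).height : WithBot ℕ∞) := by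
    rw [ringKrullDim_eq_of_ringEquiv (Ideal.quotientEquiv (Ideal.ofList xs) _ e hmap.symm)]
    have := Gor18.isLocalization_atPrime_quotient Q (Localization.AtPrime Q) I (Q.map (Ideal.Quotient.mk I)) hQb
    exact IsLocalization.AtPrime.ringKrullDim_eq_height (Q.map (Ideal.Quotient.mk I)) _
  have hdimL : ringKrullDim L = (Q.height : WithBot ℕ∞) := by
    rw [ringKrullDim_eq_of_ringEquiv e]
    exact IsLocalization.AtPrime.ringKrullDim_eq_height Q _
  have hh := CMFiniteType.height_add_trdeg k heq Q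
  have : Algebra.FiniteType k (F ⧸ I) :=
    Algebra.FiniteType.of_surjective (Ideal.Quotient.mkₐ k I) Ideal.Quotient.mk_surjective
  have hh' := CAlgH2.height_add_trdegQuot_eq_dimAt k (Q.map (Ideal.Quotient.mk I))
  rw [CMFiniteType.trdegQuot_map k I Q hI] at hh'
  obtain ⟨a, ha⟩ := ENat.ne_top_iff_exists.1
    (show (Q.map (Ideal.Quotient.mk I)).height ≠ ⊤ from fun h => by rw [h] at hh'; simp at hh')
  obtain ⟨b, hb⟩ := ENat.ne_top_iff_exists.1 (show Q.height ≠ ⊤ from fun h => by rw [h] at hh; simp at hh)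
  rw [← ha] at hh' hdimQuot
  rw [← hb] at hh hdimL
  have hh1 : a + CAlgH2.trdegQuot k Q = CAlgH2.dimAt k (Q.map (Ideal.Quotient.mk I)) := by exact_mod_cast hh'
  have hh2 : b + CAlgH2.trdegQuot k Q = d := by exact_mod_cast hh
  constructor
  · intro hreg
    have h := Module.supportDim_add_length_eq_supportDim_of_isRegular (R := L) (M := L) xs hreg
    rw [smul_eq_mul, Ideal.mul_top, Module.supportDim_quotient_eq_ringKrullDim, Module.supportDim_self_eq_ringKrullDim,
      hdimQuot, hdimL] at h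
    have h' : a + xs.length = b := by exact_mod_cast h
    omega
  · intro h
    refine LC16.isRegular_of_weakly ?_ hmem
    refine EGA4Alg4.isWeaklyRegular_of_supportDim (M := L) hL.supportDim_eq_depth hmem
      (le_antisymm ?_ (EGA4Alg4.supportDim_le_quotient_add_length hmem))
    rw [smul_eq_mul, Ideal.mul_top, Module.supportDim_quotient_eq_ringKrullDim, Module.supportDim_self_eq_ringKrullDim,
      hdimQuot, hdimL]
    have h' : a + xs.length ≤ b := by omega
    exact_mod_cast h'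

theorem relDim_quotient (p : Ideal R) [p.IsPrime] [Algebra.FiniteType R S] (J : Ideal S) (Q : Ideal (p.Fiber S))
    [Q.IsPrime] (qb : PrimeSpectrum (S ⧸ J)) [qb.asIdeal.LiesOver p]
    (hqb : qb.asIdeal.comap (Ideal.Quotient.mk J) = Q.comap (Algebra.TensorProduct.includeRight.toRingHom))
    (hI : J.map (Algebra.TensorProduct.includeRight : S →ₐ[R] p.Fiber S) ≤ Q)
    [(Q.map (Ideal.Quotient.mk (J.map (Algebra.TensorProduct.includeRight : S →ₐ[R] p.Fiber S)))).IsPrime] :
    CMRelDim.relDim R (S ⧸ J) qb = CAlgH2.dimAt p.ResidueField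
      (Q.map (Ideal.Quotient.mk (J.map (Algebra.TensorProduct.includeRight : S →ₐ[R] p.Fiber S)))) := by
  let k := p.ResidueField
  let I : Ideal (p.Fiber S) := J.map (Algebra.TensorProduct.includeRight : S →ₐ[R] p.Fiber S)
  let E : p.Fiber (S ⧸ J) ≃ₐ[k] p.Fiber S ⧸ I := Algebra.TensorProduct.tensorQuotientEquiv k S k J
  let Qb := Q.map (Ideal.Quotient.mk I)
  have hQb : Qb.comap (Ideal.Quotient.mk I) = Q := by
    rw [Ideal.comap_map_quotientMk, sup_eq_right.2 hI]
  have hQ₂ : (Qb.comap E.toAlgHom).comap (Algebra.TensorProduct.includeRight.toRingHom) = qb.asIdeal := by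
    ext x
    obtain ⟨s, rfl⟩ := Ideal.Quotient.mk_surjective x
    show E ((1 : k) ⊗ₜ[R] Ideal.Quotient.mk J s) ∈ Qb ↔ _
    rw [show E ((1 : k) ⊗ₜ[R] Ideal.Quotient.mk J s) = Ideal.Quotient.mk I ((1 : k) ⊗ₜ[R] s) from rfl,
      ← Ideal.mem_comap, hQb, ← Ideal.mem_comap (f := Ideal.Quotient.mk J), hqb]
    rfl
  have : Algebra.FiniteType k (p.Fiber (S ⧸ J)) := Algebra.FiniteType.baseChange _
  have : Algebra.FiniteType k (p.Fiber S ⧸ I) :=
    Algebra.FiniteType.of_surjective (Ideal.Quotient.mkₐ k I) Ideal.Quotient.mk_surjective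
  have h1 := CMRelDim.relDim_eq' R (S ⧸ J) p qb ⟨Qb.comap E.toAlgHom, Ideal.IsPrime.comap _⟩ hQ₂
  have h2 := @dimAt_comap_equiv k (p.Fiber (S ⧸ J)) (p.Fiber S ⧸ I) _ _ _ _ _ _ _ E Qb _
  exact h1.trans h2

theorem regular_iff [Algebra.FiniteType R S] (d : ℕ) (p : Ideal R) [p.IsPrime]
    (hCM : LocCoh.IsCohenMacaulayRing (p.Fiber S))
    (heq : ∀ P ∈ minimalPrimes (p.Fiber S), ringKrullDim (p.Fiber S ⧸ P) = (d : WithBot ℕ∞))
    (f : List S) (q : PrimeSpectrum S) [q.asIdeal.LiesOver p] (hq : Ideal.ofList f ≤ q.asIdeal)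
    (qb : PrimeSpectrum (S ⧸ Ideal.ofList f)) (hqb : qb.asIdeal.comap (Ideal.Quotient.mk _) = q.asIdeal) :
    RingTheory.Sequence.IsRegular (EGA4.FibLocRing R S q.asIdeal)
        (f.map (algebraMap S (EGA4.FibLocRing R S q.asIdeal))) ↔
      CMRelDim.relDim R (S ⧸ Ideal.ofList f) qb + f.length ≤ d := by
  obtain ⟨Q, hQ⟩ : ∃ Q : PrimeSpectrum (p.Fiber S),
      Q.asIdeal.comap (Algebra.TensorProduct.includeRight.toRingHom) = q.asIdeal :=
    ⟨_, congrArg Subtype.val ((PrimeSpectrum.primesOverOrderIsoFiber R S p).symm_apply_apply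
      ⟨q.asIdeal, q.isPrime, inferInstance⟩)⟩
  obtain ⟨e, he⟩ := exists_fibLocEquiv p q.asIdeal Q.asIdeal hQ
  have hI : (Ideal.ofList f).map (Algebra.TensorProduct.includeRight : S →ₐ[R] p.Fiber S) ≤ Q.asIdeal := by
    rw [Ideal.map_le_iff_le_comap]
    exact hq.trans hQ.ge
  have := Ideal.isPrime_map_quotientMk_of_isPrime hI
  have : qb.asIdeal.LiesOver p := ⟨by
    rw [Ideal.LiesOver.over (P := q.asIdeal) (p := p), ← hqb]; rfl⟩
  rw [relDim_quotient p (Ideal.ofList f) Q.asIdeal qb (hqb.trans hQ.symm) hI,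
    isRegular_iff_dimAt (k := p.ResidueField) d heq _ Q.asIdeal hI e _ ?_, List.length_map]
  rw [← Ideal.map_ofList, Ideal.map_map, ← Ideal.map_coe (Algebra.TensorProduct.includeRight : S →ₐ[R] p.Fiber S), Ideal.map_map]
  exact congrArg (fun g : S →+* Localization.AtPrime Q.asIdeal => (Ideal.ofList f).map g) (RingHom.ext fun s => he s)

theorem main (R S : Type u) [CommRing R] [CommRing S] [Algebra R S] [Algebra.FiniteType R S] (d : ℕ)
    (hCM : ∀ p : PrimeSpectrum R, LocCoh.IsCohenMacaulayRing (p.asIdeal.Fiber S))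
    (heq : ∀ p : PrimeSpectrum R, ∀ P ∈ minimalPrimes (p.asIdeal.Fiber S),
      ringKrullDim (p.asIdeal.Fiber S ⧸ P) = (d : WithBot ℕ∞)) (f : List S) :
    ∃ U : Set (PrimeSpectrum S), IsOpen U ∧ ∀ q : PrimeSpectrum S, Ideal.ofList f ≤ q.asIdeal →
      (q ∈ U ↔ RingTheory.Sequence.IsRegular (EGA4.FibLocRing R S q.asIdeal)
        (f.map (algebraMap S (EGA4.FibLocRing R S q.asIdeal)))) := by
  let J := Ideal.ofList f
  have key : ∀ (q : PrimeSpectrum S), J ≤ q.asIdeal → ∃ qb : PrimeSpectrum (S ⧸ J),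
      PrimeSpectrum.comap (Ideal.Quotient.mk J) qb = q ∧
      (RingTheory.Sequence.IsRegular (EGA4.FibLocRing R S q.asIdeal)
        (f.map (algebraMap S (EGA4.FibLocRing R S q.asIdeal))) ↔
        CMRelDim.relDim R (S ⧸ J) qb + f.length ≤ d) := by
    intro q hq
    have := Ideal.isPrime_map_quotientMk_of_isPrime hq
    have hc : (q.asIdeal.map (Ideal.Quotient.mk J)).comap (Ideal.Quotient.mk J) = q.asIdeal := by
      rw [Ideal.comap_map_quotientMk, sup_eq_right.2 hq]
    have : q.asIdeal.LiesOver (q.asIdeal.under R) := ⟨rfl⟩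
    exact ⟨⟨q.asIdeal.map (Ideal.Quotient.mk J), ‹_›⟩, PrimeSpectrum.ext hc,
      regular_iff d (q.asIdeal.under R) (hCM ⟨q.asIdeal.under R, inferInstance⟩)
        (heq ⟨q.asIdeal.under R, inferInstance⟩) f q hq _ hc⟩
  by_cases hr : f.length ≤ d
  · have hcl := PrimeSpectrum.isClosedEmbedding_comap_of_surjective _ (Ideal.Quotient.mk J) Ideal.Quotient.mk_surjective
    refine ⟨(PrimeSpectrum.comap (Ideal.Quotient.mk J) '' (FibreDimCompact.U R (S ⧸ J) (d - f.length))ᶜ)ᶜ,
      (hcl.isClosedMap _ (FibreDimCompact.isOpen_U R (S ⧸ J) _).isClosed_compl).isOpen_compl, fun q hq => ?_⟩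
    obtain ⟨qb, hqb, hiff⟩ := key q hq
    rw [hiff, ← hqb, Set.mem_compl_iff, hcl.injective.mem_set_image, Set.mem_compl_iff, not_not, CMRelDim.mem_U_iff]
    omega
  · refine ⟨∅, isOpen_empty, fun q hq => ?_⟩
    obtain ⟨qb, -, hiff⟩ := key q hq
    simp only [Set.mem_empty_iff_false, false_iff, hiff]
    omega

end Groth.Agent.CAlg4.CMFibreRegular
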