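import Groth.Agent.CAlgH2.LocalDimField
import Groth.Agent.EGA4Alg4.CMMod
import Groth.Agent.Gor18.Poly
import Groth.Agent.LC16.SopRegular
import Groth.Prelude.Def_CAlg

/-! Equidimensional Cohen–Macaulay algebras of finite type over a field. -/

universe u
open IsLocalRing

namespace Groth.Agent.CAlg4.CMFiniteType

variable (k : Type u) [Field k] {S : Type u} [CommRing S] [Algebra k S] [Algebra.FiniteType k S]
include k

theorem ringKrullDim_quotient (P : Ideal S) [P.IsPrime] :
    ringKrullDim (S ⧸ P) = (CAlgH2.trdegQuot k P : WithBot ℕ∞) := by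
  have : Algebra.FiniteType k (S ⧸ P) :=
    Algebra.FiniteType.of_surjective (Ideal.Quotient.mkₐ k P) Ideal.Quotient.mk_surjective
  rw [E4O.ringKrullDim_eq_trdeg k (S ⧸ P)]
  rfl

theorem height_add_trdeg {d : ℕ} (heq : ∀ p ∈ minimalPrimes S, ringKrullDim (S ⧸ p) = d) (q : Ideal S)
    [q.IsPrime] : q.height + CAlgH2.trdegQuot k q = d := by
  rw [CAlgH2.height_add_trdegQuot_eq_dimAt k q]
  obtain ⟨P, hP, -, he⟩ := CAlgH2.exists_dimAt_eq k q
  have := hP.1.1
  have h := heq P hP
  rw [ringKrullDim_quotient k P] at h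
  rw [he]
  exact_mod_cast h

theorem trdegQuot_map (I : Ideal S) (q : Ideal S) (h : I ≤ q) :
    CAlgH2.trdegQuot k (q.map (Ideal.Quotient.mk I)) = CAlgH2.trdegQuot k q :=
  congrArg Cardinal.toNat (DoubleQuot.quotQuotEquivQuotOfLEₐ k h).trdeg_eq

theorem height_map_add_le (I : Ideal S) {e : ℕ} (hle : ringKrullDim (S ⧸ I) ≤ e) (q : Ideal S) [q.IsPrime]
    (h : I ≤ q) : (q.map (Ideal.Quotient.mk I)).height + CAlgH2.trdegQuot k q ≤ e := by
  have := Ideal.isPrime_map_quotientMk_of_isPrime h
  have : Algebra.FiniteType k (S ⧸ I) :=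
    Algebra.FiniteType.of_surjective (Ideal.Quotient.mkₐ k I) Ideal.Quotient.mk_surjective
  rw [← trdegQuot_map k I q h, CAlgH2.height_add_trdegQuot_eq_dimAt k]
  refine Nat.cast_le.2 (CAlgH2.dimAt_le k fun P hP _ => ?_)
  have := hP.1.1
  have h1 := (ringKrullDim_quotient_le P).trans hle
  rw [ringKrullDim_quotient k P] at h1
  exact_mod_cast h1

theorem regular_at [LocCoh.IsCohenMacaulayRing S] {d : ℕ}
    (heq : ∀ p ∈ minimalPrimes S, ringKrullDim (S ⧸ p) = d) (f : List S) (hi : f.length ≤ d)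
    (hle : ringKrullDim (S ⧸ Ideal.ofList f) ≤ ((d - f.length : ℕ) : WithBot ℕ∞)) (q : Ideal S) [q.IsPrime]
    (hq : Ideal.ofList f ≤ q) :
    RingTheory.Sequence.IsRegular (Localization.AtPrime q) (f.map (algebraMap S (Localization.AtPrime q))) := by
  have := Algebra.FiniteType.isNoetherianRing k S
  have hL := LocCoh.IsCohenMacaulayRing.isCohenMacaulayLocalRing_localization (R := S) q
  have hm : ∀ x ∈ f.map (algebraMap S (Localization.AtPrime q)), x ∈ maximalIdeal (Localization.AtPrime q) := by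
    intro x hx
    obtain ⟨y, hy, rfl⟩ := List.mem_map.1 hx
    exact (IsLocalization.AtPrime.to_map_mem_maximal_iff _ q y).2 (hq (Ideal.subset_span hy))
  refine LC16.isRegular_of_weakly ?_ hm
  refine EGA4Alg4.isWeaklyRegular_of_supportDim (M := Localization.AtPrime q) hL.supportDim_eq_depth hm
    (le_antisymm ?_ (EGA4Alg4.supportDim_le_quotient_add_length hm))
  rw [smul_eq_mul, Ideal.mul_top, Module.supportDim_quotient_eq_ringKrullDim, Module.supportDim_self_eq_ringKrullDim,
    ← Ideal.map_ofList]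
  have := Ideal.isPrime_map_quotientMk_of_isPrime hq
  have := Gor18.isLocalization_atPrime_quotient q (Localization.AtPrime q) (Ideal.ofList f)
    (q.map (Ideal.Quotient.mk (Ideal.ofList f))) (by rw [Ideal.comap_map_quotientMk, sup_eq_right.2 hq])
  rw [IsLocalization.AtPrime.ringKrullDim_eq_height (q.map (Ideal.Quotient.mk (Ideal.ofList f)))
    (Localization.AtPrime q ⧸ (Ideal.ofList f).map (algebraMap S (Localization.AtPrime q))),
    IsLocalization.AtPrime.ringKrullDim_eq_height q (Localization.AtPrime q), List.length_map]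
  have h1 := height_add_trdeg k heq q
  have h2 := height_map_add_le k (Ideal.ofList f) hle q hq
  obtain ⟨a, ha⟩ := ENat.ne_top_iff_exists.1 (Ideal.height_ne_top (I := q) (Ideal.IsPrime.ne_top inferInstance))
  rw [← ha] at h1 ⊢
  obtain ⟨b, hb⟩ := ENat.ne_top_iff_exists.1
    (Ideal.height_ne_top (I := q.map (Ideal.Quotient.mk (Ideal.ofList f))) (Ideal.IsPrime.ne_top inferInstance))
  rw [← hb] at h2 ⊢
  have h1' : a + CAlgH2.trdegQuot k q = d := by exact_mod_cast h1
  have h2' : b + CAlgH2.trdegQuot k q ≤ d - f.length := by exact_mod_cast h2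
  have h3 : b + f.length ≤ a := by omega
  exact_mod_cast h3

theorem le_dim [LocCoh.IsCohenMacaulayRing S] {d : ℕ}
    (heq : ∀ p ∈ minimalPrimes S, ringKrullDim (S ⧸ p) = d) (f : List S) (hi : f.length ≤ d)
    (hne : Ideal.ofList f ≠ ⊤) :
    ((d - f.length : ℕ) : WithBot ℕ∞) ≤ ringKrullDim (S ⧸ Ideal.ofList f) := by
  classical
  have := Algebra.FiniteType.isNoetherianRing k S
  obtain ⟨q, hq⟩ := Ideal.nonempty_minimalPrimes hne
  have := hq.1.1
  have h : q.height ≤ (f.length : ℕ∞) := by
    refine (Ideal.height_le_spanRank_toENat_of_mem_minimalPrimes _ _ hq).trans ?_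
    have h0 := Submodule.spanRank_span_le_card (R := S) {x | x ∈ f}
    refine (Cardinal.toENat.monotone' h0).trans ?_
    show Cardinal.toENat _ ≤ _
    rw [← List.coe_toFinset]
    simp only [Finset.coe_sort_coe, Cardinal.mk_coe_finset, map_natCast]
    exact_mod_cast f.toFinset_card_le
  have h1 := height_add_trdeg k heq q
  refine le_trans ?_ (ringKrullDim_le_of_surjective (Ideal.Quotient.factor hq.1.2) (Ideal.Quotient.factor_surjective hq.1.2))
  rw [ringKrullDim_quotient k q]
  obtain ⟨a, ha⟩ := ENat.ne_top_iff_exists.1 (Ideal.height_ne_top (I := q) (Ideal.IsPrime.ne_top inferInstance))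
  rw [← ha] at h1 h
  have h1' : a + CAlgH2.trdegQuot k q = d := by exact_mod_cast h1
  have h' : a ≤ f.length := by exact_mod_cast h
  have h3 : d - f.length ≤ CAlgH2.trdegQuot k q := by omega
  exact_mod_cast h3

end Groth.Agent.CAlg4.CMFiniteType
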