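import Groth.Agent.CAlg4.CMRelDim
import Groth.Agent.CAlg1.CMPoly
import Mathlib

/-! Decomposition by relative dimension. -/

universe u
open IsLocalRing TensorProduct

namespace Groth.Agent.CAlg4.CMRelDim

variable (R S : Type u) [CommRing R] [CommRing S] [Algebra R S]

theorem exists_fibre_map (e : S) (he : IsIdempotentElem e) (p : Ideal R) [p.IsPrime] :
    ∃ π : p.Fiber S →ₐ[p.ResidueField] p.Fiber (S ⧸ Ideal.span {1 - e}), Function.Surjective π ∧
      π ((1 : p.ResidueField) ⊗ₜ[R] (1 - e)) = 0 ∧ ∀ x, π x = 0 → ((1 : p.ResidueField) ⊗ₜ[R] e) * x = 0 := by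
  let K : Ideal S := Ideal.span {1 - e}
  let π : p.Fiber S →ₐ[p.ResidueField] p.Fiber (S ⧸ K) :=
    Algebra.TensorProduct.map (AlgHom.id _ _) (Ideal.Quotient.mkₐ R K)
  have hπ : ∀ (c : p.ResidueField) (s : S), π (c ⊗ₜ[R] s) = c ⊗ₜ[R] Ideal.Quotient.mk K s := fun c s => rfl
  refine ⟨π, fun y => ?_, ?_, ?_⟩
  · induction y using TensorProduct.induction_on with
    | zero => exact ⟨0, map_zero _⟩
    | add a b ha hb =>
      obtain ⟨a, rfl⟩ := ha; obtain ⟨b, rfl⟩ := hb
      exact ⟨a + b, map_add _ _ _⟩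
    | tmul c s =>
      obtain ⟨s, rfl⟩ := Ideal.Quotient.mk_surjective s
      exact ⟨c ⊗ₜ[R] s, hπ c s⟩
  · rw [hπ, Ideal.Quotient.eq_zero_iff_mem.2 (Ideal.mem_span_singleton_self _), TensorProduct.tmul_zero]
  · let σ : (S ⧸ K) →ₗ[R] S :=
      (K.restrictScalars R).liftQ ((LinearMap.mulLeft R e)) (fun x hx => by
        obtain ⟨c, rfl⟩ := Ideal.mem_span_singleton'.1 hx
        show e * (c * (1 - e)) = 0
        rw [mul_left_comm, mul_sub, mul_one, he.eq, sub_self, mul_zero]) ∘ₗ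
          (Submodule.Quotient.restrictScalarsEquiv R K).symm.toLinearMap
    intro x hx
    have key : LinearMap.lTensor p.ResidueField σ (π x) = ((1 : p.ResidueField) ⊗ₜ[R] e) * x := by
      clear hx
      induction x using TensorProduct.induction_on with
      | zero => simp
      | add a b ha hb => rw [map_add, map_add, ha, hb, mul_add]
      | tmul c s =>
        rw [hπ, LinearMap.lTensor_tmul, Algebra.TensorProduct.tmul_mul_tmul, one_mul]
        rfl
    rw [← key, hx, map_zero]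

variable {R S}

theorem notMem_comap {e : S} {p : Ideal R} [p.IsPrime] (π : p.Fiber S →ₐ[p.ResidueField] p.Fiber (S ⧸ Ideal.span {1 - e}))
    (h0 : π ((1 : p.ResidueField) ⊗ₜ[R] (1 - e)) = 0) (P : Ideal (p.Fiber (S ⧸ Ideal.span {1 - e}))) [hP : P.IsPrime] :
    (1 : p.ResidueField) ⊗ₜ[R] e ∉ P.comap π := by
  intro h
  have h1 : (1 : p.ResidueField) ⊗ₜ[R] (1 - e) ∈ P.comap π := by rw [Ideal.mem_comap, h0]; exact zero_mem _
  have h2 := add_mem h h1
  rw [← TensorProduct.tmul_add, add_sub_cancel] at h2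
  exact (Ideal.IsPrime.comap π (hK := hP)).ne_top ((Ideal.eq_top_iff_one _).2 h2)

theorem cm_quot (e : S) (he : IsIdempotentElem e) (p : Ideal R) [p.IsPrime]
    (hCM : LocCoh.IsCohenMacaulayRing (p.Fiber S)) :
    LocCoh.IsCohenMacaulayRing (p.Fiber (S ⧸ Ideal.span {1 - e})) := by
  obtain ⟨π, hπ, h0, hker⟩ := exists_fibre_map R S e he p
  have : IsNoetherianRing (p.Fiber (S ⧸ Ideal.span {1 - e})) := isNoetherianRing_of_surjective _ _ π.toRingHom hπ
  refine ⟨fun P hP => ?_⟩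
  let P₀ := P.comap π
  have hbij : Function.Bijective (Localization.localRingHom P₀ P π.toRingHom rfl) := by
    refine ⟨?_, (RingHom.surjectiveOnStalks_of_surjective hπ).localRingHom_surjective _ _ rfl⟩
    refine (injective_iff_map_eq_zero (Localization.localRingHom P₀ P π.toRingHom rfl).toAddMonoidHom).2 fun x hx => ?_
    obtain ⟨x, ⟨s, hs⟩, rfl⟩ := IsLocalization.exists_mk'_eq P₀.primeCompl x
    replace hx : Localization.localRingHom P₀ P π.toRingHom rfl
      (IsLocalization.mk' (Localization.AtPrime P₀) x (⟨s, hs⟩ : P₀.primeCompl)) = 0 := hx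
    rw [Localization.localRingHom_mk', IsLocalization.mk'_eq_zero_iff] at hx
    obtain ⟨⟨v, hv⟩, hvx⟩ := hx
    obtain ⟨v, rfl⟩ := hπ v
    have hvx' : π (v * x) = 0 := by rw [map_mul]; exact hvx
    rw [IsLocalization.mk'_eq_zero_iff]
    refine ⟨⟨((1 : p.ResidueField) ⊗ₜ[R] e) * v, P₀.primeCompl.mul_mem (notMem_comap π h0 P) (fun h => hv h)⟩, ?_⟩
    show _ * v * x = 0
    rw [mul_assoc]
    exact hker _ hvx'
  let g := Localization.localRingHom P₀ P π.toRingHom rfl
  exact CAlg1.cm_of_ringEquiv ({ Equiv.ofBijective g hbij with map_mul' := g.map_mul, map_add' := g.map_add } :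
      Localization.AtPrime P₀ ≃+* Localization.AtPrime P)
    (h := LocCoh.IsCohenMacaulayRing.isCohenMacaulayLocalRing_localization (R := p.Fiber S) P₀)

theorem dim_quot [Algebra.FiniteType R S] (e : S) (he : IsIdempotentElem e) (d : ℕ)
    (hd : ∀ q : PrimeSpectrum S, e ∉ q.asIdeal → relDim R S q = d) (p : Ideal R) [p.IsPrime]
    (P : Ideal (p.Fiber (S ⧸ Ideal.span {1 - e}))) (hP : P ∈ minimalPrimes (p.Fiber (S ⧸ Ideal.span {1 - e}))) :
    ringKrullDim (p.Fiber (S ⧸ Ideal.span {1 - e}) ⧸ P) = (d : WithBot ℕ∞) := by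
  obtain ⟨π, hπ, h0, hker⟩ := exists_fibre_map R S e he p
  have := hP.1.1
  let P₀ := P.comap π
  have hne := notMem_comap π h0 P
  have hP₀ : P₀ ∈ minimalPrimes (p.Fiber S) := by
    refine ⟨⟨inferInstance, bot_le⟩, fun J hJ hle => ?_⟩
    have hJk : RingHom.ker π ≤ J := fun x hx =>
      (hJ.1.mem_or_mem (show ((1 : p.ResidueField) ⊗ₜ[R] e) * x ∈ J by rw [hker x hx]; exact zero_mem _)).resolve_left
        fun h => hne (hle h)
    have := hJ.1
    have hJm : (J.map π).IsPrime := Ideal.map_isPrime_of_surjective hπ hJk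
    have h1 := hP.2 ⟨hJm, bot_le⟩ (Ideal.map_le_iff_le_comap.2 hle)
    intro x hx
    have h2 : π x ∈ J.map π := h1 hx
    rw [← Ideal.mem_comap, Ideal.comap_map_of_surjective' π hπ, sup_eq_left.2 hJk] at h2
    exact h2
  let q₀ : PrimeSpectrum S := ⟨P₀.comap (Algebra.TensorProduct.includeRight.toRingHom), inferInstance⟩
  have : q₀.asIdeal.LiesOver p :=
    ((PrimeSpectrum.primesOverOrderIsoFiber R S p).symm ⟨P₀, inferInstance⟩).2.2
  have hrd := relDim_eq' R S p q₀ ⟨P₀, inferInstance⟩ rfl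
  rw [hd q₀ hne] at hrd
  have hs := CAlgH2.height_add_trdegQuot_eq_dimAt p.ResidueField P₀
  rw [Ideal.height_eq_zero_iff.2 hP₀, zero_add] at hs
  have heq : CAlgH2.trdegQuot p.ResidueField P₀ = d := by
    have : CAlgH2.trdegQuot p.ResidueField P₀ = CAlgH2.dimAt p.ResidueField P₀ := by exact_mod_cast hs
    rw [this]; exact hrd.symm
  let f := (Ideal.Quotient.mkₐ p.ResidueField P).comp π
  have hf : Function.Surjective f := Ideal.Quotient.mk_surjective.comp hπ
  have : Algebra.FiniteType p.ResidueField (p.Fiber (S ⧸ Ideal.span {1 - e}) ⧸ P) :=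
    Algebra.FiniteType.of_surjective f hf
  rw [E4O.ringKrullDim_eq_trdeg p.ResidueField (p.Fiber (S ⧸ Ideal.span {1 - e}) ⧸ P)]
  have etr : Algebra.trdeg p.ResidueField (p.Fiber (S ⧸ Ideal.span {1 - e}) ⧸ P) =
      Algebra.trdeg p.ResidueField (p.Fiber S ⧸ P₀) :=
    ((Ideal.quotientEquivAlgOfEq _ (show P₀ = RingHom.ker f from
      Ideal.ext fun x => Iff.intro (fun h => RingHom.mem_ker.2 (Ideal.Quotient.eq_zero_iff_mem.2 h))
        fun h => (Ideal.Quotient.eq_zero_iff_mem (I := P)).1 (RingHom.mem_ker.1 h))).trans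
      (Ideal.quotientKerAlgEquivOfSurjective (f := f) hf)).trdeg_eq.symm
  rw [etr, ← heq]
  rfl

variable (R S)

theorem exists_idem [Module.Flat R S] [Algebra.FinitePresentation R S]
    (hCM : ∀ p : PrimeSpectrum R, LocCoh.IsCohenMacaulayRing (p.asIdeal.Fiber S)) :
    ∃ (N : ℕ) (e : Fin (N + 1) → S), (∀ d, IsIdempotentElem (e d)) ∧
      (∀ (d : Fin (N + 1)) (q : PrimeSpectrum S), e d ∉ q.asIdeal → relDim R S q = (d : ℕ)) ∧
      Pairwise (Function.onFun IsCoprime fun d => Ideal.span {1 - e d}) ∧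
      ⨅ d, Ideal.span {1 - e d} = (⊥ : Ideal S) := by
  classical
  have hlc := isLocallyConstant_relDim R S hCM
  obtain ⟨N, hN⟩ := (hlc.range_finite).bddAbove
  have hidem : ∀ d : Fin (N + 1), ∃ e : S, IsIdempotentElem e ∧
      {q | relDim R S q = (d : ℕ)} = (PrimeSpectrum.basicOpen e : Set (PrimeSpectrum S)) := fun d =>
    PrimeSpectrum.isClopen_iff.1 (hlc.isClopen_fiber (d : ℕ))
  choose e he hset using hidem
  have hmem : ∀ (d : Fin (N + 1)) (q : PrimeSpectrum S), relDim R S q = (d : ℕ) ↔ e d ∉ q.asIdeal := fun d q =>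
    Set.ext_iff.1 (hset d) q
  have hco : Pairwise (Function.onFun IsCoprime fun d => Ideal.span {1 - e d}) := by
    intro a b hab
    show IsCoprime (Ideal.span {1 - e a}) (Ideal.span {1 - e b})
    rw [Ideal.isCoprime_iff_sup_eq]
    by_contra hne
    obtain ⟨m, hm, hle⟩ := Ideal.exists_le_maximal _ hne
    have key : ∀ d, 1 - e d ∈ m → relDim R S ⟨m, hm.isPrime⟩ = (d : ℕ) := fun d h => by
      rw [hmem]
      intro h'
      exact hm.ne_top ((Ideal.eq_top_iff_one m).2 (by simpa using add_mem h h'))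
    exact hab (Fin.ext ((key a (hle (Ideal.mem_sup_left (Ideal.mem_span_singleton_self _)))).symm.trans
      (key b (hle (Ideal.mem_sup_right (Ideal.mem_span_singleton_self _))))))
  refine ⟨N, e, he, fun d q h => (hmem d q).2 h, hco, ?_⟩
  have h0 : ∏ d, (1 - e d) = 0 := by
    refine (IsIdempotentElem.eq_zero_of_isNilpotent ?_ ?_)
    · show _ * _ = _
      rw [← Finset.prod_mul_distrib]
      exact Finset.prod_congr rfl fun d _ => (he d).one_sub
    · rw [← mem_nilradical, nilradical_eq_sInf]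
      refine Submodule.mem_sInf.2 fun (P : Ideal S) (hP : P ∈ {J : Ideal S | J.IsPrime}) => ?_
      have hP' : P.IsPrime := hP
      let d : Fin (N + 1) := ⟨relDim R S ⟨P, hP'⟩, Nat.lt_succ_of_le (hN ⟨_, rfl⟩)⟩
      refine Ideal.mem_of_dvd _ (Finset.dvd_prod_of_mem (fun d => 1 - e d) (Finset.mem_univ d)) ?_
      refine (hP'.mem_or_mem (show e d * (1 - e d) ∈ P by
        rw [mul_sub, mul_one, (he d).eq, sub_self]; exact zero_mem _)).resolve_left ?_
      exact (hmem d ⟨P, hP'⟩).1 rfl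
  rw [show ⨅ d, Ideal.span {1 - e d} = ∏ d, Ideal.span {1 - e d} by
    rw [Ideal.prod_eq_iInf_of_pairwise_isCoprime (fun i _ j _ h => hco h)]; simp]
  rw [Ideal.prod_span_singleton, h0, Ideal.span_singleton_eq_bot.2 rfl]

theorem main [Module.Flat R S] [Algebra.FinitePresentation R S]
    (hCM : ∀ p : PrimeSpectrum R, LocCoh.IsCohenMacaulayRing (p.asIdeal.Fiber S)) :
    ∃ (N : ℕ) (T : Fin (N + 1) → Type u) (_ : ∀ d, CommRing (T d)) (_ : ∀ d, Algebra R (T d)),
      Nonempty (S ≃ₐ[R] ((d : Fin (N + 1)) → T d)) ∧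
        ∀ d : Fin (N + 1), Module.Flat R (T d) ∧ Algebra.FinitePresentation R (T d) ∧
          (∀ p : PrimeSpectrum R, LocCoh.IsCohenMacaulayRing (p.asIdeal.Fiber (T d))) ∧
          ∀ (p : PrimeSpectrum R), ∀ P ∈ minimalPrimes (p.asIdeal.Fiber (T d)),
            ringKrullDim (p.asIdeal.Fiber (T d) ⧸ P) = ((d : ℕ) : WithBot ℕ∞) := by
  obtain ⟨N, e, he, hd, hco, hbot⟩ := exists_idem R S hCM
  let φ : S →ₐ[R] ((d : Fin (N + 1)) → S ⧸ Ideal.span {1 - e d}) :=
    AlgHom.pi fun d => Ideal.Quotient.mkₐ R (Ideal.span {1 - e d})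
  have hφ : Function.Bijective φ := by
    constructor
    · rw [injective_iff_map_eq_zero]
      intro x hx
      have : x ∈ ⨅ d, Ideal.span {1 - e d} :=
        (Submodule.mem_iInf _).2 fun d => Ideal.Quotient.eq_zero_iff_mem.1 (congrFun hx d)
      rwa [hbot] at this
    · intro y
      obtain ⟨x, hx⟩ := Ideal.quotientInfToPiQuotient_surj hco y
      obtain ⟨x, rfl⟩ := Ideal.Quotient.mk_surjective x
      exact ⟨x, hx⟩
  refine ⟨N, fun d => S ⧸ Ideal.span {1 - e d}, inferInstance, inferInstance, ⟨AlgEquiv.ofBijective φ hφ⟩,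
    fun d => ⟨?_, ?_, fun p => ?_, fun p P hP => ?_⟩⟩
  · have hloc : IsLocalization.Away (e d) (S ⧸ Ideal.span {1 - e d}) :=
      IsLocalization.away_of_isIdempotentElem (he d) Ideal.mk_ker Ideal.Quotient.mk_surjective
    have : Module.Flat S (S ⧸ Ideal.span {1 - e d}) := IsLocalization.flat _ (Submonoid.powers (e d))
    exact Module.Flat.trans R S _
  · exact Algebra.FinitePresentation.quotient (Submodule.fg_span_singleton _)
  · exact cm_quot (e d) (he d) p.asIdeal (hCM p)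
  · exact dim_quot (e d) (he d) d (hd d) p.asIdeal P hP

end Groth.Agent.CAlg4.CMRelDim
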