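import Groth.Agent.CAlg1.Catenary

/-! Catenarity may be tested on the irreducible components; essentially finite type algebras. -/

universe u

namespace Groth.Agent.CAlg4.CatQuot

variable {A : Type u} [CommRing A]

theorem isCatenary_of_intervals
    (h : ∀ p : PrimeSpectrum A, ∃ (C : Type u) (_ : CommRing C) (f : PrimeSpectrum C ↪o PrimeSpectrum A),
      CAlg.IsCatenary C ∧ (Set.range f).OrdConnected ∧ Set.Ici p ⊆ Set.range f) :
    CAlg.IsCatenary A := by
  constructor
  · intro p q hpq
    obtain ⟨C, _, f, ⟨hb, -⟩, -, hr⟩ := h p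
    obtain ⟨p', hp'⟩ := hr (Set.mem_Ici.mpr le_rfl)
    obtain ⟨q', hq'⟩ := hr (Set.mem_Ici.mpr hpq)
    obtain ⟨n, hn⟩ := hb p' q' (f.le_iff_le.mp (by rw [hp', hq']; exact hpq))
    refine ⟨n, fun s hh hl => ?_⟩
    obtain ⟨t, ht, htv⟩ := CAlg1.exists_series_lift f s
      (fun i => hr (Set.mem_Ici.mpr (hh ▸ s.monotone (Fin.zero_le i))))
    rw [← ht]
    refine hn t (f.injective ?_) (f.injective ?_)
    · rw [hp', ← hh]; exact (htv 0).trans rfl
    · rw [hq', ← hl]
      exact (htv (Fin.last _)).trans (congrArg s (Fin.ext (by simp)))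
  · intro s t hh hl hs ht
    obtain ⟨C, _, f, ⟨-, hc⟩, hconv, hr⟩ := h s.head
    obtain ⟨s', hs', hsv⟩ := CAlg1.exists_series_lift f s
      (fun i => hr (Set.mem_Ici.mpr (s.monotone (Fin.zero_le i))))
    obtain ⟨t', ht', htv⟩ := CAlg1.exists_series_lift f t
      (fun i => hr (Set.mem_Ici.mpr (hh ▸ t.monotone (Fin.zero_le i))))
    rw [← hs', ← ht']
    refine hc s' t' (f.injective ?_) (f.injective ?_) (fun i => ?_) (fun i => ?_)
    · refine (hsv 0).trans (Eq.trans ?_ (htv 0).symm)
      exact hh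
    · refine (hsv (Fin.last _)).trans (Eq.trans ?_ (htv (Fin.last _)).symm)
      rw [show Fin.cast (by rw [hs']) (Fin.last s'.length) = Fin.last s.length from Fin.ext (by simp),
        show Fin.cast (by rw [ht']) (Fin.last t'.length) = Fin.last t.length from Fin.ext (by simp)]
      exact hl
    · rw [← hconv.apply_covBy_apply_iff, hsv, hsv]
      exact hs (Fin.cast hs' i)
    · rw [← hconv.apply_covBy_apply_iff, htv, htv]
      exact ht (Fin.cast ht' i)

theorem isCatenary_iff_minimalPrimes :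
    CAlg.IsCatenary A ↔ ∀ p ∈ minimalPrimes A, CAlg.IsCatenary (A ⧸ p) := by
  refine ⟨fun h p _ => CAlg1.isCatenary_of_surjective (Ideal.Quotient.mk p) Ideal.Quotient.mk_surjective h,
    fun h => isCatenary_of_intervals fun q => ?_⟩
  obtain ⟨p, hp, hpq⟩ := Ideal.exists_minimalPrimes_le (J := q.asIdeal) (bot_le : ⊥ ≤ q.asIdeal)
  let g := Ideal.Quotient.mk p
  let f : PrimeSpectrum (A ⧸ p) ↪o PrimeSpectrum A := OrderEmbedding.ofMapLEIff (PrimeSpectrum.comap g)
    fun a b => Ideal.comap_le_comap_iff_of_surjective g Ideal.Quotient.mk_surjective a.asIdeal b.asIdeal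
  have hr : Set.range f = PrimeSpectrum.zeroLocus p := by
    show Set.range (PrimeSpectrum.comap g) = _
    rw [range_comap_of_surjective _ g Ideal.Quotient.mk_surjective, Ideal.mk_ker]
  refine ⟨A ⧸ p, inferInstance, f, h p hp, ⟨fun a ha b _ c hc => ?_⟩, fun x hx => ?_⟩
  · rw [hr, PrimeSpectrum.mem_zeroLocus, SetLike.coe_subset_coe] at ha ⊢
    exact ha.trans hc.1
  · rw [hr, PrimeSpectrum.mem_zeroLocus, SetLike.coe_subset_coe]
    exact hpq.trans hx

theorem isUniversallyCatenary_of_essFiniteType (B : Type u) [CommRing B] [Algebra A B]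
    [Algebra.EssFiniteType A B] (hA : CAlg.IsUniversallyCatenary A) : CAlg.IsUniversallyCatenary B := by
  let C := Algebra.EssFiniteType.subalgebra A B
  have hC : CAlg.IsUniversallyCatenary C := by
    obtain ⟨hN, hc⟩ := hA
    refine ⟨Algebra.FiniteType.isNoetherianRing A C, fun S _ _ hS => ?_⟩
    let : Algebra A S := ((algebraMap C S).comp (algebraMap A C)).toAlgebra
    have : IsScalarTower A C S := IsScalarTower.of_algebraMap_eq' rfl
    exact hc S (Algebra.FiniteType.trans (R := A) (S := C) inferInstance hS)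
  exact CAlg1.isUniversallyCatenary_of_isLocalization (Algebra.EssFiniteType.submonoid A B) hC

end Groth.Agent.CAlg4.CatQuot
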