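import Groth.Agent.EGA4Alg4.QuasiReg
import Mathlib

/-! Free differentials force regularity in characteristic zero. -/

universe u
open IsLocalRing MvPolynomial

namespace Groth.Agent.CAlg4.CharZeroRegular

variable (k R : Type u) [Field k] [CommRing R] [Algebra k R] [IsLocalRing R]

omit [IsLocalRing R] in
theorem chain_rule (D : Derivation k R R) {n : ℕ} (x : Fin n → R) (F : MvPolynomial (Fin n) k) :
    D (aeval x F) = ∑ l, aeval x (pderiv l F) * D (x l) := by
  classical
  induction F using MvPolynomial.induction_on with
  | C a => simp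
  | add p q hp hq => simp only [map_add, hp, hq, add_mul, Finset.sum_add_distrib]
  | mul_X p j hp =>
    simp only [map_mul, aeval_X, Derivation.leibniz, smul_eq_mul, hp, map_add, add_mul, Finset.sum_add_distrib,
      pderiv_X, Finset.mul_sum]
    congr 1
    · rw [Finset.sum_eq_single j]
      · simp
      · intro b _ hb; simp [hb.symm]
      · simp
    · exact Finset.sum_congr rfl fun l _ => by ring

theorem derivation_pow (D : Derivation k R R) (d : ℕ) : ∀ z ∈ maximalIdeal R ^ (d + 1), D z ∈ maximalIdeal R ^ d := by
  induction d with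
  | zero => intro z _; simp
  | succ d ih =>
    intro z hz
    rw [pow_succ] at hz
    induction hz using Submodule.mul_induction_on' with
    | mem_mul_mem a ha b hb =>
      rw [Derivation.leibniz, smul_eq_mul, smul_eq_mul]
      refine add_mem (Ideal.mul_mem_right _ _ ha) ?_
      rw [mul_comm b, pow_succ]
      exact Ideal.mul_mem_mul (ih a ha) hb
    | add a _ b _ ha hb => rw [map_add]; exact add_mem ha hb

theorem aeval_mem_pow {n : ℕ} (x : Fin n → R) (hx : ∀ l, x l ∈ maximalIdeal R) {d : ℕ} {F : MvPolynomial (Fin n) k}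
    (hF : F.IsHomogeneous d) : aeval x F ∈ maximalIdeal R ^ d := by
  rw [F.as_sum, map_sum]
  refine sum_mem fun s hs => ?_
  rw [aeval_monomial]
  refine Ideal.mul_mem_left _ _ ?_
  have hd : ∑ l ∈ s.support, s l = d := by
    have := hF (MvPolynomial.mem_support_iff.1 hs)
    simpa [Finsupp.weight_apply, Finsupp.sum] using this
  rw [← hd]
  clear hd hs
  show ∏ l ∈ s.support, x l ^ s l ∈ _
  induction s.support using Finset.induction_on with
  | empty => simp
  | insert l t hl ih =>
    rw [Finset.prod_insert hl, Finset.sum_insert hl, pow_add]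
    exact Ideal.mul_mem_mul (Ideal.pow_mem_pow (hx l) _) ih

theorem eq_zero_of_homogeneous [CharZero k] (hcr : ∀ c : k, algebraMap k R c ∈ maximalIdeal R → c = 0) {n : ℕ}
    (D : Fin n → Derivation k R R) (x : Fin n → R) (hx : ∀ l, x l ∈ maximalIdeal R)
    (hD : ∀ i l, D i (x l) - (if i = l then 1 else 0) ∈ maximalIdeal R) :
    ∀ (d : ℕ) (F : MvPolynomial (Fin n) k), F.IsHomogeneous d → aeval x F ∈ maximalIdeal R ^ (d + 1) → F = 0 := by
  classical
  intro d
  induction d with
  | zero =>
    intro F hF hmem
    obtain ⟨c, rfl⟩ : ∃ c, F = C c := ⟨F.coeff 0, totalDegree_eq_zero_iff_eq_C.1 (Nat.le_zero.1 hF.totalDegree_le)⟩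
    rw [aeval_C, zero_add, pow_one] at hmem
    rw [hcr c hmem, map_zero]
  | succ d ih =>
    intro F hF hmem
    have hp : ∀ i, pderiv i F = 0 := by
      intro i
      have hhom : (pderiv i F).IsHomogeneous d := by simpa using hF.pderiv (i := i)
      refine ih _ hhom ?_
      have h1 := derivation_pow k R (D i) (d + 1) _ hmem
      rw [chain_rule k R (D i) x F] at h1
      have h2 : ∑ l, aeval x (pderiv l F) * (D i (x l) - if i = l then 1 else 0) ∈ maximalIdeal R ^ (d + 1) := by
        refine sum_mem fun l _ => ?_
        rw [pow_succ]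
        exact Ideal.mul_mem_mul (aeval_mem_pow k R x hx (by simpa using hF.pderiv (i := l))) (hD i l)
      have h3 := sub_mem h1 h2
      rw [← Finset.sum_sub_distrib] at h3
      simpa [mul_sub] using h3
    have h := hF.sum_X_mul_pderiv
    simp only [hp, mul_zero, Finset.sum_const_zero, nsmul_eq_mul] at h
    rcases mul_eq_zero.1 h.symm with h0 | h0
    · exact absurd h0 (Nat.cast_ne_zero.2 d.succ_ne_zero)
    · exact h0

theorem main [CharZero k] [IsNoetherianRing R]
    (hres : Function.Surjective (algebraMap k (ResidueField R)))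
    (n : ℕ) (e : KaehlerDifferential k R ≃ₗ[R] (Fin n → R)) :
    IsRegularLocalRing R ∧ ringKrullDim R = n := by
  classical
  let m := maximalIdeal R
  let D : Fin n → Derivation k R R := fun i =>
    ((LinearMap.proj i).comp e.toLinearMap).compDer (KaehlerDifferential.D k R)
  have hDe : ∀ i r, D i r = e (KaehlerDifferential.D k R r) i := fun i r => rfl
  have hcr : ∀ c : k, algebraMap k R c ∈ m → c = 0 := fun c hc => by
    by_contra hne
    exact hc ((IsUnit.mk0 c hne).map _)
  have hconst : ∀ r : R, ∃ c : k, r - algebraMap k R c ∈ m := fun r => by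
    obtain ⟨c, hc⟩ := hres (residue R r)
    refine ⟨c, Ideal.Quotient.eq.1 ?_⟩
    rw [IsScalarTower.algebraMap_apply k R (ResidueField R)] at hc
    exact hc.symm
  choose c hc using hconst
  -- the differential of `x ∈ m` modulo `m` determines `x` modulo `m ^ 2`
  have hker : ∀ y ∈ m, (∀ i, D i y ∈ m) → y ∈ m ^ 2 := by
    intro y hy hDy
    have hc0 : ∀ z ∈ m, c z = 0 := fun z hz => hcr _ (by simpa using sub_mem hz (hc z))
    have hadd : ∀ a b, c (a + b) = c a + c b := fun a b => by
      refine sub_eq_zero.1 (hcr _ ?_)
      have := sub_mem (add_mem (hc a) (hc b)) (hc (a + b))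
      convert this using 1
      simp only [map_sub, map_add]; ring
    have hmulc : ∀ a b, c (a * b) = c a * c b := fun a b => by
      refine sub_eq_zero.1 (hcr _ ?_)
      have := sub_mem (add_mem (Ideal.mul_mem_left _ a (hc b)) (Ideal.mul_mem_right (algebraMap k R (c b)) _ (hc a))) (hc (a * b))
      convert this using 1
      simp only [map_sub, map_mul]; ring
    have halg : ∀ t, c (algebraMap k R t) = t := fun t => by
      refine (sub_eq_zero.1 (hcr _ ?_)).symm
      rw [map_sub]; exact hc _
    let δ : R →ₗ[k] m.Cotangent :=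
      { toFun := fun r => m.toCotangent ⟨r - algebraMap k R (c r), hc r⟩
        map_add' := fun a b => by
          rw [← map_add]; congr 1; ext
          simp only [hadd, map_add, Submodule.coe_add]; ring
        map_smul' := fun t a => by
          rw [RingHom.id_apply, ← IsScalarTower.algebraMap_smul R t (m.toCotangent _), ← map_smul]; congr 1; ext
          simp only [Algebra.smul_def, hmulc, halg, map_mul, SetLike.val_smul, Algebra.algebraMap_self_apply]; ring }
    have hleib : ∀ a b, δ (a * b) = a • δ b + b • δ a := fun a b => by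
      show m.toCotangent _ = a • m.toCotangent _ + b • m.toCotangent _
      rw [← map_smul, ← map_smul, ← map_add, Ideal.toCotangent_eq, pow_two]
      have h := Ideal.mul_mem_mul (neg_mem (hc a)) (hc b)
      convert h using 1
      simp only [Submodule.coe_add, SetLike.val_smul, smul_eq_mul, hmulc, map_mul]; ring
    let δd : Derivation k R m.Cotangent := Derivation.mk' δ hleib
    have h := δd.liftKaehlerDifferential_comp_D y
    rw [← e.symm_apply_apply (KaehlerDifferential.D k R y), pi_eq_sum_univ (e (KaehlerDifferential.D k R y))] at h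
    simp only [map_sum, map_smul] at h
    have hzero : δ y = 0 := by
      rw [show δ y = δd y from rfl, ← h]
      refine Finset.sum_eq_zero fun i _ => ?_
      obtain ⟨z, hz⟩ := m.toCotangent_surjective (δd.liftKaehlerDifferential (e.symm fun j => if i = j then 1 else 0))
      rw [← hz, ← map_smul, Ideal.toCotangent_eq_zero, pow_two]
      exact Ideal.mul_mem_mul (hDy i) z.2
    have h0 := (Ideal.toCotangent_eq_zero m ⟨y - algebraMap k R (c y), hc y⟩).1 hzero
    simpa [hc0 y hy] using h0
  have hsurj : ∀ v : Fin n → R, ∃ z ∈ m, ∀ i, D i z - v i ∈ m := by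
    intro v
    have hv : e.symm v ∈ Submodule.span R (Set.range (KaehlerDifferential.D k R)) :=
      (KaehlerDifferential.span_range_derivation k R).symm ▸ Submodule.mem_top
    suffices ∀ ω ∈ Submodule.span R (Set.range (KaehlerDifferential.D k R)), ∃ z ∈ m, ∀ i, D i z - e ω i ∈ m by
      obtain ⟨z, hz, h⟩ := this _ hv
      exact ⟨z, hz, fun i => by simpa using h i⟩
    intro ω hω
    induction hω using Submodule.span_induction with
    | mem ω hω =>
      obtain ⟨r, rfl⟩ := hω
      exact ⟨_, hc r, fun i => by rw [map_sub, Derivation.map_algebraMap, sub_zero, hDe, sub_self]; exact zero_mem _⟩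
    | zero => exact ⟨0, zero_mem _, fun i => by simp⟩
    | add a b _ _ ha hb =>
      obtain ⟨z, hz, h⟩ := ha
      obtain ⟨z', hz', h'⟩ := hb
      refine ⟨_, add_mem hz hz', fun i => ?_⟩
      convert add_mem (h i) (h' i) using 1
      simp only [map_add, Pi.add_apply]; ring
    | smul r a _ ha =>
      obtain ⟨z, hz, h⟩ := ha
      refine ⟨r * z, Ideal.mul_mem_left _ _ hz, fun i => ?_⟩
      convert add_mem (Ideal.mul_mem_left m r (h i)) (Ideal.mul_mem_right (D i r) m hz) using 1
      simp only [map_smul, Pi.smul_apply, smul_eq_mul, Derivation.leibniz]; ring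
  choose xf hxm hxD using hsurj
  let x : Fin n → R := fun l => xf fun i => if i = l then 1 else 0
  have hx : ∀ l, x l ∈ m := fun l => hxm _
  have hD : ∀ i l, D i (x l) - (if i = l then 1 else 0) ∈ m := fun i l => hxD _ i
  have hspan : Ideal.span (Set.range x) = m := by
    refine le_antisymm (Ideal.span_le.2 (by rintro _ ⟨l, rfl⟩; exact hx l)) ?_
    refine Submodule.le_of_le_smul_of_le_jacobson_bot (IsNoetherian.noetherian m)
      (IsLocalRing.maximalIdeal_le_jacobson _) fun y hy => ?_
    refine Submodule.mem_sup.2 ⟨∑ l, D l y * x l, sum_mem fun l _ =>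
      Ideal.mul_mem_left _ _ (Ideal.subset_span ⟨l, rfl⟩), y - ∑ l, D l y * x l, ?_, by ring⟩
    have := hker (y - ∑ l, D l y * x l) (sub_mem hy (sum_mem fun l _ => Ideal.mul_mem_left m _ (hx l))) fun i => ?_
    · rwa [smul_eq_mul, ← pow_two]
    · have h2 : ∑ l, (D i (D l y) * x l + D l y * (D i (x l) - if i = l then 1 else 0)) ∈ m :=
        sum_mem fun l _ => add_mem (Ideal.mul_mem_left _ _ (hx l)) (Ideal.mul_mem_left _ _ (hD i l))
      convert neg_mem h2 using 1
      simp only [map_sub, map_sum, Derivation.leibniz, smul_eq_mul, mul_sub, mul_ite, mul_one, mul_zero,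
        Finset.sum_add_distrib, Finset.sum_sub_distrib, Finset.sum_ite_eq, Finset.mem_univ, if_true]
      rw [Finset.sum_congr rfl (fun l (_ : l ∈ Finset.univ) => mul_comm (x l) (D i (D l y)))]
      ring
  have hqr : CAlgX.IsQuasiRegular x := by
    intro d P hP hmem s
    rw [hspan] at hmem ⊢
    let P' : MvPolynomial (Fin n) k := ∑ t ∈ P.support, monomial t (c (P.coeff t))
    have hP' : P'.IsHomogeneous d := IsHomogeneous.sum _ _ _ fun t ht =>
      isHomogeneous_monomial _ (by simpa [Finsupp.weight_apply, Finsupp.degree, Finsupp.sum] using hP (MvPolynomial.mem_support_iff.1 ht))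
    have hdiff : eval x P - aeval x P' ∈ m ^ (d + 1) := by
      conv in eval x P => rw [P.as_sum]
      simp only [P', map_sum, eval_monomial, aeval_monomial, ← Finset.sum_sub_distrib, ← sub_mul]
      refine sum_mem fun t ht => ?_
      rw [pow_succ']
      refine Ideal.mul_mem_mul (hc _) ?_
      have h := aeval_mem_pow k R x hx (isHomogeneous_monomial (1 : k)
        (show Finsupp.degree t = d by simpa [Finsupp.weight_apply, Finsupp.degree, Finsupp.sum] using hP (MvPolynomial.mem_support_iff.1 ht)))
      simpa [aeval_monomial] using h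
    have hzero : P' = 0 := eq_zero_of_homogeneous k R hcr D x hx hD d P' hP' (by simpa using sub_mem hmem hdiff)
    by_cases hs : s ∈ P.support
    · have := congrArg (MvPolynomial.coeff s) hzero
      simp only [P', coeff_sum, coeff_monomial, Finset.sum_ite_eq', hs, if_true, coeff_zero] at this
      simpa [this] using hc (P.coeff s)
    · simp [MvPolynomial.notMem_support_iff.1 hs]
  have hjac : ∀ i, x i ∈ Ring.jacobson R := fun i => by
    rw [← Ideal.jacobson_bot, IsLocalRing.jacobson_eq_maximalIdeal (⊥ : Ideal R) bot_ne_top]; exact hx i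
  have hlist : Ideal.ofList (List.ofFn x) = m := by
    rw [← hspan, Ideal.ofList]
    congr 1
    ext z
    simp [List.mem_ofFn]
  have hreg : RingTheory.Sequence.IsRegular R (List.ofFn x) := by
    refine ⟨EGA4Alg4.isWeaklyRegular_of_isQuasiRegular n R x hjac hqr, ?_⟩
    rw [smul_eq_mul, Ideal.mul_top, hlist]
    exact (maximalIdeal.isMaximal R).ne_top.symm
  have hdim : ringKrullDim R = n := by
    rw [← ringKrullDim_add_length_eq_ringKrullDim_of_isRegular _ hreg, List.length_ofFn, hlist,
      ringKrullDim_eq_zero_of_field (ResidueField R) |> fun h => (show ringKrullDim (R ⧸ m) = 0 from h), zero_add]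
  refine ⟨IsRegularLocalRing.of_spanFinrank_maximalIdeal_le R ?_, hdim⟩
  rw [hdim, show maximalIdeal R = Ideal.span (Set.range x) from hspan.symm]
  exact Nat.cast_le.2 ((Submodule.spanFinrank_span_le_ncard_of_finite (Set.finite_range x)).trans
    ((Finite.card_range_le x).trans (by simp)))

end Groth.Agent.CAlg4.CharZeroRegular
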