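import Groth.Agent.An92.FSch.Stalk
import Mathlib

/-! Completions of a local homomorphism with finite closed fibre. -/

universe u
open IsLocalRing TensorProduct

namespace Groth.Agent.CAlg4.ComplFinite

theorem sub_mem_of_le {S : Type u} [CommRing S] {I : Ideal S} (z : AdicCompletion.AdicCauchySequence I S) {a b : ℕ}
    (h : a ≤ b) : (z : ℕ → S) a - (z : ℕ → S) b ∈ I ^ a := by
  have h4 := z.2 h
  rw [SModEq.sub_mem] at h4
  simpa [smul_eq_mul, Ideal.mul_top] using h4

theorem bijective_of_cofinal (S : Type u) [CommRing S] (J K : Ideal S) (h : J.map (RingHom.id S) ≤ K) (N : ℕ)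
    (hN : K ^ (N + 1) ≤ J) : Function.Bijective (FSch.complMap J K (RingHom.id S) h) := by
  have hpow : ∀ k, K ^ ((N + 1) * k) ≤ J ^ k := fun k => by rw [pow_mul]; exact Ideal.pow_right_mono hN k
  have hkey : ∀ (k : ℕ) (z : AdicCompletion.AdicCauchySequence J S),
      AdicCompletion.evalₐ K k (FSch.complMap J K (RingHom.id S) h (AdicCompletion.mk J S z)) =
        Ideal.Quotient.mk _ ((z : ℕ → S) k) := fun k z => by
    rw [An92.FSch.evalₐ_complMap, AdicCompletion.evalₐ_mk, Ideal.quotientMap_mk]
    rfl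
  refine ⟨(injective_iff_map_eq_zero _).2 fun x hx => ?_, fun y => ?_⟩
  · obtain ⟨z, rfl⟩ := AdicCompletion.mk_surjective J S x
    refine AdicCompletion.ext_evalₐ fun k => ?_
    rw [map_zero, AdicCompletion.evalₐ_mk, Ideal.Quotient.eq_zero_iff_mem]
    let j := (N + 1) * k
    have hk : k ≤ j := Nat.le_mul_of_pos_left k N.succ_pos
    have h1 := hkey j z
    rw [hx, map_zero] at h1
    have h2 := hpow k (Ideal.Quotient.eq_zero_iff_mem.1 h1.symm)
    have := add_mem (sub_mem_of_le z hk) h2
    rwa [sub_add_cancel] at this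
  · obtain ⟨w, rfl⟩ := AdicCompletion.mk_surjective K S y
    let z : AdicCompletion.AdicCauchySequence J S :=
      ⟨fun k => (w : ℕ → S) ((N + 1) * k), fun {a b} hab => by
        rw [SModEq.sub_mem, smul_eq_mul, Ideal.mul_top]
        exact hpow a (sub_mem_of_le w (Nat.mul_le_mul_left _ hab))⟩
    refine ⟨AdicCompletion.mk J S z, AdicCompletion.ext_evalₐ fun k => ?_⟩
    rw [hkey, AdicCompletion.evalₐ_mk, Ideal.Quotient.eq, ← neg_sub]
    exact neg_mem (sub_mem_of_le w (Nat.le_mul_of_pos_left k N.succ_pos))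

theorem isPrecomplete_pi {C : Type u} [CommRing C] (I : Ideal C) (k : ℕ) [IsPrecomplete I C] :
    IsPrecomplete I (Fin k → C) := by
  refine ⟨fun f hf => ?_⟩
  have hmem : ∀ (n : ℕ) (v : Fin k → C), v ∈ (I ^ n • ⊤ : Submodule C (Fin k → C)) ↔ ∀ i, v i ∈ I ^ n := fun n v => by
    constructor
    · intro hv i
      induction hv using Submodule.smul_induction_on' with
      | smul a ha w _ => exact Ideal.mul_mem_right _ _ ha
      | add x _ y _ hx hy => exact add_mem hx hy
    · intro hv
      rw [pi_eq_sum_univ v]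
      exact sum_mem fun i _ => Submodule.smul_mem_smul (hv i) Submodule.mem_top
  have hlim : ∀ i, ∃ L : C, ∀ n, f n i ≡ L [SMOD (I ^ n • ⊤ : Submodule C C)] := fun i => by
    refine IsPrecomplete.prec (I := I) (M := C) inferInstance (f := fun n => f n i) fun {a b} hab => ?_
    have h := hf hab
    rw [SModEq.sub_mem, hmem] at h
    rw [SModEq.sub_mem, smul_eq_mul, Ideal.mul_top]
    exact h i
  choose L hL using hlim
  refine ⟨L, fun n => ?_⟩
  rw [SModEq.sub_mem, hmem]
  intro i
  simpa [SModEq.sub_mem, smul_eq_mul, Ideal.mul_top] using hL i n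

theorem main (R S : Type u) [CommRing R] [CommRing S]
    [IsLocalRing R] [IsLocalRing S] [Algebra R S] [IsLocalHom (algebraMap R S)]
    (hm : (maximalIdeal R).FG)
    (hfib : Module.Finite (maximalIdeal R).ResidueField ((maximalIdeal R).Fiber S))
    (h : (maximalIdeal R).map (algebraMap R S) ≤ maximalIdeal S)
    (h' : ((maximalIdeal R).map (algebraMap R S)).map (RingHom.id S) ≤ maximalIdeal S) :
    Function.Bijective (FSch.complMap ((maximalIdeal R).map (algebraMap R S))
        (maximalIdeal S) (RingHom.id S) h') ∧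
      (FSch.complMap (maximalIdeal R) (maximalIdeal S) (algebraMap R S) h).Finite := by
  classical
  let m := maximalIdeal R
  let J := m.map (algebraMap R S)
  have hres : Module.Finite R m.ResidueField := Module.Finite.of_surjective (Algebra.linearMap R m.ResidueField) (by
    intro z
    obtain ⟨y, rfl⟩ := (Ideal.bijective_algebraMap_quotient_residueField m).2 z
    obtain ⟨a, rfl⟩ := Ideal.Quotient.mk_surjective y
    exact ⟨a, (IsScalarTower.algebraMap_apply R (R ⧸ m) m.ResidueField a)⟩)
  have : Module.Finite R (m.Fiber S) := Module.Finite.trans m.ResidueField _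
  let eK : (R ⧸ m) ≃ₐ[R] m.ResidueField :=
    AlgEquiv.ofBijective (IsScalarTower.toAlgHom R (R ⧸ m) m.ResidueField) (Ideal.bijective_algebraMap_quotient_residueField m)
  let e : m.Fiber S ≃ₐ[R] S ⊗[R] (R ⧸ m) :=
    (Algebra.TensorProduct.congr eK.symm (AlgEquiv.refl (R := R) (A₁ := S))).trans (Algebra.TensorProduct.comm R (R ⧸ m) S)
  let e2 : (S ⧸ J) ≃ₗ[R] S ⊗[R] (R ⧸ m) :=
    ((Algebra.TensorProduct.quotIdealMapEquivTensorQuot S m).toLinearEquiv.restrictScalars R)
  have hfinq : Module.Finite R (S ⧸ J) :=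
    Module.Finite.equiv (e.toLinearEquiv.trans e2.symm)
  have : Module.Finite (R ⧸ m) (S ⧸ J) := Module.Finite.of_restrictScalars_finite R _ _
  let _ := Ideal.Quotient.field m
  have : IsArtinianRing (S ⧸ J) := IsArtinianRing.of_finite (R ⧸ m) _
  have : Nontrivial (S ⧸ J) := Ideal.Quotient.nontrivial_iff.2 (ne_top_of_le_ne_top (maximalIdeal.isMaximal S).ne_top h)
  have : IsLocalRing (S ⧸ J) := .of_surjective' (Ideal.Quotient.mk J) Ideal.Quotient.mk_surjective
  obtain ⟨N, hN⟩ := IsArtinianRing.isNilpotent_jacobson_bot (R := S ⧸ J)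
  have hN' : maximalIdeal S ^ (N + 1) ≤ J := by
    rw [IsLocalRing.jacobson_eq_maximalIdeal (⊥ : Ideal (S ⧸ J)) bot_ne_top] at hN
    have hle : (maximalIdeal S).map (Ideal.Quotient.mk J) ≤ maximalIdeal (S ⧸ J) := by
      refine Ideal.map_le_iff_le_comap.2 fun a ha hu => ?_
      have : IsLocalHom (Ideal.Quotient.mk J) := .of_surjective _ Ideal.Quotient.mk_surjective
      exact ha (isUnit_of_map_unit _ a hu)
    rw [← Ideal.mk_ker (I := J), ← Ideal.map_eq_bot_iff_le_ker, Ideal.map_pow]
    refine le_bot_iff.1 ((Ideal.pow_right_mono hle _).trans ?_)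
    rw [pow_succ, hN]
    simp
  have hbij := bijective_of_cofinal S J (maximalIdeal S) h' N hN'
  refine ⟨hbij, ?_⟩
  have hJfg : J.FG := hm.map _
  let C := AdicCompletion m R
  let E := AdicCompletion J S
  let φ : C →+* E := FSch.complMap m J (algebraMap R S) le_rfl
  have hcomp : (FSch.complMap J (maximalIdeal S) (RingHom.id S) h').comp φ =
      FSch.complMap m (maximalIdeal S) (algebraMap R S) h :=
    RingHom.ext fun x => An92.FSch.complMap_complMap le_rfl h' _ h (RingHom.id_comp _) x
  rw [← hcomp]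
  refine (RingHom.Finite.of_surjective _ hbij.2).comp ?_
  let _ : Algebra C E := φ.toAlgebra
  have : IsScalarTower R C E := IsScalarTower.of_algebraMap_eq fun r => by
    show _ = φ (algebraMap R C r)
    rw [An92.FSch.complMap_algebraMap, IsScalarTower.algebraMap_apply R S E]
  show Module.Finite C E
  have hEJ : IsAdicComplete J E := AdicCompletion.isAdicComplete hJfg
  have hEm : IsAdicComplete m E := (IsAdicComplete.map_algebraMap_iff (S := S) m E).1 hEJ
  let Ic := m.map (algebraMap R C)
  have hEc : IsAdicComplete Ic E := (IsAdicComplete.map_algebraMap_iff (S := C) m E).2 hEm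
  have hCc : IsAdicComplete Ic C := (IsAdicComplete.map_algebraMap_iff (S := C) m C).2 (AdicCompletion.isAdicComplete hm)
  obtain ⟨k, g, hg⟩ := Module.Finite.exists_fin (R := R) (M := S ⧸ J)
  choose g' hg' using fun i => Ideal.Quotient.mk_surjective (g i)
  let ψ : (Fin k → C) →ₗ[C] E := Fintype.linearCombination C fun i => algebraMap S E (g' i)
  have hψ : Function.Surjective ((Ic • ⊤ : Submodule C E).mkQ ∘ₗ ψ) := by
    intro z
    obtain ⟨y, rfl⟩ := Submodule.mkQ_surjective _ z
    obtain ⟨s, hs⟩ := Ideal.Quotient.mk_surjective (AdicCompletion.evalOneₐ J y)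
    obtain ⟨c, hc⟩ := (Submodule.mem_span_range_iff_exists_fun R).1
      (hg.symm ▸ Submodule.mem_top : Ideal.Quotient.mk J s ∈ Submodule.span R (Set.range g))
    refine ⟨fun i => algebraMap R C (c i), ?_⟩
    rw [LinearMap.comp_apply, Submodule.mkQ_apply, Submodule.mkQ_apply, Submodule.Quotient.eq, Ideal.smul_top_eq_map,
      Submodule.restrictScalars_mem, Ideal.map_map, ← IsScalarTower.algebraMap_eq, IsScalarTower.algebraMap_eq R S E,
      ← Ideal.map_map]
    show _ ∈ J.map (algebraMap S (AdicCompletion J S))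
    rw [← AdicCompletion.ker_evalOneₐ_eq_map J hJfg, RingHom.mem_ker, map_sub, sub_eq_zero]
    show AdicCompletion.evalOneₐ J (ψ _) = AdicCompletion.evalOneₐ J y
    rw [← hs, ← hc, Fintype.linearCombination_apply, map_sum]
    refine Finset.sum_congr rfl fun i _ => ?_
    rw [Algebra.smul_def, map_mul, AlgHom.commutes, ← IsScalarTower.algebraMap_apply R C E,
      IsScalarTower.algebraMap_apply R S E, AlgHom.commutes, Algebra.smul_def, ← hg' i,
      IsScalarTower.algebraMap_apply R S (S ⧸ J)]
    rfl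
  have := isPrecomplete_pi Ic k
  exact Module.Finite.of_surjective ψ (surjective_of_mkQ_comp_surjective hψ)

end Groth.Agent.CAlg4.ComplFinite
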