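import Groth.Agent.CAlg4.ArtinRees
import Mathlib.RingTheory.AdicCompletion.AsTensorProduct
import Mathlib.RingTheory.AdicCompletion.Completeness
import Mathlib.RingTheory.Nakayama
import Mathlib.RingTheory.Noetherian.Orzech

set_option autoImplicit false

open scoped TensorProduct

namespace Groth.Agent.CAlg4.AR

universe u

variable {A : Type u} [CommRing A] [IsNoetherianRing A] (I : Ideal A)

lemma isUnit_algebraMap_completion {r : A} (hr : r - 1 ∈ I) :
    IsUnit (algebraMap A (AdicCompletion I A) r) := by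
  have hI : I.FG := IsNoetherian.noetherian I
  have : IsAdicComplete (I.map (algebraMap A (AdicCompletion I A))) (AdicCompletion I A) :=
    (IsAdicComplete.map_algebraMap_iff _ _).mpr (AdicCompletion.isAdicComplete hI)
  have h1 := IsAdicComplete.le_jacobson_bot (I.map (algebraMap A (AdicCompletion I A)))
    (Ideal.mem_map_of_mem _ hr)
  have h2 := Ideal.mem_jacobson_bot.mp h1 1
  simpa [map_sub] using h2

variable {I} {M N : Type u} [AddCommGroup M] [Module A M] [Module.Finite A M]
  [AddCommGroup N] [Module A N] [Module.Finite A N]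

omit [Module.Finite A M] in
lemma completion_surjective (φ : M →ₗ[A] N)
    (hφ : LinearMap.range φ ⊔ I • ⊤ = ⊤) : Function.Surjective (AdicCompletion.map I φ) := by
  obtain ⟨r, hr, hr'⟩ := Submodule.exists_sub_one_mem_and_smul_eq_zero_of_fg_of_le_smul I
    (⊤ : Submodule A (N ⧸ LinearMap.range φ)) Module.Finite.fg_top (by
      intro x _
      obtain ⟨y, rfl⟩ := Submodule.Quotient.mk_surjective _ x
      obtain ⟨a, ha, b, hb, rfl⟩ := Submodule.mem_sup.mp (hφ ▸ Submodule.mem_top : y ∈ _)
      rw [Submodule.Quotient.mk_add, (Submodule.Quotient.mk_eq_zero _).mpr ha, zero_add]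
      have h := Submodule.mem_map_of_mem (f := (LinearMap.range φ).mkQ) hb
      rw [Submodule.map_smul''] at h
      exact Submodule.smul_mono le_rfl le_top h)
  obtain ⟨v, hv⟩ := isUnit_algebraMap_completion I hr
  intro z
  obtain ⟨t, rfl⟩ := AdicCompletion.ofTensorProduct_surjective_of_finite I N z
  induction t with
  | zero => exact ⟨0, by simp⟩
  | add a b ha hb =>
    obtain ⟨a', ha'⟩ := ha
    obtain ⟨b', hb'⟩ := hb
    exact ⟨a' + b', by simp [ha', hb']⟩
  | tmul s y =>
    obtain ⟨m, hm⟩ : r • y ∈ LinearMap.range φ := by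
      rw [← Submodule.Quotient.mk_eq_zero, Submodule.Quotient.mk_smul]
      exact hr' _ trivial
    refine ⟨AdicCompletion.ofTensorProduct I M (((v⁻¹ : (AdicCompletion I A)ˣ) * s) ⊗ₜ m), ?_⟩
    have hn := LinearMap.congr_fun (AdicCompletion.ofTensorProduct_naturality I φ)
      ((((v⁻¹ : (AdicCompletion I A)ˣ) : AdicCompletion I A) * s) ⊗ₜ m)
    simp only [LinearMap.comp_apply, TensorProduct.AlgebraTensorModule.map_tmul,
      LinearMap.id_apply] at hn
    rw [hn, hm, ← TensorProduct.smul_tmul, Algebra.smul_def, ← hv, Units.mul_inv_cancel_left]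

lemma completion_equiv (I : Ideal A)
    (h : ∀ n : ℕ, Nonempty ((M ⧸ (I ^ n • ⊤ : Submodule A M)) ≃ₗ[A]
      (N ⧸ (I ^ n • ⊤ : Submodule A N)))) :
    Nonempty (AdicCompletion I M ≃ₗ[AdicCompletion I A] AdicCompletion I N) := by
  obtain ⟨c₁, h₁⟩ := exists_lift_hom I M N
  obtain ⟨c₂, h₂⟩ := exists_lift_hom I N M
  have key : ∀ {M' N' : Type u} [AddCommGroup M'] [Module A M'] [Module.Finite A M']
      [AddCommGroup N'] [Module A N'] [Module.Finite A N'] (c : ℕ)
      (_ : ∀ (n : ℕ) (ψ : M' →ₗ[A] N' ⧸ (I ^ (n + c) • ⊤ : Submodule A N')),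
        ∃ φ : M' →ₗ[A] N', ∀ (m : M') (y : N'),
          Submodule.Quotient.mk y = ψ m → φ m - y ∈ (I ^ n • ⊤ : Submodule A N'))
      (_ : (M' ⧸ (I ^ (1 + c) • ⊤ : Submodule A M')) ≃ₗ[A]
        (N' ⧸ (I ^ (1 + c) • ⊤ : Submodule A N'))),
      ∃ f : AdicCompletion I M' →ₗ[AdicCompletion I A] AdicCompletion I N',
        Function.Surjective f := by
    intro M' N' _ _ _ _ _ _ c hc e
    obtain ⟨φ, hφ⟩ := hc 1 (e.toLinearMap.comp (Submodule.mkQ _))
    refine ⟨AdicCompletion.map I φ, completion_surjective φ (eq_top_iff.mpr fun y _ => ?_)⟩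
    obtain ⟨m, hm⟩ := Submodule.Quotient.mk_surjective _ (e.symm (Submodule.Quotient.mk y))
    have := hφ m y (by simp [hm])
    rw [pow_one] at this
    rw [show y = φ m - (φ m - y) by abel]
    exact Submodule.sub_mem _ (Submodule.mem_sup_left ⟨m, rfl⟩) (Submodule.mem_sup_right this)
  obtain ⟨f, hf⟩ := key c₁ h₁ (h (1 + c₁)).some
  obtain ⟨g, hg⟩ := key c₂ h₂ (h (1 + c₂)).some.symm
  have : Module.Finite (AdicCompletion I A) (AdicCompletion I M) :=
    Module.Finite.of_surjective _ (AdicCompletion.ofTensorProduct_surjective_of_finite I M)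
  have hinj : Function.Injective (g ∘ₗ f) :=
    OrzechProperty.injective_of_surjective_endomorphism _ (hg.comp hf)
  exact ⟨LinearEquiv.ofBijective f ⟨Function.Injective.of_comp (f := g) hinj, hf⟩⟩

end Groth.Agent.CAlg4.AR
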