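import Mathlib

/-! The conormal sequence for `A → B → C` with `A → C` surjective. -/

universe u
open TensorProduct

namespace Groth.Agent.CAlg4.ConormalSurj

theorem map_eq_zero_of_kerCotangentToTensor (A B C D : Type u) [CommRing A] [CommRing B] [CommRing C] [CommRing D]
    [Algebra A B] [Algebra B C] [Algebra A C] [IsScalarTower A B C] (q : B →+* D) (s : C →+* D)
    (hs : ∀ a, s (algebraMap A C a) = q (algebraMap A B a))
    (hsq : ∀ a b, (q a - s (algebraMap B C a)) * (q b - s (algebraMap B C b)) = 0)
    (x : RingHom.ker (algebraMap B C))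
    (hx : KaehlerDifferential.kerCotangentToTensor A B C (Ideal.toCotangent _ x) = 0) : q x = 0 := by
  let _ : Algebra C D := s.toAlgebra
  let _ : Algebra B D := (s.comp (algebraMap B C)).toAlgebra
  let _ : Algebra A D := (q.comp (algebraMap A B)).toAlgebra
  have : IsScalarTower B C D := IsScalarTower.of_algebraMap_eq fun _ => rfl
  have : IsScalarTower A B D := IsScalarTower.of_algebraMap_eq fun a => by
    show q (algebraMap A B a) = s (algebraMap B C (algebraMap A B a))
    rw [← hs, IsScalarTower.algebraMap_apply A B C]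
  let δ : B →ₗ[A] D :=
    { toFun := fun b => q b - s (algebraMap B C b)
      map_add' := fun a b => by simp only [map_add]; abel
      map_smul' := fun a b => by
        rw [RingHom.id_apply, Algebra.smul_def a b, map_mul, map_mul, map_mul,
          ← IsScalarTower.algebraMap_apply A B C, hs, Algebra.smul_def]
        show _ = q (algebraMap A B a) * _
        ring }
  have hleib : ∀ a b, δ (a * b) = a • δ b + b • δ a := fun a b => by
    have h := hsq a b
    simp only [δ, LinearMap.coe_mk, AddHom.coe_mk, Algebra.smul_def, map_mul]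
    show _ = s (algebraMap B C a) * _ + s (algebraMap B C b) * _
    linear_combination h
  let Dr : Derivation A B D := Derivation.mk' δ hleib
  have h1 : Dr.liftKaehlerDifferential.liftBaseChange C
      (KaehlerDifferential.kerCotangentToTensor A B C (Ideal.toCotangent _ x)) = q x := by
    rw [KaehlerDifferential.kerCotangentToTensor_toCotangent, LinearMap.liftBaseChange_tmul, one_smul,
      Derivation.liftKaehlerDifferential_comp_D]
    show q x - s (algebraMap B C x) = q x
    rw [RingHom.mem_ker.1 x.2, map_zero, sub_zero]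
  rw [← h1, hx, map_zero]

theorem exact (A B C : Type u) [CommRing A] [CommRing B]
    [CommRing C] [Algebra A B] [Algebra B C] [Algebra A C] [IsScalarTower A B C]
    (hAC : Function.Surjective (algebraMap A C))
    (h : RingHom.ker (algebraMap A C) ≤ (RingHom.ker (algebraMap B C)).comap (Algebra.ofId A B)) :
    Function.Exact
      (Ideal.mapCotangent (RingHom.ker (algebraMap A C)) (RingHom.ker (algebraMap B C)) (Algebra.ofId A B) h)
      (KaehlerDifferential.kerCotangentToTensor A B C) := by
  let I := RingHom.ker (algebraMap A C)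
  let J := RingHom.ker (algebraMap B C)
  intro z
  constructor
  · intro hz
    obtain ⟨x, rfl⟩ := Ideal.toCotangent_surjective J z
    let N := J ^ 2 ⊔ I.map (algebraMap A B)
    let q := Ideal.Quotient.mk N
    let s : C →+* B ⧸ N := (algebraMap A C).liftOfSurjective hAC ⟨q.comp (algebraMap A B), fun a ha => by
      rw [RingHom.mem_ker, RingHom.comp_apply, Ideal.Quotient.eq_zero_iff_mem]
      exact Ideal.mem_sup_right (Ideal.mem_map_of_mem _ ha)⟩
    have hs : ∀ a, s (algebraMap A C a) = q (algebraMap A B a) := fun a =>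
      RingHom.liftOfRightInverse_comp_apply _ _ _ _ a
    have hmem : ∀ b : B, ∃ j ∈ J, q b - s (algebraMap B C b) = q j := fun b => by
      obtain ⟨a, ha⟩ := hAC (algebraMap B C b)
      refine ⟨b - algebraMap A B a, ?_, by rw [← ha, hs, map_sub]⟩
      rw [RingHom.mem_ker, map_sub, ← IsScalarTower.algebraMap_apply A B C, ha, sub_self]
    have hq : q x = 0 := map_eq_zero_of_kerCotangentToTensor A B C _ q s hs (fun a b => by
      obtain ⟨i, hi, hi'⟩ := hmem a
      obtain ⟨j, hj, hj'⟩ := hmem b
      rw [hi', hj', ← map_mul, Ideal.Quotient.eq_zero_iff_mem]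
      exact Ideal.mem_sup_left (pow_two J ▸ Ideal.mul_mem_mul hi hj)) x hz
    obtain ⟨y, hy, w, hw, hxw⟩ := Submodule.mem_sup.1 (Ideal.Quotient.eq_zero_iff_mem.1 hq)
    have hw' : ∀ w ∈ I.map (algebraMap A B), ∃ i : I, w - algebraMap A B i ∈ J ^ 2 := by
      intro w hw
      induction hw using Submodule.span_induction with
      | mem w hw => obtain ⟨a, ha, rfl⟩ := hw; exact ⟨⟨a, ha⟩, by simp⟩
      | zero => exact ⟨0, by simp⟩
      | add w₁ w₂ _ _ h₁ h₂ =>
        obtain ⟨i₁, h₁⟩ := h₁; obtain ⟨i₂, h₂⟩ := h₂
        refine ⟨i₁ + i₂, ?_⟩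
        convert add_mem h₁ h₂ using 1
        simp only [Submodule.coe_add, map_add]; ring
      | smul b w _ hw =>
        obtain ⟨i, hi⟩ := hw
        obtain ⟨a, ha⟩ := hAC (algebraMap B C b)
        refine ⟨⟨a * i, Ideal.mul_mem_left _ _ i.2⟩, ?_⟩
        have he : b • w - algebraMap A B (a * i) =
            b * (w - algebraMap A B i) + (b - algebraMap A B a) * algebraMap A B i := by
          rw [map_mul, smul_eq_mul]; ring
        rw [he]
        refine add_mem (Ideal.mul_mem_left _ _ hi) (pow_two J ▸ Ideal.mul_mem_mul ?_ (h i.2))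
        rw [RingHom.mem_ker, map_sub, ← IsScalarTower.algebraMap_apply A B C, ha, sub_self]
    obtain ⟨i, hi⟩ := hw' w hw
    refine ⟨Ideal.toCotangent I i, ?_⟩
    rw [Ideal.mapCotangent_toCotangent, Ideal.toCotangent_eq]
    have he : algebraMap A B i - (x : B) = -((w - algebraMap A B i) + y) := by
      rw [← hxw]; ring
    show algebraMap A B i - (x : B) ∈ J ^ 2
    rw [he]
    exact neg_mem (add_mem hi hy)
  · rintro ⟨y, rfl⟩
    obtain ⟨i, rfl⟩ := Ideal.toCotangent_surjective I y
    rw [Ideal.mapCotangent_toCotangent, KaehlerDifferential.kerCotangentToTensor_toCotangent]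
    show (1 : C) ⊗ₜ[B] KaehlerDifferential.D A B (algebraMap A B i) = 0
    rw [Derivation.map_algebraMap, tmul_zero]

end Groth.Agent.CAlg4.ConormalSurj
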