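import Mathlib

/-! Stable uniqueness of conormal modules of presentations. -/

universe u
open TensorProduct

namespace Groth.Agent.CAlg4.CotangentStable

/-- A homotopy equivalence between two complexes of length two. -/
structure HEquiv {S : Type*} [CommRing S] {M F M' F' : Type*} [AddCommGroup M] [Module S M] [AddCommGroup F]
    [Module S F] [AddCommGroup M'] [Module S M'] [AddCommGroup F'] [Module S F'] (d : M →ₗ[S] F)
    (d' : M' →ₗ[S] F') where
  f1 : M →ₗ[S] M'
  f0 : F →ₗ[S] F'
  g1 : M' →ₗ[S] M
  g0 : F' →ₗ[S] F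
  s : F →ₗ[S] M
  t : F' →ₗ[S] M'
  commf : ∀ m, f0 (d m) = d' (f1 m)
  commg : ∀ m, g0 (d' m) = d (g1 m)
  h1 : ∀ m, g1 (f1 m) - m = s (d m)
  h0 : ∀ x, g0 (f0 x) - x = d (s x)
  h1' : ∀ m, f1 (g1 m) - m = t (d' m)
  h0' : ∀ x, f0 (g0 x) - x = d' (t x)

section
variable {S : Type*} [CommRing S] {M F M' F' M'' F'' : Type*} [AddCommGroup M] [Module S M] [AddCommGroup F]
  [Module S F] [AddCommGroup M'] [Module S M'] [AddCommGroup F'] [Module S F'] [AddCommGroup M'']
  [Module S M''] [AddCommGroup F''] [Module S F''] {d : M →ₗ[S] F} {d' : M' →ₗ[S] F'} {d'' : M'' →ₗ[S] F''}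

theorem HEquiv.prod_equiv (e : HEquiv d d') : Nonempty ((M × F') ≃ₗ[S] (M' × F)) := by
  let i : M →ₗ[S] F × M' := d.prod (-e.f1)
  let q : F × M' →ₗ[S] F' := e.f0.coprod d'
  let r : F × M' →ₗ[S] M := -(e.s.coprod e.g1)
  have hri : ∀ m, r (i m) = m := fun m => by
    show -(e.s (d m) + e.g1 (-e.f1 m)) = m
    rw [map_neg, ← e.h1 m]
    abel
  have hex : Function.Exact i q := by
    intro z
    constructor
    · intro hz
      obtain ⟨x, y⟩ := z
      simp only [q, LinearMap.coprod_apply] at hz
      let c := r (x, y)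
      have hc : d c = x := by
        simp only [c, r, LinearMap.neg_apply, LinearMap.coprod_apply, map_neg, map_add]
        rw [← e.h0 x, ← e.commg, eq_neg_of_add_eq_zero_right hz, map_neg]
        abel
      let w := y + e.f1 c
      have hw : d' w = 0 := by
        simp only [w, map_add, ← e.commf, hc]
        rw [add_comm, hz]
      refine ⟨c - e.g1 w, ?_⟩
      have h2 : e.f1 (e.g1 w) = w := sub_eq_zero.1 (by rw [e.h1' w, hw, map_zero])
      show (d (c - e.g1 w), -e.f1 (c - e.g1 w)) = (x, y)
      rw [map_sub, map_sub, hc, h2, ← e.commg, hw, map_zero, sub_zero]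
      exact Prod.ext rfl (by simp [w])
    · rintro ⟨m, rfl⟩
      show e.f0 (d m) + d' (-e.f1 m) = 0
      rw [map_neg, e.commf, add_neg_cancel]
  have hsec : q ∘ₗ e.g0.prod (-e.t) = LinearMap.id := LinearMap.ext fun x => by
    show e.f0 (e.g0 x) + d' (-e.t x) = x
    rw [map_neg, ← e.h0' x]
    abel
  exact ⟨(hex.splitSurjectiveEquiv (Function.LeftInverse.injective hri) ⟨_, hsec⟩).1.symm.trans
    (LinearEquiv.prodComm S F M')⟩

def HEquiv.trans (a : HEquiv d d') (b : HEquiv d' d'') : HEquiv d d'' where
  f1 := b.f1 ∘ₗ a.f1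
  f0 := b.f0 ∘ₗ a.f0
  g1 := a.g1 ∘ₗ b.g1
  g0 := a.g0 ∘ₗ b.g0
  s := a.g1 ∘ₗ b.s ∘ₗ a.f0 + a.s
  t := b.f1 ∘ₗ a.t ∘ₗ b.g0 + b.t
  commf m := by simp [a.commf, b.commf]
  commg m := by simp [a.commg, b.commg]
  h1 m := by
    simp only [LinearMap.comp_apply, LinearMap.add_apply, a.commf, ← b.h1, map_sub, ← a.h1]
    abel
  h0 x := by
    simp only [LinearMap.comp_apply, LinearMap.add_apply, map_add, ← a.commg, ← b.h0, map_sub, ← a.h0]
    abel
  h1' m := by
    simp only [LinearMap.comp_apply, LinearMap.add_apply, b.commg, ← a.h1', map_sub, ← b.h1']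
    abel
  h0' x := by
    simp only [LinearMap.comp_apply, LinearMap.add_apply, map_add, ← b.commf, ← a.h0', map_sub, ← b.h0']
    abel

end

/-- Two presentations of the same algebra have homotopy equivalent naive cotangent complexes. -/
noncomputable def hequiv {R S : Type*} [CommRing R] [CommRing S] [Algebra R S] {ι κ : Type*}
    (P : Algebra.Generators R S ι) (Q : Algebra.Generators R S κ) :
    HEquiv P.toExtension.cotangentComplex Q.toExtension.cotangentComplex :=
  let f := (P.defaultHom Q).toExtensionHom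
  let g := (Q.defaultHom P).toExtensionHom
  { f1 := Algebra.Extension.Cotangent.map f
    f0 := Algebra.Extension.CotangentSpace.map f
    g1 := Algebra.Extension.Cotangent.map g
    g0 := Algebra.Extension.CotangentSpace.map g
    s := (g.comp f).sub (.id _)
    t := (f.comp g).sub (.id _)
    commf := Algebra.Extension.CotangentSpace.map_cotangentComplex f
    commg := Algebra.Extension.CotangentSpace.map_cotangentComplex g
    h1 := fun m => by
      have h := DFunLike.congr_fun (Algebra.Extension.Cotangent.map_sub_map (g.comp f) (.id _)) m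
      simpa [Algebra.Extension.Cotangent.map_comp, Algebra.Extension.Cotangent.map_id] using h
    h0 := fun m => by
      have h := DFunLike.congr_fun (Algebra.Extension.CotangentSpace.map_sub_map (g.comp f) (.id _)) m
      simpa [Algebra.Extension.CotangentSpace.map_comp, Algebra.Extension.CotangentSpace.map_id] using h
    h1' := fun m => by
      have h := DFunLike.congr_fun (Algebra.Extension.Cotangent.map_sub_map (f.comp g) (.id _)) m
      simpa [Algebra.Extension.Cotangent.map_comp, Algebra.Extension.Cotangent.map_id] using h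
    h0' := fun m => by
      have h := DFunLike.congr_fun (Algebra.Extension.CotangentSpace.map_sub_map (f.comp g) (.id _)) m
      simpa [Algebra.Extension.CotangentSpace.map_comp, Algebra.Extension.CotangentSpace.map_id] using h }

/-- The generators attached to a surjection from a polynomial ring. -/
noncomputable def gens {R S : Type u} [CommRing R] [CommRing S] [Algebra R S] {n : ℕ}
    (α : MvPolynomial (Fin n) R →ₐ[R] S) (hα : Function.Surjective α) : Algebra.Generators R S (Fin n) :=
  .ofSurjective (fun i => α (MvPolynomial.X i)) (MvPolynomial.aeval_unique α ▸ hα)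

theorem cotangent_gens {R S : Type u} [CommRing R] [CommRing S] [Algebra R S] {n : ℕ}
    (α : MvPolynomial (Fin n) R →ₐ[R] S) (hα : Function.Surjective α) :
    Nonempty ((gens α hα).toExtension.Cotangent ≃ₗ[S] (Algebra.Extension.ofSurjective α hα).Cotangent) := by
  have halg : ∀ x : MvPolynomial (Fin n) R, MvPolynomial.aeval (fun i => α (MvPolynomial.X i)) x = α x :=
    fun x => (DFunLike.congr_fun (MvPolynomial.aeval_unique α) x).symm
  let f : (gens α hα).toExtension.Hom (Algebra.Extension.ofSurjective α hα) :=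
    ⟨RingHom.id _, fun _ => rfl, fun x => (halg x).symm⟩
  let g : (Algebra.Extension.ofSurjective α hα).Hom (gens α hα).toExtension :=
    ⟨RingHom.id _, fun _ => rfl, fun x => halg x⟩
  refine ⟨LinearEquiv.ofLinearMap (Algebra.Extension.Cotangent.map f) (Algebra.Extension.Cotangent.map g) ?_ ?_⟩
  · refine LinearMap.ext fun x => ?_
    obtain ⟨x, rfl⟩ := Algebra.Extension.Cotangent.mk_surjective x
    rfl
  · refine LinearMap.ext fun x => ?_
    obtain ⟨x, rfl⟩ := Algebra.Extension.Cotangent.mk_surjective x
    rfl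

theorem stable (R S : Type u) [CommRing R] [CommRing S]
    [Algebra R S] (n m : ℕ) (α : MvPolynomial (Fin n) R →ₐ[R] S) (hα : Function.Surjective α)
    (β : MvPolynomial (Fin m) R →ₐ[R] S) (hβ : Function.Surjective β) :
    Nonempty (((Algebra.Extension.ofSurjective α hα).Cotangent × (Fin m → S)) ≃ₗ[S]
      ((Algebra.Extension.ofSurjective β hβ).Cotangent × (Fin n → S))) := by
  obtain ⟨ea⟩ := cotangent_gens α hα
  obtain ⟨eb⟩ := cotangent_gens β hβ
  obtain ⟨e⟩ := (hequiv (gens α hα) (gens β hβ)).prod_equiv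
  exact ⟨(ea.symm.prodCongr (gens β hβ).cotangentSpaceBasis.equivFun.symm).trans <|
    e.trans (eb.prodCongr (gens α hα).cotangentSpaceBasis.equivFun)⟩

set_option maxRecDepth 4000 in
/-- Adjoining the inverse of an element does not change the homotopy type of the complex. -/
theorem hequiv_away {R S : Type u} [CommRing R] [CommRing S] [Algebra R S] (g : S) {ι : Type}
    (P : Algebra.Generators R S ι) :
    Nonempty (HEquiv (P.toExtension.cotangentComplex.baseChange (Localization.Away g))
      ((Algebra.Generators.localizationAway (Localization.Away g) g).comp P).toExtension.cotangentComplex) := by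
  let T := Localization.Away g
  let Q := Algebra.Generators.localizationAway T g
  let C := Q.comp P
  obtain ⟨x, hx⟩ : ∃ x, Algebra.Extension.Cotangent.map (Q.ofComp P).toExtensionHom x =
      Algebra.Generators.cMulXSubOneCotangent T g := by
    obtain ⟨⟨y, hy⟩, hy'⟩ := Algebra.Extension.Cotangent.mk_surjective (Algebra.Generators.cMulXSubOneCotangent T g)
    obtain ⟨z, rfl⟩ := Algebra.Generators.toAlgHom_ofComp_surjective Q P y
    refine ⟨Algebra.Extension.Cotangent.mk ⟨z, ?_⟩, Eq.trans ?_ hy'⟩
    swap
    · rfl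
    have h := (Q.ofComp P).toExtensionHom.algebraMap_toRingHom z
    exact h.symm.trans hy
  let e1 := Algebra.Generators.cotangentCompLocalizationAwayEquiv g P hx
  let e0 := Algebra.Generators.CotangentSpace.compEquiv Q P
  let d := P.toExtension.cotangentComplex.baseChange T
  let dC := C.toExtension.cotangentComplex
  let dQ := Q.toExtension.cotangentComplex
  have : Algebra.Etale S T := Algebra.Etale.of_isLocalizationAway g
  have hinj : Function.Injective dQ := by
    rw [← Algebra.Extension.subsingleton_h1Cotangent]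
    exact Q.equivH1Cotangent.subsingleton
  have hsurj : Function.Surjective dQ := fun y =>
    (Algebra.Extension.exact_cotangentComplex_toKaehler y).1 (Subsingleton.elim _ _)
  let dQe := LinearEquiv.ofBijective dQ ⟨hinj, hsurj⟩
  have hfst : ∀ z, (e0 (dC z)).1 = dQ (e1 z).2 := fun z => by
    rw [Algebra.Generators.CotangentSpace.fst_compEquiv_apply,
      Algebra.Generators.snd_cotangentCompLocalizationAwayEquiv]
    exact Algebra.Extension.CotangentSpace.map_cotangentComplex _ z
  have hinl : ∀ m, e0 (dC (e1.symm (m, 0))) = (0, d m) := fun m => by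
    rw [← LinearEquiv.eq_symm_apply, Algebra.Generators.CotangentSpace.compEquiv_symm_zero,
      Algebra.Generators.cotangentCompLocalizationAwayEquiv_symm_inl]
    induction m with
    | zero => simp
    | tmul t y =>
      simp only [dC, d, LinearMap.liftBaseChange_tmul, map_smul, LinearMap.baseChange_tmul]
      congr 1
      exact (Algebra.Extension.CotangentSpace.map_cotangentComplex _ y).symm
    | add y z hy hz => simp only [map_add, hy, hz]
  let ψ := LinearMap.snd T _ _ ∘ₗ e0.toLinearMap ∘ₗ dC ∘ₗ e1.symm.toLinearMap ∘ₗ LinearMap.inr T _ _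
  have hfull : ∀ z, e0 (dC z) = (dQ (e1 z).2, d (e1 z).1 + ψ (e1 z).2) := fun z => by
    refine Prod.ext (hfst z) ?_
    have hsplit : z = e1.symm ((e1 z).1, 0) + e1.symm (0, (e1 z).2) := by
      rw [← map_add, Prod.mk_add_mk, add_zero, zero_add, LinearEquiv.symm_apply_apply]
    conv_lhs => rw [hsplit, map_add, map_add, hinl]
    rfl
  refine ⟨{
    f1 := e1.symm.toLinearMap ∘ₗ LinearMap.inl T _ _
    f0 := e0.symm.toLinearMap ∘ₗ LinearMap.inr T _ _
    g1 := LinearMap.fst T _ _ ∘ₗ e1.toLinearMap
    g0 := (LinearMap.snd T _ _ - ψ ∘ₗ dQe.symm.toLinearMap ∘ₗ LinearMap.fst T _ _) ∘ₗ e0.toLinearMap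
    s := 0
    t := -(e1.symm.toLinearMap ∘ₗ LinearMap.inr T _ _ ∘ₗ dQe.symm.toLinearMap ∘ₗ LinearMap.fst T _ _ ∘ₗ
      e0.toLinearMap)
    commf := fun m => ?_
    commg := fun z => ?_
    h1 := fun m => ?_
    h0 := fun m => ?_
    h1' := fun z => ?_
    h0' := fun w => ?_ }⟩
  · show e0.symm (0, d m) = dC (e1.symm (m, 0))
    rw [LinearEquiv.symm_apply_eq, hinl]
  · show (e0 (dC z)).2 - ψ (dQe.symm (e0 (dC z)).1) = d (e1 z).1
    rw [hfull, show dQ (e1 z).2 = dQe (e1 z).2 from rfl, LinearEquiv.symm_apply_apply]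
    simp
  · simp
  · simp
  · show e1.symm ((e1 z).1, 0) - z = -e1.symm (0, dQe.symm (e0 (dC z)).1)
    apply e1.injective
    rw [map_sub, map_neg, LinearEquiv.apply_symm_apply, LinearEquiv.apply_symm_apply, hfst,
      show dQ (e1 z).2 = dQe (e1 z).2 from rfl, LinearEquiv.symm_apply_apply]
    exact Prod.ext (by simp) (by simp)
  · show e0.symm (0, (e0 w).2 - ψ (dQe.symm (e0 w).1)) - w = dC (-e1.symm (0, dQe.symm (e0 w).1))
    apply e0.injective
    rw [map_sub, map_neg, map_neg, LinearEquiv.apply_symm_apply, hfull, LinearEquiv.apply_symm_apply]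
    simp only [map_zero, zero_add]
    rw [show dQ (dQe.symm (e0 w).1) = (e0 w).1 from dQe.apply_symm_apply _]
    exact Prod.ext (by simp) (by simp)

theorem stable_away (R S : Type u) [CommRing R] [CommRing S] [Algebra R S]
    (g : S) (n m : ℕ) (α : MvPolynomial (Fin n) R →ₐ[R] S) (hα : Function.Surjective α)
    (β : MvPolynomial (Fin m) R →ₐ[R] Localization.Away g) (hβ : Function.Surjective β) :
    Nonempty ((LocalizedModule (Submonoid.powers g) (Algebra.Extension.ofSurjective α hα).Cotangent ×
        (Fin m → Localization.Away g)) ≃ₗ[Localization.Away g]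
      ((Algebra.Extension.ofSurjective β hβ).Cotangent × (Fin n → Localization.Away g))) := by
  obtain ⟨ea⟩ := cotangent_gens α hα
  obtain ⟨eb⟩ := cotangent_gens β hβ
  obtain ⟨h⟩ := hequiv_away g (gens α hα)
  obtain ⟨e⟩ := (h.trans (hequiv _ (gens β hβ))).prod_equiv
  let bα := (gens α hα).cotangentSpaceBasis.baseChange (Localization.Away g)
  exact ⟨(((LocalizedModule.equivTensorProduct (Submonoid.powers g) _).trans
      (ea.symm.baseChange S (Localization.Away g) _ _)).prodCongr (gens β hβ).cotangentSpaceBasis.equivFun.symm).trans <|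
    e.trans (eb.prodCongr bα.equivFun)⟩

end Groth.Agent.CAlg4.CotangentStable
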