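import Groth.Agent.CAlg4.RDLifting
import Mathlib.Algebra.DirectSum.Module
import Mathlib.LinearAlgebra.Isomorphisms

set_option autoImplicit false
open DirectSum

namespace Groth.Agent.CAlg4.RDLifting

universe u

variable {R : Type u} [CommRing R] {P : Type u} [AddCommGroup P] [Module R P]

/-- the map from a cyclic module given by an element killed by `f` -/
def cyc (f : R) (b : P) (h : f • b = 0) : (R ⧸ Ideal.span {f}) →ₗ[R] P :=
  Submodule.liftQ _ (LinearMap.toSpanSingleton R P b) (by
    rw [Ideal.span, Submodule.span_le, Set.singleton_subset_iff]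
    simpa using h)

lemma cyc_mk (f : R) (b : P) (h : f • b = 0) (r : R) :
    cyc f b h (Submodule.Quotient.mk r) = r • b := rfl

lemma exists_retraction_of_lifting
    (hP : ∀ (B C : Type u) [AddCommGroup B] [Module R B] [AddCommGroup C] [Module R C] (π : B →ₗ[R] C),
      Function.Surjective π →
      (∀ (f : R) (b : B), π (f • b) = 0 → ∃ a : B, π a = 0 ∧ f • a = f • b) →
      ∀ ψ : P →ₗ[R] C, ∃ φ : P →ₗ[R] B, π ∘ₗ φ = ψ) :
    ∃ (ι : Type u) (f : ι → R) (i : P →ₗ[R] (⨁ j, R ⧸ Ideal.span {f j}))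
      (p : (⨁ j, R ⧸ Ideal.span {f j}) →ₗ[R] P), p ∘ₗ i = LinearMap.id := by
  classical
  let ι := {fb : R × P // fb.1 • fb.2 = 0}
  let π : (⨁ j : ι, R ⧸ Ideal.span {j.1.1}) →ₗ[R] P :=
    DirectSum.toModule R ι P fun j => cyc j.1.1 j.1.2 j.2
  have hπ : ∀ (j : ι), π (DirectSum.lof R ι (fun j : ι => R ⧸ Ideal.span {j.1.1}) j
      (Submodule.Quotient.mk 1)) = j.1.2 := fun j => by
    simp only [π, DirectSum.toModule_lof, cyc_mk, one_smul]
  obtain ⟨i, hi⟩ := hP _ P π (fun b => ⟨_, hπ ⟨(0, b), zero_smul R b⟩⟩) (fun f x hx => by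
    rw [map_smul] at hx
    let j : ι := ⟨(f, π x), hx⟩
    set e := DirectSum.lof R ι (fun j : ι => R ⧸ Ideal.span {j.1.1}) j (Submodule.Quotient.mk 1)
    refine ⟨x - e, by rw [map_sub, hπ j, sub_self], ?_⟩
    have : f • e = 0 := by
      rw [← map_smul, ← Submodule.Quotient.mk_smul,
        (Submodule.Quotient.mk_eq_zero _).mpr (by simp [j]),
        map_zero]
    rw [smul_sub, this, sub_zero]) LinearMap.id
  exact ⟨ι, _, i, π, hi⟩

lemma lifting_of_retraction {ι : Type u} {f : ι → R} {i : P →ₗ[R] (⨁ j, R ⧸ Ideal.span {f j})}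
    {p : (⨁ j, R ⧸ Ideal.span {f j}) →ₗ[R] P} (hpi : p ∘ₗ i = LinearMap.id)
    {B C : Type u} [AddCommGroup B] [Module R B] [AddCommGroup C] [Module R C] (π : B →ₗ[R] C)
    (hπ : Function.Surjective π) (h : IsRD π) (ψ : P →ₗ[R] C) :
    ∃ φ : P →ₗ[R] B, π ∘ₗ φ = ψ := by
  classical
  have hex : ∀ j, ∃ b : B, π b = ψ (p (DirectSum.lof R ι (fun j => R ⧸ Ideal.span {f j}) j
      (Submodule.Quotient.mk 1))) ∧ f j • b = 0 := fun j => by
    refine exists_lift_cyclic π hπ h (f j) _ ?_
    rw [← map_smul, ← map_smul, ← map_smul, ← Submodule.Quotient.mk_smul,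
      (Submodule.Quotient.mk_eq_zero _).mpr (by simp)]
    simp
  choose b hb hfb using hex
  refine ⟨DirectSum.toModule R ι B (fun j => cyc (f j) (b j) (hfb j)) ∘ₗ i, ?_⟩
  rw [← LinearMap.comp_assoc]
  suffices π ∘ₗ DirectSum.toModule R ι B (fun j => cyc (f j) (b j) (hfb j)) = ψ ∘ₗ p by
    rw [this, LinearMap.comp_assoc, hpi, LinearMap.comp_id]
  refine DirectSum.linearMap_ext R fun j => Submodule.linearMap_qext _ (LinearMap.ext_ring ?_)
  simp only [LinearMap.comp_apply, DirectSum.toModule_lof, Submodule.mkQ_apply, cyc_mk, one_smul, hb]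

variable [IsDomain R] [IsBezout R]

lemma torsion_retract (T : Type u) [AddCommGroup T] [Module R T] [Module.FinitePresentation R T]
    (hT : ∀ x : T, ∃ a : R, a ≠ 0 ∧ a • x = 0) :
    ∃ (n : ℕ) (f : Fin n → R), (∀ j, f j ≠ 0) ∧
      ∃ (i : T →ₗ[R] ((j : Fin n) → R ⧸ Ideal.span {f j}))
        (p : ((j : Fin n) → R ⧸ Ideal.span {f j}) →ₗ[R] T), p ∘ₗ i = LinearMap.id := by
  classical
  obtain ⟨ι, f, i, p, hpi⟩ := exists_retraction_of_lifting (P := T) (R := R)
    (fun B C _ _ _ _ π hπ h ψ => lift_fp T π hπ h ψ)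
  obtain ⟨k, v, hv⟩ := Module.Finite.exists_fin (R := R) (M := T)
  choose a ha ha' using fun l => hT (v l)
  set d := ∏ l, a l
  have hd : d ≠ 0 := Finset.prod_ne_zero_iff.mpr fun l _ => ha l
  have hdT : ∀ x : T, d • x = 0 := by
    intro x
    have hx : x ∈ Submodule.span R (Set.range v) := hv ▸ trivial
    induction hx using Submodule.span_induction with
    | mem x hx =>
      obtain ⟨l, rfl⟩ := hx
      simp only [d]
      rw [← Finset.mul_prod_erase _ _ (Finset.mem_univ l), mul_comm, mul_smul, ha', smul_zero]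
    | zero => exact smul_zero d
    | add x y _ _ hx hy => rw [smul_add, hx, hy, add_zero]
    | smul r x _ hx => rw [smul_comm, hx, smul_zero]
  let s : Finset ι := Finset.univ.biUnion fun l => (i (v l)).support
  have hsupp : ∀ x : T, ∀ j ∉ s, i x j = 0 := by
    intro x j hj
    have hx : x ∈ Submodule.span R (Set.range v) := hv ▸ trivial
    induction hx using Submodule.span_induction with
    | mem x hx =>
      obtain ⟨l, rfl⟩ := hx
      exact DFinsupp.notMem_support_iff.mp fun hh =>
        hj (Finset.mem_biUnion.mpr ⟨l, Finset.mem_univ _, hh⟩)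
    | zero => simp
    | add x y _ _ hx hy => simp [hx, hy]
    | smul r x _ hx => simp [DirectSum.smul_apply, hx]
  let e := s.equivFin.symm
  choose g hg using fun l : Fin s.card =>
    (IsBezout.iff_span_pair_isPrincipal.mp ‹_› (f (e l)) d).1
  have hfg : ∀ l, Ideal.span {f (e l)} ≤ Ideal.span {g l} := fun l => by
    rw [Ideal.span_singleton_le_iff_mem]
    exact (hg l).le (Ideal.subset_span (Set.mem_insert _ _))
  have hg0 : ∀ l, g l ≠ 0 := fun l h => hd (by
    have : d ∈ Ideal.span ({f (e l), d} : Set R) := Ideal.subset_span (Set.mem_insert_of_mem _ rfl)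
    rw [hg l, h] at this
    simpa using this)
  let pj : ∀ l, (R ⧸ Ideal.span {g l}) →ₗ[R] T := fun l =>
    cyc (g l) (p (DirectSum.lof R ι (fun j => R ⧸ Ideal.span {f j}) (e l) (Submodule.Quotient.mk 1))) (by
      obtain ⟨α, β, hαβ⟩ := Ideal.mem_span_pair.mp
        ((hg l).symm ▸ Submodule.mem_span_singleton_self (g l) : g l ∈ Ideal.span {f (e l), d})
      have h0 : f (e l) • DirectSum.lof R ι (fun j => R ⧸ Ideal.span {f j}) (e l)
          (Submodule.Quotient.mk 1) = 0 := by
        rw [← map_smul, ← Submodule.Quotient.mk_smul,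
          (Submodule.Quotient.mk_eq_zero _).mpr (by simp), map_zero]
      rw [← hαβ, add_smul, mul_smul β d, hdT, smul_zero, add_zero, mul_smul, ← map_smul, h0,
        map_zero, smul_zero])
  refine ⟨s.card, g, hg0, LinearMap.pi fun l => Submodule.factor (hfg l) ∘ₗ
    DirectSum.component R ι (fun j => R ⧸ Ideal.span {f j}) (e l) ∘ₗ i,
    ∑ l, pj l ∘ₗ LinearMap.proj l, LinearMap.ext fun x => ?_⟩
  conv_rhs => rw [LinearMap.id_apply, ← LinearMap.id_apply (R := R) x, ← hpi, LinearMap.comp_apply]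
  have hsum : i x = ∑ l, DirectSum.lof R ι (fun j => R ⧸ Ideal.span {f j}) (e l) (i x (e l)) := by
    rw [e.sum_comp fun j : s => DirectSum.lof R ι (fun j => R ⧸ Ideal.span {f j}) j (i x j),
      Finset.sum_coe_sort s fun j => DirectSum.lof R ι (fun j => R ⧸ Ideal.span {f j}) j (i x j)]
    refine DFinsupp.ext fun j => ?_
    rw [DFinsupp.finsetSum_apply]
    by_cases hj : j ∈ s
    · rw [Finset.sum_eq_single j (fun b _ hb => DFinsupp.single_eq_of_ne hb.symm)
        (fun h => absurd hj h)]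
      exact (DirectSum.lof_apply (M := fun j => R ⧸ Ideal.span {f j}) R j (i x j)).symm
    · rw [hsupp x j hj, Finset.sum_eq_zero fun b hb =>
        DFinsupp.single_eq_of_ne (fun h => hj (by rw [h]; exact hb))]
  rw [hsum, map_sum, LinearMap.comp_apply, LinearMap.sum_apply]
  refine Finset.sum_congr rfl fun l _ => ?_
  simp only [LinearMap.comp_apply, LinearMap.proj_apply, LinearMap.pi_apply]
  show pj l (Submodule.factor (hfg l) (i x (e l))) = _
  obtain ⟨r, hr⟩ := Submodule.Quotient.mk_surjective _ (i x (e l))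
  rw [← hr, show (Submodule.Quotient.mk r : R ⧸ Ideal.span {f (e l)}) =
    r • Submodule.Quotient.mk 1 by rw [← Submodule.Quotient.mk_smul, smul_eq_mul, mul_one]]
  rw [map_smul, map_smul, map_smul, map_smul]
  simp only [pj]
  erw [cyc_mk]
  rw [LinearMap.id_apply, one_smul]

theorem finitePresentation_split (M : Type u) [AddCommGroup M] [Module R M]
    [Module.FinitePresentation R M]
    (hfree : ∀ (n : ℕ) (N : Submodule R (Fin n → R)), N.FG → Module.Free R N ∧ Module.Finite R N) :
    (∃ r : ℕ, Nonempty (M ≃ₗ[R] ((Fin r → R) × Submodule.torsion R M))) ∧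
      ∃ (n : ℕ) (f : Fin n → R), (∀ j, f j ≠ 0) ∧
        ∃ (i : Submodule.torsion R M →ₗ[R] ((j : Fin n) → R ⧸ Ideal.span {f j}))
          (p : ((j : Fin n) → R ⧸ Ideal.span {f j}) →ₗ[R] Submodule.torsion R M),
          p ∘ₗ i = LinearMap.id := by
  classical
  set T := Submodule.torsion R M
  have : Module.IsTorsionFree R (M ⧸ T) := inferInstance
  obtain ⟨n, f, hf⟩ := exists_injective_free (R := R) (M ⧸ T)
  obtain ⟨hF, hFin⟩ := hfree n (LinearMap.range f) (by
    rw [LinearMap.range_eq_map]; exact Module.Finite.fg_top.map f)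
  have : Module.Free R (M ⧸ T) := Module.Free.of_equiv (LinearEquiv.ofInjective f hf).symm
  let b := Module.Free.chooseBasis R (M ⧸ T)
  let e := (b.reindex (Fintype.equivFin _)).equivFun
  obtain ⟨σ, hσ⟩ := Module.projective_lifting_property T.mkQ LinearMap.id (Submodule.mkQ_surjective T)
  have hq : ∀ x, x - σ (T.mkQ x) ∈ T := fun x => by
    have h := LinearMap.congr_fun hσ (T.mkQ x)
    simp only [LinearMap.comp_apply, LinearMap.id_apply, Submodule.mkQ_apply] at h
    rw [← Submodule.Quotient.mk_eq_zero, Submodule.Quotient.mk_sub]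
    simp only [Submodule.mkQ_apply, h, sub_self]
  let q : M →ₗ[R] T := LinearMap.codRestrict T (LinearMap.id - σ ∘ₗ T.mkQ) hq
  have hbij : Function.Bijective (T.mkQ.prod q) := by
    constructor
    · rw [injective_iff_map_eq_zero]
      intro x hx
      have h1 : T.mkQ x = 0 := congrArg Prod.fst hx
      have h2 : x - σ (T.mkQ x) = 0 := congrArg Subtype.val (congrArg Prod.snd hx)
      rwa [h1, map_zero, sub_zero] at h2
    · rintro ⟨a, t, ht⟩
      refine ⟨σ a + t, Prod.ext ?_ (Subtype.ext ?_)⟩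
      · show T.mkQ (σ a + t) = a
        rw [map_add, show T.mkQ (σ a) = a from LinearMap.congr_fun hσ a,
          show T.mkQ t = 0 from (Submodule.Quotient.mk_eq_zero _).mpr ht, add_zero]
      · show σ a + t - σ (T.mkQ (σ a + t)) = t
        rw [map_add, show T.mkQ (σ a) = a from LinearMap.congr_fun hσ a,
          show T.mkQ t = 0 from (Submodule.Quotient.mk_eq_zero _).mpr ht, add_zero, add_sub_cancel_left]
  have : Module.Finite R T := Module.Finite.of_surjective q fun t => by
    obtain ⟨x, hx⟩ := hbij.2 (0, t)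
    exact ⟨x, congrArg Prod.snd hx⟩
  have hfpT : Module.FinitePresentation R T := by
    refine Module.finitePresentation_of_split_exact T.subtype T.mkQ σ hσ (Submodule.subtype_injective _)
      (LinearMap.exact_subtype_mkQ T)
  refine ⟨⟨_, ⟨(LinearEquiv.ofBijective _ hbij).trans (e.prodCongr (LinearEquiv.refl R T))⟩⟩, ?_⟩
  refine torsion_retract T fun x => ?_
  obtain ⟨a, ha⟩ := Submodule.mem_torsion_iff (x : M) |>.mp x.2
  exact ⟨a, nonZeroDivisors.ne_zero a.2, Subtype.ext ha⟩

end Groth.Agent.CAlg4.RDLifting
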