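import Groth.Agent.DR39.Rep
import Groth.Agent.DR39.DBasic
import Groth.Agent.CAlg4.ArtinRees
import Mathlib.Algebra.Homology.DerivedCategory.Linear
import Mathlib.LinearAlgebra.FreeModule.Finite.Basic

/-! Morphisms from a projective complex to a module placed in one degree of `D(A)`. -/

universe u

open CategoryTheory CategoryTheory.Limits CategoryTheory.Pretriangulated

attribute [local instance] HasDerivedCategory.standard

namespace Groth.Agent.CAlg4.DExt

variable {A : Type u} [CommRing A]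

/-- The morphism `single₀`-map induced by a linear map, shifted. -/
noncomputable abbrev post {N N' : Type u} [AddCommGroup N] [Module A N] [AddCommGroup N'] [Module A N']
    (f : N →ₗ[A] N') (p : ℤ) : (Dual.inD A N)⟦p⟧ ⟶ (Dual.inD A N')⟦p⟧ :=
  ((DerivedCategory.singleFunctor (ModuleCat.{u} A) 0).map (ModuleCat.ofHom f))⟦p⟧'

variable (E : DRing.Cx A) (p : ℤ)

/-- Cocycles in `Hom(E^{-p}, N)`. -/
noncomputable def cyc (N : Type u) [AddCommGroup N] [Module A N] : Submodule A (E.X (-p) →ₗ[A] N) :=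
  LinearMap.ker (LinearMap.lcomp A N (E.d (-p - 1) (-p)).hom)

theorem mem_cyc {N : Type u} [AddCommGroup N] [Module A N] (φ : E.X (-p) →ₗ[A] N) :
    φ ∈ cyc E p N ↔ φ ∘ₗ (E.d (-p - 1) (-p)).hom = 0 := Iff.rfl

/-- The chain map attached to a cocycle. -/
noncomputable def toCx (N : Type u) [AddCommGroup N] [Module A N] (φ : cyc E p N) :
    E ⟶ (HomologicalComplex.single (ModuleCat.{u} A) (ComplexShape.up ℤ) (-p)).obj (ModuleCat.of A N) :=
  HomologicalComplex.mkHomToSingle (ModuleCat.ofHom φ.1) fun i (hi : i + 1 = -p) => by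
    obtain rfl : i = -p - 1 := by omega
    exact ModuleCat.hom_ext φ.2

theorem toCx_f (N : Type u) [AddCommGroup N] [Module A N] (φ : cyc E p N) :
    (toCx E p N φ).f (-p) = ModuleCat.ofHom φ.1 ≫
      (HomologicalComplex.singleObjXSelf (ComplexShape.up ℤ) (-p) (ModuleCat.of A N)).inv :=
  HomologicalComplex.mkHomToSingle_f _ _

/-- The shift comparison. -/
noncomputable def shIso (N : Type u) [AddCommGroup N] [Module A N] :
    (Dual.inD A N)⟦p⟧ ≅ DerivedCategory.Q.obj
      ((HomologicalComplex.single (ModuleCat.{u} A) (ComplexShape.up ℤ) (-p)).obj (ModuleCat.of A N)) :=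
  DR39.singleShiftIso (ModuleCat.of A N) (-p) p (neg_add_cancel p)

theorem shIso_inv_naturality {N N' : Type u} [AddCommGroup N] [Module A N] [AddCommGroup N'] [Module A N']
    (f : N →ₗ[A] N') :
    (shIso p N).inv ≫ post f p = DerivedCategory.Q.map
      ((HomologicalComplex.single (ModuleCat.{u} A) (ComplexShape.up ℤ) (-p)).map (ModuleCat.ofHom f)) ≫
        (shIso p N').inv := by
  have h := ((DerivedCategory.singleFunctors (ModuleCat.{u} A)).shiftIso p (-p) 0 (by omega)).inv.naturality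
    (ModuleCat.ofHom f)
  exact h.symm

/-- Cocycles give morphisms in `D(A)`. -/
noncomputable def toHom (N : Type u) [AddCommGroup N] [Module A N] :
    cyc E p N →ₗ[A] (DerivedCategory.Q.obj E ⟶ (Dual.inD A N)⟦p⟧) where
  toFun φ := DerivedCategory.Q.map (toCx E p N φ) ≫ (shIso p N).inv
  map_add' φ ψ := by
    rw [← Preadditive.add_comp, ← Functor.map_add]
    congr 2
    apply HomologicalComplex.to_single_hom_ext
    rw [HomologicalComplex.add_f_apply, toCx_f, toCx_f, toCx_f, ← Preadditive.add_comp]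
    rfl
  map_smul' a φ := by
    rw [RingHom.id_apply, ← Linear.smul_comp, ← Functor.map_smul]
    congr 2
    apply HomologicalComplex.to_single_hom_ext
    rw [HomologicalComplex.smul_f_apply, toCx_f, toCx_f, ← Linear.smul_comp]
    rfl

theorem toHom_post {N N' : Type u} [AddCommGroup N] [Module A N] [AddCommGroup N'] [Module A N']
    (f : N →ₗ[A] N') (φ : cyc E p N) :
    toHom E p N φ ≫ post f p = toHom E p N' ⟨f ∘ₗ φ.1, by
      rw [mem_cyc, LinearMap.comp_assoc, (mem_cyc E p φ.1).1 φ.2, LinearMap.comp_zero]⟩ := by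
  show (DerivedCategory.Q.map (toCx E p N φ) ≫ (shIso p N).inv) ≫ post f p =
    DerivedCategory.Q.map (toCx E p N' _) ≫ (shIso p N').inv
  rw [Category.assoc, shIso_inv_naturality, ← Category.assoc, ← Functor.map_comp]
  congr 2
  apply HomologicalComplex.to_single_hom_ext
  rw [HomologicalComplex.comp_f, toCx_f, toCx_f, HomologicalComplex.single_map_f_self]
  simp only [Category.assoc, Iso.inv_hom_id_assoc]
  rw [← Category.assoc]
  rfl

theorem toHom_surjective [E.IsKProjective] (N : Type u) [AddCommGroup N] [Module A N] :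
    Function.Surjective (toHom E p N) := by
  intro e
  obtain ⟨g, hg⟩ := DR39.Q_map_surjective E _ (e ≫ (shIso p N).hom)
  let φ := g.f (-p) ≫ (HomologicalComplex.singleObjXSelf (ComplexShape.up ℤ) (-p) (ModuleCat.of A N)).hom
  have hφ : E.d (-p - 1) (-p) ≫ φ = 0 := by
    rw [← g.comm_assoc, HomologicalComplex.single_obj_d]
    simp
  refine ⟨⟨φ.hom, congrArg ModuleCat.Hom.hom hφ⟩, ?_⟩
  show DerivedCategory.Q.map (toCx E p N _) ≫ _ = e
  have : toCx E p N ⟨φ.hom, congrArg ModuleCat.Hom.hom hφ⟩ = g := by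
    apply HomologicalComplex.to_single_hom_ext
    rw [toCx_f]
    simp [φ]
  rw [this, hg, Category.assoc, Iso.hom_inv_id, Category.comp_id]

variable [IsNoetherianRing A]

theorem finite_hom [E.IsKProjective] [Module.Finite A (E.X (-p))] [Module.Free A (E.X (-p))]
    (N : Type u) [AddCommGroup N] [Module A N] [Module.Finite A N] :
    Module.Finite A (DerivedCategory.Q.obj E ⟶ (Dual.inD A N)⟦p⟧) := by
  have : Module.Finite A (E.X (-p) →ₗ[A] N) := inferInstance
  exact Module.Finite.of_surjective _ (toHom_surjective E p N)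

theorem exists_mem_smul [E.IsKProjective] [Module.Finite A (E.X (-p))] [Module.Free A (E.X (-p))]
    (I : Ideal A) (M : Type u) [AddCommGroup M] [Module A M] [Module.Finite A M] :
    ∃ c : ℕ, ∀ n : ℕ, c ≤ n → ∀ e : DerivedCategory.Q.obj E ⟶ (Dual.inD A ↥(I ^ n • ⊤ : Submodule A M))⟦p⟧,
      e ≫ post (I ^ n • ⊤ : Submodule A M).subtype p ∈
        (I ^ (n - c) • ⊤ : Submodule A (DerivedCategory.Q.obj E ⟶ (Dual.inD A M)⟦p⟧)) := by
  obtain ⟨c₁, hc₁⟩ := AR.exists_hom_mem_smul I (E.X (-p)) M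
  obtain ⟨c₂, hc₂⟩ := AR.exists_inf_le I (cyc E p M)
  refine ⟨c₁ + c₂, fun n hn e => ?_⟩
  obtain ⟨φ, rfl⟩ := toHom_surjective E p _ e
  rw [toHom_post]
  generalize hψ : (⟨_, _⟩ : cyc E p M) = ψ
  have hmem : ψ.1 ∈ (I ^ (n - (c₁ + c₂)) • cyc E p M : Submodule A (E.X (-p) →ₗ[A] M)) := by
    refine hc₂ _ ⟨hc₁ _ _ fun m => ?_, ψ.2⟩
    rw [← hψ, show n - (c₁ + c₂) + c₂ + c₁ = n by omega]
    exact (φ.1 m).2
  have hle : (I ^ (n - (c₁ + c₂)) • cyc E p M : Submodule A (E.X (-p) →ₗ[A] M)) ≤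
      (I ^ (n - (c₁ + c₂)) • (⊤ : Submodule A (cyc E p M))).map (cyc E p M).subtype := by
    rw [Submodule.map_smul'', Submodule.map_subtype_top]
  obtain ⟨χ, hχ, hχe⟩ := hle hmem
  rw [← show χ = ψ from Subtype.ext hχe]
  exact Submodule.smul_mono le_rfl le_top
    (Submodule.map_smul'' (I ^ (n - (c₁ + c₂))) ⊤ (toHom E p M) ▸ Submodule.mem_map_of_mem hχ)

end Groth.Agent.CAlg4.DExt
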