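import Groth.Agent.CAlg4.DExt
import Groth.Agent.DR39.PC2

/-! `Hom_{D(A)}(K, M[p])` for pseudo-coherent `K`. -/

universe u

open CategoryTheory

attribute [local instance] HasDerivedCategory.standard

namespace Groth.Agent.CAlg4.DExt

variable {A : Type u} [CommRing A]

theorem exists_rep (K : Dual.D A) (hK : DRing.IsPseudoCoherent' A K) :
    ∃ (E : DRing.Cx A) (_ : E.IsKProjective), (∀ i, Module.Finite A (E.X i) ∧ Module.Free A (E.X i)) ∧
      Nonempty (DerivedCategory.Q.obj E ≅ K) := by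
  obtain ⟨E, b, hb, hE, he⟩ := hK
  refine ⟨E, DR39.isKProjective_of_bddAbove E b hb fun i => ?_, hE, he⟩
  have := (hE i).2
  infer_instance

variable [IsNoetherianRing A]

theorem finite_homK (K : Dual.D A) (hK : DRing.IsPseudoCoherent' A K) (p : ℤ)
    (N : Type u) [AddCommGroup N] [Module A N] [Module.Finite A N] :
    Module.Finite A (K ⟶ (Dual.inD A N)⟦p⟧) := by
  obtain ⟨E, _, hE, ⟨e⟩⟩ := exists_rep K hK
  have := (hE (-p)).1
  have := (hE (-p)).2
  have := finite_hom E p N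
  exact Module.Finite.equiv (Linear.homCongr A e (Iso.refl _))

theorem exists_mem_smulK (I : Ideal A) (K : Dual.D A) (hK : DRing.IsPseudoCoherent' A K)
    (M : Type u) [AddCommGroup M] [Module A M] [Module.Finite A M] (p : ℤ) :
    ∃ c : ℕ, ∀ n : ℕ, c ≤ n → ∀ e : K ⟶ (Dual.inD A ↥(I ^ n • ⊤ : Submodule A M))⟦p⟧,
      e ≫ post (I ^ n • ⊤ : Submodule A M).subtype p ∈
        (I ^ (n - c) • ⊤ : Submodule A (K ⟶ (Dual.inD A M)⟦p⟧)) := by
  obtain ⟨E, _, hE, ⟨φ⟩⟩ := exists_rep K hK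
  have := (hE (-p)).1
  have := (hE (-p)).2
  obtain ⟨c, hc⟩ := exists_mem_smul E p I M
  refine ⟨c, fun n hn e => ?_⟩
  have h := Submodule.mem_map_of_mem (f := (Linear.homCongr A φ (Iso.refl ((Dual.inD A M)⟦p⟧))).toLinearMap)
    (hc n hn (φ.hom ≫ e))
  rw [Submodule.map_smul''] at h
  have h' := Submodule.smul_mono le_rfl (le_top (α := Submodule A (K ⟶ (Dual.inD A M)⟦p⟧))) h
  convert h' using 1
  simp [Linear.homCongr]

end Groth.Agent.CAlg4.DExt
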