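import Groth.Agent.CAlg4.DExtK
import Mathlib.Algebra.Homology.DerivedCategory.SingleTriangle
import Mathlib.CategoryTheory.Triangulated.TriangleShift

/-! Torsion `Hom_{D(A)}(K, M[i])` and the system `M/I^nM`. -/

universe u

open CategoryTheory CategoryTheory.Pretriangulated

attribute [local instance] HasDerivedCategory.standard

namespace Groth.Agent.CAlg4.DExt

variable {A : Type u} [CommRing A]

theorem shift_exact₂ {T : Triangle (Dual.D A)} (hT : T ∈ distinguishedTriangles) (n : ℤ) {X : Dual.D A}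
    (f : X ⟶ T.obj₂⟦n⟧) (hf : f ≫ T.mor₂⟦n⟧' = 0) : ∃ g : X ⟶ T.obj₁⟦n⟧, f = g ≫ T.mor₁⟦n⟧' := by
  obtain ⟨g, hg⟩ := Triangle.coyoneda_exact₂ _ (Triangle.shift_distinguished T hT n) f
    (by show f ≫ (n.negOnePow • T.mor₂⟦n⟧') = 0
        rw [Linear.comp_units_smul, hf, smul_zero])
  exact ⟨n.negOnePow • g, hg.trans
    ((Linear.comp_units_smul g n.negOnePow _).trans (Linear.units_smul_comp n.negOnePow g _).symm)⟩

theorem shift_exact₃ {T : Triangle (Dual.D A)} (hT : T ∈ distinguishedTriangles) (n : ℤ) {X : Dual.D A}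
    (f : X ⟶ T.obj₃⟦n⟧) (hf : f ≫ T.mor₃⟦n⟧' = 0) : ∃ g : X ⟶ T.obj₂⟦n⟧, f = g ≫ T.mor₂⟦n⟧' :=
  shift_exact₂ (rot_of_distTriang T hT) n f hf

/-- The short complex `N → M → M/N`. -/
abbrev quotSC {M : Type u} [AddCommGroup M] [Module A M] (N : Submodule A M) :
    ShortComplex (ModuleCat.{u} A) :=
  ShortComplex.mk (ModuleCat.ofHom N.subtype) (ModuleCat.ofHom N.mkQ)
    (ModuleCat.hom_ext (LinearMap.ext fun x => (Submodule.Quotient.mk_eq_zero N).2 x.2))

theorem quotSC_shortExact {M : Type u} [AddCommGroup M] [Module A M] (N : Submodule A M) :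
    (quotSC N).ShortExact where
  exact := (ShortComplex.moduleCat_exact_iff _).2 fun x hx =>
    ⟨⟨x, (Submodule.Quotient.mk_eq_zero N).1 hx⟩, rfl⟩
  mono_f := (ModuleCat.mono_iff_injective _).2 N.subtype_injective
  epi_g := (ModuleCat.epi_iff_surjective _).2 N.mkQ_surjective

variable [IsNoetherianRing A] (I : Ideal A) (K : Dual.D A)

theorem exists_smul_top_eq_bot (hK : DRing.IsPseudoCoherent' A K) (i : ℤ)
    (M : Type u) [AddCommGroup M] [Module A M] [Module.Finite A M]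
    (ht : ∀ e : K ⟶ (Dual.inD A M)⟦i⟧, ∃ n : ℕ, ∀ x ∈ I ^ n, x • e = 0) :
    ∃ N : ℕ, (I ^ N • ⊤ : Submodule A (K ⟶ (Dual.inD A M)⟦i⟧)) = ⊥ := by
  have := finite_homK K hK i M
  obtain ⟨s, hs⟩ := Module.finite_def.1 this
  choose n hn using ht
  refine ⟨s.sup n, ?_⟩
  rw [← hs, ← le_bot_iff, Submodule.smul_le]
  intro r hr m hm
  induction hm using Submodule.span_induction with
  | mem x hx => simpa using hn x r (Ideal.pow_le_pow_right (Finset.le_sup hx) hr)
  | zero => simp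
  | add x y _ _ hx hy => rw [smul_add]; exact add_mem hx hy
  | smul a x _ hx => rw [smul_comm]; exact Submodule.smul_mem _ a hx

theorem exists_eq_zero (hK : DRing.IsPseudoCoherent' A K) (i : ℤ)
    (M : Type u) [AddCommGroup M] [Module A M] [Module.Finite A M]
    (ht : ∀ e : K ⟶ (Dual.inD A M)⟦i⟧, ∃ n : ℕ, ∀ x ∈ I ^ n, x • e = 0) :
    ∃ m₀ : ℕ, ∀ m : ℕ, m₀ ≤ m → ∀ e : K ⟶ (Dual.inD A ↥(I ^ m • ⊤ : Submodule A M))⟦i⟧,
      e ≫ post (I ^ m • ⊤ : Submodule A M).subtype i = 0 := by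
  obtain ⟨N, hN⟩ := exists_smul_top_eq_bot I K hK i M ht
  obtain ⟨c, hc⟩ := exists_mem_smulK I K hK M i
  refine ⟨N + c, fun m hm e => ?_⟩
  have h := Submodule.smul_mono_left (Ideal.pow_le_pow_right (by omega : N ≤ m - c)) (hc m (by omega) e)
  rwa [hN] at h

variable {M : Type u} [AddCommGroup M] [Module A M]

theorem exists_injective (hK : DRing.IsPseudoCoherent' A K) (i : ℤ) [Module.Finite A M]
    (ht : ∀ e : K ⟶ (Dual.inD A M)⟦i⟧, ∃ n : ℕ, ∀ x ∈ I ^ n, x • e = 0) :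
    ∃ m : ℕ, Function.Injective fun e : K ⟶ (Dual.inD A M)⟦i⟧ =>
      e ≫ post (I ^ m • ⊤ : Submodule A M).mkQ i := by
  obtain ⟨m, hm⟩ := exists_eq_zero I K hK i M ht
  refine ⟨m, fun e₁ e₂ he => ?_⟩
  obtain ⟨g, hg⟩ := shift_exact₂ (quotSC_shortExact (I ^ m • ⊤ : Submodule A M)).singleTriangle_distinguished i
    (e₁ - e₂) ((Preadditive.sub_comp _ _ _).trans (sub_eq_zero.2 he))
  exact sub_eq_zero.1 (hg.trans (hm m le_rfl g))

theorem exists_range_le (hK : DRing.IsPseudoCoherent' A K) (i : ℤ) [Module.Finite A M] (n : ℕ)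
    (ht : ∀ (N : Type u) [AddCommGroup N] [Module A N], Module.Finite A N →
      ∀ e : K ⟶ (Dual.inD A N)⟦1 + i⟧, ∃ k : ℕ, ∀ x ∈ I ^ k, x • e = 0) :
    ∃ (m : ℕ) (h : n ≤ m), ∀ e : K ⟶ (Dual.inD A (M ⧸ (I ^ m • ⊤ : Submodule A M)))⟦i⟧,
      ∃ g : K ⟶ (Dual.inD A M)⟦i⟧, g ≫ post (I ^ n • ⊤ : Submodule A M).mkQ i =
        e ≫ post (Submodule.mapQ _ (I ^ n • ⊤ : Submodule A M) (LinearMap.id : M →ₗ[A] M)
          (Submodule.smul_mono_left (Ideal.pow_le_pow_right h))) i := by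
  let M' := ↥(I ^ n • ⊤ : Submodule A M)
  obtain ⟨k, hk⟩ := exists_eq_zero I K hK (1 + i) M' (ht M' inferInstance)
  refine ⟨n + k, Nat.le_add_right n k, fun e => ?_⟩
  have hle : (I ^ (n + k) • ⊤ : Submodule A M) ≤ I ^ n • ⊤ :=
    Submodule.smul_mono_left (Ideal.pow_le_pow_right (Nat.le_add_right n k))
  let f : quotSC (I ^ (n + k) • ⊤ : Submodule A M) ⟶ quotSC (I ^ n • ⊤ : Submodule A M) :=
    ShortComplex.homMk (ModuleCat.ofHom (Submodule.inclusion hle)) (ModuleCat.ofHom LinearMap.id)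
      (ModuleCat.ofHom (Submodule.mapQ _ _ LinearMap.id hle)) rfl rfl
  have hn := quotSC_shortExact (I ^ n • ⊤ : Submodule A M)
  have hm := quotSC_shortExact (I ^ (n + k) • ⊤ : Submodule A M)
  let δ := e ≫ hm.singleδ⟦i⟧'
  have hmem : ∀ x : ↥(I ^ (n + k) • ⊤ : Submodule A M),
      Submodule.inclusion hle x ∈ (I ^ k • ⊤ : Submodule A M') := fun x => by
    have e : (I ^ (n + k) • ⊤ : Submodule A M) = I ^ k • (I ^ n • ⊤) := by
      rw [← Submodule.smul_assoc, smul_eq_mul, ← pow_add, add_comm]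
    have := e.le x.2
    obtain ⟨y, hy, hyx⟩ := (Submodule.map_smul'' (I ^ k) ⊤ (I ^ n • ⊤ : Submodule A M).subtype).ge
      (by rwa [Submodule.map_subtype_top])
    rwa [← show y = Submodule.inclusion hle x from Subtype.ext hyx]
  let j := (Submodule.inclusion hle).codRestrict (I ^ k • ⊤ : Submodule A M') hmem
  have key : δ ≫ ((DerivedCategory.singleFunctor (ModuleCat.{u} A) 0).map
      (ModuleCat.ofHom (Submodule.inclusion hle)))⟦(1 : ℤ)⟧'⟦i⟧' = 0 := by
    have h := hk k le_rfl (δ ≫ ((DerivedCategory.singleFunctor (ModuleCat.{u} A) 0).map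
      (ModuleCat.ofHom j))⟦(1 : ℤ)⟧'⟦i⟧' ≫ (shiftFunctorAdd' (Dual.D A) 1 i (1 + i) rfl).inv.app _)
    simp only [post, Category.assoc] at h
    erw [← NatTrans.naturality] at h
    rw [Functor.comp_map, ← Functor.map_comp_assoc, ← Functor.map_comp,
      ← Functor.map_comp, ← ModuleCat.ofHom_comp, ← Category.assoc] at h
    exact Limits.zero_of_comp_mono _ h
  obtain ⟨g, hg⟩ := shift_exact₃ hn.singleTriangle_distinguished i
    (e ≫ post (Submodule.mapQ _ _ LinearMap.id hle) i) (by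
      have hc := ((ShortComplex.ShortExact.singleTriangle.map hm hn f)).comm₃
      exact ((Category.assoc _ _ _).trans (congrArg (e ≫ ·) ((Functor.map_comp _ _ _).symm.trans
        ((congrArg (fun x => x⟦i⟧') hc.symm).trans (Functor.map_comp _ _ _))))).trans
          ((Category.assoc _ _ _).symm.trans key))
  exact ⟨g, hg.symm⟩

end Groth.Agent.CAlg4.DExt
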