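import Groth.Agent.CAlg4.LengthLocal
import Groth.Agent.VarDim1.KrullAkizuki
import Mathlib.RingTheory.Nakayama
import Mathlib.RingTheory.KrullDimension.Field
import Mathlib.LinearAlgebra.Quotient.Pi

/-! `Σ [κ(n):κ] ord_n(x) ≤ [L:K] ord(x)` with equality exactly for finite algebras. -/

universe u

open scoped nonZeroDivisors
open Groth.Agent.VarDim1

namespace Groth.Agent.CAlg4.DegreeSum

variable (A B K L : Type u) [CommRing A] [IsDomain A] [IsNoetherianRing A] [IsLocalRing A] [Ring.KrullDimLE 1 A]
  [CommRing B] [IsDomain B] [Algebra A B] [FaithfulSMul A B] [Field K] [Field L] [Algebra A K] [IsFractionRing A K]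
  [Algebra B L] [IsFractionRing B L] [Algebra K L] [Algebra A L] [IsScalarTower A K L] [IsScalarTower A B L]
  [FiniteDimensional K L] (x : A) (hx0 : x ≠ 0)

/-- `B → L`. -/
noncomputable abbrev φ : B →ₐ[A] L := IsScalarTower.toAlgHom A B L

omit [IsNoetherianRing A] [IsLocalRing A] [Ring.KrullDimLE 1 A] [FaithfulSMul A B] [IsDomain B] in
theorem φ_injective : Function.Injective (φ A B L) := IsFractionRing.injective B L

include K L in
omit [IsNoetherianRing A] [IsLocalRing A] [Ring.KrullDimLE 1 A] [FaithfulSMul A B] in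
theorem exists_mul_eq (c : B) (hc : c ≠ 0) : ∃ a : A, a ≠ 0 ∧ ∃ c' : B, c * c' = algebraMap A B a := by
  have : Algebra.IsAlgebraic A L := by
    have := IsLocalization.isAlgebraic K A⁰
    exact Algebra.IsAlgebraic.trans A K L
  obtain ⟨a, ha, c', hc'⟩ := ((isAlgebraic_algHom_iff (φ A B L) (φ_injective A B L)).1
    (Algebra.IsAlgebraic.isAlgebraic (R := A) (φ A B L c))).exists_nonzero_dvd (mem_nonZeroDivisors_of_ne_zero hc)
  exact ⟨a, ha, c', hc'.symm⟩

omit [IsNoetherianRing A] [IsLocalRing A] [Ring.KrullDimLE 1 A] in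
theorem span_range_eq_top : Submodule.span K (Set.range (φ A B L)) = ⊤ := by
  rw [eq_top_iff]
  intro l _
  obtain ⟨b, c, hc, rfl⟩ := IsFractionRing.div_surjective (A := B) l
  obtain ⟨a, ha, c', hcc⟩ := exists_mul_eq A B K L c (nonZeroDivisors.ne_zero hc)
  have ha' : algebraMap A K a ≠ 0 := fun h => ha (IsFractionRing.injective A K (h.trans (map_zero _).symm))
  have h1 : algebraMap B L b / algebraMap B L c = (algebraMap A K a)⁻¹ • φ A B L (b * c') := by
    rw [eq_inv_smul_iff₀ ha', Algebra.smul_def, ← IsScalarTower.algebraMap_apply, IsScalarTower.algebraMap_apply A B L,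
      ← hcc]
    simp only [φ, IsScalarTower.coe_toAlgHom', map_mul]
    have : algebraMap B L c ≠ 0 :=
      fun h => nonZeroDivisors.ne_zero hc (IsFractionRing.injective B L (h.trans (map_zero _).symm))
    field_simp
  rw [h1]
  exact Submodule.smul_mem _ _ (Submodule.subset_span ⟨_, rfl⟩)

include K L hx0 in
theorem length_le : Module.length A (B ⧸ smulRange A B x) ≤ (Module.finrank K L : ℕ∞) * Ring.ord A x :=
  length_quot_smulRange_le K (φ A B L).toLinearMap (φ_injective A B L) x hx0

include K L hx0 in
theorem length_ne_top : Module.length A (B ⧸ smulRange A B x) ≠ ⊤ :=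
  ne_top_of_le_ne_top (WithTop.mul_ne_top (ENat.natCast_ne_top _)
    (Ring.ord_ne_top (mem_nonZeroDivisors_of_ne_zero hx0))) (length_le A B K L x hx0)

omit [IsNoetherianRing A] [IsLocalRing A] [Ring.KrullDimLE 1 A] [IsDomain A] [IsDomain B] [FaithfulSMul A B] in
theorem smulRange_eq : (Ideal.span {algebraMap A B x}).restrictScalars A = smulRange A B x := by
  ext y
  simp [Ideal.mem_span_singleton', Algebra.smul_def, mul_comm, eq_comm]

include K L hx0 in
theorem isFiniteLength : IsFiniteLength B (B ⧸ Ideal.span {algebraMap A B x}) := by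
  have h := Module.length_ne_top_iff.1 (length_ne_top A B K L x hx0)
  have h' : IsFiniteLength A (B ⧸ Ideal.span {algebraMap A B x}) :=
    ((Submodule.quotEquivOfEq _ _ (smulRange_eq A B x)).symm.trans
      (Submodule.Quotient.restrictScalarsEquiv A _)).isFiniteLength h
  rw [isFiniteLength_iff_isNoetherian_isArtinian] at h' ⊢
  exact ⟨isNoetherian_of_tower A h'.1, @isArtinian_of_tower A B _ _ _ _ _ _ _ _ h'.2⟩

include K L hx0 in
theorem sum_eq_length :
    ∑ᶠ m : MaximalSpectrum B, Module.length A (B ⧸ m.asIdeal) *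
        Module.length (Localization.AtPrime m.asIdeal) (Localization.AtPrime m.asIdeal ⧸
          Ideal.span ({algebraMap A (Localization.AtPrime m.asIdeal) x} : Set _)) =
      Module.length A (B ⧸ smulRange A B x) := by
  rw [← ((Submodule.quotEquivOfEq _ _ (smulRange_eq A B x)).symm.trans
      (Submodule.Quotient.restrictScalarsEquiv A _)).symm.length_eq,
    (LengthLocal.length_eq_finsum (A := A) (isFiniteLength A B K L x hx0)).2]
  refine finsum_congr fun m => ?_
  rw [LengthLocal.term, LengthLocal.loc_quotient, ← IsScalarTower.algebraMap_apply]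

include K L hx0 in
theorem finite_maximalSpectrum (hx : x ∈ IsLocalRing.maximalIdeal A) : Finite (MaximalSpectrum B) := by
  let q := Ideal.span {algebraMap A B x}
  have := (isFiniteLength_iff_isNoetherian_isArtinian.1 (isFiniteLength A B K L x hx0)).2
  have hart : IsArtinianRing (B ⧸ q) :=
    isArtinian_of_tower B ‹IsArtinian B (B ⧸ q)›
  have hmem : ∀ n : MaximalSpectrum B, n.asIdeal ≠ ⊥ → algebraMap A B x ∈ n.asIdeal := fun n hn => by
    obtain ⟨b, hb, hb0⟩ := Submodule.exists_mem_ne_zero_of_ne_bot hn
    obtain ⟨a, ha, c, hc⟩ := exists_mul_eq A B K L b hb0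
    have han : algebraMap A B a ∈ n.asIdeal := hc ▸ Ideal.mul_mem_right c _ hb
    have hp : (n.asIdeal.comap (algebraMap A B)).IsPrime := Ideal.IsPrime.comap _
    have hne : n.asIdeal.comap (algebraMap A B) ≠ ⊥ := fun h => ha (by
      rw [← Ideal.mem_bot (R := A), ← h]; exact han)
    have := (Ring.krullDimLE_one_iff_of_noZeroDivisors.1 ‹Ring.KrullDimLE 1 A›) _ hne hp
    exact (IsLocalRing.eq_maximalIdeal this ▸ hx : x ∈ n.asIdeal.comap (algebraMap A B))
  have hfin : Finite (PrimeSpectrum (B ⧸ q)) := inferInstance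
  refine Finite.of_injective (β := Option (PrimeSpectrum (B ⧸ q)))
    (fun n => if h : n.asIdeal = ⊥ then none else
      some ⟨n.asIdeal.map (Ideal.Quotient.mk q), Ideal.isPrime_map_quotientMk_of_isPrime
        ((Ideal.span_singleton_le_iff_mem _).2 (hmem n h))⟩) fun n n' hnn => ?_
  by_cases h : n.asIdeal = ⊥ <;> by_cases h' : n'.asIdeal = ⊥
  · exact MaximalSpectrum.ext (h.trans h'.symm)
  · simp [h, h'] at hnn
  · simp [h, h'] at hnn
  · simp only [h, h', dite_false, Option.some.injEq, PrimeSpectrum.ext_iff] at hnn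
    refine MaximalSpectrum.ext ?_
    have e := congrArg (Ideal.comap (Ideal.Quotient.mk q)) hnn
    rwa [Ideal.comap_map_of_surjective _ Ideal.Quotient.mk_surjective, ← RingHom.ker_eq_comap_bot, Ideal.mk_ker,
      sup_eq_left.2 ((Ideal.span_singleton_le_iff_mem _).2 (hmem n h)),
      Ideal.comap_map_of_surjective _ Ideal.Quotient.mk_surjective, ← RingHom.ker_eq_comap_bot, Ideal.mk_ker,
      sup_eq_left.2 ((Ideal.span_singleton_le_iff_mem _).2 (hmem n' h'))] at e

include K L hx0 in
theorem finite_of_eq (hx : x ∈ IsLocalRing.maximalIdeal A)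
    (h : Module.length A (B ⧸ smulRange A B x) = (Module.finrank K L : ℕ∞) * Ring.ord A x) :
    Module.Finite A B := by
  classical
  have hN := (isFiniteLength_iff_isNoetherian_isArtinian.1
    (Module.length_ne_top_iff.1 (length_ne_top A B K L x hx0))).1
  let q := (smulRange A B x).mkQ
  obtain ⟨s, hs⟩ := IsNoetherian.noetherian (⊤ : Submodule A (B ⧸ smulRange A B x))
  choose g hg using Submodule.mkQ_surjective (smulRange A B x)
  let N₀ := Submodule.span A ((s.image g : Finset B) : Set B)
  suffices N₀ = ⊤ from ⟨this ▸ Submodule.fg_span (Finset.finite_toSet _)⟩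
  rw [eq_top_iff]
  intro b _
  let N := N₀ ⊔ Submodule.span A {b}
  have : Module.Finite A N := Module.Finite.iff_fg.2
    ((Submodule.fg_span (Finset.finite_toSet _)).sup (Submodule.fg_span (Set.finite_singleton b)))
  let f : (N ⧸ smulRange A N x) →ₗ[A] (B ⧸ smulRange A B x) :=
    Submodule.mapQ _ _ N.subtype (by rintro _ ⟨y, rfl⟩; exact ⟨y, rfl⟩)
  have hf : Function.Surjective f := fun y => by
    have hy : y ∈ Submodule.span A (s : Set (B ⧸ smulRange A B x)) := by rw [hs]; trivial
    induction hy using Submodule.span_induction with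
    | mem z hz => exact ⟨Submodule.Quotient.mk ⟨g z,
        Submodule.mem_sup_left (Submodule.subset_span (Finset.mem_image_of_mem g hz))⟩, hg z⟩
    | zero => exact ⟨0, map_zero f⟩
    | add u v _ _ hu hv =>
      obtain ⟨u', rfl⟩ := hu
      obtain ⟨v', rfl⟩ := hv
      exact ⟨u' + v', map_add f u' v'⟩
    | smul c u _ hu =>
      obtain ⟨u', rfl⟩ := hu
      exact ⟨c • u', map_smul f c u'⟩
  have hle := length_quot_smulRange_le K ((φ A B L).toLinearMap ∘ₗ N.subtype)
    ((φ_injective A B L).comp N.injective_subtype) x hx0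
  have hadd := Module.length_eq_add_of_exact (LinearMap.ker f).subtype f (Submodule.injective_subtype _) hf
    (LinearMap.exact_subtype_ker_map f)
  have hker : Module.length A (LinearMap.ker f) = 0 := by
    have hne := length_ne_top A B K L x hx0
    rw [hadd, ← h] at hle
    by_contra h0
    have := ENat.add_lt_add_iff_right hne |>.2 (pos_iff_ne_zero.2 h0)
    rw [zero_add] at this
    exact absurd hle (not_le.2 this)
  rw [Module.length_eq_zero_iff, Submodule.subsingleton_iff_eq_bot] at hker
  have hsup : N ≤ N₀ ⊔ IsLocalRing.maximalIdeal A • N := by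
    intro y hy
    obtain ⟨z, hz⟩ : ∃ z ∈ N₀, q y = q z := by
      have : q y ∈ Submodule.span A (s : Set (B ⧸ smulRange A B x)) := by rw [hs]; trivial
      rw [show (s : Set (B ⧸ smulRange A B x)) = q '' ((s.image g : Finset B) : Set B) by
        rw [Finset.coe_image, ← Set.image_comp]
        exact ((Set.image_congr fun z _ => hg z).trans (Set.image_id' _)).symm, ← Submodule.map_span] at this
      obtain ⟨z, hz, hzy⟩ := this
      exact ⟨z, hz, hzy.symm⟩
    have hmem : (Submodule.Quotient.mk (⟨y, hy⟩ - ⟨z, Submodule.mem_sup_left hz.1⟩ : N) : N ⧸ smulRange A N x) ∈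
        LinearMap.ker f := by
      rw [LinearMap.mem_ker]
      show q (y - z) = 0
      rw [map_sub, hz.2, sub_self]
    rw [hker, Submodule.mem_bot, Submodule.Quotient.mk_eq_zero] at hmem
    obtain ⟨w, hw⟩ := hmem
    have : y = z + x • (w : B) := by
      have := congrArg Subtype.val hw
      simp only [LinearMap.lsmul_apply, SetLike.val_smul, AddSubgroupClass.coe_sub] at this
      rw [this, add_sub_cancel]
    rw [this]
    exact add_mem (Submodule.mem_sup_left hz.1) (Submodule.mem_sup_right (Submodule.smul_mem_smul hx w.2))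
  exact Submodule.le_of_le_smul_of_le_jacobson_bot (Module.Finite.iff_fg.1 ‹_›)
    (IsLocalRing.maximalIdeal_le_jacobson _) hsup (Submodule.mem_sup_right (Submodule.mem_span_singleton_self b))

include K L hx0 in
theorem eq_of_finite [Module.Finite A B] :
    Module.length A (B ⧸ smulRange A B x) = (Module.finrank K L : ℕ∞) * Ring.ord A x := by
  classical
  obtain ⟨bs, hbsub, hbspan, hbli⟩ := exists_linearIndependent K (Set.range (φ A B L))
  rw [span_range_eq_top A B K L] at hbspan
  have : Fintype bs := hbli.setFinite.fintype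
  have hcard : Fintype.card bs = Module.finrank K L := by
    rw [Module.finrank_eq_card_basis (Module.Basis.mk hbli (by rw [Subtype.range_coe]; exact hbspan.ge))]
  choose j hj using fun y : bs => hbsub y.2
  let F : Submodule A B := Submodule.span A (Set.range j)
  have hliA : LinearIndependent A j := by
    refine LinearIndependent.of_comp (φ A B L).toLinearMap ?_
    have : (φ A B L).toLinearMap ∘ j = fun y : bs => (y : L) := funext hj
    rw [this]
    exact (LinearIndependent.iff_fractionRing (R := A) (K := K)).2 hbli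
  have hF : Module.length A (F ⧸ smulRange A F x) = (Module.finrank K L : ℕ∞) * Ring.ord A x := by
    let bF := Module.Basis.span hliA
    let e : F ≃ₗ[A] (bs → A) := bF.equivFun
    have he : (smulRange A F x).map e.toLinearMap = Submodule.pi Set.univ fun _ : bs => (Ideal.span {x} : Ideal A) := by
      ext v
      simp only [Submodule.mem_map, LinearMap.mem_range, LinearMap.lsmul_apply, Submodule.mem_pi, Set.mem_univ,
        true_implies, Ideal.mem_span_singleton', exists_exists_eq_and]
      constructor
      · rintro ⟨w, rfl⟩ i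
        exact ⟨e w i, by simp [mul_comm]⟩
      · intro hv
        choose c hc using hv
        exact ⟨e.symm c, funext fun i => by simp [← hc i, mul_comm]⟩
    rw [((Submodule.Quotient.equiv _ _ e he).trans (Submodule.quotientPi _)).length_eq,
      Module.length_pi_of_fintype, Finset.sum_const, Finset.card_univ, hcard, nsmul_eq_mul]
    rfl
  have hfl : Module.length A (B ⧸ F) ≠ ⊤ := by
    obtain ⟨m, g, hg⟩ := Module.Finite.exists_fin (R := A) (M := B)
    have hex : ∀ i, ∃ c : A, c ≠ 0 ∧ c • g i ∈ F := fun i => by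
      have hi : φ A B L (g i) ∈ Submodule.span K bs := hbspan.ge trivial
      obtain ⟨f, hf⟩ := (Submodule.mem_span_range_iff_exists_fun K).1
        (show φ A B L (g i) ∈ Submodule.span K (Set.range fun y : bs => (y : L)) by
          rw [Subtype.range_coe]; exact hi)
      obtain ⟨⟨c, hc⟩, hcf⟩ := IsLocalization.exist_integer_multiples A⁰ Finset.univ f
      choose r hr using fun y => hcf y (Finset.mem_univ y)
      refine ⟨c, nonZeroDivisors.ne_zero hc, ?_⟩
      have : c • g i = ∑ y, r y • j y := φ_injective A B L (by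
        rw [map_smul, map_sum, ← hf, Finset.smul_sum]
        refine Finset.sum_congr rfl fun y _ => ?_
        rw [map_smul, show φ A B L (j y) = (y : L) from hj y, ← smul_assoc, ← hr y, IsScalarTower.algebraMap_smul])
      rw [this]
      exact Submodule.sum_mem _ fun y _ => Submodule.smul_mem _ _ (Submodule.subset_span ⟨y, rfl⟩)
    choose c hc0 hc using hex
    have hP : (∏ i, c i) ≠ 0 := Finset.prod_ne_zero_iff.2 fun i _ => hc0 i
    refine ne_top_of_le_ne_top (WithTop.mul_ne_top (ENat.natCast_ne_top _)
      (Ring.ord_ne_top (mem_nonZeroDivisors_of_ne_zero hP)))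
      (length_le_of_smul_mem (B ⧸ F) (fun i => F.mkQ (g i)) (∏ i, c i) (fun i => ?_) ?_)
    · rw [← map_smul, Submodule.mkQ_apply, Submodule.Quotient.mk_eq_zero,
        ← Finset.mul_prod_erase _ _ (Finset.mem_univ i), mul_comm, mul_smul]
      exact F.smul_mem _ (hc i)
    · rw [show (fun i => F.mkQ (g i)) = F.mkQ ∘ g from rfl, Set.range_comp, ← Submodule.map_span, hg,
        Submodule.map_top, Submodule.range_mkQ]
  have hinj : Function.Injective (LinearMap.lsmul A B x) := fun u v huv => by
    simp only [LinearMap.lsmul_apply] at huv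
    rw [Algebra.smul_def, Algebra.smul_def] at huv
    exact mul_left_cancel₀ (fun h => hx0 (FaithfulSMul.algebraMap_injective A B (h.trans (map_zero _).symm))) huv
  let xF : Submodule A B := F.map (LinearMap.lsmul A B x)
  have hxFF : xF ≤ F := Submodule.map_le_iff_le_comap.2 fun y hy => F.smul_mem x hy
  have hxFB : xF ≤ smulRange A B x := LinearMap.map_le_range
  have hquot : ∀ S : Submodule A B, ∀ hS : xF ≤ S, Module.length A (B ⧸ xF) =
      Module.length A (S ⧸ xF.comap S.subtype) + Module.length A (B ⧸ S) := fun S hS => by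
    refine Module.length_eq_add_of_exact (Submodule.mapQ _ xF S.subtype le_rfl) (Submodule.factor hS) ?_
      (Submodule.factor_surjective hS) ?_
    · rw [← LinearMap.ker_eq_bot, Submodule.mapQ, Submodule.ker_liftQ, LinearMap.ker_comp, Submodule.ker_mkQ,
        Submodule.mkQ_map_self]
    · intro y
      obtain ⟨y, rfl⟩ := Submodule.Quotient.mk_surjective _ y
      constructor
      · intro hy
        exact ⟨Submodule.Quotient.mk ⟨y, (Submodule.Quotient.mk_eq_zero S).1 hy⟩, rfl⟩
      · rintro ⟨z, hz⟩
        obtain ⟨z, rfl⟩ := Submodule.Quotient.mk_surjective _ z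
        rw [← hz]
        exact (Submodule.Quotient.mk_eq_zero S).2 z.2
  have h1 : Module.length A (F ⧸ xF.comap F.subtype) = Module.length A (F ⧸ smulRange A F x) := by
    refine LinearEquiv.length_eq (Submodule.quotEquivOfEq _ _ ?_)
    ext y
    simp only [xF, Submodule.mem_comap, Submodule.mem_map, LinearMap.lsmul_apply, LinearMap.mem_range]
    exact ⟨fun ⟨w, hw, h⟩ => ⟨⟨w, hw⟩, Subtype.ext h⟩, fun ⟨w, h⟩ => ⟨w, w.2, congrArg Subtype.val h⟩⟩
  have h2 : Module.length A (smulRange A B x ⧸ xF.comap (smulRange A B x).subtype) = Module.length A (B ⧸ F) := by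
    refine (LinearEquiv.length_eq (Submodule.Quotient.equiv F _ (LinearEquiv.ofInjective _ hinj) ?_)).symm
    ext ⟨y, hy⟩
    simp only [xF, Submodule.mem_map, Submodule.mem_comap]
    exact ⟨fun ⟨w, hw, h⟩ => ⟨w, hw, congrArg Subtype.val h⟩, fun ⟨w, hw, h⟩ => ⟨w, hw, Subtype.ext h⟩⟩
  have e1 := hquot F hxFF
  have e2 := hquot _ hxFB
  rw [h1, hF] at e1
  rw [h2, e1, add_comm] at e2
  exact ((ENat.add_left_injective_of_ne_top hfl) (((add_comm _ _).trans e2).trans (add_comm _ _))).symm

end Groth.Agent.CAlg4.DegreeSum
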