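import Groth.Prelude.Def_CAlgX
import Mathlib

/-! Extending derivations along formally smooth maps to complete rings. -/

universe u
open IsLocalRing

namespace Groth.Agent.CAlg4.DerivExtend

variable {A B : Type u} [CommRing A] [CommRing B] [Algebra A B] (n : Ideal B) (D : Derivation ℤ A A)

/-- An approximate extension modulo `n ^ k`. -/
def IsApprox (k : ℕ) (δ : B → B) : Prop :=
  (∀ a b, δ (a + b) - (δ a + δ b) ∈ n ^ k) ∧ (∀ a b, δ (a * b) - (a * δ b + b * δ a) ∈ n ^ k) ∧
    ∀ a, δ (algebraMap A B a) - algebraMap A B (D a) ∈ n ^ k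

theorem apply_mem (k : ℕ) (δ : B → B) (hδ : IsApprox n D k δ) :
    ∀ j, j ≤ k → ∀ x ∈ n ^ (j + 1), δ x ∈ n ^ j := by
  intro j
  induction j with
  | zero => intro _ x _; simp
  | succ j ih =>
    intro hj x hx
    rw [pow_succ] at hx
    induction hx using Submodule.mul_induction_on' with
    | mem_mul_mem a ha b hb =>
      have h1 : δ (a * b) - (a * δ b + b * δ a) ∈ n ^ (j + 1) := Ideal.pow_le_pow_right hj (hδ.2.1 a b)
      have h2 : a * δ b + b * δ a ∈ n ^ (j + 1) := by
        refine add_mem (Ideal.mul_mem_right _ _ ha) ?_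
        rw [mul_comm b, pow_succ]
        exact Ideal.mul_mem_mul (ih (Nat.le_of_succ_le hj) a ha) hb
      simpa using add_mem h1 h2
    | add a _ b _ ha hb =>
      have h1 : δ (a + b) - (δ a + δ b) ∈ n ^ (j + 1) := Ideal.pow_le_pow_right hj (hδ.1 a b)
      simpa using add_mem h1 (add_mem ha hb)

theorem step (hfs : CAlgX.IsAdicFormallySmooth A B n) (k : ℕ) (δ : B → B) (hδ : IsApprox n D k δ) :
    ∃ δ' : B → B, IsApprox n D (k + 1) δ' ∧ ∀ b, δ' b - δ b ∈ n ^ k := by
  classical
  let Q := B ⧸ n ^ (k + 1)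
  let π := Ideal.Quotient.mk (n ^ (k + 1))
  let T := TrivSqZeroExt Q Q
  let f : A →+* T :=
    { toFun := fun a => (π (algebraMap A B a), π (algebraMap A B (D a)))
      map_one' := by
        refine TrivSqZeroExt.ext ?_ ?_
        · show π _ = 1; rw [map_one, map_one]
        · show π _ = 0; rw [Derivation.map_one_eq_zero, map_zero, map_zero]
      map_mul' := fun a b => by
        refine TrivSqZeroExt.ext ?_ ?_
        · show π _ = π _ * π _; rw [map_mul, map_mul]
        · show π _ = π _ * π _ + π _ * π _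
          rw [Derivation.leibniz, map_add, map_add, smul_eq_mul, smul_eq_mul, map_mul, map_mul, map_mul, map_mul]
          ring
      map_zero' := by
        refine TrivSqZeroExt.ext ?_ ?_
        · show π _ = 0; rw [map_zero, map_zero]
        · show π _ = 0; rw [map_zero, map_zero, map_zero]
      map_add' := fun a b => by
        refine TrivSqZeroExt.ext ?_ ?_
        · show π _ = π _ + π _; rw [map_add, map_add]
        · show π _ = π _ + π _; rw [map_add, map_add, map_add] }
  let _ : Algebra A T := f.toAlgebra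
  let J : Ideal T :=
    { carrier := {z | z.fst = 0 ∧ z.snd ∈ (n ^ k).map π}
      zero_mem' := ⟨rfl, zero_mem _⟩
      add_mem' := fun ha hb => ⟨by rw [TrivSqZeroExt.fst_add, ha.1, hb.1, add_zero], by
        rw [TrivSqZeroExt.snd_add]; exact add_mem ha.2 hb.2⟩
      smul_mem' := fun c z hz => ⟨by rw [smul_eq_mul, TrivSqZeroExt.fst_mul, hz.1, mul_zero], by
        rw [smul_eq_mul, TrivSqZeroExt.snd_mul, hz.1]
        simp only [MulOpposite.op_zero, zero_smul, add_zero, smul_eq_mul]
        exact Ideal.mul_mem_left _ _ hz.2⟩ }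
  have hJ : J ^ 2 = ⊥ := by
    rw [pow_two, eq_bot_iff, Ideal.mul_le]
    intro a ha b hb
    rw [Ideal.mem_bot]
    refine TrivSqZeroExt.ext ?_ ?_
    · rw [TrivSqZeroExt.fst_mul, ha.1, zero_mul]; rfl
    · rw [TrivSqZeroExt.snd_mul, ha.1, hb.1]; simp
  let v : B → T := fun b => (π b, π (δ b))
  have hJmem : ∀ x y : B, x - y ∈ n ^ k → ∀ z : Q, ((z, π x) : T) - (z, π y) ∈ J := fun x y h z =>
    ⟨sub_self z, by show π x - π y ∈ _; rw [← map_sub]; exact Ideal.mem_map_of_mem π h⟩
  have hadd : ∀ a b, v (a + b) - (v a + v b) ∈ J := fun a b => by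
    have he : v a + v b = (π (a + b), π (δ a + δ b)) := by
      refine TrivSqZeroExt.ext ?_ ?_
      · show π a + π b = π _; rw [map_add]
      · show π _ + π _ = π _; rw [map_add]
    rw [he]; exact hJmem _ _ (hδ.1 a b) _
  have hmul : ∀ a b, v (a * b) - (v a * v b) ∈ J := fun a b => by
    have he : v a * v b = (π (a * b), π (a * δ b + b * δ a)) := by
      refine TrivSqZeroExt.ext ?_ ?_
      · show π a * π b = π _; rw [map_mul]
      · show π a * π (δ b) + π (δ a) * π b = π _; rw [map_add, map_mul, map_mul]; ring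
    rw [he]; exact hJmem _ _ (hδ.2.1 a b) _
  have halg : ∀ a, v (algebraMap A B a) - algebraMap A T a ∈ J := fun a => hJmem _ _ (hδ.2.2 a) _
  let mkJ := Ideal.Quotient.mk J
  let ψ₀ : B →+* T ⧸ J :=
    { toFun := fun b => mkJ (v b)
      map_one' := by
        rw [← map_one (algebraMap A B), Ideal.Quotient.eq.2 (halg 1), map_one, map_one]
      map_mul' := fun a b => (Ideal.Quotient.eq.2 (hmul a b)).trans (map_mul mkJ _ _)
      map_zero' := by
        rw [← map_zero (algebraMap A B), Ideal.Quotient.eq.2 (halg 0), map_zero, map_zero]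
      map_add' := fun a b => (Ideal.Quotient.eq.2 (hadd a b)).trans (map_add mkJ _ _) }
  let ψ : B →ₐ[A] T ⧸ J := AlgHom.mk ψ₀ fun a => Ideal.Quotient.eq.2 (halg a)
  have hkill : ∀ x ∈ n ^ (k + 1), ψ x = 0 := fun x hx => by
    show mkJ (v x) = 0
    refine Ideal.Quotient.eq_zero_iff_mem.2 ⟨Ideal.Quotient.eq_zero_iff_mem.2 hx, ?_⟩
    exact Ideal.mem_map_of_mem π (apply_mem n D k δ hδ k le_rfl x hx)
  obtain ⟨χ, hχ⟩ := hfs T J hJ ψ ⟨k + 1, hkill⟩
  have hv : ∀ b, χ b - v b ∈ J := fun b => Ideal.Quotient.eq.1 (DFunLike.congr_fun hχ b)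
  have hfst : ∀ b, (χ b).fst = π b := fun b => sub_eq_zero.1 (hv b).1
  choose δ' hδ' using fun b => Ideal.Quotient.mk_surjective (χ b).snd
  refine ⟨δ', ⟨fun a b => ?_, fun a b => ?_, fun a => ?_⟩, fun b => ?_⟩
  · rw [← Ideal.Quotient.eq]
    simp only [map_add, hδ']
    exact TrivSqZeroExt.snd_add _ _
  · rw [← Ideal.Quotient.eq]
    simp only [map_add, map_mul, hδ']
    show (χ a).fst * (χ b).snd + (χ a).snd * (χ b).fst = π a * (χ b).snd + π b * (χ a).snd
    rw [hfst, hfst]
    ring
  · rw [← Ideal.Quotient.eq, hδ', χ.commutes]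
    rfl
  · have h : π (δ' b) - π (δ b) ∈ (n ^ k).map π := by
      rw [hδ']; exact (hv b).2
    rw [← map_sub, ← Ideal.mem_comap, Ideal.comap_map_of_surjective' π Ideal.Quotient.mk_surjective,
      Ideal.mk_ker, sup_eq_left.2 (Ideal.pow_le_pow_right k.le_succ)] at h
    exact h

theorem main [IsAdicComplete n B] (hfs : CAlgX.IsAdicFormallySmooth A B n) :
    ∃ D' : Derivation ℤ B B, ∀ a : A, D' (algebraMap A B a) = algebraMap A B (D a) := by
  classical
  choose F hF using fun k δ h => step n D hfs k δ h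
  have h0 : IsApprox n D 0 (fun _ => 0) := ⟨by simp, by simp, by simp⟩
  let s : (k : ℕ) → {δ : B → B // IsApprox n D k δ} := fun k =>
    Nat.rec ⟨_, h0⟩ (fun k p => ⟨F k p.1 p.2, (hF k p.1 p.2).1⟩) k
  have hlim : ∀ b, ∃ L, ∀ k, L - (s k).1 b ∈ n ^ k := fun b => by
    obtain ⟨L, hL⟩ := IsPrecomplete.prec (I := n) (M := B) inferInstance (f := fun k => (s k).1 b) fun {i j} hij => by
      rw [SModEq.sub_mem, smul_eq_mul, Ideal.mul_top]
      induction hij with
      | refl => simp
      | step h ih =>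
        rename_i j
        have he : (s i).1 b - (s (j + 1)).1 b = ((s i).1 b - (s j).1 b) - ((s (j + 1)).1 b - (s j).1 b) := by ring
        rw [he]
        exact sub_mem ih (Ideal.pow_le_pow_right h ((hF j (s j).1 (s j).2).2 b))
    refine ⟨L, fun k => ?_⟩
    have h := hL k
    rw [SModEq.sub_mem, smul_eq_mul, Ideal.mul_top] at h
    rw [← neg_sub]; exact neg_mem h
  choose L hL using hlim
  have heq : ∀ x y : B, (∀ k, x - y ∈ n ^ k) → x = y := fun x y h => IsHausdorff.eq_iff_smodEq (I := n).mpr fun k => by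
    rw [smul_eq_mul, Ideal.mul_top, SModEq.sub_mem]; exact h k
  have hadd : ∀ a b, L (a + b) = L a + L b := fun a b => heq _ _ fun k => by
    have h := add_mem (sub_mem (hL (a + b) k) (add_mem (hL a k) (hL b k))) ((s k).2.1 a b)
    convert h using 1; ring
  have hmul : ∀ a b, L (a * b) = a * L b + b * L a := fun a b => heq _ _ fun k => by
    have h := add_mem (sub_mem (hL (a * b) k)
      (add_mem (Ideal.mul_mem_left _ a (hL b k)) (Ideal.mul_mem_left _ b (hL a k)))) ((s k).2.2.1 a b)
    convert h using 1; ring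
  refine ⟨Derivation.mk' (AddMonoidHom.mk' L hadd).toIntLinearMap hmul, fun a => heq _ _ fun k => ?_⟩
  have h := add_mem (hL (algebraMap A B a) k) ((s k).2.2.2 a)
  convert h using 1
  simp

end Groth.Agent.CAlg4.DerivExtend
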