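import Groth.Agent.An92.Germ.JacQuot
import Groth.Agent.LCI19.FVascGlobal
import Mathlib

/-! Jacobian criteria with abstract derivations. -/

universe u
open IsLocalRing

namespace Groth.Agent.CAlg4.DerivRegular

theorem apply_mem_of_mem_sq {R : Type u} [CommRing R] (D : Derivation ℤ R R) (P : Ideal R) {x : R}
    (hx : x ∈ P ^ 2) : D x ∈ P := by
  rw [pow_two] at hx
  induction hx using Submodule.mul_induction_on' with
  | mem_mul_mem a ha b hb =>
    rw [Derivation.leibniz]
    exact add_mem (P.mul_mem_right _ ha) (P.mul_mem_right _ hb)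
  | add a _ b _ ha hb => rw [map_add]; exact add_mem ha hb

theorem regular_quotient (R : Type u) [CommRing R] [IsRegularRing R] (f : R) (D : Derivation ℤ R R)
    (hD : IsUnit (Ideal.Quotient.mk (Ideal.span {f}) (D f))) :
    IsRegularRing (R ⧸ Ideal.span ({f} : Set R)) := by
  refine { toIsNoetherian := inferInstance, isRegularLocalRing_localization := fun q _ => ?_ }
  let π := Ideal.Quotient.mk (Ideal.span ({f} : Set R))
  let P := q.comap π
  have hfP : f ∈ P := by simp [P, π, Ideal.Quotient.eq_zero_iff_mem.2 (Ideal.mem_span_singleton_self f)]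
  let L := Localization.AtPrime P
  have hT : Submonoid.map π P.primeCompl = q.primeCompl := by
    ext y
    constructor
    · rintro ⟨x, hx, rfl⟩; exact hx
    · intro hy
      obtain ⟨x, rfl⟩ := Ideal.Quotient.mk_surjective y
      exact ⟨x, hy, rfl⟩
  have hle : P.primeCompl ≤ q.primeCompl.comap π := fun x hx => hx
  let φ : L →+* Localization.AtPrime q := IsLocalization.map (Localization.AtPrime q) π hle
  have hφ : Function.Surjective φ := by
    have : IsLocalization (P.primeCompl.map π) (Localization.AtPrime q) := hT.symm ▸ inferInstance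
    exact IsLocalization.map_surjective_of_surjective P.primeCompl L (Localization.AtPrime q) Ideal.Quotient.mk_surjective
  have hker : RingHom.ker φ = Ideal.span {algebraMap R L f} := by
    refine (IsLocalization.ker_map (Localization.AtPrime q) π hT).trans ?_
    rw [Ideal.mk_ker, Ideal.map_span, Set.image_singleton]
  have hf : algebraMap R L f ∈ maximalIdeal L := (IsLocalization.AtPrime.to_map_mem_maximal_iff L P f).2 hfP
  have hf2 : algebraMap R L f ∉ maximalIdeal L ^ 2 := by
    intro h
    rw [← Localization.AtPrime.map_eq_maximalIdeal, ← Ideal.map_pow,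
      IsLocalization.algebraMap_mem_map_algebraMap_iff P.primeCompl L] at h
    obtain ⟨t, ht, htf⟩ := h
    have h1 := apply_mem_of_mem_sq D P htf
    rw [Derivation.leibniz, smul_eq_mul, smul_eq_mul] at h1
    have h2 : t * D f ∈ P := by simpa using sub_mem h1 (P.mul_mem_right (D t) hfP)
    rcases (inferInstance : P.IsPrime).mem_or_mem h2 with h | h
    · exact ht h
    · exact (inferInstance : q.IsPrime).ne_top (Ideal.eq_top_of_isUnit_mem _ h hD)
  have := (CAlg1.regular_quotient_singleton hf hf2).1
  exact IsRegularLocalRing.of_ringEquiv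
    ((Ideal.quotEquivOfEq hker.symm).trans (RingHom.quotientKerEquivOfSurjective hφ))

theorem regular_quotient_addHom (R : Type u) [CommRing R] [IsRegularRing R] (f : R) (d : R →+ R)
    (hd : ∀ a b, d (a * b) = a * d b + b * d a)
    (hD : IsUnit (Ideal.Quotient.mk (Ideal.span {f}) (d f))) :
    IsRegularRing (R ⧸ Ideal.span ({f} : Set R)) :=
  regular_quotient R f (Derivation.mk' d.toIntLinearMap hd) hD

theorem regular_seq (R : Type u) [CommRing R] [IsRegularLocalRing R] (m : ℕ) (f : Fin m → R)
    (hf : ∀ i, f i ∈ maximalIdeal R)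
    (hind : ∀ a : Fin m → R, ∑ i, a i * f i ∈ maximalIdeal R ^ 2 → ∀ i, a i ∈ maximalIdeal R) :
    IsRegularLocalRing (R ⧸ Ideal.span (Set.range f)) ∧
      RingTheory.Sequence.IsRegular R (List.ofFn f) := by
  classical
  refine ⟨An92.regular_quotient_span m f hf hind, (LCI19.isWeaklyRegular_ofFn_iff f).2 fun i z hz => ?_, ?_⟩
  · let g : Fin (i : ℕ) → R := fun j => f (Fin.castLE i.2.le j)
    have himg : f '' Set.Iio i = Set.range g := by
      ext x; constructor
      · rintro ⟨j, hj, rfl⟩; exact ⟨⟨j, hj⟩, rfl⟩
      · rintro ⟨j, rfl⟩; exact ⟨_, j.2, rfl⟩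
    rw [himg] at hz ⊢
    have hfi : f i ∉ Ideal.span (Set.range g) := by
      intro h
      obtain ⟨c, hc⟩ := Ideal.mem_span_range_iff_exists_fun.1 h
      let a : Fin m → R := fun j => (if h : (j : ℕ) < i then c ⟨j, h⟩ else 0) - if j = i then 1 else 0
      have hsum : ∑ j, a j * f j = 0 := by
        simp only [a, sub_mul, Finset.sum_sub_distrib, ite_mul, one_mul, zero_mul, Finset.sum_ite_eq',
          Finset.mem_univ, if_true]
        rw [← hc, sub_eq_zero]
        refine (Fintype.sum_of_injective (Fin.castLE i.2.le) (Fin.castLE_injective _) _ _ ?_ ?_).symm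
        · intro j hj
          have : ¬ (j : ℕ) < i := fun h => hj ⟨⟨j, h⟩, rfl⟩
          simp [this]
        · intro j
          simp [g]
      have := hind a (by rw [hsum]; exact zero_mem _) i
      simp [a] at this
    have hreg : IsRegularLocalRing (R ⧸ Ideal.span (Set.range g)) :=
      An92.regular_quotient_span _ g (fun j => hf _) fun a ha j => by
        let a' : Fin m → R := fun k => if h : (k : ℕ) < i then a ⟨k, h⟩ else 0
        have hsum : ∑ k, a' k * f k = ∑ k, a k * g k := by
          refine (Fintype.sum_of_injective (Fin.castLE i.2.le) (Fin.castLE_injective _) _ _ ?_ ?_).symm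
          · intro k hk
            have : ¬ (k : ℕ) < i := fun h => hk ⟨⟨k, h⟩, rfl⟩
            show a' k * f k = 0
            simp only [a', dif_neg this, zero_mul]
          · intro k
            simp only [a', g, Fin.val_castLE, dif_pos k.2, Fin.eta]
        have h := hind a' (hsum ▸ ha) (Fin.castLE i.2.le j)
        simpa only [a', Fin.val_castLE, dif_pos j.2, Fin.eta] using h
    have := CAlg1.isDomain_regular (R ⧸ Ideal.span (Set.range g))
    rw [← Ideal.Quotient.eq_zero_iff_mem, map_mul, mul_eq_zero] at hz
    rcases hz with h | h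
    · exact absurd (Ideal.Quotient.eq_zero_iff_mem.1 h) hfi
    · exact Ideal.Quotient.eq_zero_iff_mem.1 h
  · rw [smul_eq_mul, Ideal.mul_top]
    refine fun h => (maximalIdeal.isMaximal R).ne_top (top_unique (h.le.trans (Ideal.span_le.2 fun x hx => ?_)))
    obtain ⟨i, rfl⟩ := List.mem_ofFn.1 hx
    exact hf i

theorem ind_of_det (R : Type u) [CommRing R] [IsLocalRing R] (m : ℕ) (f : Fin m → R)
    (hf : ∀ i, f i ∈ maximalIdeal R) (D : Fin m → Derivation ℤ R R)
    (hdet : IsUnit (Matrix.det (Matrix.of (fun i j : Fin m => D i (f j))))) (a : Fin m → R)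
    (ha : ∑ i, a i * f i ∈ maximalIdeal R ^ 2) (k : Fin m) : a k ∈ maximalIdeal R := by
  let M := Matrix.of (fun i j : Fin m => D i (f j))
  have h : ∀ i, M.mulVec a i ∈ maximalIdeal R := by
    intro i
    have h1 := apply_mem_of_mem_sq (D i) _ ha
    simp only [map_sum, Derivation.leibniz, smul_eq_mul, Finset.sum_add_distrib] at h1
    have h2 : ∑ j, f j * D i (a j) ∈ maximalIdeal R := sum_mem fun j _ => Ideal.mul_mem_right _ _ (hf j)
    have h3 : ∑ j, a j * D i (f j) ∈ maximalIdeal R := by simpa using sub_mem h1 h2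
    simpa [M, Matrix.mulVec, dotProduct, mul_comm] using h3
  have h4 : M.adjugate.mulVec (M.mulVec a) k ∈ maximalIdeal R := by
    simp only [Matrix.mulVec, dotProduct] at h ⊢
    exact Submodule.sum_mem _ fun i _ => Ideal.mul_mem_left _ (M.adjugate k i) (h i)
  rw [Matrix.mulVec_mulVec, Matrix.adjugate_mul, Matrix.smul_mulVec, Matrix.one_mulVec, Pi.smul_apply,
    smul_eq_mul] at h4
  exact (Ideal.unit_mul_mem_iff_mem _ hdet).1 h4

end Groth.Agent.CAlg4.DerivRegular
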