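import Mathlib

/-! A one-dimensional essentially finite type local overring. -/

universe u
open IsLocalRing

namespace Groth.Agent.CAlg4.DimOneOverring

/-- The local ring of an algebra inside a field at a prime. -/
def locAt {R K : Type u} [CommRing R] [Field K] [Algebra R K] (A : Subalgebra R K) (p : Ideal A) [hp : p.IsPrime] :
    Subalgebra R K where
  carrier := {z | ∃ a b : A, b ∉ p ∧ z * b = a}
  mul_mem' := by
    rintro x y ⟨a, b, hb, e⟩ ⟨a', b', hb', e'⟩
    exact ⟨a * a', b * b', fun h => (hp.mem_or_mem h).elim hb hb', by push_cast; linear_combination y * b' * e + a * e'⟩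
  add_mem' := by
    rintro x y ⟨a, b, hb, e⟩ ⟨a', b', hb', e'⟩
    exact ⟨a * b' + a' * b, b * b', fun h => (hp.mem_or_mem h).elim hb hb', by push_cast; linear_combination b' * e + b * e'⟩
  algebraMap_mem' r := ⟨algebraMap R A r, 1, (Ideal.ne_top_iff_one p).1 hp.ne_top, by simp⟩

theorem main (R : Type u) [CommRing R] [IsDomain R]
    [IsNoetherianRing R] [IsLocalRing R] (hR : ¬ IsField R) :
    ∃ R' : Subalgebra R (FractionRing R), ∃ _ : IsLocalRing R',
      IsNoetherianRing R' ∧ ringKrullDim R' = 1 ∧ IsLocalHom (algebraMap R R') ∧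
        Algebra.EssFiniteType R R' := by
  classical
  let K := FractionRing R
  let ι := algebraMap R K
  have hinj : Function.Injective ι := IsFractionRing.injective R K
  obtain ⟨V, hV⟩ := (LocalSubring.range ι).exists_le_valuationSubring
  have hmem : ∀ r, ι r ∈ V := fun r => hV.1 ⟨r, rfl⟩
  have hmax : ∀ r ∈ maximalIdeal R, V.valuation (ι r) < 1 := by
    intro r hr
    refine (V.valuation_lt_one_iff ⟨ι r, hmem r⟩).1 fun hu => hr ?_
    have h1 : IsUnit (⟨ι r, r, rfl⟩ : (LocalSubring.range ι).toSubring) :=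
      hV.2.map_nonunit _ hu
    obtain ⟨⟨_, t, rfl⟩, hy⟩ := h1.exists_right_inv
    exact IsUnit.of_mul_eq_one t (hinj (by rw [map_mul, map_one]; exact congrArg Subtype.val hy))
  obtain ⟨s, hs⟩ := (IsNoetherian.noetherian (maximalIdeal R) : (maximalIdeal R).FG)
  have hne : s.Nonempty := by
    rw [Finset.nonempty_iff_ne_empty]
    rintro rfl
    simp only [Finset.coe_empty, Ideal.span_empty] at hs
    exact hR (IsLocalRing.isField_iff_maximalIdeal_eq.2 hs.symm)
  obtain ⟨x, hx, hxmax⟩ := s.exists_max_image (fun y => V.valuation (ι y)) hne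
  have hx0 : ι x ≠ 0 := by
    intro h0
    refine hR (IsLocalRing.isField_iff_maximalIdeal_eq.2 (hs ▸ Submodule.span_eq_bot.2 fun y hy => ?_))
    have := hxmax y hy
    rw [h0, map_zero, nonpos_iff_eq_zero, map_eq_zero] at this
    exact hinj (this.trans (map_zero ι).symm)
  let A : Subalgebra R K := Algebra.adjoin R ((s.image fun y => ι y / ι x : Finset K) : Set K)
  have hAV : ∀ z ∈ A, z ∈ V := by
    intro z hz
    induction hz using Algebra.adjoin_induction with
    | mem z hz =>
      obtain ⟨y, hy, rfl⟩ := Finset.mem_image.1 hz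
      rw [← V.valuation_le_one_iff, map_div₀, div_le_one₀ (zero_lt_iff.2 ((map_ne_zero V.valuation).2 hx0))]
      exact hxmax y hy
    | algebraMap r => exact hmem r
    | add a b _ _ ha hb => exact add_mem ha hb
    | mul a b _ _ ha hb => exact mul_mem ha hb
  have : Algebra.FiniteType R A := (Subalgebra.fg_iff_finiteType A).1 ⟨_, rfl⟩
  have : IsNoetherianRing A := Algebra.FiniteType.isNoetherianRing R A
  let xA : A := algebraMap R A x
  have hxne : Ideal.span {xA} ≠ ⊤ := by
    intro h
    obtain ⟨c, hc⟩ := Ideal.mem_span_singleton'.1 ((Ideal.eq_top_iff_one _).1 h)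
    have h1 : V.valuation ((c : K) * ι x) = 1 := by
      rw [show (c : K) * ι x = 1 from congrArg Subtype.val hc, map_one]
    rw [map_mul] at h1
    have h2 : V.valuation (c : K) * V.valuation (ι x) ≤ 1 * V.valuation (ι x) :=
      mul_le_mul_left ((V.valuation_le_one_iff _).2 (hAV _ c.2)) _
    rw [h1, one_mul] at h2
    exact absurd (hmax x (hs ▸ Ideal.subset_span hx)) (not_lt.2 h2)
  obtain ⟨p, hp⟩ := (Ideal.span {xA}).nonempty_minimalPrimes hxne
  have hpp : p.IsPrime := hp.1.1
  have hxp : xA ∈ p := hp.1.2 (Ideal.mem_span_singleton_self _)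
  let R' := locAt A p
  have hAR : A ≤ R' := fun z hz => ⟨⟨z, hz⟩, 1, (Ideal.ne_top_iff_one p).1 hpp.ne_top, by simp⟩
  let _ : Algebra A R' := (Subalgebra.inclusion hAR).toRingHom.toAlgebra
  have : IsScalarTower R A R' :=
    IsScalarTower.of_algebraMap_eq fun r => ((Subalgebra.inclusion hAR).commutes r).symm
  have hloc : IsLocalization.AtPrime R' p := by
    refine (isLocalization_iff _ _).2 ⟨fun b => ?_, fun z => ?_, fun {a b} h => ⟨1, ?_⟩⟩
    · have hb0 : (b : A).1 ≠ 0 := fun h => b.2 (by rw [show (b : A) = 0 from Subtype.ext h]; exact zero_mem _)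
      exact IsUnit.of_mul_eq_one (⟨(b : A).1⁻¹, 1, b, b.2, inv_mul_cancel₀ hb0⟩ : R') (Subtype.ext (mul_inv_cancel₀ hb0))
    · obtain ⟨a, b, hb, e⟩ := z.2
      exact ⟨(a, ⟨b, hb⟩), Subtype.ext e⟩
    · have h' : (a : K) = (b : K) := congrArg (fun z : R' => (z : K)) h
      rw [Subtype.ext h']
  have := IsLocalization.AtPrime.isLocalRing R' p
  refine ⟨R', inferInstance, IsLocalization.isNoetherianRing p.primeCompl _ inferInstance, ?_, ⟨fun r hr => ?_⟩, ?_⟩
  · rw [IsLocalization.AtPrime.ringKrullDim_eq_height p R']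
    have h1 : p.height ≤ 1 := Ideal.height_le_one_of_isPrincipal_of_mem_minimalPrimes (Ideal.span {xA}) p hp
    have h2 : p.height ≠ 0 := by
      rw [Ne, Ideal.height_eq_zero_iff, IsDomain.minimalPrimes_eq_singleton_bot, Set.mem_singleton_iff]
      intro h
      have hxA0 : xA = 0 := Ideal.mem_bot.1 (h ▸ hxp)
      exact hx0 (congrArg Subtype.val hxA0)
    rw [le_antisymm h1 (Order.one_le_iff_pos.2 (pos_iff_ne_zero.2 h2))]
    rfl
  · by_contra hru
    have hrp : algebraMap R A r ∈ p := by
      have hle : maximalIdeal R ≤ p.comap (algebraMap R A) := by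
        rw [← hs, Ideal.span_le]
        intro y hy
        have he : algebraMap R A y = (⟨ι y / ι x, Algebra.subset_adjoin (Finset.mem_image_of_mem _ hy)⟩ : A) * xA :=
          Subtype.ext (div_mul_cancel₀ _ hx0).symm
        rw [SetLike.mem_coe, Ideal.mem_comap, he]
        exact p.mul_mem_left _ hxp
      exact hle hru
    rw [IsScalarTower.algebraMap_apply R A R', IsLocalization.AtPrime.isUnit_to_map_iff R' p] at hr
    exact hr hrp
  · have : Algebra.EssFiniteType A R' := Algebra.EssFiniteType.of_isLocalization _ p.primeCompl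
    exact Algebra.EssFiniteType.comp R A R'

end Groth.Agent.CAlg4.DimOneOverring
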