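import Mathlib

/-! Base change along a directed colimit of algebras. -/

universe u
open TensorProduct

namespace Groth.Agent.CAlg4.DirectLimitBC

variable {ι : Type u} [Preorder ι] [Nonempty ι] [IsDirectedOrder ι] {G : ι → Type u} [∀ i, CommRing (G i)]
  {f : ∀ i j, i ≤ j → G i →+* G j} [DirectedSystem G (fun i j h => f i j h)] {A : Type u} [CommRing A]
  [∀ i, Algebra A (G i)] (hf : ∀ i j (h : i ≤ j), (f i j h).comp (algebraMap A (G i)) = algebraMap A (G j))
  [Algebra A (Ring.DirectLimit G fun i j h => f i j h)]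
  (hof : ∀ i a, Ring.DirectLimit.of G (fun i j h => f i j h) i (algebraMap A (G i) a) =
    algebraMap A (Ring.DirectLimit G fun i j h => f i j h) a)

/-- A transition map as an algebra map. -/
noncomputable def fa (i j : ι) (h : i ≤ j) : G i →ₐ[A] G j := AlgHom.mk (f i j h) fun a => RingHom.congr_fun (hf i j h) a

/-- The structure map as an algebra map. -/
noncomputable def ofa (i : ι) : G i →ₐ[A] Ring.DirectLimit G (fun i j h => f i j h) :=
  AlgHom.mk (Ring.DirectLimit.of G (fun i j h => f i j h) i) (hof i)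

include hf in
theorem exists_rep_zero (M : Type u) [AddCommGroup M] [Module A M] :
    (∀ z : Ring.DirectLimit G (fun i j h => f i j h) ⊗[A] M,
      ∃ i, ∃ w : G i ⊗[A] M, (ofa hof i).toLinearMap.rTensor M w = z) ∧
    (∀ i (w : G i ⊗[A] M), (ofa hof i).toLinearMap.rTensor M w = 0 →
      ∃ j, ∃ h : i ≤ j, (fa hf i j h).toLinearMap.rTensor M w = 0) := by
  classical
  let L := Ring.DirectLimit G fun i j h => f i j h
  let fl : ∀ i j, i ≤ j → G i →ₗ[A] G j := fun i j h => (fa hf i j h).toLinearMap
  have : DirectedSystem G fun i j h => fl i j h :=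
    ⟨fun i x => DirectedSystem.map_self' (fun i j h => f i j h) x,
      fun k j i hij hjk x => DirectedSystem.map_map' (fun i j h => f i j h) hij hjk x⟩
  have : DirectedSystem (fun i => G i ⊗[A] M) fun i j h => (fl i j h).rTensor M :=
    ⟨fun i x => by
      show (fl i i le_rfl).rTensor M x = x
      rw [show fl i i le_rfl = LinearMap.id from LinearMap.ext fun y => DirectedSystem.map_self' (fun i j h => f i j h) y,
        LinearMap.rTensor_id, LinearMap.id_apply],
    fun k j i hij hjk x => by
      show (fl j k hjk).rTensor M ((fl i j hij).rTensor M x) = (fl i k _).rTensor M x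
      rw [← LinearMap.rTensor_comp_apply]
      congr 2
      exact LinearMap.ext fun y => DirectedSystem.map_map' (fun i j h => f i j h) hij hjk y⟩
  let Φ : Module.DirectLimit G fl →ₗ[A] L := Module.DirectLimit.lift A ι G fl (fun i => (ofa hof i).toLinearMap)
    fun i j h x => Ring.DirectLimit.of_f h x
  have hΦof : ∀ i x, Φ (Module.DirectLimit.of A ι G fl i x) = ofa hof i x := fun i x => Module.DirectLimit.lift_of _ _ x
  have hΦ : Function.Bijective Φ := by
    refine ⟨(injective_iff_map_eq_zero Φ).2 fun z hz => ?_, fun y => ?_⟩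
    · obtain ⟨i, x, rfl⟩ := Module.DirectLimit.exists_of z
      rw [hΦof] at hz
      obtain ⟨j, hij, hj⟩ := Ring.DirectLimit.of.zero_exact (f' := f) hz
      rw [← Module.DirectLimit.of_f (hij := hij), show fl i j hij x = 0 from hj, map_zero]
    · obtain ⟨i, x, rfl⟩ := Ring.DirectLimit.exists_of y
      exact ⟨_, hΦof i x⟩
  let e : L ⊗[A] M ≃ₗ[A] Module.DirectLimit (fun i => G i ⊗[A] M) fun i j h => (fl i j h).rTensor M :=
    ((LinearEquiv.ofBijective Φ hΦ).symm.rTensor M).trans (TensorProduct.directLimitLeft fl M)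
  have he : ∀ i w, e ((ofa hof i).toLinearMap.rTensor M w) =
      Module.DirectLimit.of A ι (fun i => G i ⊗[A] M) (fun i j h => (fl i j h).rTensor M) i w := by
    intro i w
    induction w with
    | zero => simp
    | tmul g m =>
      show TensorProduct.directLimitLeft fl M ((LinearEquiv.ofBijective Φ hΦ).symm (ofa hof i g) ⊗ₜ m) = _
      rw [← hΦof, LinearEquiv.ofBijective_symm_apply_apply, TensorProduct.directLimitLeft_tmul_of]
    | add x y hx hy => simp only [map_add, hx, hy]
  refine ⟨fun z => ?_, fun i w hw => ?_⟩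
  · obtain ⟨i, w, hw⟩ := Module.DirectLimit.exists_of (e z)
    exact ⟨i, w, e.injective ((he i w).trans hw)⟩
  · exact Module.DirectLimit.of.zero_exact ((he i w).symm.trans (by rw [hw, map_zero]))

include hf hof in
theorem eventually (B C : Type u) [CommRing B] [CommRing C] [Algebra A B] [Algebra A C] :
    (Algebra.FiniteType A B → ∀ u u' : B →ₐ[A] C,
        Algebra.TensorProduct.map (AlgHom.id A (Ring.DirectLimit G (fun i j h => f i j h))) u =
            Algebra.TensorProduct.map (AlgHom.id A (Ring.DirectLimit G (fun i j h => f i j h))) u' →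
          ∃ i : ι, Algebra.TensorProduct.map (AlgHom.id A (G i)) u =
            Algebra.TensorProduct.map (AlgHom.id A (G i)) u') ∧
      (Algebra.FiniteType A C → ∀ u : B →ₐ[A] C,
        Function.Surjective
            (Algebra.TensorProduct.map (AlgHom.id A (Ring.DirectLimit G (fun i j h => f i j h))) u) →
          ∃ i : ι, Function.Surjective (Algebra.TensorProduct.map (AlgHom.id A (G i)) u)) := by
  classical
  refine ⟨fun hB u u' heq => ?_, fun hC u hu => ?_⟩
  · obtain ⟨s, hs⟩ := hB.out
    obtain ⟨hrep, hzero⟩ := exists_rep_zero hf hof C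
    obtain ⟨i₀⟩ := ‹Nonempty ι›
    have key : ∀ b ∈ s, ∃ i, (1 : G i) ⊗ₜ[A] (u b - u' b) = 0 := fun b _ => by
      have h := DFunLike.congr_fun heq (1 ⊗ₜ b)
      simp only [Algebra.TensorProduct.map_tmul, AlgHom.id_apply] at h
      obtain ⟨j, hj, hj'⟩ := hzero i₀ (1 ⊗ₜ (u b - u' b)) (by
        rw [LinearMap.rTensor_tmul, AlgHom.toLinearMap_apply, map_one, tmul_sub, h, sub_self])
      exact ⟨j, by simpa using hj'⟩
    choose! idx hidx using key
    obtain ⟨i, hi⟩ := Finset.exists_le (s.image idx)
    refine ⟨i, Algebra.TensorProduct.ext (AlgHom.ext fun g => by simp) ?_⟩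
    refine AlgHom.ext_of_adjoin_eq_top hs fun b hb => ?_
    have h := congrArg ((fa hf _ i (hi _ (Finset.mem_image_of_mem idx hb))).toLinearMap.rTensor C) (hidx b hb)
    rw [LinearMap.rTensor_tmul, AlgHom.toLinearMap_apply, map_one, map_zero, tmul_sub, sub_eq_zero] at h
    simpa using h
  · obtain ⟨s, hs⟩ := hC.out
    obtain ⟨hrepB, -⟩ := exists_rep_zero hf hof B
    obtain ⟨-, hzero⟩ := exists_rep_zero hf hof C
    obtain ⟨i₀⟩ := ‹Nonempty ι›
    have key : ∀ c ∈ s, ∃ j, ∃ w : G j ⊗[A] B,
        Algebra.TensorProduct.map (AlgHom.id A (G j)) u w = 1 ⊗ₜ c := fun c _ => by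
      obtain ⟨z, hz⟩ := hu (1 ⊗ₜ c)
      obtain ⟨i, w, rfl⟩ := hrepB z
      have hnat : ∀ (i : ι) (w : G i ⊗[A] B), (ofa hof i).toLinearMap.rTensor C (Algebra.TensorProduct.map (AlgHom.id A (G i)) u w) =
          Algebra.TensorProduct.map (AlgHom.id A _) u ((ofa hof i).toLinearMap.rTensor B w) := fun i w => by
        induction w with
        | zero => simp
        | tmul g b => simp
        | add x y hx hy => simp only [map_add, hx, hy]
      obtain ⟨j, hij, hj⟩ := hzero i (Algebra.TensorProduct.map (AlgHom.id A (G i)) u w - 1 ⊗ₜ c) (by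
        rw [map_sub, hnat, hz, LinearMap.rTensor_tmul, AlgHom.toLinearMap_apply, map_one, sub_self])
      refine ⟨j, (fa hf i j hij).toLinearMap.rTensor B w, ?_⟩
      rw [map_sub, sub_eq_zero, LinearMap.rTensor_tmul, AlgHom.toLinearMap_apply, map_one] at hj
      rw [← hj]
      clear hj hz
      induction w with
      | zero => simp
      | tmul g b => simp
      | add x y hx hy => simp only [map_add, hx, hy]
    choose! idx w hw using key
    obtain ⟨i, hi⟩ := Finset.exists_le (s.image idx)
    refine ⟨i, fun z => ?_⟩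
    have hmem : ∀ c ∈ s, (1 : G i) ⊗ₜ[A] c ∈ (Algebra.TensorProduct.map (AlgHom.id A (G i)) u).range := fun c hc => by
      have hij := hi _ (Finset.mem_image_of_mem idx hc)
      refine ⟨Algebra.TensorProduct.map (fa hf (idx c) i hij) (AlgHom.id A B) (w c), ?_⟩
      have hcomm : (Algebra.TensorProduct.map (AlgHom.id A (G i)) u).comp
          (Algebra.TensorProduct.map (fa hf (idx c) i hij) (AlgHom.id A B)) =
          (Algebra.TensorProduct.map (fa hf (idx c) i hij) (AlgHom.id A C)).comp
            (Algebra.TensorProduct.map (AlgHom.id A (G (idx c))) u) :=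
        Algebra.TensorProduct.ext (by ext g; simp) (by ext b; simp)
      exact (DFunLike.congr_fun hcomm (w c)).trans (by simp [hw c hc])
    let T := (Algebra.TensorProduct.map (AlgHom.id A (G i)) u).range
    have hC' : ∀ c : C, (1 : G i) ⊗ₜ[A] c ∈ T := fun c => by
      have hle : Algebra.adjoin A (s : Set C) ≤ T.comap Algebra.TensorProduct.includeRight :=
        Algebra.adjoin_le hmem
      exact hle (hs ▸ Algebra.mem_top)
    suffices z ∈ T from this
    induction z with
    | zero => exact zero_mem _
    | tmul g c =>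
      have hg : g ⊗ₜ[A] (1 : C) ∈ T := ⟨g ⊗ₜ 1, by simp⟩
      have := mul_mem hg (hC' c)
      rwa [Algebra.TensorProduct.tmul_mul_tmul, mul_one, one_mul] at this
    | add x y hx hy => exact add_mem hx hy

end Groth.Agent.CAlg4.DirectLimitBC
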