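import Mathlib.RingTheory.Valuation.ValuationRing
import Mathlib.RingTheory.Valuation.Basic
import Mathlib.RingTheory.LocalRing.ResidueField.Basic
import Mathlib.LinearAlgebra.Dimension.Finite
import Mathlib.LinearAlgebra.FiniteDimensional.Basic
import Mathlib.GroupTheory.Index

/-! `e f ≤ n` for an extension of valuation rings. -/

universe u

open IsLocalRing

namespace Groth.Agent.CAlg4.EFBound

variable {A B K L : Type u} [CommRing A] [IsDomain A] [ValuationRing A] [CommRing B] [IsDomain B]
  [ValuationRing B] [Field K] [Field L] [Algebra A K] [IsFractionRing A K] [Algebra B L]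
  [IsFractionRing B L] [Algebra A B] [Algebra K L] [Algebra A L] [IsScalarTower A K L]
  [IsScalarTower A B L] [IsLocalHom (algebraMap A B)]

local notation "vL" => ValuationRing.valuation B L

theorem val_le_one (b : B) : vL (algebraMap B L b) ≤ 1 :=
  (ValuationRing.mem_integer_iff B L _).2 ⟨b, rfl⟩

omit [Algebra A B] [Algebra A K] [IsFractionRing A K] [Algebra K L] [Algebra A L]
  [IsScalarTower A K L] [IsScalarTower A B L] [IsLocalHom (algebraMap A B)] in
theorem val_eq_one_iff {x : L} : vL x = 1 ↔ ∃ w : Bˣ, algebraMap B L w = x := by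
  constructor
  · intro h
    obtain ⟨b, rfl⟩ := (ValuationRing.mem_integer_iff B L x).1 h.le
    have hb : algebraMap B L b ≠ 0 := fun h0 => by simp [h0] at h
    obtain ⟨c, hc⟩ := (ValuationRing.mem_integer_iff B L (algebraMap B L b)⁻¹).1
      (show vL (algebraMap B L b)⁻¹ ≤ 1 by simp [h])
    refine ⟨⟨b, c, ?_, ?_⟩, rfl⟩ <;> apply IsFractionRing.injective B L <;>
      simp [map_mul, hc, hb]
  · rintro ⟨w, rfl⟩
    refine le_antisymm (val_le_one _) ?_
    calc (1 : ValuationRing.ValueGroup B L) = vL (algebraMap B L (w : B)) * vL (algebraMap B L ((w⁻¹ : Bˣ) : B)) := by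
          rw [← map_mul, ← map_mul, Units.mul_inv, map_one, map_one]
      _ ≤ vL (algebraMap B L (w : B)) * 1 := mul_le_mul' le_rfl (val_le_one _)
      _ = _ := mul_one _

omit [Algebra A B] [Algebra A K] [IsFractionRing A K] [Algebra K L] [Algebra A L]
  [IsScalarTower A K L] [IsScalarTower A B L] [IsLocalHom (algebraMap A B)] in
theorem val_lt_one_of_mem {b : B} (hb : b ∈ maximalIdeal B) : vL (algebraMap B L b) < 1 := by
  refine lt_of_le_of_ne (val_le_one b) fun h => ?_
  obtain ⟨w, hw⟩ := val_eq_one_iff.1 h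
  exact (mem_maximalIdeal b).1 hb (IsFractionRing.injective B L hw ▸ w.isUnit)

theorem mem_range_of_val_le_one (c : K) (hc : vL (algebraMap K L c) ≤ 1) :
    ∃ a : A, algebraMap A K a = c := by
  rcases ValuationRing.isInteger_or_isInteger A c with ⟨a, ha⟩ | ⟨a, ha⟩
  · exact ⟨a, ha⟩
  · rcases eq_or_ne c 0 with rfl | hc0
    · exact ⟨0, map_zero _⟩
    by_cases hu : IsUnit a
    · refine ⟨(hu.unit⁻¹ : Aˣ), ?_⟩
      rw [map_units_inv, IsUnit.unit_spec, ha, inv_inv]
    · exfalso
      have hm : algebraMap A B a ∈ maximalIdeal B :=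
        (mem_maximalIdeal _).2 fun h => hu (isUnit_of_map_unit _ a h)
      have hlt := val_lt_one_of_mem (L := L) hm
      rw [← IsScalarTower.algebraMap_apply, IsScalarTower.algebraMap_apply A K L, ha, map_inv₀,
        map_inv₀] at hlt
      rw [inv_lt_one₀ (by rw [zero_lt_iff, Valuation.ne_zero_iff]; simpa using hc0)] at hlt
      exact hc.not_gt hlt

theorem combination {s : Type*} [Fintype s] (b : s → B)
    (hb : LinearIndependent (ResidueField A) fun i => residue B (b i)) (c : s → K) {i₁ : s}
    (hi : c i₁ ≠ 0) :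
    ∃ (i₀ : s) (w : Bˣ), c i₀ ≠ 0 ∧
      ∑ i, c i • algebraMap B L (b i) = algebraMap K L (c i₀) * algebraMap B L w := by
  classical
  obtain ⟨i₀, -, hmax⟩ := Finset.exists_max_image Finset.univ
    (fun i => vL (algebraMap K L (c i))) ⟨i₁, Finset.mem_univ _⟩
  have h0 : c i₀ ≠ 0 := by
    intro h
    have := hmax i₁ (Finset.mem_univ _)
    simp only [h, map_zero, le_zero_iff, Valuation.zero_iff] at this
    exact hi ((map_eq_zero _).1 this)
  have hex : ∀ i, ∃ a : A, algebraMap A K a = c i / c i₀ := fun i => by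
    apply mem_range_of_val_le_one (B := B) (L := L)
    rw [map_div₀, map_div₀]
    exact div_le_one_of_le₀ (hmax i (Finset.mem_univ _)) zero_le
  choose a ha using hex
  have hu : IsUnit (∑ i, algebraMap A B (a i) * b i) := by
    rw [← residue_ne_zero_iff_isUnit, map_sum]
    intro h
    have := Fintype.linearIndependent_iff.1 hb (fun i => residue A (a i)) (by
      rw [← h]
      refine Finset.sum_congr rfl fun i _ => ?_
      rw [map_mul, Algebra.smul_def]
      rfl) i₀
    have h1 : a i₀ = 1 := IsFractionRing.injective A K (by rw [ha, div_self h0, map_one])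
    rw [h1, map_one] at this
    exact one_ne_zero this
  refine ⟨i₀, hu.unit, h0, ?_⟩
  rw [IsUnit.unit_spec, map_sum, Finset.mul_sum]
  refine Finset.sum_congr rfl fun i _ => ?_
  rw [Algebra.smul_def, map_mul, ← IsScalarTower.algebraMap_apply, IsScalarTower.algebraMap_apply A K L,
    ha, map_div₀, ← mul_assoc, mul_div_cancel₀]
  simpa using h0

theorem linearIndependent_mul {s t : Type*} [Fintype s] [Fintype t] (b : s → B)
    (hb : LinearIndependent (ResidueField A) fun i => residue B (b i)) (g : t → L)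
    (hg0 : ∀ j, g j ≠ 0)
    (hg : ∀ j j' : t, ∀ c : K, c ≠ 0 → vL (g j) = vL (algebraMap K L c * g j') → j = j') :
    LinearIndependent K fun p : s × t => algebraMap B L (b p.1) * g p.2 := by
  classical
  rw [Fintype.linearIndependent_iff]
  intro a ha
  by_contra hne
  push Not at hne
  obtain ⟨⟨i₁, j₁⟩, h₁⟩ := hne
  let J : Finset t := Finset.univ.filter fun j => ∃ i, a (i, j) ≠ 0
  have hJ : j₁ ∈ J := Finset.mem_filter.2 ⟨Finset.mem_univ _, i₁, h₁⟩
  let S : t → L := fun j => (∑ i, a (i, j) • algebraMap B L (b i)) * g j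
  have hS : ∀ j ∈ J, ∃ c : K, c ≠ 0 ∧ vL (S j) = vL (algebraMap K L c * g j) := by
    intro j hj
    obtain ⟨i, hi⟩ := (Finset.mem_filter.1 hj).2
    obtain ⟨i₀, w, h0, hw⟩ := combination (L := L) b hb (fun i => a (i, j)) hi
    refine ⟨a (i₀, j), h0, ?_⟩
    simp only [S, hw, map_mul, val_eq_one_iff.2 ⟨w, rfl⟩, mul_one]
  choose c hc0 hc using hS
  have hne' : ∀ j ∈ J, vL (S j) ≠ 0 := fun j hj => by
    rw [hc j hj, Valuation.ne_zero_iff]
    exact mul_ne_zero (by simpa using hc0 j hj) (hg0 j)
  obtain ⟨jm, hjm, hmax⟩ := J.exists_max_image (fun j => vL (S j)) ⟨j₁, hJ⟩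
  have hlt : ∀ j ∈ J \ {jm}, vL (S j) < vL (S jm) := by
    intro j hj
    rw [Finset.mem_sdiff, Finset.mem_singleton] at hj
    refine lt_of_le_of_ne (hmax j hj.1) fun h => hj.2 ?_
    refine hg j jm (c jm hjm / c j hj.1) (div_ne_zero (hc0 jm hjm) (hc0 j hj.1)) ?_
    rw [hc j hj.1, hc jm hjm, map_mul, map_mul] at h
    rw [map_mul, map_div₀, map_div₀, div_mul_eq_mul_div, eq_div_iff, mul_comm, h]
    exact (Valuation.ne_zero_iff _).2 (by simpa using hc0 j hj.1)
  have hsum : vL (∑ j ∈ J, S j) = vL (S jm) := Valuation.map_sum_eq_of_lt _ hjm hlt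
  have h0 : ∑ j ∈ J, S j = 0 := by
    rw [Finset.sum_subset (Finset.subset_univ J) (fun j _ hj => ?_)]
    · refine Eq.trans ?_ ha
      rw [Fintype.sum_prod_type, Finset.sum_comm]
      refine Finset.sum_congr rfl fun j _ => ?_
      simp only [S, Finset.sum_mul]
      exact Finset.sum_congr rfl fun i _ => smul_mul_assoc _ _ _
    · have : ∀ i, a (i, j) = 0 := by simpa [J] using hj
      simp [S, this]
  rw [h0, map_zero] at hsum
  exact hne' jm hjm hsum.symm

variable [FiniteDimensional K L]

theorem card_mul_le {s t : Type*} [Fintype s] [Fintype t] (b : s → B)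
    (hb : LinearIndependent (ResidueField A) fun i => residue B (b i)) (g : t → L)
    (hg0 : ∀ j, g j ≠ 0)
    (hg : ∀ j j' : t, ∀ c : K, c ≠ 0 → vL (g j) = vL (algebraMap K L c * g j') → j = j') :
    Fintype.card t * Fintype.card s ≤ Module.finrank K L := by
  have := (linearIndependent_mul b hb g hg0 hg).fintype_card_le_finrank
  rwa [Fintype.card_prod, mul_comm] at this

theorem main :
    let UB : Subgroup Lˣ := (Units.map (algebraMap B L).toMonoidHom).range
    let ΓA : Subgroup (Lˣ ⧸ UB) := ((QuotientGroup.mk' UB).comp (Units.map (algebraMap K L).toMonoidHom)).range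
    Module.Finite (ResidueField A) (ResidueField B) ∧ ΓA.index ≠ 0 ∧
      ΓA.index * Module.finrank (ResidueField A) (ResidueField B) ≤ Module.finrank K L := by
  intro UB ΓA
  classical
  have : ΓA.Normal := ⟨fun n hn g => by rwa [mul_comm g n, mul_inv_cancel_right]⟩
  have hq : ∀ (x : Lˣ) (c : K) (hc : c ≠ 0) (y : Lˣ), vL (x : L) = vL (algebraMap K L c * y) →
      (((x : Lˣ ⧸ UB) : (Lˣ ⧸ UB) ⧸ ΓA)) = ((y : Lˣ ⧸ UB) : (Lˣ ⧸ UB) ⧸ ΓA) := by
    intro x c hc y h
    have hc' : algebraMap K L c ≠ 0 := by simpa using hc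
    have h1 : vL ((x : L) / (algebraMap K L c * y)) = 1 := by
      rw [map_div₀, h, div_self]
      exact (Valuation.ne_zero_iff _).2 (mul_ne_zero hc' y.ne_zero)
    obtain ⟨w, hw⟩ := val_eq_one_iff.1 h1
    have hx : x = (Units.map (algebraMap B L).toMonoidHom w *
        Units.map (algebraMap K L).toMonoidHom (Units.mk0 c hc)) * y := Units.ext (by
      simp only [Units.val_mul, Units.coe_map, Units.val_mk0, RingHom.toMonoidHom_eq_coe,
        MonoidHom.coe_coe, hw, mul_assoc]
      exact (div_mul_cancel₀ _ (mul_ne_zero hc' y.ne_zero)).symm)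
    have hwUB : Units.map (algebraMap B L).toMonoidHom w ∈ UB := ⟨w, rfl⟩
    rw [hx]
    simp only [QuotientGroup.mk_mul, (QuotientGroup.eq_one_iff _).2 hwUB, QuotientGroup.mk_one, one_mul]
    have : ((Units.map (algebraMap K L).toMonoidHom (Units.mk0 c hc) : Lˣ ⧸ UB) :
        (Lˣ ⧸ UB) ⧸ ΓA) = 1 := (QuotientGroup.eq_one_iff _).2 ⟨Units.mk0 c hc, rfl⟩
    rw [this, one_mul]
  have hbound : ∀ (T : Finset ((Lˣ ⧸ UB) ⧸ ΓA)) (S : Finset (ResidueField B)),
      LinearIndependent (ResidueField A) (fun i : S => (i : ResidueField B)) →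
      T.card * S.card ≤ Module.finrank K L := by
    intro T S hS
    choose g hg using fun q : T => QuotientGroup.mk_surjective (q : (Lˣ ⧸ UB) ⧸ ΓA)
    choose g' hg' using fun q : T => QuotientGroup.mk_surjective (g q)
    choose b hb using fun i : S => residue_surjective (R := B) (i : ResidueField B)
    have := card_mul_le (K := K) (L := L) b (by simpa only [hb] using hS) (fun q => (g' q : L))
      (fun q => (g' q).ne_zero) (fun j j' c hc h => ?_)
    · simpa using this
    · have := hq (g' j) c hc (g' j') h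
      rw [hg', hg', hg, hg] at this
      exact Subtype.ext this
  have hfin : Module.Finite (ResidueField A) (ResidueField B) := by
    refine Module.rank_lt_aleph0_iff.1 (lt_of_le_of_lt (rank_le (n := Module.finrank K L) fun S hS => ?_)
      Cardinal.natCast_lt_aleph0)
    have := hbound {1} S hS
    simpa using this
  have hone : LinearIndependent (ResidueField A)
      (fun i : ({1} : Finset (ResidueField B)) => (i : ResidueField B)) := by
    rw [linearIndependent_subsingleton_index_iff]
    rintro ⟨x, hx⟩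
    rw [Finset.mem_singleton] at hx
    simp [hx]
  have : Finite ((Lˣ ⧸ UB) ⧸ ΓA) := by
    by_contra hinf
    rw [not_finite_iff_infinite] at hinf
    obtain ⟨T, hT⟩ := Infinite.exists_subset_card_eq ((Lˣ ⧸ UB) ⧸ ΓA) (Module.finrank K L + 1)
    have := hbound T {1} hone
    simp [hT] at this
  refine ⟨hfin, ?_, ?_⟩
  · rw [Subgroup.index_eq_card]; exact Nat.card_pos.ne'
  · have := Fintype.ofFinite ((Lˣ ⧸ UB) ⧸ ΓA)
    let bas := Module.finBasis (ResidueField A) (ResidueField B)
    have hli : LinearIndependent (ResidueField A)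
        (fun i : (Finset.univ.image bas) => (i : ResidueField B)) := by
      have h := bas.linearIndependent.linearIndepOn_id
      rw [show (Set.range bas) = ((Finset.univ.image bas : Finset _) : Set (ResidueField B)) by simp] at h
      exact h.linearIndependent
    have := hbound Finset.univ _ hli
    rwa [Finset.card_univ, Finset.card_image_of_injective _ bas.injective, Finset.card_univ,
      Fintype.card_fin, ← Nat.card_eq_fintype_card, ← Subgroup.index_eq_card] at this

end Groth.Agent.CAlg4.EFBound
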