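import Groth.Agent.CAlg5.RegularHom
import Groth.Agent.CAlg5.FlatDescent
import Groth.Agent.EGA4H10.Serre
import Mathlib.RingTheory.Etale.Basic
import Mathlib.RingTheory.Unramified.LocalRing

/-! Local rings of étale algebras. -/

universe u

open IsLocalRing

namespace Groth.Agent.CAlg4.EtaleLoc

variable (A B : Type u) [CommRing A] [CommRing B] [Algebra A B] [Algebra.Etale A B] (q : Ideal B) [q.IsPrime]

theorem noetherian_iff_and_regular_iff :
    (IsNoetherianRing (Localization.AtPrime (Ideal.comap (algebraMap A B) q)) ↔
        IsNoetherianRing (Localization.AtPrime q)) ∧
      (IsRegularLocalRing (Localization.AtPrime (Ideal.comap (algebraMap A B) q)) ↔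
        IsRegularLocalRing (Localization.AtPrime q)) := by
  let p := Ideal.comap (algebraMap A B) q
  let : Algebra (Localization.AtPrime p) (Localization.AtPrime q) :=
    (Localization.localRingHom p q (algebraMap A B) rfl).toAlgebra
  have : IsScalarTower A (Localization.AtPrime p) (Localization.AtPrime q) := .of_algebraMap_eq fun r => by
    rw [RingHom.algebraMap_toAlgebra, Localization.localRingHom_to_map, ← IsScalarTower.algebraMap_apply]
  have : IsLocalHom (algebraMap (Localization.AtPrime p) (Localization.AtPrime q)) :=
    Localization.isLocalHom_localRingHom p q _ _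
  have : Module.Flat B (Localization.AtPrime q) := IsLocalization.flat _ q.primeCompl
  have : Module.Flat A (Localization.AtPrime q) := Module.Flat.trans A B _
  have : Module.Flat (Localization.AtPrime p) (Localization.AtPrime q) :=
    (Module.flat_iff_of_isLocalization (Localization.AtPrime p) p.primeCompl (Localization.AtPrime q)).mpr
      inferInstance
  have : Algebra.EssFiniteType B (Localization.AtPrime q) := .of_isLocalization _ q.primeCompl
  have : Algebra.EssFiniteType A (Localization.AtPrime q) := Algebra.EssFiniteType.comp A B _
  have : Algebra.EssFiniteType (Localization.AtPrime p) (Localization.AtPrime q) :=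
    Algebra.EssFiniteType.of_comp A _ _
  have : Algebra.FormallyUnramified B (Localization.AtPrime q) := .of_isLocalization q.primeCompl
  have : Algebra.FormallyUnramified A (Localization.AtPrime q) := .comp A B _
  have : Algebra.FormallyUnramified (Localization.AtPrime p) (Localization.AtPrime q) :=
    .of_restrictScalars A _ _
  have : Module.FaithfullyFlat (Localization.AtPrime p) (Localization.AtPrime q) :=
    Module.FaithfullyFlat.of_flat_of_isLocalHom
  refine ⟨⟨fun h => Algebra.EssFiniteType.isNoetherianRing (Localization.AtPrime p) _,
    fun h => CAlg5.isNoetherianRing_of_faithfullyFlat (Localization.AtPrime p) (Localization.AtPrime q)⟩,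
    ⟨fun h => ?_, fun h => ?_⟩⟩
  · have : IsNoetherianRing (Localization.AtPrime q) :=
      Algebra.EssFiniteType.isNoetherianRing (Localization.AtPrime p) _
    refine CAlg5.regular_of_flat_local (Localization.AtPrime p) (Localization.AtPrime q) ?_
    have hfield := Algebra.FormallyUnramified.isField_quotient_map_maximalIdeal
      (R := Localization.AtPrime p) (S := Localization.AtPrime q)
    let := hfield.toField
    infer_instance
  · have : IsNoetherianRing (Localization.AtPrime p) :=
      CAlg5.isNoetherianRing_of_faithfullyFlat (Localization.AtPrime p) (Localization.AtPrime q)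
    exact EGA4H10.regular_of_flat (Localization.AtPrime p) (Localization.AtPrime q)

end Groth.Agent.CAlg4.EtaleLoc
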