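import Mathlib

/-! The largest finite étale subalgebra of an algebra of finite type over a field. -/

universe u
open TensorProduct

namespace Groth.Agent.CAlg4.EtaleSub

variable {k : Type u} [Field k] {B : Type u} [CommRing B] [Algebra k B]

theorem etale_range {T : Type u} [CommRing T] [Algebra k T] [Module.Finite k T] [Algebra.FormallyUnramified k T]
    (f : T →ₐ[k] B) : Module.Finite k f.range ∧ Algebra.Etale k f.range := by
  have hs : Function.Surjective f.rangeRestrict := AlgHom.rangeRestrict_surjective f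
  have : Module.Finite k f.range := Module.Finite.of_surjective f.rangeRestrict.toLinearMap hs
  have : Algebra.FormallyUnramified k f.range := Algebra.FormallyUnramified.of_surjective f.rangeRestrict hs
  have : Algebra.FormallyEtale k f.range := Algebra.FormallyEtale.of_formallyUnramified_of_field k f.range
  have : Algebra.FinitePresentation k f.range :=
    (Algebra.FinitePresentation.of_finiteType (R := k)).1 inferInstance
  exact ⟨inferInstance, ⟨inferInstance, inferInstance⟩⟩

theorem etale_sup (E E' : Subalgebra k B) [Module.Finite k E] [Algebra.Etale k E] [Module.Finite k E']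
    [Algebra.Etale k E'] : Module.Finite k (E ⊔ E' : Subalgebra k B) ∧ Algebra.Etale k (E ⊔ E' : Subalgebra k B) := by
  have : Algebra.Etale k (E ⊗[k] E') := Algebra.Etale.comp k E (E ⊗[k] E')
  have h : (E ⊔ E' : Subalgebra k B) = (Algebra.TensorProduct.productMap E.val E'.val).range := by
    rw [Algebra.TensorProduct.productMap_range, Subalgebra.range_val, Subalgebra.range_val]
  rw [h]
  exact etale_range _

theorem etale_bot : Module.Finite k (⊥ : Subalgebra k B) ∧ Algebra.Etale k (⊥ : Subalgebra k B) := by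
  have h : (⊥ : Subalgebra k B) = (Algebra.ofId k B).range := by
    ext x
    simp [Algebra.mem_bot, Algebra.ofId_apply]
  rw [h]
  exact etale_range _

theorem exists_idem_subalgebra {A : Subalgebra k B} {f : B} (hf : IsIdempotentElem f) (hfA : f ∈ A) :
    ∃ E : Subalgebra k B, E ≤ A ∧ Module.Finite k E ∧ Algebra.Etale k E ∧ f ∈ E := by
  let φ : (Fin 2 → k) →ₐ[k] B :=
    AlgHom.ofLinearMap
      { toFun := fun v => v 0 • f + v 1 • (1 - f)
        map_add' := fun v w => by simp only [Pi.add_apply, add_smul]; abel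
        map_smul' := fun c v => by simp [smul_add, mul_smul] }
      (by simp) (fun v w => by
        simp only [LinearMap.coe_mk, AddHom.coe_mk, Pi.mul_apply]
        rw [add_mul, mul_add, mul_add, smul_mul_smul_comm, smul_mul_smul_comm, smul_mul_smul_comm,
          smul_mul_smul_comm, hf.eq, hf.one_sub.eq, hf.mul_one_sub_self, hf.one_sub_mul_self]
        simp)
  have : Algebra.FormallyEtale k (Fin 2 → k) := (Algebra.FormallyEtale.pi_iff _).2 fun _ => inferInstance
  refine ⟨φ.range, ?_, (etale_range φ).1, (etale_range φ).2, Pi.single 0 1, ?_⟩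
  · rintro _ ⟨v, rfl⟩
    exact add_mem (A.smul_mem hfA _) (A.smul_mem (sub_mem (one_mem A) hfA) _)
  · show (Pi.single 0 1 : Fin 2 → k) 0 • f + (Pi.single 0 1 : Fin 2 → k) 1 • (1 - f) = f
    simp

theorem finrank_le [Algebra.FiniteType k B] (E : Subalgebra k B) [Module.Finite k E] [Algebra.Etale k E] :
    Module.finrank k E ≤ (minimalPrimes (AlgebraicClosure k ⊗[k] B)).ncard := by
  let K := AlgebraicClosure k
  let T := K ⊗[k] E
  let f : T →ₐ[K] K ⊗[k] B := Algebra.TensorProduct.map (AlgHom.id K K) E.val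
  have hf : Function.Injective f :=
    Module.Flat.lTensor_preserves_injective_linearMap E.val.toLinearMap Subtype.val_injective
  have : IsArtinianRing T := .of_finite K T
  have : IsNoetherianRing (K ⊗[k] B) := Algebra.FiniteType.isNoetherianRing K _
  have h1 : Module.finrank k E = Nat.card (PrimeSpectrum T) := by
    have : Finite (PrimeSpectrum T) := inferInstance
    have := Fintype.ofFinite (PrimeSpectrum T)
    rw [← Module.finrank_baseChange (R := K) (S := k) (M' := E),
      (Algebra.FormallyEtale.equivPiOfIsSepClosed K T).toLinearEquiv.finrank_eq, Module.finrank_pi,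
      Nat.card_eq_fintype_card]
  rw [h1, ← Nat.card_coe_set_eq]
  have : Finite (minimalPrimes (K ⊗[k] B)) := (minimalPrimes.finite_of_isNoetherianRing _).to_subtype
  have hex : ∀ p : PrimeSpectrum T, ∃ P : minimalPrimes (K ⊗[k] B), P.1.comap f.toRingHom = p.asIdeal := fun p => by
    have hp : p.asIdeal ∈ minimalPrimes T := Ideal.mem_minimalPrimes_of_krullDimLE_zero _
    obtain ⟨P, hPprime, hP⟩ := Ideal.exists_comap_eq_of_mem_minimalPrimes_of_injective hf p.asIdeal hp
    obtain ⟨Q, hQ, hQP⟩ := Ideal.exists_minimalPrimes_le (I := ⊥) (J := P) bot_le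
    have := hQ.1.1
    refine ⟨⟨Q, hQ⟩, le_antisymm ((Ideal.comap_mono hQP).trans hP.le) ?_⟩
    exact hp.2 ⟨Ideal.IsPrime.comap _, bot_le⟩ ((Ideal.comap_mono hQP).trans hP.le)
  choose g hg using hex
  exact Nat.card_le_card_of_injective g fun a b hab => PrimeSpectrum.ext (by rw [← hg a, ← hg b, hab])

theorem exists_largest [Algebra.FiniteType k B] (A : Subalgebra k B) :
    ∃ E : Subalgebra k B, E ≤ A ∧ Module.Finite k E ∧ Algebra.Etale k E ∧
      ∀ E' : Subalgebra k B, E' ≤ A → Module.Finite k E' → Algebra.Etale k E' → E' ≤ E := by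
  let S : Set ℕ := {n | ∃ E : Subalgebra k B, E ≤ A ∧ Module.Finite k E ∧ Algebra.Etale k E ∧ Module.finrank k E = n}
  have hne : S.Nonempty := ⟨_, ⊥, bot_le, etale_bot.1, etale_bot.2, rfl⟩
  have hbdd : BddAbove S := ⟨(minimalPrimes (AlgebraicClosure k ⊗[k] B)).ncard, by
    rintro n ⟨E, -, h1, h2, rfl⟩
    exact finrank_le E⟩
  obtain ⟨E, hEA, h1, h2, hn⟩ := Nat.sSup_mem hne hbdd
  refine ⟨E, hEA, h1, h2, fun E' hE'A h1' h2' => ?_⟩
  obtain ⟨h3, h4⟩ := etale_sup E E'
  have hle : Module.finrank k (E ⊔ E' : Subalgebra k B) ≤ Module.finrank k E :=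
    hn ▸ le_csSup hbdd ⟨E ⊔ E', sup_le hEA hE'A, h3, h4, rfl⟩
  have := Subalgebra.eq_of_le_of_finrank_le (le_sup_left : E ≤ E ⊔ E') hle
  exact le_sup_right.trans this.ge

theorem components (A E : Subalgebra k B) (hEA : E ≤ A) [Module.Finite k E]
    (hmax : ∀ E' : Subalgebra k B, E' ≤ A → Module.Finite k E' → Algebra.Etale k E' → E' ≤ E) :
    Function.Surjective (PrimeSpectrum.comap (Subalgebra.inclusion hEA).toRingHom) ∧
      ∀ p q : PrimeSpectrum A, PrimeSpectrum.comap (Subalgebra.inclusion hEA).toRingHom p =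
          PrimeSpectrum.comap (Subalgebra.inclusion hEA).toRingHom q ↔
        connectedComponent p = connectedComponent q := by
  let ι := (Subalgebra.inclusion hEA).toRingHom
  have : IsArtinianRing E := .of_finite k E
  refine ⟨fun e => ?_, fun p q => ⟨fun h => ?_, fun h => ?_⟩⟩
  · obtain ⟨P, hP, hPe⟩ := Ideal.exists_comap_eq_of_mem_minimalPrimes_of_injective (f := ι)
      (Subalgebra.inclusion_injective hEA) e.asIdeal (Ideal.mem_minimalPrimes_of_krullDimLE_zero _)
    exact ⟨⟨P, hP⟩, PrimeSpectrum.ext hPe⟩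
  · let F := PrimeSpectrum.comap ι ⁻¹' {PrimeSpectrum.comap ι p}
    have hF : IsClopen F := (isClopen_discrete _).preimage (PrimeSpectrum.continuous_comap ι)
    have hpre : IsPreconnected F := by
      rw [isPreconnected_iff_subset_of_disjoint_closed]
      intro u v hu hv huv hdis
      have hopen : IsClopen (F ∩ u) := ⟨hF.isClosed.inter hu, by
        rw [show F ∩ u = F \ v from Set.ext fun x =>
          ⟨fun hx => ⟨hx.1, fun hxv => Set.eq_empty_iff_forall_notMem.1 hdis x ⟨hx.1, hx.2, hxv⟩⟩,
            fun hx => ⟨hx.1, (huv hx.1).resolve_right hx.2⟩⟩]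
        exact hF.isOpen.sdiff hv⟩
      obtain ⟨f, hf, hfu⟩ := PrimeSpectrum.exists_idempotent_basicOpen_eq_of_isClopen hopen
      have hfB : IsIdempotentElem (f : B) := congrArg Subtype.val hf
      obtain ⟨E', hE'A, h1, h2, hfE'⟩ := exists_idem_subalgebra hfB f.2
      have hfE : (f : B) ∈ E := hmax E' hE'A h1 h2 hfE'
      have hkey : ∀ x ∈ F, (x ∈ (PrimeSpectrum.basicOpen f : Set (PrimeSpectrum A)) ↔
          (⟨(f : B), hfE⟩ : E) ∉ (PrimeSpectrum.comap ι p).asIdeal) := by
        intro x hx
        rw [← (hx : PrimeSpectrum.comap ι x = PrimeSpectrum.comap ι p)]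
        exact Iff.rfl
      by_cases hc : (⟨(f : B), hfE⟩ : E) ∈ (PrimeSpectrum.comap ι p).asIdeal
      · refine Or.inr fun x hx => (huv hx).resolve_left fun hxu => ?_
        exact (hkey x hx).1 (hfu.le ⟨hx, hxu⟩) hc
      · exact Or.inl fun x hx => (hfu.ge ((hkey x hx).2 hc)).2
    exact connectedComponent_eq (hpre.subset_connectedComponent (x := p) rfl h.symm)
  · have h1 : q ∈ connectedComponent p := h.symm ▸ mem_connectedComponent
    have h2 := (PrimeSpectrum.continuous_comap ι).image_connectedComponent_subset p ⟨q, h1, rfl⟩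
    rw [connectedComponent_eq_singleton] at h2
    exact h2.symm

end Groth.Agent.CAlg4.EtaleSub
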