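import Groth.Agent.CAlg4.DExtTor

/-! Artin–Rees for `Ext^p(M, N)` via dimension shifting. -/

universe u

open CategoryTheory CategoryTheory.Pretriangulated

attribute [local instance] HasDerivedCategory.standard

namespace Groth.Agent.CAlg4.DExt

variable {A : Type u} [CommRing A]

theorem inD_hom_eq_zero (F : Type u) [AddCommGroup F] [Module A F] [Module.Projective A F]
    (N : Type u) [AddCommGroup N] [Module A N] (p : ℕ) (f : Dual.inD A F ⟶ (Dual.inD A N)⟦(p : ℤ) + 1⟧) :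
    f = 0 :=
  DR39.hom_eq_zero_of_projective ((HomologicalComplex.single (ModuleCat.{u} A) (ComplexShape.up ℤ) 0).obj
      (ModuleCat.of A F)) 0 0
    (fun i hi => HomologicalComplex.isZero_single_obj_X _ _ _ _ (by omega))
    (fun i => by
      by_cases h : i = 0
      · subst h
        exact Module.Projective.of_equiv
          (HomologicalComplex.singleObjXSelf (ComplexShape.up ℤ) 0 (ModuleCat.of A F)).symm.toLinearEquiv
      · have := ModuleCat.subsingleton_of_isZero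
          (HomologicalComplex.isZero_single_obj_X (ComplexShape.up ℤ) 0 (ModuleCat.of A F) i h)
        infer_instance)
    (DR39.acyc_shift _ _ _ (DR39.acyc_single _ 0 _ (by omega))) f

/-- The inclusion `I^k N ⊆ N`, in `D(A)`. -/
noncomputable abbrev incl (I : Ideal A) (k : ℕ) (M : Type u) [AddCommGroup M] [Module A M] :
    Dual.inD A ↥(I ^ k • ⊤ : Submodule A M) ⟶ Dual.inD A M :=
  (DerivedCategory.singleFunctor (ModuleCat.{u} A) 0).map
    (ModuleCat.ofHom (I ^ k • ⊤ : Submodule A M).subtype)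

/-- The `p`-th statement. -/
def ExtARProp (I : Ideal A) (p : ℕ) : Prop :=
  ∀ (M N : Type u) [AddCommGroup M] [Module A M] [Module.Finite A M] [AddCommGroup N] [Module A N],
    ∃ c : ℕ, ∀ n : ℕ, c ≤ n → ∀ e : Dual.inD A M ⟶ (Dual.inD A N)⟦(p : ℤ)⟧,
      ∃ e' : Dual.inD A ↥(I ^ n • ⊤ : Submodule A M) ⟶ (Dual.inD A ↥(I ^ (n - c) • ⊤ : Submodule A N))⟦(p : ℤ)⟧,
        e' ≫ (incl I (n - c) N)⟦(p : ℤ)⟧' = incl I n M ≫ e

theorem extAR_zero (I : Ideal A) : ExtARProp I 0 := fun M N _ _ _ _ _ => ⟨0, fun n _ e => by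
  let z := fun X : Dual.D A => (shiftFunctorZero' (Dual.D A) ((0 : ℕ) : ℤ) rfl).app X
  obtain ⟨f, hf⟩ := (DerivedCategory.singleFunctor (ModuleCat.{u} A) 0).map_surjective (e ≫ (z _).hom)
  refine ⟨(DerivedCategory.singleFunctor (ModuleCat.{u} A) 0).map (ModuleCat.ofHom ((f.hom ∘ₗ
      (I ^ n • ⊤ : Submodule A M).subtype).codRestrict (I ^ (n - 0) • ⊤) fun x =>
        Submodule.smul_mono le_rfl le_top (Submodule.map_smul'' (I ^ n) ⊤ f.hom ▸
          Submodule.mem_map_of_mem x.2))) ≫ (z _).inv, ?_⟩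
  have he : e = (DerivedCategory.singleFunctor (ModuleCat.{u} A) 0).map f ≫ (z _).inv :=
    ((Iso.comp_inv_eq _).2 hf).symm
  refine ((Category.assoc _ _ _).trans ((congrArg _ ((shiftFunctorZero' (Dual.D A) ((0 : ℕ) : ℤ) rfl).inv.naturality
    (incl I (n - 0) N)).symm).trans ((Category.assoc _ _ _).symm.trans
      ((congrArg (· ≫ (z _).inv) ?_).trans ((Category.assoc _ _ _).trans (congrArg (incl I n M ≫ ·) he.symm))))))
  exact (Functor.map_comp _ _ _).symm.trans (Functor.map_comp (DerivedCategory.singleFunctor (ModuleCat.{u} A) 0)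
    (ModuleCat.ofHom (I ^ n • ⊤ : Submodule A M).subtype) f)⟩

theorem glue {C : Type*} [Category C] (F : C ⥤ C) {X Y' Y V W Z Z' : C} (δ' : Z ⟶ F.obj X) (j : X ⟶ Y')
    (i : Y' ⟶ Y) (e₀ : Y ⟶ V) (z : F.obj V ⟶ W) (m : X ⟶ Y) (hm : j ≫ i = m) (δ : Z' ⟶ F.obj Y)
    (q : Z ⟶ Z') (hc : δ' ≫ F.map m = q ≫ δ) (e : Z' ⟶ W) (he : e = δ ≫ F.map e₀ ≫ z) :
    δ' ≫ F.map (j ≫ i ≫ e₀) ≫ z = q ≫ e := by
  subst hm he
  rw [← reassoc_of% hc]
  simp

variable [IsNoetherianRing A]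

theorem extAR_succ (I : Ideal A) (p : ℕ) (hp : ExtARProp I p) : ExtARProp I (p + 1) :=
    fun M N _ _ _ _ _ => by
  obtain ⟨r, π, hπ⟩ := Module.Finite.exists_fin' A M
  let L := LinearMap.ker π
  obtain ⟨c₁, hc₁⟩ := AR.exists_inf_le I L
  obtain ⟨c₂, hc₂⟩ := hp L N
  refine ⟨c₁ + c₂, fun n hn e => ?_⟩
  let S : ShortComplex (ModuleCat.{u} A) :=
    ShortComplex.mk (ModuleCat.ofHom L.subtype) (ModuleCat.ofHom π) (ModuleCat.hom_ext (LinearMap.ext fun x => x.2))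
  have hS : S.ShortExact :=
    { exact := (ShortComplex.moduleCat_exact_iff _).2 fun x hx => ⟨⟨x, hx⟩, rfl⟩
      mono_f := (ModuleCat.mono_iff_injective _).2 L.subtype_injective
      epi_g := (ModuleCat.epi_iff_surjective _).2 hπ }
  have hcast : (p : ℤ) + 1 = ((p + 1 : ℕ) : ℤ) := by omega
  obtain ⟨e₁, he₁⟩ := Triangle.yoneda_exact₃ _ hS.singleTriangle_distinguished e (by
    rw [← cancel_mono ((eqToIso (congrArg (shiftFunctor (Dual.D A)) hcast.symm)).hom.app (Dual.inD A N)),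
      Limits.zero_comp]
    exact inD_hom_eq_zero _ N p _)
  let a := fun X : Dual.D A => (shiftFunctorAdd' (Dual.D A) (p : ℤ) 1 _ hcast).app X
  obtain ⟨e₀, he₀⟩ := (shiftFunctor (Dual.D A) (1 : ℤ)).map_surjective (e₁ ≫ (a _).hom)
  let Fn : Submodule A (Fin r → A) := I ^ n • ⊤
  let Ln : Submodule A (Fin r → A) := Fn ⊓ L
  have hπn : ∀ x : Fn, π x ∈ (I ^ n • ⊤ : Submodule A M) := fun x =>
    Submodule.smul_mono le_rfl le_top (Submodule.map_smul'' (I ^ n) ⊤ π ▸ Submodule.mem_map_of_mem x.2)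
  let πn : Fn →ₗ[A] ↥(I ^ n • ⊤ : Submodule A M) := (π ∘ₗ Fn.subtype).codRestrict _ hπn
  let T : ShortComplex (ModuleCat.{u} A) :=
    ShortComplex.mk (ModuleCat.ofHom (Submodule.inclusion (inf_le_left : Ln ≤ Fn))) (ModuleCat.ofHom πn)
      (ModuleCat.hom_ext (LinearMap.ext fun x => Subtype.ext x.2.2))
  have hT : T.ShortExact :=
    { exact := (ShortComplex.moduleCat_exact_iff _).2 fun x hx =>
        ⟨⟨x.1, x.2, congrArg Subtype.val hx⟩, rfl⟩
      mono_f := (ModuleCat.mono_iff_injective _).2 (Submodule.inclusion_injective (inf_le_left : Ln ≤ Fn))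
      epi_g := (ModuleCat.epi_iff_surjective _).2 fun y => by
        obtain ⟨x, hx, hxy⟩ := (Submodule.map_smul'' (I ^ n) ⊤ π).ge
          (show (y : M) ∈ I ^ n • (⊤ : Submodule A (Fin r → A)).map π by
            rw [Submodule.map_top, LinearMap.range_eq_top.2 hπ]; exact y.2)
        exact ⟨⟨x, hx⟩, Subtype.ext hxy⟩ }
  let φ : T ⟶ S := ShortComplex.homMk
    (ModuleCat.ofHom (Submodule.inclusion (inf_le_right : Ln ≤ L)))
    (ModuleCat.ofHom Fn.subtype) (ModuleCat.ofHom (I ^ n • ⊤ : Submodule A M).subtype) rfl rfl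
  have hmem : ∀ x : Ln, Submodule.inclusion (inf_le_right : Ln ≤ L) x ∈
      (I ^ (n - c₁) • ⊤ : Submodule A L) := fun x => by
    have h := hc₁ (n - c₁) ⟨show (x : Fin r → A) ∈ I ^ (n - c₁ + c₁) • ⊤ by
      rw [Nat.sub_add_cancel (show c₁ ≤ n by omega)]; exact (Submodule.mem_inf.1 x.2).1, (Submodule.mem_inf.1 x.2).2⟩
    obtain ⟨y, hy, hyx⟩ := (Submodule.map_smul'' (I ^ (n - c₁)) ⊤ L.subtype).ge
      (by rwa [Submodule.map_subtype_top])
    rwa [← show y = Submodule.inclusion (inf_le_right : Ln ≤ L) x from Subtype.ext hyx]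
  let j : Ln →ₗ[A] ↥(I ^ (n - c₁) • ⊤ : Submodule A L) := (Submodule.inclusion inf_le_right).codRestrict _ hmem
  obtain ⟨e₀', he₀'⟩ := hc₂ (n - c₁) (by omega) e₀
  rw [show n - (c₁ + c₂) = n - c₁ - c₂ from (Nat.sub_sub _ _ _).symm]
  refine ⟨hT.singleδ ≫ ((DerivedCategory.singleFunctor (ModuleCat.{u} A) 0).map (ModuleCat.ofHom j) ≫ e₀')⟦(1 : ℤ)⟧' ≫
    (a _).inv, ?_⟩
  have hnat := (shiftFunctorAdd' (Dual.D A) (p : ℤ) 1 _ hcast).inv.naturality (incl I (n - c₁ - c₂) N)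
  have hc := (ShortComplex.ShortExact.singleTriangle.map hT hS φ).comm₃
  rw [Category.assoc, Category.assoc]
  erw [← hnat]
  rw [Functor.comp_map, ← Functor.map_comp_assoc, Category.assoc, he₀']
  exact glue (shiftFunctor (Dual.D A) (1 : ℤ)) hT.singleδ _ _ e₀ _
    ((DerivedCategory.singleFunctor (ModuleCat.{u} A) 0).map φ.τ₁) (Functor.map_comp _ _ _).symm hS.singleδ
    (incl I n M) hc e (he₁.trans (congrArg (hS.singleδ ≫ ·) ((Iso.eq_comp_inv _).2 he₀.symm)))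

theorem extAR (I : Ideal A) : ∀ p, ExtARProp I p
  | 0 => extAR_zero I
  | p + 1 => extAR_succ I p (extAR I p)

end Groth.Agent.CAlg4.DExt
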