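import Groth.Agent.LimTop61.FpCrit
import Groth.Agent.UH57.Colim

/-! Algebras as filtered colimits of finitely presented algebras. -/

set_option backward.isDefEq.respectTransparency false
set_option backward.defeqAttrib.useBackward true
universe u
open CategoryTheory CategoryTheory.Limits

namespace Groth.Agent.CAlg4.FPColim

theorem finiteType (R A : Type u) [CommRing R] [CommRing A] [Algebra R A] [Algebra.FiniteType R A] :
    ∃ (I : Type u) (_ : SmallCategory I) (_ : IsFiltered I) (D : I ⥤ Under (CommRingCat.of R))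
      (c : Cocone D) (_ : IsColimit c),
      (∀ i, (D.obj i).hom.hom.FinitePresentation) ∧
      (∀ (i j : I) (φ : i ⟶ j), Function.Surjective (D.map φ).right.hom) ∧
      Nonempty (c.pt ≅ Under.mk (CommRingCat.ofHom (algebraMap R A))) := by
  classical
  obtain ⟨n, π, hπ⟩ := Algebra.FiniteType.iff_quotient_mvPolynomial''.mp ‹Algebra.FiniteType R A›
  let P := MvPolynomial (Fin n) (CommRingCat.of R)
  let J := {K : Ideal P // K.FG ∧ K ≤ RingHom.ker π}
  have : IsDirected J (· ≤ ·) := ⟨fun S T => ⟨⟨S.1 ⊔ T.1, Submodule.FG.sup S.2.1 T.2.1, sup_le S.2.2 T.2.2⟩,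
    le_sup_left (a := S.1), le_sup_right (a := S.1)⟩⟩
  have : Nonempty J := ⟨⟨⊥, Submodule.fg_bot, bot_le⟩⟩
  let D := LimTop61.quotDiagram (A := CommRingCat.of R) (P := P) (RingHom.ker π)
  let c : Cocone D :=
    { pt := Under.mk (CommRingCat.ofHom (algebraMap R A))
      ι :=
        { app := fun K => Under.homMk
            (CommRingCat.ofHom (Ideal.Quotient.liftₐ K.1 π K.2.2).toRingHom)
            (by ext a; exact (Ideal.Quotient.liftₐ K.1 π K.2.2).commutes a)
          naturality := fun K L h => by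
            ext x
            obtain ⟨y, rfl⟩ := Ideal.Quotient.mk_surjective x
            rfl } }
  have hc : IsColimit c := LimTop61.isColimitOfElements _ c
    (fun x => by
      obtain ⟨y, hy⟩ := hπ x
      exact ⟨⟨⊥, Submodule.fg_bot, bot_le⟩, Ideal.Quotient.mk _ y, hy⟩)
    (fun K y z h => by
      obtain ⟨y, rfl⟩ := Ideal.Quotient.mk_surjective y
      obtain ⟨z, rfl⟩ := Ideal.Quotient.mk_surjective z
      have hyz : y - z ∈ RingHom.ker π := by
        rw [RingHom.mem_ker, map_sub, sub_eq_zero]; exact h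
      have hle : Ideal.span {y - z} ≤ RingHom.ker π := (Ideal.span_singleton_le_iff_mem _).2 hyz
      refine ⟨⟨K.1 ⊔ Ideal.span {y - z}, Submodule.FG.sup K.2.1 (Submodule.fg_span (Set.finite_singleton _)),
        sup_le K.2.2 hle⟩, homOfLE (le_sup_left (a := K.1)), ?_⟩
      exact Ideal.Quotient.eq.2 (Ideal.mem_sup_right (Ideal.mem_span_singleton_self _)))
  refine ⟨J, inferInstance, inferInstance, D, c, hc, fun K => ?_, fun i j φ => ?_, ⟨Iso.refl _⟩⟩
  · exact RingHom.finitePresentation_algebraMap.2 (Algebra.FinitePresentation.quotient K.2.1)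
  · intro x
    obtain ⟨y, rfl⟩ := Ideal.Quotient.mk_surjective x
    exact ⟨Ideal.Quotient.mk _ y, rfl⟩

open UH57 MvPolynomial in
theorem general (R A : Type u) [CommRing R] [CommRing A] [Algebra R A] :
    ∃ (I : Type u) (_ : SmallCategory I) (_ : IsFiltered I) (D : I ⥤ Under (CommRingCat.of R))
      (c : Cocone D) (_ : IsColimit c),
      (∀ i, (D.obj i).hom.hom.FinitePresentation) ∧
      Nonempty (c.pt ≅ Under.mk (CommRingCat.ofHom (algebraMap R A))) := by
  classical
  have : IsDirected (Idx R A) (· ≤ ·) := ⟨fun i j => ⟨i.sup j, Idx.le_sup_l _ _, Idx.le_sup_r _ _⟩⟩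
  have : Nonempty (Idx R A) := ⟨⟨∅, ∅, by simp⟩⟩
  let D : Idx R A ⥤ Under (CommRingCat.of R) :=
    { obj := fun i => CommRingCat.mkUnder (CommRingCat.of R) i.Q
      map := fun h => AlgHom.toUnder (R := CommRingCat.of R) (Idx.map (leOfHom h))
      map_id := fun i => CommRingCat.mkUnder_ext (R := CommRingCat.of R) fun q => by
        obtain ⟨q, rfl⟩ := Ideal.Quotient.mk_surjective q
        show Idx.map (leOfHom (𝟙 i)) (Ideal.Quotient.mk _ q) = Ideal.Quotient.mk _ q
        rw [Idx.map_mk, Idx.ren_id]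
      map_comp := fun f g => CommRingCat.mkUnder_ext (R := CommRingCat.of R) fun q => by
        obtain ⟨q, rfl⟩ := Ideal.Quotient.mk_surjective q
        show Idx.map (leOfHom (f ≫ g)) (Ideal.Quotient.mk _ q) =
          Idx.map (leOfHom g) (Idx.map (leOfHom f) (Ideal.Quotient.mk _ q))
        rw [Idx.map_mk, Idx.map_mk, Idx.map_mk, Idx.ren_ren] }
  let c : Cocone D :=
    { pt := CommRingCat.mkUnder (CommRingCat.of R) A
      ι :=
        { app := fun i => AlgHom.toUnder (R := CommRingCat.of R) i.ev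
          naturality := fun i j h => CommRingCat.mkUnder_ext (R := CommRingCat.of R) fun q =>
            Idx.ev_map (leOfHom h) q } }
  have hsur : ∀ x : A, ∃ (i : Idx R A) (q : i.Q), i.ev q = x := fun x =>
    ⟨⟨{x}, ∅, by simp⟩, Ideal.Quotient.mk _ (X ⟨x, Finset.mem_singleton_self x⟩),
      (Idx.ev_mk _ _).trans (aeval_X _ _)⟩
  have hc : IsColimit c := LimTop61.isColimitOfElements _ c
    (fun x => hsur x)
    (fun i y z h => by
      obtain ⟨p, rfl⟩ := Ideal.Quotient.mk_surjective y
      obtain ⟨p', rfl⟩ := Ideal.Quotient.mk_surjective z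
      have hS : ∀ r ∈ ({p - p'} : Finset (MvPolynomial i.E R)), aeval (fun e : i.E => (e : A)) r = 0 := by
        intro r hr
        rw [Finset.mem_singleton.1 hr, map_sub, sub_eq_zero]
        exact h
      refine ⟨i.enlarge i.E subset_rfl {p - p'} hS, homOfLE (i.le_enlarge _ _ _ _), ?_⟩
      have := i.enlarge_eq i.E subset_rfl {p - p'} hS p p' (Finset.mem_singleton_self _)
      show Idx.map (i.le_enlarge _ _ _ _) (Ideal.Quotient.mk _ p) =
        Idx.map (i.le_enlarge _ _ _ _) (Ideal.Quotient.mk _ p')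
      rw [Idx.map_mk, Idx.map_mk]
      exact ((congrArg _ (Idx.ren_id (E := i.E) subset_rfl p)).trans this).trans
        (congrArg _ (Idx.ren_id (E := i.E) subset_rfl p')).symm)
  exact ⟨Idx R A, inferInstance, inferInstance, D, c, hc,
    fun i => RingHom.finitePresentation_algebraMap.2 (Algebra.FinitePresentation.quotient ⟨i.R, rfl⟩),
    ⟨Iso.refl _⟩⟩

end Groth.Agent.CAlg4.FPColim
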