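import Mathlib

/-! Descending finitely presented modules along a localization. -/

universe u

namespace Groth.Agent.CAlg4.FPDescend

theorem exists_rel {R : Type u} [CommRing R] (S : Submonoid R) (L : Type u) [CommRing L] [Algebra R L]
    [IsLocalization S L] (N : Type u) [AddCommGroup N] [Module L N] [Module.FinitePresentation L N] {n : ℕ}
    (m : Fin n → N) (hm : Submodule.span L (Set.range m) = ⊤) :
    ∃ (k : ℕ) (r : Fin k → Fin n → R), (∀ i, ∑ j, algebraMap R L (r i j) • m j = 0) ∧
      ∀ v : Fin n → R, ∑ j, algebraMap R L (v j) • m j = 0 →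
        ∃ s ∈ S, s • v ∈ Submodule.span R (Set.range r) := by
  classical
  let p : (Fin n → L) →ₗ[L] N := Fintype.linearCombination L m
  have hp : Function.Surjective p := by
    rw [← LinearMap.range_eq_top, Fintype.range_linearCombination, hm]
  obtain ⟨k, c, hc⟩ := Submodule.fg_iff_exists_fin_generating_family.1 (Module.FinitePresentation.fg_ker p hp)
  have hint : ∀ i, ∃ (s : S) (r : Fin n → R), ∀ j, algebraMap R L (r j) = algebraMap R L s * c i j := by
    intro i
    obtain ⟨b, hb⟩ := IsLocalization.exist_integer_multiples S Finset.univ (c i)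
    choose r hr using fun j => hb j (Finset.mem_univ j)
    exact ⟨b, r, fun j => by rw [hr j, Algebra.smul_def]⟩
  choose b r hr using hint
  have hvec : ∀ i, (fun j => algebraMap R L (r i j)) = algebraMap R L (b i) • c i := fun i => funext (hr i)
  refine ⟨k, r, fun i => ?_, fun v hv => ?_⟩
  · have : p (algebraMap R L (b i) • c i) = 0 := by
      rw [map_smul, LinearMap.mem_ker.1 (hc.le (Submodule.subset_span ⟨i, rfl⟩)), smul_zero]
    rw [← hvec i, Fintype.linearCombination_apply] at this
    exact this
  · have h1 : (fun j => algebraMap R L (v j)) ∈ Submodule.span L (Set.range c) := by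
      rw [hc, LinearMap.mem_ker, Fintype.linearCombination_apply]
      exact hv
    obtain ⟨a, ha⟩ := (Submodule.mem_span_range_iff_exists_fun L).1 h1
    -- write the coefficients with respect to `r`
    choose u hu using fun i => (IsLocalization.map_units L (b i)).exists_left_inv
    obtain ⟨d, hd⟩ := IsLocalization.exist_integer_multiples S Finset.univ (fun i => a i * u i)
    choose e he using fun i => hd i (Finset.mem_univ i)
    have h2 : ∀ j, algebraMap R L ((d : R) * v j) = algebraMap R L (∑ i, e i * r i j) := by
      intro j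
      rw [map_mul, map_sum, ← congrFun ha j, Finset.sum_apply, Finset.mul_sum]
      refine Finset.sum_congr rfl fun i _ => ?_
      rw [map_mul, he i, hr, Pi.smul_apply, smul_eq_mul, Algebra.smul_def]
      linear_combination -(algebraMap R L (d : R) * a i * c i j) * hu i
    choose t ht using fun j => (IsLocalization.eq_iff_exists S L).1 (h2 j)
    let T : S := ∏ j, t j
    have hT : ∀ j, (T : R) * ((d : R) * v j) = (T : R) * ∑ i, e i * r i j := fun j => by
      obtain ⟨q, hq⟩ := Finset.dvd_prod_of_mem t (Finset.mem_univ j)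
      rw [show T = t j * q from hq, Submonoid.coe_mul, mul_comm (t j : R), mul_assoc, mul_assoc, ht j]
    refine ⟨T * d, S.mul_mem T.2 d.2, ?_⟩
    have : ((T : R) * d) • v = ∑ i, ((T : R) * e i) • r i := funext fun j => by
      simp only [Pi.smul_apply, smul_eq_mul, Finset.sum_apply, mul_assoc, hT j, Finset.mul_sum]
    rw [this]
    exact sum_mem fun i _ => Submodule.smul_mem _ _ (Submodule.subset_span ⟨i, rfl⟩)

theorem descend (R : Type u) [CommRing R] (S : Submonoid R) (M : Type u) [AddCommGroup M] [Module R M]
    [Module.FinitePresentation (Localization S) (LocalizedModule S M)] :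
    ∃ (M' : Type u) (_ : AddCommGroup M') (_ : Module R M') (φ : M' →ₗ[R] M),
      Module.FinitePresentation R M' ∧ Function.Bijective (LocalizedModule.map S φ) := by
  classical
  let L := Localization S
  let f := LocalizedModule.mkLinearMap S M
  obtain ⟨n, g, hg⟩ := Module.Finite.exists_fin (R := L) (M := LocalizedModule S M)
  choose x hx using fun j => IsLocalizedModule.surj S f (g j)
  let m : Fin n → M := fun j => (x j).1
  have hm : Submodule.span L (Set.range (f ∘ m)) = ⊤ := by
    rw [eq_top_iff, ← hg, Submodule.span_le]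
    rintro _ ⟨j, rfl⟩
    obtain ⟨u, hu⟩ := (IsLocalization.map_units L (x j).2).exists_left_inv
    have : g j = u • f (m j) := by
      rw [← hx j, Submonoid.smul_def, ← algebraMap_smul L ((x j).2 : R) (g j), smul_smul, hu, one_smul]
    rw [this]
    exact Submodule.smul_mem _ _ (Submodule.subset_span ⟨j, rfl⟩)
  obtain ⟨k, r, hr, hker⟩ := exists_rel S L (LocalizedModule S M) (f ∘ m) hm
  let p : (Fin n → R) →ₗ[R] M := Fintype.linearCombination R m
  have hfp : ∀ v, f (p v) = ∑ j, algebraMap R L (v j) • f (m j) := fun v => by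
    simp [p, Fintype.linearCombination_apply, map_sum]
  have hkill : ∀ i, ∃ t : S, p ((t : R) • r i) = 0 := fun i => by
    obtain ⟨t, ht⟩ := (IsLocalizedModule.eq_zero_iff S f).1 ((hfp (r i)).trans (hr i))
    exact ⟨t, by rw [map_smul]; exact ht⟩
  choose t ht using hkill
  let K : Submodule R (Fin n → R) := Submodule.span R (Set.range fun i => (t i : R) • r i)
  have hK : K ≤ LinearMap.ker p := Submodule.span_le.2 (by rintro _ ⟨i, rfl⟩; exact ht i)
  refine ⟨(Fin n → R) ⧸ K, inferInstance, inferInstance, K.liftQ p hK,
    Module.finitePresentation_of_surjective K.mkQ K.mkQ_surjective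
      (by rw [Submodule.ker_mkQ]; exact Submodule.fg_span (Set.finite_range _)), ?_, ?_⟩
  · rw [injective_iff_map_eq_zero]
    intro z hz
    induction z using LocalizedModule.induction_on with
    | h a s =>
      obtain ⟨v, rfl⟩ := K.mkQ_surjective a
      rw [LocalizedModule.map_mk] at hz
      obtain ⟨w, hw⟩ := (IsLocalizedModule.eq_zero_iff S f).1
        (show f (p v) = 0 from by
          rw [← LocalizedModule.zero_mk s, LocalizedModule.mk_eq] at hz
          obtain ⟨u, hu⟩ := hz
          simp only [smul_zero, Submodule.mkQ_apply, Submodule.liftQ_apply, Submonoid.smul_def, smul_smul] at hu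
          exact (IsLocalizedModule.eq_zero_iff S f).2 ⟨u * s, by
            rw [Submonoid.smul_def, Submonoid.coe_mul]; exact hu⟩)
      have h0 : f (p ((w : R) • v)) = 0 := by rw [map_smul]; rw [show (w : R) • p v = 0 from hw, map_zero]
      obtain ⟨u, hu, humem⟩ := hker _ ((hfp _).symm.trans h0)
      have hall : (∏ i, (t i : R)) • (u • ((w : R) • v)) ∈ K := by
        obtain ⟨c, hc⟩ := (Submodule.mem_span_range_iff_exists_fun R).1 humem
        rw [← hc, Finset.smul_sum]
        refine sum_mem fun i _ => ?_
        obtain ⟨q, hq⟩ := Finset.dvd_prod_of_mem (fun i => (t i : R)) (Finset.mem_univ i)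
        rw [hq, smul_smul, show (t i : R) * q * c i = (q * c i) * (t i : R) by ring, ← smul_smul]
        exact K.smul_mem _ (Submodule.subset_span ⟨i, rfl⟩)
      rw [← LocalizedModule.zero_mk s, LocalizedModule.mk_eq]
      refine ⟨(∏ i, t i) * ⟨u, hu⟩ * w, ?_⟩
      simp only [smul_zero, Submonoid.smul_def, Submonoid.coe_mul, Submonoid.coe_finsetProd]
      rw [← map_smul, ← map_smul, Submodule.mkQ_apply, Submodule.Quotient.mk_eq_zero]
      convert K.smul_mem (s : R) hall using 1
      simp only [smul_smul]
      congr 1
      ring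
  · intro z
    induction z using LocalizedModule.induction_on with
    | h y s =>
      have hy : f y ∈ Submodule.span L (Set.range (f ∘ m)) := hm ▸ Submodule.mem_top
      obtain ⟨c, hc⟩ := (Submodule.mem_span_range_iff_exists_fun L).1 hy
      obtain ⟨d, hd⟩ := IsLocalization.exist_integer_multiples S Finset.univ c
      choose e he using fun j => hd j (Finset.mem_univ j)
      have h1 : f ((d : R) • y) = f (p e) := by
        rw [hfp, map_smul, ← hc, Finset.smul_sum]
        exact Finset.sum_congr rfl fun j _ => by rw [he, smul_assoc]; rfl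
      obtain ⟨w, hw⟩ := (IsLocalizedModule.eq_iff_exists S f).1 h1
      refine ⟨LocalizedModule.mk (K.mkQ ((w : R) • e)) (w * d * s), ?_⟩
      rw [LocalizedModule.map_mk, LocalizedModule.mk_eq]
      refine ⟨1, ?_⟩
      simp only [one_smul, Submodule.mkQ_apply, Submodule.liftQ_apply, map_smul]
      rw [show (w : R) • p e = (w : R) • (d : R) • y from hw.symm]
      simp only [Submonoid.smul_def, Submonoid.coe_mul, smul_smul]
      congr 1
      ring

theorem lift_quotient (R : Type u) [CommRing R] (I : Ideal R)
    (S : Submonoid R) (M' : Type u) [AddCommGroup M']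
    [Module (Localization (S.map (Ideal.Quotient.mk I))) M']
    [Module.FinitePresentation (Localization (S.map (Ideal.Quotient.mk I))) M'] :
    ∃ (M : Type u) (_ : AddCommGroup M) (_ : Module R M), Module.FinitePresentation R M ∧
      Nonempty (LocalizedModule (S.map (Ideal.Quotient.mk I)) (M ⧸ (I • ⊤ : Submodule R M))
        ≃ₗ[Localization (S.map (Ideal.Quotient.mk I))] M') := by
  classical
  let B := R ⧸ I
  let S' := S.map (Ideal.Quotient.mk I)
  let L := Localization S'
  let _ : Module B M' := Module.compHom M' (algebraMap B L)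
  let _ : Module R M' := Module.compHom M' (algebraMap R B)
  have : IsScalarTower B L M' := IsScalarTower.of_algebraMap_smul fun _ _ => rfl
  have : IsScalarTower R B M' := IsScalarTower.of_algebraMap_smul fun _ _ => rfl
  obtain ⟨n, m, hm⟩ := Module.Finite.exists_fin (R := L) (M := M')
  obtain ⟨k, r, hr, hker⟩ := exists_rel S' L M' m hm
  choose r' hr' using fun i j => Ideal.Quotient.mk_surjective (r i j)
  let K : Submodule R (Fin n → R) := Submodule.span R (Set.range r')
  let p : (Fin n → R) →ₗ[R] M' := Fintype.linearCombination R m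
  have hp : ∀ v, p v = ∑ j, algebraMap B L (Ideal.Quotient.mk I (v j)) • m j := fun v => rfl
  have hK : K ≤ LinearMap.ker p := Submodule.span_le.2 (by
    rintro _ ⟨i, rfl⟩
    rw [SetLike.mem_coe, LinearMap.mem_ker, hp]
    simpa only [hr'] using hr i)
  let M := (Fin n → R) ⧸ K
  have hI : (I • ⊤ : Submodule R M) ≤ LinearMap.ker (K.liftQ p hK) := Submodule.smul_le.2 fun a ha x _ => by
    rw [LinearMap.mem_ker, map_smul, ← IsScalarTower.algebraMap_smul B a, Ideal.Quotient.algebraMap_eq,
      Ideal.Quotient.eq_zero_iff_mem.2 ha, zero_smul]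
  let θ₀ := (I • ⊤ : Submodule R M).liftQ (K.liftQ p hK) hI
  let θ : (M ⧸ (I • ⊤ : Submodule R M)) →ₗ[B] M' := θ₀.extendScalarsOfSurjective Ideal.Quotient.mk_surjective
  have hθ : ∀ v, θ (Submodule.Quotient.mk (K.mkQ v)) = p v := fun v => rfl
  have hloc : IsLocalizedModule S' θ := by
    refine ⟨?_, ?_, ?_⟩
    · intro s
      rw [Module.End.isUnit_iff]
      have hs := IsLocalization.map_units L s
      exact hs.smul_bijective
    · intro y
      have hy : y ∈ Submodule.span L (Set.range m) := hm ▸ Submodule.mem_top
      obtain ⟨c, hc⟩ := (Submodule.mem_span_range_iff_exists_fun L).1 hy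
      obtain ⟨d, hd⟩ := IsLocalization.exist_integer_multiples S' Finset.univ c
      choose e he using fun j => hd j (Finset.mem_univ j)
      choose e' he' using fun j => Ideal.Quotient.mk_surjective (e j)
      refine ⟨(Submodule.Quotient.mk (K.mkQ e'), d), ?_⟩
      rw [hθ, hp]
      simp only [he']
      rw [Submonoid.smul_def, ← hc, Finset.smul_sum]
      exact Finset.sum_congr rfl fun j _ => by rw [he j, smul_assoc]
    · intro x x' hxx
      obtain ⟨z, hz⟩ := Submodule.Quotient.mk_surjective _ (x - x')
      obtain ⟨v, rfl⟩ := K.mkQ_surjective z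
      have hv : p v = 0 := by rw [← hθ, hz, map_sub, hxx, sub_self]
      obtain ⟨s, hs, hmem⟩ := hker (fun j => Ideal.Quotient.mk I (v j)) ((hp v).symm.trans hv)
      obtain ⟨s', hs', rfl⟩ := hs
      obtain ⟨c, hc⟩ := (Submodule.mem_span_range_iff_exists_fun B).1 hmem
      choose c' hc' using fun i => Ideal.Quotient.mk_surjective (c i)
      refine ⟨⟨Ideal.Quotient.mk I s', s', hs', rfl⟩, ?_⟩
      rw [← sub_eq_zero, ← smul_sub, ← hz, Submonoid.smul_def]
      show (algebraMap R B s') • Submodule.Quotient.mk (K.mkQ v) = 0
      rw [algebraMap_smul, ← Submodule.Quotient.mk_smul, ← map_smul, Submodule.Quotient.mk_eq_zero]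
      have hdiff : s' • v - ∑ i, c' i • r' i ∈ (I • ⊤ : Submodule R (Fin n → R)) := by
        refine pi_eq_sum_univ (s' • v - ∑ i, c' i • r' i) ▸ sum_mem fun j _ =>
          Submodule.smul_mem_smul ?_ Submodule.mem_top
        have := congrFun hc j
        simp only [Finset.sum_apply, Pi.smul_apply, smul_eq_mul, ← hc', ← hr'] at this
        rw [← Ideal.Quotient.eq_zero_iff_mem]
        simp only [Pi.sub_apply, Pi.smul_apply, smul_eq_mul, Finset.sum_apply, map_sub, map_mul, map_sum, this, sub_self]
      have h2 := Submodule.mem_map_of_mem (f := K.mkQ) hdiff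
      rw [Submodule.map_smul'', Submodule.map_top, Submodule.range_mkQ, map_sub] at h2
      have h3 : K.mkQ (∑ i, c' i • r' i) = 0 := by
        rw [Submodule.mkQ_apply, Submodule.Quotient.mk_eq_zero]
        exact sum_mem fun i _ => K.smul_mem _ (Submodule.subset_span ⟨i, rfl⟩)
      rwa [h3, sub_zero] at h2
  refine ⟨M, inferInstance, inferInstance, Module.finitePresentation_of_surjective K.mkQ K.mkQ_surjective
    (by rw [Submodule.ker_mkQ]; exact Submodule.fg_span (Set.finite_range _)), ?_⟩
  exact ⟨(IsLocalizedModule.iso S' θ).extendScalarsOfIsLocalization S' L⟩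

end Groth.Agent.CAlg4.FPDescend
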