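import Mathlib.RingTheory.FinitePresentation
import Mathlib.RingTheory.Flat.Basic
import Mathlib.RingTheory.Nilpotent.Lemmas
import Mathlib.RingTheory.Noetherian.Nilpotent
import Mathlib.LinearAlgebra.TensorProduct.RightExactness
import Mathlib.RingTheory.Ideal.Maps

set_option autoImplicit false
open TensorProduct

namespace Groth.Agent.CAlg4.NilSurj

universe u

variable {R S S' : Type u} [CommRing R] [CommRing S] [CommRing S'] [Algebra R S] [Algebra R S']

omit [CommRing S] [Algebra R S] in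
lemma exists_fg_le {I : Ideal R} {y : S'} (hy : y ∈ I.map (algebraMap R S')) :
    ∃ I₀ : Ideal R, I₀.FG ∧ I₀ ≤ I ∧ y ∈ I₀.map (algebraMap R S') := by
  induction hy using Submodule.span_induction with
  | mem y hy =>
    obtain ⟨a, ha, rfl⟩ := hy
    exact ⟨Ideal.span {a}, Submodule.fg_span_singleton a, (Ideal.span_singleton_le_iff_mem _).mpr ha,
      Ideal.mem_map_of_mem _ (Ideal.mem_span_singleton_self a)⟩
  | zero => exact ⟨⊥, Submodule.fg_bot, bot_le, zero_mem _⟩
  | add a b _ _ ha hb =>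
    obtain ⟨A, hA, hA', ha⟩ := ha
    obtain ⟨B, hB, hB', hb⟩ := hb
    exact ⟨A ⊔ B, Submodule.FG.sup hA hB, sup_le hA' hB',
      add_mem (Ideal.map_mono le_sup_left ha) (Ideal.map_mono le_sup_right hb)⟩
  | smul c a _ ha =>
    obtain ⟨A, hA, hA', ha⟩ := ha
    exact ⟨A, hA, hA', Ideal.mul_mem_left _ c ha⟩

lemma isNilpotent_fg {I I₀ : Ideal R} (hI : ∀ x ∈ I, IsNilpotent x) (h : I₀.FG) (hle : I₀ ≤ I) :
    ∃ n, I₀ ^ n = ⊥ := by
  obtain ⟨n, hn⟩ := (Ideal.FG.isNilpotent_iff_le_nilradical h).mpr fun x hx => hI x (hle hx)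
  exact ⟨n, hn⟩

theorem surjective_of_nil [Algebra.FiniteType R S'] (I : Ideal R) (hI : ∀ x ∈ I, IsNilpotent x)
    (f : S →ₐ[R] S') (hf : ∀ y, ∃ s, y - f s ∈ I.map (algebraMap R S')) :
    Function.Surjective f := by
  classical
  obtain ⟨gens, hgens⟩ := Algebra.FiniteType.out (R := R) (A := S')
  choose σ hσ using hf
  choose I₁ hfg hle hmem using fun y => exists_fg_le (hσ y)
  obtain ⟨n, hn⟩ := isNilpotent_fg hI
    (Submodule.fg_finset_sup gens I₁ fun y _ => hfg y) (Finset.sup_le fun y _ => hle y)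
  set I₀ := gens.sup I₁
  set P : Ideal S' := I₀.map (algebraMap R S')
  set T := LinearMap.range f.toLinearMap
  let U : Subalgebra R S' :=
    { carrier := {y | ∃ s, y - f s ∈ P}
      mul_mem' := fun {a b} ⟨s, hs⟩ ⟨t, ht⟩ => ⟨s * t, by
        rw [map_mul, show a * b - f s * f t = a * (b - f t) + (a - f s) * f t by ring]
        exact add_mem (P.mul_mem_left a ht) (P.mul_mem_right _ hs)⟩
      add_mem' := fun {a b} ⟨s, hs⟩ ⟨t, ht⟩ => ⟨s + t, by
        rw [map_add, show a + b - (f s + f t) = (a - f s) + (b - f t) by ring]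
        exact add_mem hs ht⟩
      algebraMap_mem' := fun r => ⟨algebraMap R S r, by rw [AlgHom.commutes, sub_self]; exact zero_mem _⟩ }
  have hU : U = ⊤ := by
    rw [eq_top_iff, ← hgens, Algebra.adjoin_le_iff]
    intro y hy
    exact ⟨σ y, Ideal.map_mono (Finset.le_sup hy) (hmem y)⟩
  have hstep : (⊤ : Submodule R S') ≤ T ⊔ I₀ • ⊤ := by
    intro y _
    obtain ⟨s, hs⟩ := (hU ▸ Algebra.mem_top : y ∈ U)
    refine Submodule.mem_sup.mpr ⟨f s, ⟨s, rfl⟩, y - f s, ?_, add_sub_cancel _ _⟩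
    rw [Ideal.smul_top_eq_map]
    exact hs
  have hk : ∀ k, (⊤ : Submodule R S') ≤ T ⊔ I₀ ^ k • ⊤ := by
    intro k
    induction k with
    | zero => rw [pow_zero, Ideal.one_eq_top, Submodule.top_smul]; exact le_sup_right
    | succ k ih =>
      refine ih.trans (sup_le le_sup_left ?_)
      calc I₀ ^ k • (⊤ : Submodule R S') ≤ I₀ ^ k • (T ⊔ I₀ • ⊤) := Submodule.smul_mono le_rfl hstep
        _ = I₀ ^ k • T ⊔ I₀ ^ (k + 1) • ⊤ := by rw [Submodule.smul_sup, pow_succ, mul_smul]
        _ ≤ T ⊔ I₀ ^ (k + 1) • ⊤ := sup_le_sup_right Submodule.smul_le_right _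
  intro y
  have := hk n (Submodule.mem_top : y ∈ ⊤)
  rw [hn, Submodule.bot_smul, sup_bot_eq] at this
  exact this

lemma inf_smul_le {M Q : Type u} [AddCommGroup M] [Module R M] [AddCommGroup Q] [Module R Q]
    [Module.Flat R Q] (I : Ideal R) (f : M →ₗ[R] Q) (hf : Function.Surjective f) :
    (I • ⊤ : Submodule R M) ⊓ LinearMap.ker f ≤ I • LinearMap.ker f := by
  rintro y ⟨hyI, hyk⟩
  let μ : ∀ (X : Type u) [AddCommGroup X] [Module R X], I ⊗[R] X →ₗ[R] X := fun X _ _ =>
    (TensorProduct.lid R X).toLinearMap ∘ₗ LinearMap.rTensor X I.subtype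
  have hμ : ∀ (X : Type u) [AddCommGroup X] [Module R X] (a : I) (x : X), μ X (a ⊗ₜ x) = (a : R) • x :=
    fun X _ _ a x => by simp [μ]
  have hrange : y ∈ LinearMap.range (μ M) := by
    refine Submodule.smul_induction_on hyI (fun r hr m _ => ⟨⟨r, hr⟩ ⊗ₜ m, hμ M _ _⟩)
      (fun a b ha hb => add_mem ha hb)
  obtain ⟨t, rfl⟩ := hrange
  have hcomm : ∀ {X Y : Type u} [AddCommGroup X] [Module R X] [AddCommGroup Y] [Module R Y]
      (g : X →ₗ[R] Y) (t : I ⊗[R] X), μ Y (LinearMap.lTensor I g t) = g (μ X t) := by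
    intro X Y _ _ _ _ g t
    induction t with
    | zero => simp
    | tmul a x => simp [hμ]
    | add a b ha hb => simp [ha, hb]
  have h0 : LinearMap.lTensor I f t = 0 := by
    have hinj : Function.Injective (μ Q) := (TensorProduct.lid R Q).injective.comp
      (Module.Flat.rTensor_preserves_injective_linearMap I.subtype Subtype.val_injective)
    exact hinj (by rw [hcomm, LinearMap.mem_ker.mp hyk, map_zero])
  obtain ⟨t', rfl⟩ := (lTensor_exact I (LinearMap.exact_subtype_ker_map f) hf t).mp h0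
  rw [hcomm]
  clear h0 hyI hyk
  induction t' with
  | zero => simp
  | tmul a x =>
    rw [hμ, map_smul]
    exact Submodule.smul_mem_smul a.2 x.2
  | add a b ha hb => rw [map_add, map_add]; exact add_mem ha hb

theorem injective_of_nil [Algebra.FiniteType R S] [Algebra.FinitePresentation R S'] [Module.Flat R S']
    (I : Ideal R) (hI : ∀ x ∈ I, IsNilpotent x) (f : S →ₐ[R] S') (hf : Function.Surjective f)
    (hker : ∀ s : S, f s ∈ I.map (algebraMap R S') → s ∈ I.map (algebraMap R S)) :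
    Function.Injective f := by
  classical
  obtain ⟨k, π, hπ⟩ := Algebra.FiniteType.iff_quotient_mvPolynomial''.mp ‹Algebra.FiniteType R S›
  set J := RingHom.ker f.toRingHom
  have hJ : J.FG := by
    have h := Ideal.FG.map (Algebra.FinitePresentation.ker_fG_of_surjective (f.comp π) (hf.comp hπ))
      π.toRingHom
    convert h using 1
    exact (Ideal.map_comap_of_surjective π.toRingHom hπ J).symm
  have hsub : ∀ s ∈ J, s ∈ I • (J.restrictScalars R) := fun s hs => by
    have hs' : f s = 0 := hs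
    exact inf_smul_le I f.toLinearMap hf ⟨by
      rw [Ideal.smul_top_eq_map]; exact hker s (by rw [hs']; exact zero_mem _), hs⟩
  have hex : ∀ s ∈ J, ∃ I₀ : Ideal R, I₀.FG ∧ I₀ ≤ I ∧ s ∈ I₀ • (J.restrictScalars R) := fun s hs => by
    refine Submodule.smul_induction_on (hsub s hs) (fun r hr m hm => ⟨Ideal.span {r},
      Submodule.fg_span_singleton r, (Ideal.span_singleton_le_iff_mem _).mpr hr,
      Submodule.smul_mem_smul (Ideal.mem_span_singleton_self r) hm⟩) ?_
    rintro a b ⟨A, hA, hA', ha⟩ ⟨B, hB, hB', hb⟩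
    exact ⟨A ⊔ B, Submodule.FG.sup hA hB, sup_le hA' hB', add_mem (Submodule.smul_mono_left le_sup_left ha)
      (Submodule.smul_mono_left le_sup_right hb)⟩
  choose! I₁ hfg hle hmem using hex
  obtain ⟨gs, hgs⟩ := hJ
  have hgJ : ∀ g ∈ gs, g ∈ J := fun g hg => hgs ▸ Submodule.subset_span hg
  set I₀ := gs.sup I₁
  obtain ⟨n, hn⟩ := isNilpotent_fg hI (Submodule.fg_finset_sup gs I₁ fun g hg => hfg g (hgJ g hg))
    (Finset.sup_le fun g hg => hle g (hgJ g hg))
  set P : Ideal S := I₀.map (algebraMap R S)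
  have hPJ : J ≤ P * J := by
    conv_lhs => rw [← hgs]
    rw [Submodule.span_le]
    intro g hg
    refine Submodule.smul_induction_on
      (Submodule.smul_mono_left (Finset.le_sup hg) (hmem g (hgJ g hg)) : g ∈ I₀ • J.restrictScalars R)
      (fun r hr m hm => ?_) (fun a b ha hb => add_mem ha hb)
    rw [Algebra.smul_def]
    exact Ideal.mul_mem_mul (Ideal.mem_map_of_mem _ hr) hm
  have hall : ∀ m, J ≤ P ^ m * J := by
    intro m
    induction m with
    | zero => simp
    | succ m ih =>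
      rw [pow_succ, mul_assoc]
      exact ih.trans (Ideal.mul_mono_right hPJ)
  rw [injective_iff_map_eq_zero]
  intro s hs
  have := hall n (show s ∈ J from hs)
  rwa [← Ideal.map_pow, hn, Ideal.map_bot, Ideal.bot_mul, Submodule.mem_bot] at this

end Groth.Agent.CAlg4.NilSurj
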