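import Groth.Agent.FlatCrit65.Injective
import Groth.Agent.CAlg4.NilSurj
import Groth.Agent.S0387
import Groth.Prelude.Def_EGA4b
import Mathlib

/-! The locus where a complex of free modules is exact in the fibres is open. -/

universe u
open IsLocalRing

namespace Groth.Agent.CAlg4.FibreExact

section Pi

variable {L : Type u} [CommRing L] (J : Ideal L) {n : ℕ}

theorem mem_smul_top_iff (v : Fin n → L) : v ∈ J • (⊤ : Submodule L (Fin n → L)) ↔ ∀ i, v i ∈ J := by
  classical
  refine ⟨fun h i => ?_, fun h => ?_⟩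
  · refine Submodule.smul_induction_on h (fun r hr w _ => ?_) fun a b ha hb => add_mem ha hb
    exact Ideal.mul_mem_right _ _ hr
  · rw [pi_eq_sum_univ v]
    exact Submodule.sum_mem _ fun i _ => Submodule.smul_mem_smul (h i) Submodule.mem_top

end Pi

theorem local_iff {A L : Type u} [CommRing A] [CommRing L] [Algebra A L] [IsNoetherianRing L] [Module.Flat A L]
    (m : Ideal A) [m.IsMaximal] (hm : m.map (algebraMap A L) ≤ Ideal.jacobson ⊥) {a b : ℕ}
    (f : (Fin a → L) →ₗ[L] (Fin b → L)) (K : Submodule L (Fin a → L)) (hK : K ≤ LinearMap.ker f) :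
    (∀ x, (∀ i, f x i ∈ m.map (algebraMap A L)) → x ∈ K ⊔ m.map (algebraMap A L) • ⊤) ↔
      LinearMap.ker f ≤ K ∧ Module.Flat A ((Fin b → L) ⧸ LinearMap.range f) := by
  set J := m.map (algebraMap A L)
  have hres : ∀ (M : Type u) [AddCommGroup M] [Module L M] [Module A M] [IsScalarTower A L M] (v : M),
      v ∈ m • (⊤ : Submodule A M) ↔ v ∈ J • (⊤ : Submodule L M) := by
    intro M _ _ _ _ v
    rw [← Submodule.restrictScalars_mem A (J • ⊤ : Submodule L M),
      Ideal.smul_restrictScalars m (⊤ : Submodule L M), Submodule.restrictScalars_top]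
  have : Module.Flat A (Fin b → L) := Module.Flat.of_linearEquiv (DFinsupp.linearEquivFunOnFintype (R := A) (M := fun _ : Fin b => L)).symm
  let g : ((Fin a → L) ⧸ K) →ₗ[A] (Fin b → L) := (K.liftQ f hK).restrictScalars A
  have hg : LinearMap.range g = (LinearMap.range f).restrictScalars A := by
    rw [LinearMap.range_restrictScalars, Submodule.range_liftQ]
  let e : ((Fin b → L) ⧸ LinearMap.range g) ≃ₗ[A] ((Fin b → L) ⧸ LinearMap.range f) :=
    (Submodule.quotEquivOfEq _ _ hg).trans (Submodule.Quotient.restrictScalarsEquiv A (LinearMap.range f))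
  constructor
  · intro h
    have hinj : Function.Injective (g.lTensor (A ⧸ m)) := by
      rw [injective_iff_map_eq_zero]
      intro t ht
      obtain ⟨t, rfl⟩ : ∃ n, (1 : A ⧸ m) ⊗ₜ[A] n = t := TensorProduct.mk_surjective A _ (A ⧸ m) Ideal.Quotient.mk_surjective t
      rw [LinearMap.lTensor_tmul, FlatCrit65.one_tmul_eq_zero_iff, hres] at ht
      rw [FlatCrit65.one_tmul_eq_zero_iff, hres]
      obtain ⟨x, rfl⟩ := Submodule.Quotient.mk_surjective _ t
      have := h x ((mem_smul_top_iff J _).1 ht)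
      obtain ⟨k, hk, z, hz, rfl⟩ := Submodule.mem_sup.1 this
      rw [Submodule.Quotient.mk_add, (Submodule.Quotient.mk_eq_zero K).2 hk, zero_add]
      have : K.mkQ z ∈ (J • ⊤ : Submodule L (Fin a → L)).map K.mkQ := Submodule.mem_map_of_mem hz
      rw [Submodule.map_smul'', Submodule.map_top, Submodule.range_mkQ] at this
      exact this
    obtain ⟨h1, h2⟩ := FlatCrit65.injective_and_flat_quotient (S := L) m hm g hinj
    refine ⟨fun x hx => ?_, Module.Flat.of_linearEquiv e.symm⟩
    refine (Submodule.Quotient.mk_eq_zero K).1 (h1 ?_)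
    rw [map_zero]
    exact LinearMap.mem_ker.1 hx
  · rintro ⟨hker, hflat⟩ x hx
    have : Module.Flat A ((Fin b → L) ⧸ LinearMap.range g) := Module.Flat.of_linearEquiv e
    have h := NilSurj.inf_smul_le m (LinearMap.range g).mkQ (Submodule.mkQ_surjective _)
      (show f x ∈ _ from ⟨(hres _ _).2 ((mem_smul_top_iff J _).2 hx), by
        rw [SetLike.mem_coe, Submodule.ker_mkQ, hg]; exact ⟨x, rfl⟩⟩)
    rw [Submodule.ker_mkQ, hg] at h
    obtain ⟨y, hy, hfy⟩ : ∃ y ∈ (J • ⊤ : Submodule L (Fin a → L)), f y = f x := by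
      refine Submodule.smul_induction_on h (fun r hr w hw => ?_) ?_
      · obtain ⟨y, rfl⟩ := hw
        exact ⟨algebraMap A L r • y, Submodule.smul_mem_smul (Ideal.mem_map_of_mem _ hr) Submodule.mem_top, by
          rw [map_smul, algebraMap_smul]⟩
      · rintro _ _ ⟨y₁, h₁, rfl⟩ ⟨y₂, h₂, rfl⟩
        exact ⟨y₁ + y₂, add_mem h₁ h₂, map_add _ _ _⟩
    rw [← sub_add_cancel x y]
    exact Submodule.add_mem_sup (hker (by rw [LinearMap.mem_ker, map_sub, hfy, sub_self])) hy

theorem comp_mulVec {T U : Type u} [CommRing T] [CommRing U] (c : T →+* U) {a b : ℕ} (M : Matrix (Fin b) (Fin a) T)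
    (v : Fin a → T) : (c ∘ M.mulVecLin v) = (M.map c).mulVecLin (c ∘ v) := by
  funext i
  simp [RingHom.map_mulVec]

section Matrices

variable {L B : Type u} [CommRing L] [CommRing B] (π : L →+* B) {a b c : ℕ}
  (M : Matrix (Fin b) (Fin a) L)

theorem exact_iff (hπ : Function.Surjective π) (G : Matrix (Fin a) (Fin c) L) (hMG : M * G = 0) :
    LinearMap.ker (M.map π).mulVecLin = LinearMap.range (G.map π).mulVecLin ↔
      ∀ x, (∀ i, M.mulVecLin x i ∈ RingHom.ker π) →
        x ∈ LinearMap.range G.mulVecLin ⊔ RingHom.ker π • ⊤ := by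
  constructor
  · intro h x hx
    have hx' : π ∘ x ∈ LinearMap.ker (M.map π).mulVecLin := by
      rw [LinearMap.mem_ker, ← comp_mulVec π M x]
      exact funext fun i => hx i
    obtain ⟨y, hy⟩ := h.le hx'
    obtain ⟨y, rfl⟩ : ∃ y', π ∘ y' = y := hπ.comp_left y
    rw [← add_sub_cancel (G.mulVecLin y) x]
    refine Submodule.add_mem_sup ⟨y, rfl⟩ ((mem_smul_top_iff _ _).2 fun i => ?_)
    rw [RingHom.mem_ker, Pi.sub_apply, map_sub, sub_eq_zero]
    exact (congrFun hy i).symm.trans (congrFun (comp_mulVec π G y) i).symm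
  · intro h
    refine le_antisymm (fun y hy => ?_) ?_
    · obtain ⟨x, rfl⟩ : ∃ x, π ∘ x = y := hπ.comp_left y
      rw [LinearMap.mem_ker, ← comp_mulVec π M x] at hy
      obtain ⟨_, ⟨z, rfl⟩, w, hw, rfl⟩ := Submodule.mem_sup.1 (h x fun i => congrFun hy i)
      refine ⟨π ∘ z, ?_⟩
      rw [← comp_mulVec π G z]
      funext i
      simp [RingHom.mem_ker.1 ((mem_smul_top_iff _ _).1 hw i)]
    · rw [LinearMap.range_le_ker_iff, ← Matrix.mulVecLin_mul, ← Matrix.map_mul, hMG]
      ext
      simp

theorem injective_iff (hπ : Function.Surjective π) :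
    Function.Injective (M.map π).mulVecLin ↔
      ∀ x, (∀ i, M.mulVecLin x i ∈ RingHom.ker π) →
        x ∈ (⊥ : Submodule L (Fin a → L)) ⊔ RingHom.ker π • ⊤ := by
  rw [← LinearMap.ker_eq_bot, bot_sup_eq]
  constructor
  · intro h x hx
    refine (mem_smul_top_iff _ _).2 fun i => ?_
    have hx' : π ∘ x ∈ LinearMap.ker (M.map π).mulVecLin := by
      rw [LinearMap.mem_ker, ← comp_mulVec π M x]
      exact funext fun i => hx i
    rw [h] at hx'
    exact congrFun ((Submodule.mem_bot _).1 hx') i
  · intro h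
    refine eq_bot_iff.2 fun y hy => ?_
    obtain ⟨x, rfl⟩ : ∃ x, π ∘ x = y := hπ.comp_left y
    rw [LinearMap.mem_ker, ← comp_mulVec π M x] at hy
    exact (Submodule.mem_bot _).2 (funext fun i => (mem_smul_top_iff _ _).1 (h x fun i => congrFun hy i) i)

end Matrices

variable {R S : Type u} [CommRing R] [IsNoetherianRing R] [CommRing S] [Algebra R S] [Algebra.FiniteType R S]
  [Module.Flat R S]

/-- Exactness after localisation, and flatness of the cokernel. -/
def Good {a b : ℕ} (M : Matrix (Fin b) (Fin a) S) (K : Submodule S (Fin a → S)) (q : PrimeSpectrum S) : Prop :=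
  (∀ x ∈ LinearMap.ker M.mulVecLin, ∃ s ∉ q.asIdeal, s • x ∈ K) ∧
    Module.Flat R (LocalizedModule q.asIdeal.primeCompl ((Fin b → S) ⧸ LinearMap.range M.mulVecLin))

theorem isOpen_good {a b : ℕ} (M : Matrix (Fin b) (Fin a) S) (K : Submodule S (Fin a → S)) :
    IsOpen {q : PrimeSpectrum S | Good (R := R) M K q} := by
  classical
  have := Algebra.FiniteType.isNoetherianRing R S
  have : Algebra.FinitePresentation R S := Algebra.FinitePresentation.of_finiteType.1 inferInstance
  have : Module.FinitePresentation S ((Fin b → S) ⧸ LinearMap.range M.mulVecLin) :=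
    Module.finitePresentation_of_finite _ _
  obtain ⟨G, hG⟩ := (IsNoetherian.noetherian (LinearMap.ker M.mulVecLin) : (LinearMap.ker M.mulVecLin).FG)
  have : {q : PrimeSpectrum S | Good (R := R) M K q} =
      (⋂ x ∈ G, ⋃ (s : S) (_ : s • x ∈ K), (PrimeSpectrum.basicOpen s : Set (PrimeSpectrum S))) ∩
      {q : PrimeSpectrum S | Module.Flat R
        (LocalizedModule q.asIdeal.primeCompl ((Fin b → S) ⧸ LinearMap.range M.mulVecLin))} := by
    ext q
    simp only [Good, Set.mem_setOf_eq, Set.mem_inter_iff, Set.mem_iInter, Set.mem_iUnion]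
    refine and_congr_left fun _ => ⟨fun h x hx => ?_, fun h x hx => ?_⟩
    · obtain ⟨s, hs, hsx⟩ := h x (hG ▸ Submodule.subset_span hx)
      exact ⟨s, hsx, hs⟩
    · rw [← hG] at hx
      induction hx using Submodule.span_induction with
      | mem y hy => obtain ⟨s, hsy, hs⟩ := h y hy; exact ⟨s, hs, hsy⟩
      | zero => exact ⟨1, fun h1 => q.isPrime.ne_top ((Ideal.eq_top_iff_one _).2 h1), by simp⟩
      | add y z _ _ hy hz =>
        obtain ⟨s, hs, hsy⟩ := hy
        obtain ⟨t, ht, htz⟩ := hz
        refine ⟨s * t, fun h => (q.isPrime.mem_or_mem h).elim hs ht, ?_⟩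
        rw [smul_add, mul_comm, mul_smul, mul_comm t s, mul_smul]
        exact add_mem (K.smul_mem t hsy) (K.smul_mem s htz)
      | smul r y _ hy =>
        obtain ⟨s, hs, hsy⟩ := hy
        exact ⟨s, hs, by rw [smul_comm]; exact K.smul_mem r hsy⟩
  rw [this]
  exact (isOpen_biInter_finset fun x _ => isOpen_iUnion fun s => isOpen_iUnion fun _ =>
    (PrimeSpectrum.basicOpen s).isOpen).inter Groth.Agent.S0387.result

theorem good_iff {a b : ℕ} (M : Matrix (Fin b) (Fin a) S) (K : Submodule S (Fin a → S))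
    (hK : K ≤ LinearMap.ker M.mulVecLin) (q : PrimeSpectrum S) :
    Good (R := R) M K q ↔
      ∀ x, (∀ i, (M.map (algebraMap S (Localization.AtPrime q.asIdeal))).mulVecLin x i ∈
          (q.asIdeal.comap (algebraMap R S)).map (algebraMap R (Localization.AtPrime q.asIdeal))) →
        x ∈ K.localized' (Localization.AtPrime q.asIdeal) q.asIdeal.primeCompl
            (LinearMap.pi fun i => Algebra.linearMap S (Localization.AtPrime q.asIdeal) ∘ₗ LinearMap.proj i) ⊔
          (q.asIdeal.comap (algebraMap R S)).map (algebraMap R (Localization.AtPrime q.asIdeal)) • ⊤ := by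
  let p := q.asIdeal.under R
  let L := Localization.AtPrime q.asIdeal
  let A := Localization.AtPrime p
  have : q.asIdeal.LiesOver p := ⟨rfl⟩
  let : Algebra A L := Localization.AtPrime.algebraOfLiesOver p q.asIdeal
  have := Algebra.FiniteType.isNoetherianRing R S
  have : IsNoetherianRing L := IsLocalization.isNoetherianRing q.asIdeal.primeCompl _ inferInstance
  have hflat : Module.Flat R L := Module.Flat.trans R S L
  have : Module.Flat A L := (Module.flat_iff_of_isLocalization A p.primeCompl L).2 hflat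
  have hJ : (q.asIdeal.comap (algebraMap R S)).map (algebraMap R L) = (maximalIdeal A).map (algebraMap A L) := by
    rw [← Localization.AtPrime.map_eq_maximalIdeal (I := p), Ideal.map_map, ← IsScalarTower.algebraMap_eq]
  have hjac : (maximalIdeal A).map (algebraMap A L) ≤ Ideal.jacobson ⊥ :=
    (map_maximalIdeal_le (algebraMap A L)).trans (IsLocalRing.maximalIdeal_le_jacobson ⊥)
  let ν : ∀ n : ℕ, (Fin n → S) →ₗ[S] (Fin n → L) := fun n =>
    LinearMap.pi fun i => Algebra.linearMap S L ∘ₗ LinearMap.proj i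
  have hν : ∀ n v, ν n v = algebraMap S L ∘ v := fun n v => rfl
  let f := (M.map (algebraMap S L)).mulVecLin
  have hfν : ∀ v, f (ν a v) = ν b (M.mulVecLin v) := fun v => (comp_mulVec (algebraMap S L) M v).symm
  have hf : ∀ (v : Fin a → S) (t : q.asIdeal.primeCompl), f (IsLocalizedModule.mk' (ν a) v t) = IsLocalizedModule.mk' (ν b) (M.mulVecLin v) t := by
    intro v t
    apply (IsLocalizedModule.smul_inj (ν b) t _ _).1
    rw [IsLocalizedModule.mk'_cancel', Submonoid.smul_def, ← algebraMap_smul L (t : S), ← map_smul,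
      algebraMap_smul, ← Submonoid.smul_def, IsLocalizedModule.mk'_cancel', hfν]
  have hK' : K.localized' L q.asIdeal.primeCompl (ν a) ≤ LinearMap.ker f := by
    rintro _ ⟨v, hv, t, rfl⟩
    rw [LinearMap.mem_ker, hf, show M.mulVecLin v = 0 from hK hv, IsLocalizedModule.mk'_zero]
  rw [hJ, local_iff (maximalIdeal A) hjac f _ hK']
  refine and_congr ?_ ?_
  · constructor
    · intro h y hy
      obtain ⟨⟨v, t⟩, rfl⟩ := IsLocalizedModule.mk'_surjective q.asIdeal.primeCompl (ν a) y
      have h0 : IsLocalizedModule.mk' (ν b) (M.mulVecLin v) t = 0 := (hf v t).symm.trans (LinearMap.mem_ker.1 hy)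
      rw [IsLocalizedModule.mk'_eq_zero'] at h0
      obtain ⟨w, hw⟩ := h0
      obtain ⟨s, hs, hsv⟩ := h ((w : S) • v) (by rw [LinearMap.mem_ker, map_smul]; exact hw)
      refine ⟨s • (w : S) • v, hsv, (⟨s, hs⟩ : q.asIdeal.primeCompl) * (w * t), ?_⟩
      show _ = IsLocalizedModule.mk' (ν a) v t
      rw [← IsLocalizedModule.mk'_cancel_left (ν a) v w t, Submonoid.smul_def,
        ← IsLocalizedModule.mk'_cancel_left (ν a) ((w : S) • v) (⟨s, hs⟩ : q.asIdeal.primeCompl) (w * t)]
      rfl
    · intro h x hx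
      have hx' : ν a x ∈ LinearMap.ker f := by
        rw [LinearMap.mem_ker, hfν, LinearMap.mem_ker.1 hx, map_zero]
      obtain ⟨v, hv, t, hvt⟩ := h hx'
      have h1 : ν a ((t : S) • x) = ν a v := by
        rw [map_smul, ← hvt, ← Submonoid.smul_def, IsLocalizedModule.mk'_cancel']
      obtain ⟨w, hw⟩ := IsLocalizedModule.exists_of_eq (S := q.asIdeal.primeCompl) h1
      refine ⟨(w : S) * t, (w * t).2, ?_⟩
      rw [mul_smul]
      exact Submonoid.smul_def w ((t : S) • x) ▸ hw ▸ K.smul_mem (w : S) hv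
  · have hr : (LinearMap.range M.mulVecLin).localized' L q.asIdeal.primeCompl (ν b) = LinearMap.range f := by
      refine le_antisymm ?_ ?_
      · rintro _ ⟨_, ⟨v, rfl⟩, t, rfl⟩
        exact ⟨_, hf v t⟩
      · rintro _ ⟨y, rfl⟩
        obtain ⟨⟨v, t⟩, rfl⟩ := IsLocalizedModule.mk'_surjective q.asIdeal.primeCompl (ν a) y
        exact ⟨_, ⟨v, rfl⟩, t, (hf v t).symm⟩
    let e := ((IsLocalizedModule.linearEquiv q.asIdeal.primeCompl
      (LocalizedModule.mkLinearMap q.asIdeal.primeCompl ((Fin b → S) ⧸ LinearMap.range M.mulVecLin))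
      ((LinearMap.range M.mulVecLin).toLocalizedQuotient' L q.asIdeal.primeCompl (ν b))).restrictScalars R).trans
      ((Submodule.quotEquivOfEq _ _ hr).restrictScalars R)
    rw [Module.Flat.equiv_iff e]
    exact (Module.flat_iff_of_isLocalization A p.primeCompl _).symm

theorem fibre_injective_iff {a b : ℕ} (M : Matrix (Fin b) (Fin a) S) (q : PrimeSpectrum S) :
    Function.Injective (M.map (algebraMap S (EGA4.FibLocRing R S q.asIdeal))).mulVecLin ↔
      Good (R := R) M ⊥ q := by
  rw [good_iff M ⊥ bot_le q,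
    show M.map (algebraMap S (EGA4.FibLocRing R S q.asIdeal)) =
      (M.map (algebraMap S (Localization.AtPrime q.asIdeal))).map (Ideal.Quotient.mk _) from Matrix.ext fun _ _ => rfl,
    injective_iff _ _ Ideal.Quotient.mk_surjective, Ideal.mk_ker]
  refine forall_congr' fun x => ?_
  rw [show (⊥ : Submodule S (Fin a → S)).localized' (Localization.AtPrime q.asIdeal) q.asIdeal.primeCompl
      (LinearMap.pi fun i => Algebra.linearMap S (Localization.AtPrime q.asIdeal) ∘ₗ LinearMap.proj i) = ⊥ from by simp]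

theorem fibre_exact_iff {a b c : ℕ} (M : Matrix (Fin b) (Fin a) S) (G : Matrix (Fin a) (Fin c) S) (hMG : M * G = 0)
    (q : PrimeSpectrum S) :
    LinearMap.ker (M.map (algebraMap S (EGA4.FibLocRing R S q.asIdeal))).mulVecLin =
        LinearMap.range (G.map (algebraMap S (EGA4.FibLocRing R S q.asIdeal))).mulVecLin ↔
      Good (R := R) M (LinearMap.range G.mulVecLin) q := by
  let L := Localization.AtPrime q.asIdeal
  have hle : LinearMap.range G.mulVecLin ≤ LinearMap.ker M.mulVecLin := by
    rw [LinearMap.range_le_ker_iff, ← Matrix.mulVecLin_mul, hMG]; simp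
  have hloc : (LinearMap.range G.mulVecLin).localized' L q.asIdeal.primeCompl
      (LinearMap.pi fun i => Algebra.linearMap S L ∘ₗ LinearMap.proj i) =
      LinearMap.range (G.map (algebraMap S L)).mulVecLin := by
    have hf : ∀ (v : Fin c → S) (t : q.asIdeal.primeCompl), (G.map (algebraMap S L)).mulVecLin
        (IsLocalizedModule.mk' (LinearMap.pi fun i => Algebra.linearMap S L ∘ₗ LinearMap.proj i) v t) =
        IsLocalizedModule.mk' (LinearMap.pi fun i => Algebra.linearMap S L ∘ₗ LinearMap.proj i)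
          (G.mulVecLin v) t := by
      intro v t
      apply (IsLocalizedModule.smul_inj (LinearMap.pi fun i => Algebra.linearMap S L ∘ₗ LinearMap.proj i) t _ _).1
      rw [IsLocalizedModule.mk'_cancel', Submonoid.smul_def, ← algebraMap_smul L (t : S), ← map_smul,
        algebraMap_smul, ← Submonoid.smul_def, IsLocalizedModule.mk'_cancel']
      exact (comp_mulVec (algebraMap S L) G v).symm
    refine le_antisymm ?_ ?_
    · rintro _ ⟨_, ⟨v, rfl⟩, t, rfl⟩
      exact ⟨_, hf v t⟩
    · rintro _ ⟨y, rfl⟩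
      obtain ⟨⟨v, t⟩, rfl⟩ := IsLocalizedModule.mk'_surjective q.asIdeal.primeCompl
        (LinearMap.pi fun i => Algebra.linearMap S L ∘ₗ LinearMap.proj i) y
      exact ⟨_, ⟨v, rfl⟩, t, (hf v t).symm⟩
  rw [good_iff M _ hle q, hloc,
    show M.map (algebraMap S (EGA4.FibLocRing R S q.asIdeal)) =
      (M.map (algebraMap S L)).map (Ideal.Quotient.mk _) from Matrix.ext fun _ _ => rfl,
    show G.map (algebraMap S (EGA4.FibLocRing R S q.asIdeal)) =
      (G.map (algebraMap S L)).map (Ideal.Quotient.mk _) from Matrix.ext fun _ _ => rfl,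
    exact_iff _ _ Ideal.Quotient.mk_surjective _ (by rw [← Matrix.map_mul, hMG, Matrix.map_zero _ (map_zero _)]),
    Ideal.mk_ker]

theorem main (e : ℕ) (n : ℕ → ℕ) (φ : (i : ℕ) → Matrix (Fin (n i)) (Fin (n (i + 1))) S)
    (hφ : ∀ i, i + 2 ≤ e → φ i * φ (i + 1) = 0) :
    IsOpen {q : PrimeSpectrum S |
      (∀ i, i + 2 ≤ e →
        LinearMap.ker (Matrix.mulVecLin ((φ i).map (algebraMap S (EGA4.FibLocRing R S q.asIdeal)))) =
          LinearMap.range (Matrix.mulVecLin ((φ (i + 1)).map (algebraMap S (EGA4.FibLocRing R S q.asIdeal))))) ∧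
      (1 ≤ e → Function.Injective
        (Matrix.mulVecLin ((φ (e - 1)).map (algebraMap S (EGA4.FibLocRing R S q.asIdeal)))))} := by
  have h1 : IsOpen {q : PrimeSpectrum S | ∀ i, i + 2 ≤ e →
      Good (R := R) (φ i) (LinearMap.range (φ (i + 1)).mulVecLin) q} := by
    have : {q : PrimeSpectrum S | ∀ i, i + 2 ≤ e → Good (R := R) (φ i) (LinearMap.range (φ (i + 1)).mulVecLin) q} =
        ⋂ i ∈ (Finset.range (e - 1) : Finset ℕ),
          {q | Good (R := R) (φ i) (LinearMap.range (φ (i + 1)).mulVecLin) q} := by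
      ext q
      simp only [Set.mem_iInter, Finset.mem_range, Set.mem_setOf_eq]
      exact forall_congr' fun i => ⟨fun h hi => h (by omega), fun h hi => h (by omega)⟩
    rw [this]
    exact isOpen_biInter_finset fun i _ => isOpen_good _ _
  have h2 : IsOpen {q : PrimeSpectrum S | 1 ≤ e → Good (R := R) (φ (e - 1)) ⊥ q} := by
    by_cases he : 1 ≤ e
    · simpa [he] using isOpen_good (R := R) (φ (e - 1)) ⊥
    · simp [he]
  convert h1.inter h2 using 1
  ext q
  simp only [Set.mem_inter_iff, Set.mem_setOf_eq]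
  exact and_congr (forall_congr' fun i => imp_congr_right fun hi => fibre_exact_iff _ _ (hφ i hi) q)
    (imp_congr_right fun _ => fibre_injective_iff _ q)

end Groth.Agent.CAlg4.FibreExact
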