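import Groth.Agent.FBase64.TensorTrdeg
import Groth.Agent.EGA4H10.CMFibre
import Groth.Prelude.Def_EGA4b
import Mathlib

/-! Fibres of a finite type algebra under a field extension. -/

universe u
open TensorProduct Groth.Agent.CAlgH2

namespace Groth.Agent.CAlg4.FieldExtDim

variable {k S K T : Type u} [Field k] [CommRing S] [Algebra k S] [Algebra.FiniteType k S] [Field K] [Algebra k K]
  [CommRing T] [Algebra K T] [Algebra S T] (e : K ⊗[k] S ≃ₐ[K] T)
  (he : ∀ s : S, e (1 ⊗ₜ[k] s) = algebraMap S T s)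

include e in
theorem finiteType : Algebra.FiniteType K T := Algebra.FiniteType.equiv inferInstance e

include he in
theorem trdegQuot_eq_of_minimal (q : Ideal S) (P : Ideal T) [P.IsPrime] (hP : P.under S = q)
    (hmin : ∀ P' : Ideal T, P'.IsPrime → P' ≤ P → P'.under S = q → P' = P) :
    trdegQuot K P = trdegQuot k q := by
  let Q := P.comap (e.toAlgHom : K ⊗[k] S →ₐ[K] T)
  have hcomap : ∀ P' : Ideal T, (P'.comap (e.toAlgHom : K ⊗[k] S →ₐ[K] T)).comap
      (Algebra.TensorProduct.includeRight : S →ₐ[k] K ⊗[k] S) = P'.under S := fun P' => by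
    ext s
    show e (1 ⊗ₜ[k] s) ∈ P' ↔ algebraMap S T s ∈ P'
    rw [he]
  rw [← FBase64.trdegQuot_comap e.toAlgHom e.surjective P]
  refine (FBase64.trdegQuot_eq_of_minimal_baseChange K Q fun Q' hQ' hle hc => ?_).trans
    (congrArg (trdegQuot k) ((hcomap P).trans hP))
  let P' := Q'.comap (e.symm.toAlgHom : T →ₐ[K] K ⊗[k] S)
  have hPQ : P'.comap (e.toAlgHom : K ⊗[k] S →ₐ[K] T) = Q' := by ext x; simp [P']
  have : P'.IsPrime := Ideal.IsPrime.comap _
  have hP' : P' ≤ P := fun x hx => by
    have : e (e.symm x) ∈ P := hle hx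
    rwa [AlgEquiv.apply_symm_apply] at this
  have : P' = P := hmin P' inferInstance hP' (by rw [← hcomap P', hPQ, hc, hcomap, hP])
  rw [← hPQ, this]

variable [Module.Flat S T] (q : Ideal S) [q.IsPrime] (qK : Ideal T) [qK.IsPrime] [qK.LiesOver q]

omit [Field k] [Algebra k S] [Algebra.FiniteType k S] [Field K] [Algebra k K] [Algebra K T] in
theorem eq_of_minimal (P : Ideal T) (hP : P ∈ (q.map (algebraMap S T)).minimalPrimes) (hle : P ≤ qK) :
    P.under S = q ∧ ∀ P' : Ideal T, P'.IsPrime → P' ≤ P → P'.under S = q → P' = P := by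
  have := hP.1.1
  have h : P.under S = q :=
    le_antisymm ((Ideal.comap_mono hle).trans_eq (Ideal.LiesOver.over (P := qK) (p := q)).symm)
      (Ideal.map_le_iff_le_comap.1 hP.1.2)
  exact ⟨h, fun P' hP' hle' h' =>
    le_antisymm hle' (hP.2 ⟨hP', Ideal.map_le_iff_le_comap.2 h'.ge⟩ hle')⟩

omit [Field k] [Algebra k S] [Algebra.FiniteType k S] [Field K] [Algebra k K] [Algebra K T] [Module.Flat S T] in
theorem dim_fibLocRing [(qK.map (Ideal.Quotient.mk (q.map (algebraMap S T)))).IsPrime] :
    ringKrullDim (EGA4.FibLocRing S T qK) =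
      ((qK.map (Ideal.Quotient.mk (q.map (algebraMap S T)))).height : WithBot ℕ∞) := by
  let π := Ideal.Quotient.mk (q.map (algebraMap S T))
  let Q := qK.map π
  have hle : q.map (algebraMap S T) ≤ qK := Ideal.map_le_iff_le_comap.2 (Ideal.LiesOver.over (P := qK) (p := q)).le
  have hQ : Q.comap π = qK := by
    rw [Ideal.comap_map_of_surjective _ Ideal.Quotient.mk_surjective, ← RingHom.ker_eq_comap_bot, Ideal.mk_ker,
      sup_eq_left.2 hle]
  have hb : (⊥ : Ideal (T ⧸ q.map (algebraMap S T))).comap π = q.map (algebraMap S T) := by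
    rw [← RingHom.ker_eq_comap_bot, Ideal.mk_ker]
  have key : ∀ (J : Ideal T) [J.IsPrime], J = qK →
      ringKrullDim (Localization.AtPrime J ⧸ ((⊥ : Ideal _).comap π).map (algebraMap T (Localization.AtPrime J))) =
      ringKrullDim (EGA4.FibLocRing S T qK) := by
    intro J _ hJ
    subst hJ
    refine ringKrullDim_eq_of_ringEquiv (Ideal.quotEquivOfEq ?_)
    rw [hb, Ideal.map_map, ← IsScalarTower.algebraMap_eq, ← Ideal.under_def,
      ← Ideal.LiesOver.over (P := J) (p := q)]
  obtain ⟨φ⟩ := EGA4H10.exists_quotLoc_equiv π Ideal.Quotient.mk_surjective Q ⊥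
  rw [← key (Q.comap π) hQ, ringKrullDim_eq_of_ringEquiv φ,
    ringKrullDim_eq_of_ringEquiv ((Ideal.quotEquivOfEq Ideal.map_bot).trans (RingEquiv.quotientBot _)),
    IsLocalization.AtPrime.ringKrullDim_eq_height Q]

include he in
theorem height_add_trdeg :
    (qK.map (Ideal.Quotient.mk (q.map (algebraMap S T)))).height + (trdegQuot K qK : ℕ∞) = (trdegQuot k q : ℕ∞) := by
  have := finiteType e
  let π := Ideal.Quotient.mkₐ K (q.map (algebraMap S T))
  have hle : q.map (algebraMap S T) ≤ qK := Ideal.map_le_iff_le_comap.2 (Ideal.LiesOver.over (P := qK) (p := q)).le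
  let Q := qK.map (Ideal.Quotient.mk (q.map (algebraMap S T)))
  have : Q.IsPrime := Ideal.isPrime_map_quotientMk_of_isPrime hle
  have hQ : Q.comap π = qK := by
    show Q.comap (Ideal.Quotient.mk (q.map (algebraMap S T))) = qK
    rw [Ideal.comap_map_of_surjective _ Ideal.Quotient.mk_surjective, ← RingHom.ker_eq_comap_bot, Ideal.mk_ker,
      sup_eq_left.2 hle]
  have : Algebra.FiniteType K (T ⧸ q.map (algebraMap S T)) :=
    Algebra.FiniteType.of_surjective π Ideal.Quotient.mk_surjective
  have h := height_add_trdegQuot_eq_dimAt K Q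
  obtain ⟨P, hP, hPQ, hd⟩ := exists_dimAt_eq K Q
  rw [hd, ← FBase64.trdegQuot_comap π Ideal.Quotient.mk_surjective Q, hQ,
    ← FBase64.trdegQuot_comap π Ideal.Quotient.mk_surjective P] at h
  have hPmem : P.comap π ∈ (q.map (algebraMap S T)).minimalPrimes := by
    have : (q.map (algebraMap S T)).minimalPrimes =
        Ideal.comap (Ideal.Quotient.mk (q.map (algebraMap S T))) '' minimalPrimes _ :=
      Ideal.minimalPrimes_eq_comap
    rw [this]
    exact ⟨P, hP, rfl⟩
  have hPle : P.comap π ≤ qK := hQ ▸ Ideal.comap_mono hPQ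
  obtain ⟨h1, h2⟩ := eq_of_minimal q qK (P.comap π) hPmem hPle
  have := hPmem.1.1
  rwa [trdegQuot_eq_of_minimal e he q (P.comap π) h1 h2] at h

include e in
theorem height_add_height :
    (qK.map (Ideal.Quotient.mk (q.map (algebraMap S T)))).height + q.height = qK.height := by
  have := finiteType e
  have : IsNoetherianRing T := Algebra.FiniteType.isNoetherianRing K T
  have : IsNoetherianRing S := Algebra.FiniteType.isNoetherianRing k S
  rw [add_comm, Ideal.height_eq_height_add_of_liesOver_of_hasGoingDown q qK]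

include he qK in
theorem exists_dim_zero :
    ∃ (q' : Ideal T) (_ : q'.IsPrime), q'.LiesOver q ∧ ringKrullDim (EGA4.FibLocRing S T q') = 0 := by
  have hle : q.map (algebraMap S T) ≤ qK := Ideal.map_le_iff_le_comap.2 (Ideal.LiesOver.over (P := qK) (p := q)).le
  obtain ⟨P, hP, hPle⟩ := Ideal.exists_minimalPrimes_le hle
  obtain ⟨h1, h2⟩ := eq_of_minimal q qK P hP hPle
  have := hP.1.1
  have : P.LiesOver q := ⟨h1.symm⟩
  refine ⟨P, hP.1.1, this, ?_⟩
  have := Ideal.isPrime_map_quotientMk_of_isPrime hP.1.2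
  rw [dim_fibLocRing q P]
  have h := height_add_trdeg e he q P
  rw [trdegQuot_eq_of_minimal e he q P h1 h2] at h
  generalize (P.map (Ideal.Quotient.mk (q.map (algebraMap S T)))).height = t at h
  cases t with
  | top => simp at h
  | coe t =>
    have : t + trdegQuot k q = trdegQuot k q := by exact_mod_cast h
    have : t = 0 := by omega
    subst this
    rfl

end Groth.Agent.CAlg4.FieldExtDim
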