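import Groth.Agent.Ega11.FibreBaseChange
import Groth.Agent.Hens22.CompletionUnrAdic
import Mathlib

/-! G-rings are detected by generic formal fibres of domain quotients. -/

universe u
open TensorProduct IsLocalRing

namespace Groth.Agent.CAlg4.GRingGeneric

/-- completion of a surjective image as a base change -/
theorem exists_cpl_surjective (A T : Type u) [CommRing A] [IsNoetherianRing A] [IsLocalRing A] [CommRing T]
    [IsLocalRing T] [Algebra A T] (hs : Function.Surjective (algebraMap A T)) :
    Nonempty (T ⊗[A] EGA4.Cpl A ≃ₐ[T] EGA4.Cpl T) := by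
  let I := RingHom.ker (algebraMap A T)
  let q : (A ⧸ I) ≃ₐ[A] T := Ideal.quotientKerAlgEquivOfSurjective (f := Algebra.ofId A T) hs
  let Ac := EGA4.Cpl A
  let e0 : T ⊗[A] Ac ≃+* (A ⧸ I) ⊗[A] Ac :=
    (Algebra.TensorProduct.congr q.symm (AlgEquiv.refl (R := A) (A₁ := Ac))).toRingEquiv
  let e1 : (A ⧸ I) ⊗[A] Ac ≃+* Ac ⊗[A] (A ⧸ I) := (Algebra.TensorProduct.comm A (A ⧸ I) Ac).toRingEquiv
  let e2 : Ac ⊗[A] (A ⧸ I) ≃+* Ac ⧸ I.map (algebraMap A Ac) :=
    (Algebra.TensorProduct.quotIdealMapEquivTensorQuot Ac I).symm.toRingEquiv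
  let e3 : (Ac ⧸ I.map (algebraMap A Ac)) ≃+* EGA4.Cpl T := EGA4H10.cplQuotEquiv A T hs
  refine ⟨AlgEquiv.ofRingEquiv (f := ((e0.trans e1).trans e2).trans e3) fun x => ?_⟩
  obtain ⟨a, rfl⟩ := hs x
  have h1 : algebraMap T (T ⊗[A] Ac) (algebraMap A T a) = (1 : T) ⊗ₜ[A] algebraMap A Ac a := by
    rw [Algebra.TensorProduct.algebraMap_apply, Algebra.algebraMap_self, RingHom.id_apply,
      Algebra.algebraMap_eq_smul_one a, TensorProduct.smul_tmul, Algebra.algebraMap_eq_smul_one]
  rw [h1]
  show e3 (e2 (e1 (e0 ((1 : T) ⊗ₜ[A] algebraMap A Ac a)))) = _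
  have h0 : e0 ((1 : T) ⊗ₜ[A] algebraMap A Ac a) = (1 : A ⧸ I) ⊗ₜ[A] algebraMap A Ac a := by
    show q.symm 1 ⊗ₜ[A] algebraMap A Ac a = _
    rw [map_one]
  rw [h0, show e2 (e1 ((1 : A ⧸ I) ⊗ₜ[A] algebraMap A Ac a)) = Ideal.Quotient.mk _ (algebraMap A Ac a) from by
    apply e2.symm.injective
    rw [RingEquiv.symm_apply_apply]
    rfl]
  exact EGA4H10.cplMap_algebraMap A T hs a

theorem geom_iff {A B T S : Type u} [CommRing A] [CommRing B] [CommRing T] [Algebra A B] [Algebra A T]
    [CommRing S] [Algebra T S] (hT : (algebraMap A T).SurjectiveOnStalks) (φ : T ⊗[A] B ≃ₐ[T] S)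
    (P : Ideal T) [P.IsPrime] :
    CAlg.IsGeometricallyRegular (P.under A).ResidueField ((P.under A).Fiber B) ↔
      CAlg.IsGeometricallyRegular P.ResidueField (P.Fiber S) := by
  obtain ⟨g, hg, h⟩ := Ega11.FibreBaseChange.exists_field_fiber hT φ P
  constructor
  · intro hG K _ _ hK
    let : Algebra (P.under A).ResidueField P.ResidueField := g.toAlgebra
    let : Algebra (P.under A).ResidueField K := ((algebraMap P.ResidueField K).comp g).toAlgebra
    have : IsScalarTower (P.under A).ResidueField P.ResidueField K := IsScalarTower.of_algebraMap_eq fun _ => rfl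
    have : Module.Finite (P.under A).ResidueField P.ResidueField :=
      Module.Finite.of_surjective (Algebra.linearMap (P.under A).ResidueField P.ResidueField) hg.2
    obtain ⟨e⟩ := h K rfl
    have := hG K (Module.Finite.trans P.ResidueField K)
    exact IsRegularRing.of_ringEquiv (R := K ⊗[(P.under A).ResidueField] (P.under A).Fiber B) e
  · intro hG K _ _ hK
    let e := RingEquiv.ofBijective g hg
    let : Algebra P.ResidueField K :=
      ((algebraMap (P.under A).ResidueField K).comp e.symm.toRingHom).toAlgebra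
    have hcomp : (algebraMap P.ResidueField K).comp g = algebraMap (P.under A).ResidueField K :=
      RingHom.ext fun x => congrArg (algebraMap (P.under A).ResidueField K) (e.symm_apply_apply x)
    let : Algebra (P.under A).ResidueField P.ResidueField := g.toAlgebra
    have : IsScalarTower (P.under A).ResidueField P.ResidueField K :=
      IsScalarTower.of_algebraMap_eq fun x => (RingHom.congr_fun hcomp x).symm
    obtain ⟨e'⟩ := h K hcomp
    have := hG K (Module.Finite.of_restrictScalars_finite (P.under A).ResidueField P.ResidueField K)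
    exact IsRegularRing.of_ringEquiv (R := K ⊗[P.ResidueField] P.Fiber S) e'.symm

theorem geom_congr {A B : Type u} [CommRing A] [CommRing B] [Algebra A B] {P P' : Ideal A} [_hP : P.IsPrime]
    [_hP' : P'.IsPrime] (e : P = P') (h : CAlg.IsGeometricallyRegular P.ResidueField (P.Fiber B)) :
    CAlg.IsGeometricallyRegular P'.ResidueField (P'.Fiber B) := by
  subst e
  exact h

theorem surjective_algebraMap (R : Type u) [CommRing R] (q : Ideal R) (P : Ideal (R ⧸ q)) [P.IsPrime] (m : Ideal R)
    [m.IsPrime] (hm : P.comap (Ideal.Quotient.mk q) = m) :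
    Function.Surjective (Localization.localRingHom m P (Ideal.Quotient.mk q) hm.symm) := by
  intro z
  obtain ⟨x, s, rfl⟩ := IsLocalization.exists_mk'_eq P.primeCompl z
  obtain ⟨x0, rfl⟩ := Ideal.Quotient.mk_surjective x
  obtain ⟨s0, hs0⟩ := Ideal.Quotient.mk_surjective (s : R ⧸ q)
  have hs0' : s0 ∉ m := fun h => s.2 (hs0 ▸ (hm.ge h : Ideal.Quotient.mk q s0 ∈ P))
  refine ⟨IsLocalization.mk' _ x0 (⟨s0, hs0'⟩ : m.primeCompl), ?_⟩
  rw [Localization.localRingHom_mk']
  congr 1
  exact Subtype.ext hs0

theorem iff_generic (R : Type u) [CommRing R] [IsNoetherianRing R] :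
    CAlg.IsGRing R ↔
      ∀ (q : Ideal R) [q.IsPrime] (P : Ideal (R ⧸ q)) [P.IsPrime],
        CAlg.IsGeometricallyRegular (⊥ : Ideal (Localization.AtPrime P)).ResidueField
          (EGA4.formalFibre (Localization.AtPrime P) (⊥ : Ideal (Localization.AtPrime P))) := by
  constructor
  · intro hR q _ P _
    let m := P.comap (Ideal.Quotient.mk q)
    let A := Localization.AtPrime m
    let T := Localization.AtPrime P
    let _ : Algebra A T := (Localization.localRingHom m P (Ideal.Quotient.mk q) rfl).toAlgebra
    have : IsNoetherianRing A := IsLocalization.isNoetherianRing m.primeCompl _ inferInstance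
    have hs : Function.Surjective (algebraMap A T) := surjective_algebraMap R q P m rfl
    obtain ⟨φ⟩ := exists_cpl_surjective A T hs
    exact (geom_iff (RingHom.surjectiveOnStalks_of_surjective hs) φ (⊥ : Ideal T)).1 ((hR.2 m).2 _).2
  · intro h
    refine ⟨inferInstance, fun m _ => ?_⟩
    let A := Localization.AtPrime m
    have : IsNoetherianRing A := IsLocalization.isNoetherianRing m.primeCompl _ inferInstance
    refine ⟨AdicCompletion.flat_of_isNoetherian _, fun Q _ => ?_⟩
    have : IsNoetherianRing (EGA4.Cpl A) := (Hens22.isCompl'_adic A).noetherian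
    refine ⟨(Ega11.FibreComp.isNoetherianRing_fiber (B := EGA4.Cpl A) Q).2, ?_⟩
    let q := Q.comap (algebraMap R A)
    let π := Ideal.Quotient.mk q
    have hqm : q ≤ m := fun x hx =>
      (IsLocalization.AtPrime.to_map_mem_maximal_iff A m x).1
        (le_maximalIdeal (Ideal.IsPrime.ne_top ‹Q.IsPrime›) hx)
    have : (m.map π).IsPrime :=
      Ideal.map_isPrime_of_surjective Ideal.Quotient.mk_surjective (by rwa [Ideal.mk_ker])
    have hm : (m.map π).comap π = m := by
      rw [Ideal.comap_map_of_surjective' _ Ideal.Quotient.mk_surjective, Ideal.mk_ker, sup_eq_left.2 hqm]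
    let T := Localization.AtPrime (m.map π)
    let _ : Algebra A T := (Localization.localRingHom m (m.map π) π hm.symm).toAlgebra
    have hs : Function.Surjective (algebraMap A T) := surjective_algebraMap R q _ m hm
    obtain ⟨φ⟩ := exists_cpl_surjective A T hs
    have hQ : (⊥ : Ideal T).under A = Q := by
      have hinj : Function.Injective (algebraMap (R ⧸ q) T) :=
        IsLocalization.injective T (M := (m.map π).primeCompl) (Ideal.primeCompl_le_nonZeroDivisors (m.map π))
      rw [← IsLocalization.map_under m.primeCompl A Q, ← IsLocalization.map_under m.primeCompl A ((⊥ : Ideal T).under A)]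
      congr 1
      ext x
      show Localization.localRingHom m (m.map π) π hm.symm (algebraMap R A x) = 0 ↔ x ∈ q
      rw [Localization.localRingHom_to_map, map_eq_zero_iff _ hinj, Ideal.Quotient.eq_zero_iff_mem]
    exact @geom_congr A (EGA4.Cpl A) _ _ _ ((⊥ : Ideal T).under A) Q inferInstance inferInstance hQ ((geom_iff (RingHom.surjectiveOnStalks_of_surjective hs) φ (⊥ : Ideal T)).2 (h q (m.map π)))

end Groth.Agent.CAlg4.GRingGeneric
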