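import Mathlib.RingTheory.ZariskisMainTheorem
import Mathlib.RingTheory.EssentialFiniteness
import Mathlib.RingTheory.Localization.Submodule
import Mathlib.RingTheory.HopkinsLevitzki
import Mathlib.RingTheory.KrullDimension.Zero
import Mathlib.RingTheory.LocalRing.ResidueField.Basic

/-! Essentially finite type local algebras with finite residue extension and zero-dimensional closed
fibre are localizations of finite algebras (Zariski's main theorem). -/

universe u

namespace Groth.Agent.CAlg4.LocalQF

theorem finite_of_isFiniteLength {R A : Type u} [CommRing R] [CommRing A] [Algebra R A] [IsLocalRing A]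
    [Module.Finite R (IsLocalRing.ResidueField A)] {M : Type u} [AddCommGroup M] [Module A M]
    (h : IsFiniteLength A M) : ∀ [Module R M] [IsScalarTower R A M], Module.Finite R M := by
  induction h with
  | of_subsingleton => exact inferInstance
  | @of_simple_quotient M _ _ N _ _ ih =>
    intro _ _
    have : Module.Finite R N := ih
    obtain ⟨m, hm, ⟨e⟩⟩ := isSimpleModule_iff_quot_maximal.mp ‹IsSimpleModule A (M ⧸ N)›
    obtain rfl := IsLocalRing.eq_maximalIdeal hm
    have : Module.Finite R (A ⧸ IsLocalRing.maximalIdeal A) :=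
      ‹Module.Finite R (IsLocalRing.ResidueField A)›
    have : Module.Finite R (M ⧸ N) := Module.Finite.equiv (e.restrictScalars R).symm
    have : Module.Finite R (N.restrictScalars R) := ih
    have : Module.Finite R (M ⧸ N.restrictScalars R) :=
      Module.Finite.equiv ((Submodule.Quotient.restrictScalarsEquiv R N).restrictScalars R).symm
    exact Module.Finite.of_submodule_quotient (N.restrictScalars R)

theorem exists_finite_localization (R S : Type u) [CommRing R] [CommRing S] [IsLocalRing R] [IsLocalRing S]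
    [Algebra R S] [IsLocalHom (algebraMap R S)] [Algebra.EssFiniteType R S]
    (hres : Module.Finite (IsLocalRing.ResidueField R) (IsLocalRing.ResidueField S))
    (hdim : ringKrullDim (S ⧸ (IsLocalRing.maximalIdeal R).map (algebraMap R S)) = 0) :
    ∃ (S' : Type u) (_ : CommRing S') (_ : Algebra R S') (_ : Algebra S' S) (_ : IsScalarTower R S' S)
      (q : Ideal S') (_ : q.IsPrime), Module.Finite R S' ∧ IsLocalization.AtPrime S q := by
  let S₀ := Algebra.EssFiniteType.subalgebra R S
  let q : Ideal S₀ := (IsLocalRing.maximalIdeal S).comap (algebraMap S₀ S)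
  have hloc : IsLocalization.AtPrime S q := by
    refine IsLocalization.of_le (Algebra.EssFiniteType.submonoid R S) q.primeCompl (fun x hx => ?_) fun x hx => ?_
    · exact fun h => h (IsLocalization.map_units S (⟨x, hx⟩ : Algebra.EssFiniteType.submonoid R S))
    · exact IsLocalRing.notMem_maximalIdeal.1 hx
  let A := S ⧸ (IsLocalRing.maximalIdeal R).map (algebraMap R S)
  have hle : (IsLocalRing.maximalIdeal R).map (algebraMap R S) ≤ IsLocalRing.maximalIdeal S :=
    Ideal.map_le_iff_le_comap.2 fun x hx => map_nonunit (algebraMap R S) x hx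
  have : Nontrivial A :=
    Ideal.Quotient.nontrivial_iff.2 (ne_top_of_le_ne_top (IsLocalRing.maximalIdeal.isMaximal S).ne_top hle)
  have hAloc : IsLocalRing A := IsLocalRing.of_surjective' _ Ideal.Quotient.mk_surjective
  have hlh : IsLocalHom (Ideal.Quotient.mk ((IsLocalRing.maximalIdeal R).map (algebraMap R S))) :=
    IsLocalHom.of_surjective _ Ideal.Quotient.mk_surjective
  have : IsNoetherianRing A := by
    let I := IsLocalRing.maximalIdeal R
    have : I.map (algebraMap R S) = I.map (algebraMap R S) := rfl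
    let : Algebra (R ⧸ I) A := Ideal.Quotient.algebraQuotientOfLEComap Ideal.le_comap_map
    have : IsScalarTower R (R ⧸ I) A := IsScalarTower.of_algebraMap_eq fun _ => rfl
    have : Algebra.EssFiniteType (R ⧸ I) A := Algebra.EssFiniteType.of_comp R (R ⧸ I) A
    have : IsField (R ⧸ I) := (Ideal.Quotient.maximal_ideal_iff_isField_quotient I).1 inferInstance
    let := this.toField
    exact Algebra.EssFiniteType.isNoetherianRing (R ⧸ I) A
  have : Ring.KrullDimLE 0 A := Ring.krullDimLE_iff.2 hdim.le
  have hfl : IsFiniteLength A A :=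
    (isArtinianRing_iff_isFiniteLength A).1 (isArtinianRing_iff_krullDimLE_zero.2 ‹_›)
  have hresS : Module.Finite R (IsLocalRing.ResidueField S) :=
    Module.Finite.trans (IsLocalRing.ResidueField R) _
  have : Module.Finite R (IsLocalRing.ResidueField A) := by
    let f := IsLocalRing.ResidueField.map (Ideal.Quotient.mk ((IsLocalRing.maximalIdeal R).map (algebraMap R S)))
    refine Module.Finite.of_surjective
      (({ f with commutes' := fun r => rfl } : IsLocalRing.ResidueField S →ₐ[R] IsLocalRing.ResidueField A)).toLinearMap ?_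
    intro y
    obtain ⟨y, rfl⟩ := Ideal.Quotient.mk_surjective y
    obtain ⟨y, rfl⟩ := Ideal.Quotient.mk_surjective y
    exact ⟨IsLocalRing.residue S y, rfl⟩
  have hAfin : Module.Finite R A := finite_of_isFiniteLength hfl
  have hwqf : Algebra.WeaklyQuasiFiniteAt R q := by
    rw [Algebra.weaklyQuasiFiniteAt_iff]
    have hu : q.under R = IsLocalRing.maximalIdeal R := by
      show ((IsLocalRing.maximalIdeal S).comap (algebraMap S₀ S)).comap (algebraMap R S₀) = _
      rw [Ideal.comap_comap, ← IsScalarTower.algebraMap_eq]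
      exact ((IsLocalRing.local_hom_TFAE (algebraMap R S)).out 0 4).mp ‹_›
    let e : Localization.AtPrime q ≃ₐ[S₀] S := IsLocalization.algEquiv q.primeCompl _ _
    rw [hu]
    refine (Algebra.QuasiFinite.iff_of_algEquiv (Ideal.quotientEquivAlg _ _ (e.restrictScalars R) ?_)).2
      (inferInstance : Algebra.QuasiFinite R A)
    rw [Ideal.map_map]
    congr 1
    exact ((e.restrictScalars R).toAlgHom.comp_algebraMap).symm
  obtain ⟨S', hfg, r, hrq, hbij⟩ :=
    Algebra.QuasiFiniteAt.exists_fg_and_exists_notMem_and_awayMap_bijective (R := R) q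
  have hden : ∀ a : S₀, ∃ N : ℕ, r.1 ^ N * a ∈ S' := fun a => by
    obtain ⟨y, hy⟩ := hbij.2 (algebraMap S₀ _ a)
    obtain ⟨a', ⟨_, n, rfl⟩, rfl⟩ := IsLocalization.exists_mk'_eq (Submonoid.powers r) y
    have hmap : ∀ z : S', Localization.awayMap S'.val.toRingHom r (algebraMap S' _ z) =
        algebraMap S₀ _ z.1 := fun z => IsLocalization.map_eq _ z
    have h1 := congrArg (Localization.awayMap S'.val.toRingHom r)
      (IsLocalization.mk'_spec (Localization.Away r) a' (⟨r ^ n, n, rfl⟩ : Submonoid.powers r))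
    rw [map_mul, hy, hmap, hmap, ← map_mul] at h1
    obtain ⟨⟨_, j, rfl⟩, hj⟩ :=
      (IsLocalization.eq_iff_exists (Submonoid.powers r.1) (Localization.Away r.1)).1 h1
    refine ⟨j + n, ?_⟩
    have : r.1 ^ (j + n) * a = ((r ^ j * a' : S') : S₀) := by
      simp only [SubmonoidClass.coe_pow] at hj
      simp only [MulMemClass.coe_mul, SubmonoidClass.coe_pow]
      rw [← hj, pow_add]
      ring
    rw [this]
    exact SetLike.coe_mem _
  have hr : ∀ N : ℕ, r.1 ^ N ∈ q.primeCompl := fun N => q.primeCompl.pow_mem hrq N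
  refine ⟨S', inferInstance, inferInstance, ((algebraMap S₀ S).comp S'.val.toRingHom).toAlgebra,
    IsScalarTower.of_algebraMap_eq fun x => ?_, q.comap S'.val.toRingHom, inferInstance,
    ⟨(Submodule.fg_top _).mpr hfg⟩, ?_⟩
  · show _ = algebraMap S₀ S (algebraMap R S₀ x)
    exact IsScalarTower.algebraMap_apply R S₀ S x
  let := ((algebraMap S₀ S).comp S'.val.toRingHom).toAlgebra
  refine ⟨fun y => ?_, fun s => ?_, fun {x y} hxy => ?_⟩
  · exact IsLocalization.map_units S (⟨y.1.1, y.2⟩ : q.primeCompl)
  · obtain ⟨⟨a, b⟩, hs⟩ := IsLocalization.surj q.primeCompl s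
    obtain ⟨N, hN⟩ := hden a
    obtain ⟨M, hM⟩ := hden b
    let d : S' := r ^ N * ⟨r.1 ^ M * b, hM⟩
    have hd : d ∈ (q.comap S'.val.toRingHom).primeCompl :=
      mul_mem (S := Submonoid S₀) (hr N) (mul_mem (hr M) b.2)
    refine ⟨(r ^ M * ⟨r.1 ^ N * a, hN⟩, ⟨d, hd⟩), ?_⟩
    show s * algebraMap S₀ S (r.1 ^ N * (r.1 ^ M * b)) = algebraMap S₀ S (r.1 ^ M * (r.1 ^ N * a))
    rw [map_mul, map_mul, map_mul, map_mul, ← hs]
    ring
  · obtain ⟨⟨c, hc⟩, hcxy⟩ := IsLocalization.exists_of_eq (M := q.primeCompl) (show algebraMap S₀ S x.1 = algebraMap S₀ S y.1 from hxy)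
    obtain ⟨M, hM⟩ := hden c
    refine ⟨⟨⟨r.1 ^ M * c, hM⟩, mul_mem (S := Submonoid S₀) (hr M) hc⟩, Subtype.ext ?_⟩
    show r.1 ^ M * c * x.1 = r.1 ^ M * c * y.1
    rw [mul_assoc, mul_assoc]
    exact congrArg (r.1 ^ M * ·) hcxy

end Groth.Agent.CAlg4.LocalQF
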