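import Groth.Agent.CAlg4.RegHomLoc
import Groth.Agent.CAlg4.LocalQF
import Groth.Agent.Hens22.LocalProd
import Groth.Agent.Ega11.FormalDescent
import Groth.Agent.EGA4H10.OpenFormal
import Mathlib

/-! Regularity of completion maps ascends along essentially finite type quasi-finite local maps. -/

universe u
open IsLocalRing TensorProduct

open Groth.Agent.CAlg4.RegHomLoc

namespace Groth.Agent.CAlg4.QFRegular

theorem isRegularHom_of_bijective (A B : Type u) [CommRing A] [CommRing B] [Algebra A B]
    (h : Function.Bijective (algebraMap A B)) : CAlg.IsRegularHom A B := by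
  have : IsLocalization (⊥ : Submonoid A) B := by
    refine ⟨fun y => ?_, fun z => ?_, fun {x y} hxy => ⟨1, by rw [h.1 hxy]⟩⟩
    · rw [Submonoid.mem_bot.1 y.2, map_one]; exact isUnit_one
    · obtain ⟨a, rfl⟩ := h.2 z
      exact ⟨(a, 1), by simp⟩
  exact isRegularHom_of_isLocalization A B ⊥

theorem surjOn_idempotents {T : Type u} [CommRing T] (I : Ideal T) [IsAdicComplete I T] :
    Set.SurjOn (Ideal.Quotient.mk I) {e : T | IsIdempotentElem e} {e | IsIdempotentElem e} := by
  intro ebar he
  obtain ⟨a, rfl⟩ := Ideal.Quotient.mk_surjective ebar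
  have ha : a * a - a ∈ I := by
    rw [← Ideal.Quotient.eq_zero_iff_mem, map_sub, map_mul, (he : IsIdempotentElem _).eq, sub_self]
  let f : Polynomial T := Polynomial.X ^ 2 - Polynomial.X
  have hf : f.Monic := Polynomial.monic_X_pow_sub (Polynomial.degree_X_le.trans_lt (by norm_num))
  have hd : IsUnit (Ideal.Quotient.mk I (f.derivative.eval a)) := by
    refine IsUnit.of_mul_eq_one (Ideal.Quotient.mk I (f.derivative.eval a)) ?_
    rw [← map_mul, ← map_one (Ideal.Quotient.mk I), Ideal.Quotient.eq]
    simp only [f, Polynomial.derivative_sub, Polynomial.derivative_X_pow, Polynomial.derivative_X,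
      Polynomial.eval_sub, Polynomial.eval_mul, Polynomial.eval_C, Polynomial.eval_pow, Polynomial.eval_X,
      Polynomial.eval_one]
    have : ((2 : ℕ) : T) * a ^ (2 - 1) - 1 = 2 * a - 1 := by norm_num
    rw [this, show (2 * a - 1) * (2 * a - 1) - 1 = 4 * (a * a - a) by ring]
    exact I.mul_mem_left _ ha
  obtain ⟨x, hx, hxa⟩ := HenselianRing.is_henselian (I := I) f hf a
    (by simpa [f, sq] using ha) hd
  refine ⟨x, ?_, Ideal.Quotient.eq.2 hxa⟩
  show x * x = x
  have hx' := hx
  simp [f, Polynomial.IsRoot] at hx'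
  linear_combination hx'

theorem core (L C : Type u) [CommRing L] [IsLocalRing L] [IsNoetherianRing L]
    (hL : CAlg.IsRegularHom L (EGA4.Cpl L)) [CommRing C] [Algebra L C] [Module.Finite L C]
    (q : Ideal C) [q.IsMaximal] (B : Type u) [CommRing B] [IsLocalRing B] [IsNoetherianRing B] [Algebra C B]
    [IsLocalization.AtPrime B q] : CAlg.IsRegularHom B (EGA4.Cpl B) := by
  have hcompl := Hens22.isCompl'_adic L
  have : IsNoetherianRing (EGA4.Cpl L) := hcompl.noetherian
  have : IsAdicComplete (maximalIdeal (EGA4.Cpl L)) (EGA4.Cpl L) := hcompl.complete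
  have := EGA4H10.faithfullyFlat_cpl L
  let T := C ⊗[L] EGA4.Cpl L
  let _ : Algebra (EGA4.Cpl L) T := Algebra.TensorProduct.rightAlgebra
  have hfin : Module.Finite (EGA4.Cpl L) T :=
    Module.Finite.equiv (Algebra.TensorProduct.commRight L (EGA4.Cpl L) C).toLinearEquiv
  have : IsNoetherianRing T := isNoetherian_of_tower (EGA4.Cpl L) inferInstance
  have hCT : CAlg.IsRegularHom C T := CAlg5.isRegularHom_baseChange L (EGA4.Cpl L) C hL
  have : Module.FaithfullyFlat C T := inferInstance
  obtain ⟨P, hP⟩ := PrimeSpectrum.comap_surjective_of_faithfullyFlat (A := C) (B := T) ⟨q, inferInstance⟩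
  obtain ⟨M, hM, hPM⟩ := Ideal.exists_le_maximal P.asIdeal P.2.ne_top
  have hMq : M.comap (algebraMap C T) = q :=
    (Ideal.IsMaximal.eq_of_le inferInstance (Ideal.IsPrime.comap _).ne_top
      ((congrArg PrimeSpectrum.asIdeal hP).ge.trans (Ideal.comap_mono hPM))).symm
  let TM := Localization.AtPrime M
  have : IsNoetherianRing TM := IsLocalization.isNoetherianRing M.primeCompl _ inferInstance
  have : IsAdicComplete ((maximalIdeal (EGA4.Cpl L)).map (algebraMap (EGA4.Cpl L) T)) T :=
    SGA3a.isAdicComplete_map_of_finite T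
  have hbij := Hens22.bijective_pi_atPrime_of_surjOn (A := EGA4.Cpl L) T (surjOn_idempotents _)
  have hsurj : Function.Surjective (algebraMap T TM) := fun y => by
    classical
    obtain ⟨t, ht⟩ := hbij.2 (Function.update 0 ⟨M, hM⟩ y)
    refine ⟨t, (congrFun ht ⟨M, hM⟩).trans ?_⟩
    simp [TM]
  have : Module.Finite (EGA4.Cpl L) TM :=
    Module.Finite.of_surjective (IsScalarTower.toAlgHom (EGA4.Cpl L) T TM).toLinearMap hsurj
  have hTMcompl :=
    EGA4H10.isAdicComplete_maximalIdeal_of_finite (EGA4.Cpl L) TM
  have hTMc : CAlg.IsRegularHom TM (EGA4.Cpl TM) :=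
    isRegularHom_of_bijective TM (EGA4.Cpl TM)
      (AdicCompletion.of_bijective_iff.2 hTMcompl)
  let Cq := Localization.AtPrime (M.comap (algebraMap C T))
  let _ : Algebra Cq TM := (Localization.localRingHom _ M (algebraMap C T) rfl).toAlgebra
  have h1 : CAlg.IsRegularHom Cq TM := localization_isRegularHom hCT M
  have : IsLocalization.AtPrime Cq q := by
    have : ∀ J : Ideal C, [J.IsPrime] → J = q → IsLocalization.AtPrime (Localization.AtPrime J) q :=
      fun J _ hJ => by subst hJ; infer_instance
    exact this _ hMq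
  let e : B ≃ₐ[C] Cq := IsLocalization.algEquiv q.primeCompl B Cq
  let _ : Algebra B Cq := e.toRingEquiv.toRingHom.toAlgebra
  let _ : Algebra B TM := ((algebraMap Cq TM).comp e.toRingEquiv.toRingHom).toAlgebra
  have : IsScalarTower B Cq TM := IsScalarTower.of_algebraMap_eq fun _ => rfl
  have h2 : CAlg.IsRegularHom B TM :=
    CAlg5.isRegularHom_comp B Cq TM (isRegularHom_of_bijective B Cq e.bijective) h1
      fun p _ => isNoetherianRing_fiber p
  have : IsLocalHom (algebraMap B TM) := by
    have hl : IsLocalHom (algebraMap Cq TM) := Localization.isLocalHom_localRingHom _ M (algebraMap C T) rfl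
    exact ⟨fun b hb => (MulEquiv.isUnit_map e).1 (hl.map_nonunit (e b) hb)⟩
  obtain ⟨_, _, _, _, _, _, _⟩ :=
    letI := h2.1
    Ega11.FormalDescent.exists_cpl_map B TM
  exact CAlg5.isRegularHom_of_comp_of_faithfullyFlat B (EGA4.Cpl B) (EGA4.Cpl TM)
    (CAlg5.isRegularHom_comp B TM (EGA4.Cpl TM) h2 hTMc fun p _ => isNoetherianRing_fiber p)

theorem quasiFinite (R R' : Type u) [CommRing R] [CommRing R'] [IsNoetherianRing R] [IsNoetherianRing R']
    [Algebra R R'] [Algebra.FiniteType R R'] (p' : Ideal R') [p'.IsPrime] [Algebra.QuasiFiniteAt R p']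
    (p : Ideal R) [p.IsPrime] [p'.LiesOver p]
    (h : CAlg.IsRegularHom (Localization.AtPrime p) (EGA4.Cpl (Localization.AtPrime p))) :
    CAlg.IsRegularHom (Localization.AtPrime p') (EGA4.Cpl (Localization.AtPrime p')) := by
  let L := Localization.AtPrime p
  let B := Localization.AtPrime p'
  have : IsNoetherianRing L := IsLocalization.isNoetherianRing p.primeCompl _ inferInstance
  have : IsNoetherianRing B := IsLocalization.isNoetherianRing p'.primeCompl _ inferInstance
  let _ := Localization.AtPrime.algebraOfLiesOver p p'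
  have : Algebra.EssFiniteType R B := Algebra.EssFiniteType.comp R R' B
  have : Algebra.EssFiniteType L B := Algebra.EssFiniteType.of_comp R L B
  have hqf : Algebra.QuasiFinite L B := Algebra.QuasiFinite.of_restrictScalars R L B
  let m := maximalIdeal L
  have hlh : IsLocalHom (algebraMap L B) := Localization.isLocalHom_localRingHom p p' (algebraMap R R') (p'.over_def p)
  have h0 : (maximalIdeal B).comap (algebraMap L B) = m :=
    ((IsLocalRing.local_hom_TFAE (algebraMap L B)).out 0 4).mp hlh
  have : (maximalIdeal B).LiesOver m := ⟨h0.symm⟩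
  have hfib : Module.Finite (L ⧸ m) (B ⧸ m.map (algebraMap L B)) := by
    have : Algebra.QuasiFinite (L ⧸ m) (B ⧸ m.map (algebraMap L B)) :=
      Algebra.QuasiFinite.of_restrictScalars L (L ⧸ m) _
    have : IsArtinianRing (L ⧸ m) := by
      let := Ideal.Quotient.field m
      infer_instance
    exact Module.Finite.of_quasiFinite
  have : Module.Finite L (B ⧸ m.map (algebraMap L B)) := Module.Finite.trans (L ⧸ m) _
  have hres : Module.Finite (ResidueField L) (ResidueField B) := by
    have hle : m.map (algebraMap L B) ≤ maximalIdeal B :=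
      Ideal.map_le_iff_le_comap.2 (Ideal.LiesOver.over (P := maximalIdeal B) (p := m)).le
    have : Module.Finite L (ResidueField B) :=
      Module.Finite.of_surjective (Ideal.Quotient.factorₐ L hle).toLinearMap (Ideal.Quotient.factor_surjective hle)
    exact Module.Finite.of_restrictScalars_finite L _ _
  have hdim : ringKrullDim (B ⧸ m.map (algebraMap L B)) = 0 := by
    have : IsArtinianRing (B ⧸ m.map (algebraMap L B)) := by
      let := Ideal.Quotient.field m
      exact IsArtinianRing.of_finite (L ⧸ m) _
    have : Nontrivial (B ⧸ m.map (algebraMap L B)) := Ideal.Quotient.nontrivial_iff.2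
      (ne_top_of_le_ne_top (maximalIdeal.isMaximal B).ne_top
        (Ideal.map_le_iff_le_comap.2 (Ideal.LiesOver.over (P := maximalIdeal B) (p := m)).le))
    exact le_antisymm (Ring.krullDimLE_iff.1 (inferInstanceAs (Ring.KrullDimLE 0 _))) ringKrullDim_nonneg_of_nontrivial
  obtain ⟨C, _, _, _, _, q, _, hCfin, hCloc⟩ := LocalQF.exists_finite_localization L B hres hdim
  have hq : q.IsMaximal := by
    refine Ideal.isMaximal_of_isIntegral_of_isMaximal_comap (R := L) q ?_
    have h1 : q = (maximalIdeal B).comap (algebraMap C B) := (IsLocalization.AtPrime.under_maximalIdeal B q).symm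
    rw [h1, Ideal.comap_comap, ← IsScalarTower.algebraMap_eq, ← Ideal.under_def,
      ← Ideal.LiesOver.over (P := maximalIdeal B) (p := m)]
    infer_instance
  exact core L C h q B

end Groth.Agent.CAlg4.QFRegular
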