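import Groth.Agent.Henz21.CatenaryHenz
import Groth.Agent.CAlg4.QFRegular
import Groth.Agent.CAlg4.GRingGeneric
import Groth.Prelude.Def_EGA4b
import Mathlib

/-! Formal fibres of finite algebras over a local ring. -/

set_option autoImplicit false
universe u
open IsLocalRing TensorProduct

namespace Groth.Agent.CAlg4.FormalFibreFinite

/-- All formal fibres are regular, with the residue fields given abstractly. -/
def RegFib (B : Type u) [CommRing B] [IsLocalRing B] : Prop :=
  ∀ (k : Type u) [Field k] [Algebra B k],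
    (∀ x : k, ∃ a b : B, algebraMap B k b ≠ 0 ∧ x * algebraMap B k b = algebraMap B k a) →
      IsRegularRing (k ⊗[B] EGA4.Cpl B)

theorem regFib_of_formalFibre (B : Type u) [CommRing B] [IsLocalRing B]
    (h : ∀ (Q : Ideal B) [Q.IsPrime], IsRegularRing (EGA4.formalFibre B Q)) : RegFib B := by
  intro k _ _ hk
  let Q := RingHom.ker (algebraMap B k)
  have : Q.IsPrime := RingHom.ker_isPrime _
  let g : Q.ResidueField →ₐ[B] k := Ideal.ResidueField.liftₐ Q (Algebra.ofId B k) le_rfl
    (fun x hx => isUnit_iff_ne_zero.2 hx)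
  have hbij : Function.Bijective g := by
    refine ⟨g.toRingHom.injective, fun x => ?_⟩
    obtain ⟨a, b, hb, hab⟩ := hk x
    refine ⟨algebraMap B _ a / algebraMap B _ b, ?_⟩
    rw [map_div₀, g.commutes, g.commutes, ← hab, mul_div_assoc, div_self hb, mul_one]
  have := h Q
  exact IsRegularRing.of_ringEquiv (R := EGA4.formalFibre B Q)
    (Algebra.TensorProduct.congr (AlgEquiv.ofBijective g hbij) (AlgEquiv.refl (R := B) (A₁ := EGA4.Cpl B))).toRingEquiv

theorem regFib_of_surjective (A T : Type u) [CommRing A] [IsNoetherianRing A] [IsLocalRing A] [CommRing T]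
    [IsLocalRing T] [Algebra A T] (hs : Function.Surjective (algebraMap A T)) (h : RegFib A) : RegFib T := by
  intro k _ _ hk
  let _ : Algebra A k := ((algebraMap T k).comp (algebraMap A T)).toAlgebra
  have : IsScalarTower A T k := IsScalarTower.of_algebraMap_eq fun _ => rfl
  have := h k fun x => by
    obtain ⟨a, b, hb, hab⟩ := hk x
    obtain ⟨a, rfl⟩ := hs a
    obtain ⟨b, rfl⟩ := hs b
    exact ⟨a, b, hb, hab⟩
  obtain ⟨φ⟩ := GRingGeneric.exists_cpl_surjective A T hs
  exact IsRegularRing.of_ringEquiv (R := k ⊗[A] EGA4.Cpl A)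
    ((Algebra.TensorProduct.cancelBaseChange A T T k (EGA4.Cpl A)).symm.toRingEquiv.trans
      (Algebra.TensorProduct.congr (AlgEquiv.refl (R := T) (A₁ := k)) φ).toRingEquiv)

theorem mem_pow_iff {B E : Type u} [CommRing B] [CommRing E] [IsLocalRing B] [IsLocalRing E] [Algebra B E]
    [Module.FaithfullyFlat B E] (hmax : (maximalIdeal B).map (algebraMap B E) = maximalIdeal E) (n : ℕ) (b : B) :
    algebraMap B E b ∈ maximalIdeal E ^ n ↔ b ∈ maximalIdeal B ^ n := by
  rw [← hmax, ← Ideal.map_pow, ← Ideal.mem_comap, Ideal.comap_map_eq_self_of_faithfullyFlat]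

theorem isRegularLocalRing_of_tensor {C k T TM : Type u} [CommRing C] [CommRing k] [CommRing T] [CommRing TM]
    [Algebra C k] [Algebra C T] [Algebra C TM] [Algebra T TM] [IsScalarTower C T TM]
    (M : Ideal T) [M.IsPrime] [IsLocalization.AtPrime TM M] [IsRegularRing (k ⊗[C] TM)]
    (P : Ideal (k ⊗[C] T)) [P.IsPrime]
    (hP : ∀ t : T, (1 : k) ⊗ₜ[C] t ∈ P → t ∈ M) : IsRegularLocalRing (Localization.AtPrime P) := by
  let f : k ⊗[C] T →ₐ[k] k ⊗[C] TM := Algebra.TensorProduct.map (AlgHom.id k k) (IsScalarTower.toAlgHom C T TM)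
  let : Algebra (k ⊗[C] T) (k ⊗[C] TM) := f.toRingHom.toAlgebra
  have : IsScalarTower k (k ⊗[C] T) (k ⊗[C] TM) := .of_algebraMap_eq fun y => by
    show y ⊗ₜ[C] (1 : TM) = f (y ⊗ₜ 1)
    simp [f]
  let N : Submonoid (k ⊗[C] T) :=
    M.primeCompl.map (Algebra.TensorProduct.includeRight (R := C) (A := k) (B := T))
  have : IsLocalization N (k ⊗[C] TM) :=
    IsLocalization.tensorProduct_tensorProduct_right C k M.primeCompl TM (by
      ext t
      show f (1 ⊗ₜ t) = 1 ⊗ₜ algebraMap T TM t
      simp [f])
  have hdisj : Disjoint (N : Set (k ⊗[C] T)) (P : Set (k ⊗[C] T)) := by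
    rw [Set.disjoint_left]
    rintro _ ⟨t, ht, rfl⟩ hx
    exact ht (hP t hx)
  let Q := P.map (algebraMap (k ⊗[C] T) (k ⊗[C] TM))
  have : Q.IsPrime := IsLocalization.isPrime_of_isPrime_disjoint N _ P inferInstance hdisj
  have hcomap : Q.comap (algebraMap (k ⊗[C] T) (k ⊗[C] TM)) = P :=
    IsLocalization.under_map_of_isPrime_disjoint N _ inferInstance hdisj
  have hloc : IsLocalization.AtPrime (Localization.AtPrime Q)
      (Q.comap (algebraMap (k ⊗[C] T) (k ⊗[C] TM))) :=
    IsLocalization.isLocalization_isLocalization_atPrime_isLocalization N _ Q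
  simp only [hcomap] at hloc
  exact IsRegularLocalRing.of_ringEquiv (R := Localization.AtPrime Q)
    (IsLocalization.algEquiv P.primeCompl (Localization.AtPrime Q) (Localization.AtPrime P)).toRingEquiv

variable (L C : Type u) [CommRing L] [IsLocalRing L] [IsNoetherianRing L] [CommRing C] [Algebra L C]
  [Module.Finite L C]

theorem exists_sub_mem (n : ℕ) (t : C ⊗[L] EGA4.Cpl L) :
    ∃ c : C, t - algebraMap C _ c ∈ (maximalIdeal L ^ n).map (algebraMap L (C ⊗[L] EGA4.Cpl L)) := by
  have hcompl := Hens22.isCompl'_adic L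
  induction t using TensorProduct.induction_on with
  | zero => exact ⟨0, by simp⟩
  | tmul c l =>
    obtain ⟨a, ha⟩ := hcompl.exists_sub_mem n l
    refine ⟨a • c, ?_⟩
    rw [show (c ⊗ₜ[L] l : C ⊗[L] EGA4.Cpl L) - algebraMap C _ (a • c) =
        (c ⊗ₜ 1) * Algebra.TensorProduct.includeRight (l - algebraMap L (EGA4.Cpl L) a) from by
      rw [Algebra.TensorProduct.includeRight_apply, Algebra.TensorProduct.tmul_mul_tmul, one_mul, mul_one,
        TensorProduct.tmul_sub, Algebra.TensorProduct.algebraMap_apply, Algebra.algebraMap_self, RingHom.id_apply,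
        TensorProduct.smul_tmul, Algebra.algebraMap_eq_smul_one]]
    refine Ideal.mul_mem_left _ _ ?_
    rw [← hcompl.map_eq, ← Ideal.map_pow] at ha
    have := Ideal.mem_map_of_mem (Algebra.TensorProduct.includeRight (R := L) (A := C) (B := EGA4.Cpl L)).toRingHom ha
    rw [Ideal.map_map] at this
    convert this using 2
    · exact ((Algebra.TensorProduct.includeRight (R := L) (A := C) (B := EGA4.Cpl L)).comp_algebraMap).symm
    · rfl
  | add x y hx hy =>
    obtain ⟨c, hc⟩ := hx
    obtain ⟨d, hd⟩ := hy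
    exact ⟨c + d, by rw [map_add, add_sub_add_comm]; exact add_mem hc hd⟩

theorem exists_cpl_equiv (M : Ideal (C ⊗[L] EGA4.Cpl L)) [M.IsMaximal] :
    Nonempty (EGA4.Cpl (Localization.AtPrime (M.comap (algebraMap C (C ⊗[L] EGA4.Cpl L)))) ≃ₐ[C]
      Localization.AtPrime M) := by
  have hcompl := Hens22.isCompl'_adic L
  have : IsNoetherianRing (EGA4.Cpl L) := hcompl.noetherian
  have : IsAdicComplete (maximalIdeal (EGA4.Cpl L)) (EGA4.Cpl L) := hcompl.complete
  have : Module.Flat L (EGA4.Cpl L) := hcompl.flat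
  let T := C ⊗[L] EGA4.Cpl L
  let _ : Algebra (EGA4.Cpl L) T := Algebra.TensorProduct.rightAlgebra
  have hfin : Module.Finite (EGA4.Cpl L) T :=
    Module.Finite.equiv (Algebra.TensorProduct.commRight L (EGA4.Cpl L) C).toLinearEquiv
  have : IsNoetherianRing T := isNoetherian_of_tower (EGA4.Cpl L) inferInstance
  have : IsNoetherianRing C := Algebra.FiniteType.isNoetherianRing L C
  let q := M.comap (algebraMap C T)
  let B := Localization.AtPrime q
  let TM := Localization.AtPrime M
  have : IsNoetherianRing B := IsLocalization.isNoetherianRing q.primeCompl _ inferInstance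
  have : IsNoetherianRing TM := IsLocalization.isNoetherianRing M.primeCompl _ inferInstance
  have : IsAdicComplete ((maximalIdeal (EGA4.Cpl L)).map (algebraMap (EGA4.Cpl L) T)) T :=
    SGA3a.isAdicComplete_map_of_finite T
  have hbij := Hens22.bijective_pi_atPrime_of_surjOn (A := EGA4.Cpl L) T (QFRegular.surjOn_idempotents _)
  have hsurj : Function.Surjective (algebraMap T TM) := fun y => by
    classical
    obtain ⟨t, ht⟩ := hbij.2 (Function.update 0 ⟨M, inferInstance⟩ y)
    refine ⟨t, (congrFun ht ⟨M, inferInstance⟩).trans ?_⟩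
    simp [TM]
  have : Module.Finite (EGA4.Cpl L) TM :=
    Module.Finite.of_surjective (IsScalarTower.toAlgHom (EGA4.Cpl L) T TM).toLinearMap hsurj
  have hTMcompl := EGA4H10.isAdicComplete_maximalIdeal_of_finite (EGA4.Cpl L) TM
  let _ : Algebra B TM := (Localization.localRingHom q M (algebraMap C T) rfl).toAlgebra
  have hlh : IsLocalHom (algebraMap B TM) := Localization.isLocalHom_localRingHom q M (algebraMap C T) rfl
  have : IsScalarTower C B TM := IsScalarTower.of_algebraMap_eq fun c =>
    ((Localization.localRingHom_to_map q M (algebraMap C T) rfl c).trans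
      (IsScalarTower.algebraMap_apply C T TM c).symm).symm
  have : Module.Flat T TM := IsLocalization.flat TM M.primeCompl
  have hflatC : Module.Flat C TM := Module.Flat.trans C T TM
  have hflat : Module.Flat B TM := (Module.flat_iff_of_isLocalization B q.primeCompl TM).2 hflatC
  have hff : Module.FaithfullyFlat B TM := @Module.FaithfullyFlat.of_flat_of_isLocalHom B TM _ _ _ _ _ _ _
  have hlying : (maximalIdeal L).map (algebraMap L T) ≤ M := by
    rw [IsScalarTower.algebraMap_eq L (EGA4.Cpl L) T, ← Ideal.map_map, hcompl.map_eq,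
      Ideal.map_le_iff_le_comap]
    have : (M.comap (algebraMap (EGA4.Cpl L) T)).IsMaximal := Ideal.isMaximal_comap_of_isIntegral_of_isMaximal M
    exact (eq_maximalIdeal this).ge
  have key : ∀ (n : ℕ) (x : TM), ∃ b : B, x - algebraMap B TM b ∈ maximalIdeal TM ^ n := by
    intro n x
    obtain ⟨t, rfl⟩ := hsurj x
    obtain ⟨c, hc⟩ := exists_sub_mem L C n t
    refine ⟨algebraMap C B c, ?_⟩
    rw [← IsScalarTower.algebraMap_apply C B TM, IsScalarTower.algebraMap_apply C T TM, ← map_sub (algebraMap T TM)]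
    have := Ideal.mem_map_of_mem (algebraMap T TM) hc
    rw [Ideal.map_pow, Ideal.map_pow] at this
    refine Ideal.pow_right_mono ?_ n this
    rw [← Localization.AtPrime.map_eq_maximalIdeal (I := M)]
    exact Ideal.map_mono hlying
  have hmax : (maximalIdeal B).map (algebraMap B TM) = maximalIdeal TM := by
    refine le_antisymm (((IsLocalRing.local_hom_TFAE (algebraMap B TM)).out 0 2).1 hlh) fun x hx => ?_
    obtain ⟨t, rfl⟩ := hsurj x
    obtain ⟨c, hc⟩ := exists_sub_mem L C 1 t
    rw [pow_one] at hc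
    have htM : t ∈ M := (IsLocalization.AtPrime.to_map_mem_maximal_iff TM M t).1 hx
    have hcq : c ∈ q := by
      show algebraMap C T c ∈ M
      have h2 := sub_mem htM (hlying hc)
      rwa [sub_sub_cancel] at h2
    have h1 : ∀ y ∈ (maximalIdeal L).map (algebraMap L T),
        algebraMap T TM y ∈ (maximalIdeal B).map (algebraMap B TM) := by
      intro y hy
      have := Ideal.mem_map_of_mem (algebraMap T TM) hy
      rw [Ideal.map_map, ← IsScalarTower.algebraMap_eq, IsScalarTower.algebraMap_eq L C TM,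
        IsScalarTower.algebraMap_eq C B TM, RingHom.comp_assoc, ← Ideal.map_map] at this
      refine Ideal.map_mono ?_ this
      rw [← Ideal.map_map, ← Localization.AtPrime.map_eq_maximalIdeal (I := q)]
      refine Ideal.map_mono (Ideal.map_le_iff_le_comap.2 ?_)
      rw [Ideal.comap_comap, ← IsScalarTower.algebraMap_eq]
      exact Ideal.map_le_iff_le_comap.1 hlying
    rw [← sub_add_cancel t (algebraMap C T c), map_add]
    refine add_mem (h1 _ hc) ?_
    rw [← IsScalarTower.algebraMap_apply C T TM, IsScalarTower.algebraMap_apply C B TM]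
    exact Ideal.mem_map_of_mem _ ((IsLocalization.AtPrime.to_map_mem_maximal_iff B q c).2 hcq)
  have hC : Hens22.IsCompl' B TM :=
    { flat := hflat
      noetherian := inferInstance
      complete := hTMcompl
      map_eq := hmax
      mem_pow_iff := mem_pow_iff hmax
      exists_sub_mem := key }
  obtain ⟨g, hg⟩ := Henz21.CatHenz.exists_cplEquiv hC
  refine ⟨AlgEquiv.ofRingEquiv (f := g) fun c => ?_⟩
  rw [IsScalarTower.algebraMap_apply C B (EGA4.Cpl B), hg, ← IsScalarTower.algebraMap_apply]

variable (k : Type u) [Field k] [Algebra C k] [Algebra L k] [IsScalarTower L C k] [Algebra.EssFiniteType L k]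

/-- Regularity of a fibre of the completion from the formal fibres of a finite algebra. -/
theorem regular_of_finite (hk : ∀ x : k, ∃ a b : C, algebraMap C k b ≠ 0 ∧ x * algebraMap C k b = algebraMap C k a)
    (h : ∀ (q : Ideal C) [q.IsPrime], RegFib (Localization.AtPrime q)) :
    IsRegularRing (k ⊗[L] EGA4.Cpl L) := by
  have hcompl := Hens22.isCompl'_adic L
  have : IsNoetherianRing (EGA4.Cpl L) := hcompl.noetherian
  let T := C ⊗[L] EGA4.Cpl L
  let _ : Algebra (EGA4.Cpl L) T := Algebra.TensorProduct.rightAlgebra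
  have hfin : Module.Finite (EGA4.Cpl L) T :=
    Module.Finite.equiv (Algebra.TensorProduct.commRight L (EGA4.Cpl L) C).toLinearEquiv
  let e : k ⊗[C] T ≃+* k ⊗[L] EGA4.Cpl L :=
    (Algebra.TensorProduct.cancelBaseChange L C C k (EGA4.Cpl L)).toRingEquiv
  have : IsNoetherianRing (k ⊗[L] EGA4.Cpl L) := by
    have : IsNoetherianRing (EGA4.Cpl L ⊗[L] k) := Algebra.EssFiniteType.isNoetherianRing (EGA4.Cpl L) _
    exact isNoetherianRing_of_ringEquiv _ (Algebra.TensorProduct.comm L (EGA4.Cpl L) k).toRingEquiv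
  let U := k ⊗[C] T
  have : IsNoetherianRing U := isNoetherianRing_of_ringEquiv _ e.symm
  suffices IsRegularRing U from IsRegularRing.of_ringEquiv (R := U) e
  refine isRegularRing_iff.mpr fun P _ => ?_
  let P' := P.comap (Algebra.TensorProduct.includeRight : T →ₐ[C] U).toRingHom
  obtain ⟨M, hM, hPM⟩ := Ideal.exists_le_maximal P' (Ideal.IsPrime.comap _).ne_top
  let q := M.comap (algebraMap C T)
  let B := Localization.AtPrime q
  let TM := Localization.AtPrime M
  have hu : ∀ c : q.primeCompl, IsUnit (algebraMap C k c) := fun c => by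
    refine isUnit_iff_ne_zero.2 fun h0 => c.2 ?_
    show algebraMap C T c ∈ M
    refine hPM ?_
    show (1 : k) ⊗ₜ[C] algebraMap C T c ∈ P
    rw [Algebra.algebraMap_eq_smul_one, TensorProduct.tmul_smul, TensorProduct.smul_tmul',
      ← Algebra.algebraMap_eq_smul_one, h0, TensorProduct.zero_tmul]
    exact zero_mem _
  let _ : Algebra B k := (IsLocalization.lift (M := q.primeCompl) hu).toAlgebra
  have : IsScalarTower C B k := IsScalarTower.of_algebraMap_eq fun c => (IsLocalization.lift_eq hu c).symm
  have hreg : IsRegularRing (k ⊗[B] EGA4.Cpl B) := h q k fun x => by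
    obtain ⟨a, b, hb, hab⟩ := hk x
    exact ⟨algebraMap C B a, algebraMap C B b, by rwa [← IsScalarTower.algebraMap_apply],
      by rwa [← IsScalarTower.algebraMap_apply, ← IsScalarTower.algebraMap_apply]⟩
  obtain ⟨g⟩ := exists_cpl_equiv L C M
  have hregM : IsRegularRing (k ⊗[C] TM) :=
    IsRegularRing.of_ringEquiv (R := k ⊗[B] EGA4.Cpl B)
      (((IsLocalization.algebraTensorEquiv (R := C) q.primeCompl B k (EGA4.Cpl B)).toRingEquiv).trans
        (Algebra.TensorProduct.congr (AlgEquiv.refl (R := C) (A₁ := k)) g).toRingEquiv)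
  exact isRegularLocalRing_of_tensor (TM := TM) M P fun t ht => hPM ht

end Groth.Agent.CAlg4.FormalFibreFinite
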