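import Mathlib.Algebra.Homology.HomologicalComplex
import Mathlib.Algebra.Category.ModuleCat.Abelian
import Mathlib.LinearAlgebra.Dimension.Free
import Mathlib.LinearAlgebra.Basis.Basic

/-! Finitely many elements of a bounded above free complex lie in a bounded finite free subcomplex. -/

universe u

open CategoryTheory CategoryTheory.Limits

namespace Groth.Agent.CAlg4.FreeSubcx

variable {R : Type u} [CommRing R] (F : CochainComplex (ModuleCat.{u} R) ℤ)

theorem exists_sub (hfree : ∀ n : ℤ, Module.Free R (F.X n)) (b : ℤ) (hb : ∀ n : ℤ, b < n → IsZero (F.X n))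
    (N : ℕ) (deg : Fin N → ℤ) (f : ∀ i : Fin N, F.X (deg i)) :
    ∃ (G : CochainComplex (ModuleCat.{u} R) ℤ) (ι : G ⟶ F),
      (∀ n : ℤ, Function.Injective (ι.f n)) ∧
      (∃ a c : ℤ, ∀ n : ℤ, (n < a ∨ c < n) → IsZero (G.X n)) ∧
      (∀ n : ℤ, Module.Finite R (G.X n) ∧ Module.Free R (G.X n)) ∧
      ∀ i : Fin N, f i ∈ Set.range (ι.f (deg i)) := by
  classical
  obtain ⟨a, ha⟩ : ∃ a : ℤ, ∀ i, a ≤ deg i := by
    obtain ⟨a, ha⟩ := (Set.finite_range deg).bddBelow
    exact ⟨a, fun i => ha ⟨i, rfl⟩⟩
  let B : ∀ n, Module.Basis (Module.Free.ChooseBasisIndex R (F.X n)) R (F.X n) :=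
    fun n => letI := hfree n; Module.Free.chooseBasis R (F.X n)
  let seeds : ∀ n : ℤ, Finset (Module.Free.ChooseBasisIndex R (F.X n)) := fun n =>
    Finset.univ.biUnion fun i : Fin N =>
      if h : deg i = n then ((B n).repr (h ▸ f i : F.X n)).support else ∅
  -- the index sets, increasing from degree `a`
  obtain ⟨S, hS0, hSd, hSseed⟩ : ∃ S : ∀ n : ℤ, Finset (Module.Free.ChooseBasisIndex R (F.X n)),
      (∀ n, n < a → S n = ∅) ∧
      (∀ n, ∀ j ∈ S n, ((B (n + 1)).repr ((F.d n (n + 1)).hom (B n j))).support ⊆ S (n + 1)) ∧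
      ∀ n, a ≤ n → seeds n ⊆ S n := by
    let T : ℕ → ∀ n : ℤ, Finset (Module.Free.ChooseBasisIndex R (F.X n)) := fun k => Nat.rec seeds
      (fun _ T n => seeds n ∪
        (T (n - 1)).biUnion fun j => ((B n).repr ((F.d (n - 1) n).hom (B (n - 1) j))).support) k
    have hT : ∀ (k : ℕ) (m n : ℤ), m + 1 = n → ∀ j ∈ T k m,
        ((B n).repr ((F.d m n).hom (B m j))).support ⊆ T (k + 1) n := by
      intro k m n hmn j hj
      obtain rfl : m = n - 1 := by omega
      exact (Finset.subset_biUnion_of_mem
        (fun j => ((B n).repr ((F.d (n - 1) n).hom (B (n - 1) j))).support) hj).trans Finset.subset_union_right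
    have hTs : ∀ (k : ℕ) (n : ℤ), seeds n ⊆ T k n := fun k n => by
      cases k with
      | zero => exact subset_refl _
      | succ k => exact Finset.subset_union_left
    refine ⟨fun n => if a ≤ n then T (n - a).toNat n else ∅, fun n hn => if_neg hn.not_ge,
      fun n j hj => ?_, fun n hn => by simp only [if_pos hn]; exact hTs _ _⟩
    by_cases hn : a ≤ n
    · simp only [if_pos hn] at hj
      simp only [if_pos (show a ≤ n + 1 by omega), show (n + 1 - a).toNat = (n - a).toNat + 1 by omega]
      exact hT _ n (n + 1) rfl j hj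
    · simp [hn] at hj
  let P : ∀ n, Submodule R (F.X n) := fun n => Submodule.span R (B n '' (S n : Set _))
  have hd : ∀ n m, P n ≤ (P m).comap (F.d n m).hom := by
    intro n m
    by_cases hnm : n + 1 = m
    · subst hnm
      rw [Submodule.span_le]
      rintro _ ⟨j, hj, rfl⟩
      exact (B (n + 1)).mem_span_image.2 (Finset.coe_subset.2 (hSd n j hj))
    · intro x _
      rw [F.shape n m hnm]
      simp
  let G : CochainComplex (ModuleCat.{u} R) ℤ :=
    { X := fun n => ModuleCat.of R (P n)
      d := fun n m => ModuleCat.ofHom ((F.d n m).hom.restrict fun x hx => hd n m hx)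
      shape := fun n m h => ModuleCat.hom_ext (LinearMap.ext fun x => Subtype.ext (by
        show (F.d n m).hom x = 0
        rw [F.shape n m h]; rfl))
      d_comp_d' := fun i j k _ _ => ModuleCat.hom_ext (LinearMap.ext fun x => Subtype.ext (by
        show (F.d j k).hom ((F.d i j).hom x) = 0
        rw [← ModuleCat.comp_apply, F.d_comp_d]
        rfl)) }
  have hfin : ∀ n, Module.Finite R (P n) ∧ Module.Free R (P n) := fun n => by
    refine ⟨Module.Finite.span_of_finite R ((S n).finite_toSet.image _), ?_⟩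
    have := ((B n).linearIndependent.comp (Subtype.val : S n → _) Subtype.val_injective)
    have e : P n = Submodule.span R (Set.range (B n ∘ (Subtype.val : S n → _))) := by
      rw [Set.range_comp, Subtype.range_coe_subtype]; rfl
    exact .of_equiv ((Module.Basis.span this).repr.symm.trans (LinearEquiv.ofEq _ _ e.symm))
  refine ⟨G, ⟨fun n => ModuleCat.ofHom (P n).subtype, fun i j _ => by ext x; rfl⟩,
    fun n => Subtype.val_injective, ⟨a, max a b, fun n hn => ?_⟩, hfin, fun i => ?_⟩
  · have : Subsingleton (P n) := by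
      rcases hn with hn | hn
      · have : P n = ⊥ := by simp [P, hS0 n hn]
        rw [this]; infer_instance
      · have := ModuleCat.subsingleton_of_isZero (hb n (lt_of_le_of_lt (le_max_right a b) hn))
        infer_instance
    exact ModuleCat.isZero_of_subsingleton _
  · refine ⟨⟨f i, (B (deg i)).mem_span_image.2 fun j hj => ?_⟩, rfl⟩
    refine hSseed (deg i) (ha i) (Finset.mem_biUnion.2 ⟨i, Finset.mem_univ i, ?_⟩)
    rw [dif_pos rfl]
    exact hj

end Groth.Agent.CAlg4.FreeSubcx
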