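import Groth.Agent.CAlg4.FormalFibreFinite
import Groth.Agent.S0599
import Mathlib

/-! G-rings are detected by the formal fibres of finite free algebras. -/

set_option autoImplicit false
universe u
open IsLocalRing TensorProduct Polynomial

namespace Groth.Agent.CAlg4.GRingFiniteFree

/-- Finitely many integral elements of a field come from a finite free algebra. -/
theorem exists_model (R k : Type u) [CommRing R] [Field k] [Algebra R k] (s : Finset k)
    (hs : ∀ a ∈ s, IsIntegral R a) :
    ∃ (S : Type u) (_ : CommRing S) (_ : Algebra R S), Module.Finite R S ∧ Module.Free R S ∧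
      ∃ φ : S →ₐ[R] k, ∀ a ∈ s, a ∈ φ.range := by
  classical
  induction s using Finset.induction with
  | empty => exact ⟨R, inferInstance, inferInstance, inferInstance, inferInstance, Algebra.ofId R k, by simp⟩
  | insert a s _ ih =>
    obtain ⟨S, _, _, hfin, hfree, φ, hφ⟩ := ih fun b hb => hs b (Finset.mem_insert_of_mem hb)
    obtain ⟨f, hf, hfa⟩ := hs a (Finset.mem_insert_self a s)
    let g : S[X] := f.map (algebraMap R S)
    have hg : g.Monic := hf.map _
    have := hg.free_adjoinRoot
    have := hg.finite_adjoinRoot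
    have hga : g.eval₂ φ a = 0 := by
      rw [eval₂_map, show (φ : S →+* k).comp (algebraMap R S) = algebraMap R k from φ.comp_algebraMap]
      exact hfa
    let ψ : AdjoinRoot g →ₐ[R] k := AdjoinRoot.liftAlgHom g φ a hga
    refine ⟨AdjoinRoot g, inferInstance, inferInstance, Module.Finite.trans S _, Module.Free.trans (S := S), ψ,
      fun b hb => ?_⟩
    rcases Finset.mem_insert.1 hb with rfl | hb
    · exact ⟨AdjoinRoot.root g, AdjoinRoot.liftAlgHom_root g φ b hga⟩
    · obtain ⟨x, hx⟩ := hφ b hb
      exact ⟨AdjoinRoot.of g x, (AdjoinRoot.liftAlgHom_of g φ a hga x).trans hx⟩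

/-- Integral generators up to denominators. -/
theorem exists_integral_gens (R κ k : Type u) [CommRing R] [Field κ] [Field k] [Algebra R κ] [Algebra R k]
    [Algebra κ k] [IsScalarTower R κ k] [Module.Finite κ k]
    (hfrac : ∀ x : κ, ∃ r u : R, algebraMap R κ u ≠ 0 ∧ x * algebraMap R κ u = algebraMap R κ r) :
    ∃ s : Finset k, (∀ a ∈ s, IsIntegral R a) ∧
      ∀ x : k, ∃ u : R, algebraMap R κ u ≠ 0 ∧ u • x ∈ Submodule.span R (s : Set k) := by
  classical
  let I := RingHom.ker (algebraMap R κ)
  have : I.IsPrime := RingHom.ker_isPrime _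
  let R' := R ⧸ I
  let _ : Algebra R' κ := (RingHom.kerLift (algebraMap R κ)).toAlgebra
  have : IsScalarTower R R' κ := IsScalarTower.of_algebraMap_eq fun _ => rfl
  have : FaithfulSMul R' κ := (faithfulSMul_iff_algebraMap_injective R' κ).2 (RingHom.kerLift_injective _)
  have : IsFractionRing R' κ := IsFractionRing.of_field R' κ fun z => by
    obtain ⟨r, u, hu, h⟩ := hfrac z
    exact ⟨Ideal.Quotient.mk I r, Ideal.Quotient.mk I u, (eq_div_iff hu).2 h⟩
  let _ : Algebra R' k := ((algebraMap κ k).comp (algebraMap R' κ)).toAlgebra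
  have : IsScalarTower R' κ k := IsScalarTower.of_algebraMap_eq fun _ => rfl
  have : IsScalarTower R R' k := IsScalarTower.of_algebraMap_eq fun r => IsScalarTower.algebraMap_apply R κ k r
  have : Algebra.IsIntegral R R' := ⟨fun x => by
    obtain ⟨r, rfl⟩ := Ideal.Quotient.mk_surjective x
    exact isIntegral_algebraMap (R := R) (A := R') (x := r)⟩
  let b := Module.Free.chooseBasis κ k
  choose v hv using fun i =>
    (Algebra.IsIntegral.isIntegral (R := κ) (b i)).exists_multiple_integral_of_isLocalization (nonZeroDivisors R')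
  have hv0 : ∀ i, algebraMap R' κ (v i) ≠ 0 := fun i => (IsLocalization.map_units κ (v i)).ne_zero
  refine ⟨Finset.univ.image fun i => (v i : R') • b i, fun a ha => ?_, fun x => ?_⟩
  · obtain ⟨i, -, rfl⟩ := Finset.mem_image.1 ha
    exact isIntegral_trans _ (hv i)
  · obtain ⟨d, hd⟩ := IsLocalization.exist_integer_multiples_of_finite (nonZeroDivisors R')
      (fun i => b.repr x i / algebraMap R' κ (v i))
    obtain ⟨u, hu⟩ := Ideal.Quotient.mk_surjective (d : R')
    have hu' : algebraMap R κ u = algebraMap R' κ d := by
      rw [← hu]; rfl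
    refine ⟨u, hu' ▸ (IsLocalization.map_units κ d).ne_zero, ?_⟩
    choose r hr using hd
    choose r0 hr0 using fun i => Ideal.Quotient.mk_surjective (r i)
    have : u • x = ∑ i, r0 i • ((v i : R') • b i) := by
      conv_lhs => rw [← b.sum_repr x, Finset.smul_sum]
      refine Finset.sum_congr rfl fun i _ => ?_
      have hri : algebraMap R' κ (r i) = algebraMap R' κ d * (b.repr x i / algebraMap R' κ (v i)) := by
        rw [hr i, Algebra.smul_def]
      have hr0' : algebraMap R κ (r0 i) = algebraMap R' κ (r i) := by
        rw [← hr0 i]; rfl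
      rw [← algebraMap_smul κ u, ← algebraMap_smul κ (r0 i), ← algebraMap_smul κ (v i : R') (b i), smul_smul,
        smul_smul, hu', hr0', hri, mul_assoc, div_mul_cancel₀ _ (hv0 i)]
    rw [this]
    exact Submodule.sum_mem _ fun i _ => Submodule.smul_mem _ _
      (Submodule.subset_span (Finset.mem_coe.2 (Finset.mem_image_of_mem _ (Finset.mem_univ i))))

theorem main (R : Type u) [CommRing R] [IsNoetherianRing R] :
    CAlg.IsGRing R ↔
      ∀ (S : Type u) [CommRing S] [Algebra R S] [Module.Finite R S] [Module.Free R S]
        (q : Ideal S) [q.IsPrime] (p : Ideal (Localization.AtPrime q)) [p.IsPrime],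
        IsRegularRing (EGA4.formalFibre (Localization.AtPrime q) p) := by
  refine ⟨fun hR S _ _ _ _ q _ p _ => ?_, fun h => ⟨inferInstance, fun m _ => ?_⟩⟩
  · have := (((Groth.Agent.S0599.result R hR S).2 q).2 p).2 p.ResidueField inferInstance
    exact IsRegularRing.of_ringEquiv
      (R := p.ResidueField ⊗[p.ResidueField] EGA4.formalFibre (Localization.AtPrime q) p)
      (Algebra.TensorProduct.lid p.ResidueField (EGA4.formalFibre (Localization.AtPrime q) p)).toRingEquiv
  · let L := Localization.AtPrime m
    have : IsNoetherianRing L := IsLocalization.isNoetherianRing m.primeCompl _ inferInstance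
    have : IsNoetherianRing (EGA4.Cpl L) := (Hens22.isCompl'_adic L).noetherian
    refine ⟨AdicCompletion.flat_of_isNoetherian _, fun Q _ =>
      ⟨(Ega11.FibreComp.isNoetherianRing_fiber (B := EGA4.Cpl L) Q).2, fun k _ _ hk => ?_⟩⟩
    let κ := Q.ResidueField
    let _ : Algebra L k := ((algebraMap κ k).comp (algebraMap L κ)).toAlgebra
    have : IsScalarTower L κ k := IsScalarTower.of_algebraMap_eq fun _ => rfl
    let _ : Algebra R k := ((algebraMap L k).comp (algebraMap R L)).toAlgebra
    have : IsScalarTower R L k := IsScalarTower.of_algebraMap_eq fun _ => rfl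
    have : IsScalarTower R κ k := IsScalarTower.of_algebraMap_eq fun r =>
      congrArg (algebraMap κ k) (IsScalarTower.algebraMap_apply R L κ r).symm
    have : Algebra.EssFiniteType L k := Algebra.EssFiniteType.comp L κ k
    suffices IsRegularRing (k ⊗[L] EGA4.Cpl L) from
      IsRegularRing.of_ringEquiv (R := k ⊗[L] EGA4.Cpl L)
        (Algebra.TensorProduct.cancelBaseChange L κ κ k (EGA4.Cpl L)).symm.toRingEquiv
    have hfrac : ∀ x : κ, ∃ r u : R, algebraMap R κ u ≠ 0 ∧ x * algebraMap R κ u = algebraMap R κ r := by
      intro x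
      obtain ⟨a, b, hb, rfl⟩ := IsFractionRing.div_surjective (A := L ⧸ Q) x
      obtain ⟨a, rfl⟩ := Ideal.Quotient.mk_surjective a
      obtain ⟨b, rfl⟩ := Ideal.Quotient.mk_surjective b
      obtain ⟨r, s, rfl⟩ := IsLocalization.exists_mk'_eq m.primeCompl a
      obtain ⟨r', s', rfl⟩ := IsLocalization.exists_mk'_eq m.primeCompl b
      have hb' : algebraMap L κ (IsLocalization.mk' L r' s') ≠ 0 := by
        rw [IsScalarTower.algebraMap_apply L (L ⧸ Q) κ]
        exact IsFractionRing.to_map_ne_zero_of_mem_nonZeroDivisors hb
      have hs : ∀ t : m.primeCompl, algebraMap R κ t ≠ 0 := fun t => by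
        rw [IsScalarTower.algebraMap_apply R L κ]
        exact ((IsLocalization.map_units L t).map _).ne_zero
      have hmk : ∀ (r : R) (t : m.primeCompl),
          algebraMap L κ (IsLocalization.mk' L r t) * algebraMap R κ t = algebraMap R κ r := fun r t => by
        rw [IsScalarTower.algebraMap_apply R L κ, IsScalarTower.algebraMap_apply R L κ, ← map_mul,
          IsLocalization.mk'_spec]
      refine ⟨r * s', r' * s, ?_, ?_⟩
      · rw [map_mul, ← hmk r' s']
        exact mul_ne_zero (mul_ne_zero hb' (hs s')) (hs s)
      · rw [map_mul, map_mul, ← hmk r' s', ← hmk r s, ← Ideal.Quotient.algebraMap_eq,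
          ← IsScalarTower.algebraMap_apply L (L ⧸ Q) κ, ← IsScalarTower.algebraMap_apply L (L ⧸ Q) κ]
        rw [div_mul_eq_mul_div, div_eq_iff hb']
        ring
    obtain ⟨gens, hgens, hclear⟩ := exists_integral_gens R κ k hfrac
    obtain ⟨S, _, _, hfin, hfree, φ, hφ⟩ := exists_model R k gens hgens
    have : IsNoetherianRing S := Algebra.FiniteType.isNoetherianRing R S
    let C := S ⊗[R] L
    let _ : Algebra L C := Algebra.TensorProduct.rightAlgebra
    have : Module.Finite L C := Module.Finite.equiv (Algebra.TensorProduct.commRight R L S).toLinearEquiv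
    let ψ : C →ₐ[R] k := Algebra.TensorProduct.lift φ (IsScalarTower.toAlgHom R L k) fun _ _ => Commute.all _ _
    let _ : Algebra C k := ψ.toRingHom.toAlgebra
    have hψ : ∀ l : L, ψ (1 ⊗ₜ l) = algebraMap L k l := fun l => by
      show Algebra.TensorProduct.lift φ (IsScalarTower.toAlgHom R L k) _ (1 ⊗ₜ l) = _
      rw [Algebra.TensorProduct.lift_tmul, map_one, one_mul]
      rfl
    have : IsScalarTower L C k := IsScalarTower.of_algebraMap_eq fun l => (hψ l).symm
    refine FormalFibreFinite.regular_of_finite L C k (fun x => ?_) fun q _ => ?_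
    · obtain ⟨u, hu, hux⟩ := hclear x
      have hle : Submodule.span R (gens : Set k) ≤ Subalgebra.toSubmodule φ.range :=
        Submodule.span_le.2 fun a ha => hφ a ha
      obtain ⟨s, hs⟩ := hle hux
      refine ⟨s ⊗ₜ 1, algebraMap R C u, ?_, ?_⟩
      · show ψ (algebraMap R C u) ≠ 0
        rw [ψ.commutes, IsScalarTower.algebraMap_apply R κ k]
        exact (_root_.map_ne_zero _).2 hu
      · show x * ψ (algebraMap R C u) = ψ (s ⊗ₜ 1)
        rw [ψ.commutes, Algebra.TensorProduct.lift_tmul, map_one, mul_one]
        exact ((Algebra.smul_def u x).trans (mul_comm _ _)).symm.trans hs.symm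
    · let M := Algebra.algebraMapSubmonoid S m.primeCompl
      have : IsLocalization M C := inferInstance
      have : IsLocalization.AtPrime (Localization.AtPrime q) (q.comap (algebraMap S C)) :=
        IsLocalization.isLocalization_isLocalization_atPrime_isLocalization M _ q
      let e := IsLocalization.algEquiv (q.comap (algebraMap S C)).primeCompl
        (Localization.AtPrime (q.comap (algebraMap S C))) (Localization.AtPrime q)
      have : IsNoetherianRing (Localization.AtPrime (q.comap (algebraMap S C))) :=
        IsLocalization.isNoetherianRing (q.comap (algebraMap S C)).primeCompl _ inferInstance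
      let _ : Algebra (Localization.AtPrime (q.comap (algebraMap S C))) (Localization.AtPrime q) :=
        e.toRingEquiv.toRingHom.toAlgebra
      exact FormalFibreFinite.regFib_of_surjective (Localization.AtPrime (q.comap (algebraMap S C))) _
        e.surjective (FormalFibreFinite.regFib_of_formalFibre _ (h S (q.comap (algebraMap S C))))

end Groth.Agent.CAlg4.GRingFiniteFree
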