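import Groth.Agent.FlatCrit65.ReducedGenFree
import Mathlib.RingTheory.RingHom.FinitePresentation
import Mathlib.RingTheory.Spectrum.Prime.Topology

/-! Generic freeness over a reduced base, on a dense open set. -/

universe u

open TensorProduct

namespace Groth.Agent.CAlg4.GenFreeRed

attribute [local instance] Algebra.TensorProduct.rightAlgebra

theorem awayMap_finitePresentation {R S : Type u} [CommRing R] [CommRing S] [Algebra R S] (f : R)
    [Algebra.FinitePresentation (Localization.Away f) (Localization.Away f ⊗[R] S)] :
    (Localization.awayMap (algebraMap R S) f).FinitePresentation := by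
  have : IsLocalization (Submonoid.powers (algebraMap R S f)) (Localization.Away f ⊗[R] S) := by
    rw [← Algebra.algebraMapSubmonoid_powers]
    infer_instance
  let e := IsLocalization.algEquiv (Submonoid.powers (algebraMap R S f)) (Localization.Away f ⊗[R] S)
    (Localization.Away (algebraMap R S f))
  have h : Localization.awayMap (algebraMap R S) f =
      e.toRingEquiv.toRingHom.comp (algebraMap (Localization.Away f) (Localization.Away f ⊗[R] S)) := by
    refine IsLocalization.ringHom_ext (Submonoid.powers f) (RingHom.ext fun r => ?_)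
    simp only [RingHom.comp_apply, Localization.awayMap, IsLocalization.Away.map, IsLocalization.map_eq]
    rw [← IsScalarTower.algebraMap_apply]
    have h1 : algebraMap R (Localization.Away f ⊗[R] S) r =
        algebraMap S (Localization.Away f ⊗[R] S) (algebraMap R S r) := by
      rw [Algebra.TensorProduct.algebraMap_apply, Algebra.TensorProduct.tmul_one_eq_one_tmul]
      rfl
    rw [← IsScalarTower.algebraMap_apply R (Localization.Away f) (Localization.Away f ⊗[R] S), h1,
      IsScalarTower.algebraMap_apply R S (Localization.Away (algebraMap R S f))]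
    exact (e.commutes _).symm
  rw [h]
  exact (RingHom.FinitePresentation.of_bijective (f := e.toRingEquiv.toRingHom) e.bijective).comp
    (RingHom.finitePresentation_algebraMap.2 inferInstance)

variable (R S : Type u) [CommRing R] [CommRing S] [Algebra R S] (M : Type u) [AddCommGroup M] [Module S M]
  [Module R M]

/-- The four conclusions of generic freeness at `f`. -/
def Good (f : R) : Prop :=
  Module.Free (Localization.Away f) (LocalizedModule (Submonoid.powers f) M) ∧
    Module.Free (Localization.Away f) (LocalizedModule (Submonoid.powers f) S) ∧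
    (Localization.awayMap (algebraMap R S) f).FinitePresentation ∧
    Module.FinitePresentation (Localization.Away (algebraMap R S f))
      (LocalizedModule (Submonoid.powers (algebraMap R S f)) M)

theorem exists_dense [IsReduced R] [Algebra.FiniteType R S] [IsScalarTower R S M] [Module.Finite S M] :
    ∃ U : Set (PrimeSpectrum R), IsOpen U ∧ Dense U ∧ ∀ u ∈ U, ∃ f : R, f ∉ u.asIdeal ∧
      (PrimeSpectrum.basicOpen f : Set (PrimeSpectrum R)) ⊆ U ∧ Good R S M f := by
  refine ⟨⋃ f : {f : R // Good R S M f}, (PrimeSpectrum.basicOpen f.1 : Set (PrimeSpectrum R)),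
    isOpen_iUnion fun f => (PrimeSpectrum.basicOpen f.1).isOpen, ?_, fun u hu => ?_⟩
  · refine PrimeSpectrum.isTopologicalBasis_basic_opens.dense_iff.2 ?_
    rintro _ ⟨f₀, rfl⟩ hne
    have hf₀ : f₀ ≠ 0 := by
      rintro rfl
      simp at hne
    obtain ⟨f, hf, hdvd, hM, hS, hfp, hmp⟩ := FlatCrit65.generic_freeness_mul (S := S) (M := M) hf₀
    obtain ⟨x, hx⟩ : ((PrimeSpectrum.basicOpen f : Set (PrimeSpectrum R))).Nonempty := by
      rw [Set.nonempty_iff_ne_empty, ne_eq, ← TopologicalSpace.Opens.coe_bot, SetLike.coe_set_eq,
        PrimeSpectrum.basicOpen_eq_bot_iff]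
      exact fun h => hf h.eq_zero
    refine ⟨x, fun h => hx ?_, Set.mem_iUnion.2 ⟨⟨f, hM.localizedModule, hS.localizedModule,
      @awayMap_finitePresentation R S _ _ _ f hfp, hmp⟩, hx⟩⟩
    exact Ideal.mem_of_dvd _ hdvd h
  · obtain ⟨f, hf⟩ := Set.mem_iUnion.1 hu
    exact ⟨f.1, hf, fun x hx => Set.mem_iUnion.2 ⟨f, hx⟩, f.2⟩

end Groth.Agent.CAlg4.GenFreeRed
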