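import Mathlib

/-! An algebra with finite fibre over a minimal prime is finite over a neighbourhood of it. -/

universe u
open TensorProduct

namespace Groth.Agent.CAlg4.GenericFinite

variable (R S : Type u) [CommRing R] [CommRing S] [Algebra R S]

theorem mem_of_fiber_eq_zero (p : Ideal R) [p.IsPrime] (q : Ideal S) [q.IsPrime] (hq : q.comap (algebraMap R S) = p)
    (z : S) (hz : (1 : p.ResidueField) ⊗ₜ[R] z = 0) : z ∈ q := by
  let x : PrimeSpectrum.comap (algebraMap R S) ⁻¹' {⟨p, ‹_›⟩} := ⟨⟨q, ‹_›⟩, PrimeSpectrum.ext hq⟩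
  have h := PrimeSpectrum.preimageEquivFiber_apply_asIdeal R S ⟨p, ‹_›⟩ x
  have hmem : (1 : p.ResidueField) ⊗ₜ[R] z ∈ ((PrimeSpectrum.preimageEquivFiber R S ⟨p, ‹_›⟩) x).asIdeal := by
    rw [hz]; exact zero_mem _
  rw [h] at hmem
  simpa [x] using hmem

variable [Algebra.FiniteType R S] (p : Ideal R) [p.IsPrime]

theorem finite_fiber (hfin : (p.primesOver S).Finite) : Module.Finite p.ResidueField (p.Fiber S) := by
  have hpre : (PrimeSpectrum.comap (algebraMap R S) ⁻¹' {(⟨p, ‹_›⟩ : PrimeSpectrum R)}).Finite := by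
    refine Set.Finite.of_finite_image (hfin.subset ?_) (fun _ _ _ _ h => PrimeSpectrum.ext h)
    rintro _ ⟨q, hq, rfl⟩
    exact ⟨q.2, ⟨(congrArg PrimeSpectrum.asIdeal hq).symm⟩⟩
  rw [Module.finite_iff_isArtinianRing, isArtinianRing_iff_isNoetherianRing_krullDimLE_zero]
  have : IsJacobsonRing (p.Fiber S) := isJacobsonRing_of_finiteType (A := p.ResidueField)
  have : Finite (PrimeSpectrum (p.Fiber S)) := (PrimeSpectrum.preimageEquivFiber R S ⟨p, ‹_›⟩).finite_iff.mp hpre
  exact ⟨Algebra.FiniteType.isNoetherianRing p.ResidueField _,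
    (PrimeSpectrum.discreteTopology_iff_finite_and_krullDimLE_zero.mp inferInstance).right⟩

theorem exists_mul_root (hp : p ∈ minimalPrimes R) (hfin : (p.primesOver S).Finite) (x : S) :
    ∃ b ∉ p, ∃ P : Polynomial R, P.Monic ∧ algebraMap R S b * P.eval₂ (algebraMap R S) (algebraMap R S b * x) = 0 := by
  have := finite_fiber R S p hfin
  let F := p.Fiber S
  obtain ⟨⟨t, ht⟩, hint⟩ := IsIntegral.exists_multiple_integral_of_isLocalization (nonZeroDivisors (R ⧸ p))
    ((1 : p.ResidueField) ⊗ₜ[R] x : F) (Algebra.IsIntegral.isIntegral (R := p.ResidueField) _)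
  obtain ⟨b, rfl⟩ := Ideal.Quotient.mk_surjective t
  obtain ⟨Q, hQ, hQ0⟩ := hint
  obtain ⟨P, rfl, -, hP⟩ := Polynomial.lifts_and_natDegree_eq_and_monic
    (Polynomial.map_surjective (Ideal.Quotient.mk p) Ideal.Quotient.mk_surjective Q |>.elim fun P h =>
      ⟨P, h⟩ : Q ∈ Polynomial.lifts (Ideal.Quotient.mk p)) hQ
  have hbp : b ∉ p := fun h => nonZeroDivisors.ne_zero ht (Ideal.Quotient.eq_zero_iff_mem.2 h)
  let z := P.eval₂ (algebraMap R S) (algebraMap R S b * x)
  let incl : S →+* F := (Algebra.TensorProduct.includeRight : S →ₐ[R] F).toRingHom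
  have hsq : (algebraMap (R ⧸ p) F).comp (Ideal.Quotient.mk p) = incl.comp (algebraMap R S) := by
    refine RingHom.ext fun r => ?_
    show algebraMap p.ResidueField F (algebraMap (R ⧸ p) p.ResidueField (algebraMap R (R ⧸ p) r)) =
      (Algebra.TensorProduct.includeRight : S →ₐ[R] F) (algebraMap R S r)
    rw [← IsScalarTower.algebraMap_apply, ← IsScalarTower.algebraMap_apply, AlgHom.commutes]
  have hz : (1 : p.ResidueField) ⊗ₜ[R] z = 0 := by
    rw [Polynomial.eval₂_map, hsq] at hQ0
    show incl z = 0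
    rw [Polynomial.hom_eval₂]
    refine Eq.trans ?_ hQ0
    congr 1
    rw [map_mul, Submonoid.smul_def, Algebra.smul_def]
    exact congrArg (· * incl x) (RingHom.congr_fun hsq b).symm
  let M := Algebra.algebraMapSubmonoid S p.primeCompl
  have hnil : IsNilpotent (algebraMap S (Localization M) z) := by
    rw [nilpotent_iff_mem_prime]
    intro J hJ
    refine mem_of_fiber_eq_zero R S p (J.comap (algebraMap S (Localization M))) ?_ z hz
    refine le_antisymm ?_ (hp.2 ⟨inferInstance, bot_le⟩ ?_)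
    all_goals
      intro r hr
      by_contra hrp
      exact hJ.ne_top (Ideal.eq_top_of_isUnit_mem _ hr (IsLocalization.map_units (Localization M)
        (⟨algebraMap R S r, ⟨r, hrp, rfl⟩⟩ : M)))
  obtain ⟨N, hN⟩ := hnil
  rw [← map_pow, IsLocalization.map_eq_zero_iff M] at hN
  obtain ⟨⟨_, t, ht', rfl⟩, htN⟩ := hN
  refine ⟨b * t, fun h => ((‹p.IsPrime›).mem_or_mem h).elim hbp ht', P.scaleRoots t ^ N, ?_, ?_⟩
  · exact (Polynomial.monic_scaleRoots_iff t).2 hP |>.pow N
  · rw [Polynomial.eval₂_pow, map_mul, show algebraMap R S b * algebraMap R S t * x = algebraMap R S t * (algebraMap R S b * x) by ring,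
      Polynomial.scaleRoots_eval₂_mul, mul_pow]
    have htN' : algebraMap R S t * z ^ N = 0 := htN
    rcases N with _ | N
    · rw [pow_zero, mul_one] at htN'
      rw [htN', mul_zero, zero_mul]
    · linear_combination (algebraMap R S b * (algebraMap R S t ^ P.natDegree) ^ (N + 1)) * htN'

theorem exists_finite (hp : p ∈ minimalPrimes R) (hfin : (p.primesOver S).Finite) :
    ∃ g : R, g ∉ p ∧ (Localization.awayMap (algebraMap R S) g).Finite := by
  classical
  obtain ⟨s, hs⟩ := ‹Algebra.FiniteType R S›.out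
  choose b hb P hP hPz using exists_mul_root R S p hp hfin
  refine ⟨∏ x ∈ s, b x, fun h => ?_, ?_⟩
  · obtain ⟨x, -, hx⟩ := (Ideal.IsPrime.prod_mem_iff).1 h
    exact hb x hx
  let g := ∏ x ∈ s, b x
  let Rg := Localization.Away g
  let Sg := Localization.Away (algebraMap R S g)
  let f : Rg →+* Sg := Localization.awayMap (algebraMap R S) g
  let _ : Algebra Rg Sg := f.toAlgebra
  have : IsScalarTower R Rg Sg := IsScalarTower.of_algebraMap_eq fun r => by
    show _ = f (algebraMap R Rg r)
    rw [IsScalarTower.algebraMap_apply R S Sg]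
    exact (IsLocalization.map_eq _ r).symm
  show Module.Finite Rg Sg
  have hint : ∀ x ∈ s, IsIntegral Rg (algebraMap S Sg x) := by
    intro x hx
    obtain ⟨c, hc⟩ := Finset.dvd_prod_of_mem b hx
    have hu : IsUnit (algebraMap R Rg (b x)) := isUnit_of_dvd_unit ⟨algebraMap R Rg c, by rw [← map_mul, ← hc]⟩
      (IsLocalization.Away.algebraMap_isUnit g)
    obtain ⟨v, hv⟩ := hu.exists_left_inv
    have h1 : IsIntegral Rg (algebraMap S Sg (algebraMap R S (b x) * x)) := by
      refine ⟨(P x).map (algebraMap R Rg), (hP x).map _, ?_⟩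
      rw [Polynomial.eval₂_map, ← IsScalarTower.algebraMap_eq, IsScalarTower.algebraMap_eq R S Sg,
        ← Polynomial.hom_eval₂]
      have h := congrArg (algebraMap S Sg) (hPz x)
      rw [map_mul, map_zero, ← IsScalarTower.algebraMap_apply, IsScalarTower.algebraMap_apply R Rg Sg] at h
      exact (hu.map (algebraMap Rg Sg)).mul_right_eq_zero.1 h
    have h2 := h1.smul v
    rwa [map_mul, ← IsScalarTower.algebraMap_apply, IsScalarTower.algebraMap_apply R Rg Sg, Algebra.smul_def,
      ← mul_assoc, ← map_mul, hv, map_one, one_mul] at h2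
  rw [Module.finite_def]
  have htop : Algebra.adjoin Rg ((algebraMap S Sg) '' (s : Set S)) = ⊤ := by
    rw [eq_top_iff]
    intro y _
    have hS : ∀ z : S, algebraMap S Sg z ∈ Algebra.adjoin Rg ((algebraMap S Sg) '' (s : Set S)) := fun z => by
      have hle : Algebra.adjoin R (s : Set S) ≤
          ((Algebra.adjoin Rg ((algebraMap S Sg) '' (s : Set S))).restrictScalars R).comap (IsScalarTower.toAlgHom R S Sg) :=
        Algebra.adjoin_le fun z hz => Algebra.subset_adjoin ⟨z, hz, rfl⟩
      exact hle (hs ▸ Algebra.mem_top)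
    obtain ⟨z, ⟨_, n, rfl⟩, rfl⟩ := IsLocalization.exists_mk'_eq (Submonoid.powers (algebraMap R S g)) y
    have he : IsLocalization.mk' Sg z (⟨algebraMap R S g ^ n, n, rfl⟩ : Submonoid.powers (algebraMap R S g)) =
        algebraMap S Sg z * algebraMap Rg Sg (IsLocalization.mk' Rg 1 (⟨g ^ n, n, rfl⟩ : Submonoid.powers g)) := by
      rw [IsLocalization.mk'_eq_iff_eq_mul]
      show _ = algebraMap S Sg z * _ * algebraMap S Sg (algebraMap R S g ^ n)
      rw [← map_pow, ← IsScalarTower.algebraMap_apply, IsScalarTower.algebraMap_apply R Rg Sg, mul_assoc, ← map_mul,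
        IsLocalization.mk'_spec_mk, map_one, map_one, mul_one]
    rw [he]
    exact mul_mem (hS z) (Subalgebra.algebraMap_mem _ _)
  rw [← Algebra.top_toSubmodule, ← htop]
  exact fg_adjoin_of_finite (s.finite_toSet.image _) fun y ⟨x, hx, e⟩ => e ▸ hint x hx

end Groth.Agent.CAlg4.GenericFinite
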