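import Groth.Agent.DR39.Rep
import Mathlib.Algebra.Homology.DerivedCategory.FullyFaithful
import Mathlib.CategoryTheory.Triangulated.TStructure.TruncLTGE

/-! A composite of enough cohomologically trivial morphisms between bounded objects vanishes. -/

universe u

open CategoryTheory CategoryTheory.Limits CategoryTheory.Pretriangulated DerivedCategory.TStructure

attribute [local instance] HasDerivedCategory.standard

namespace Groth.Agent.CAlg4.Ghost

variable {A : Type u} [CommRing A]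


/-- `g` is zero on every cohomology module. -/
def IsGhost {X Y : Dual.D A} (g : X ⟶ Y) : Prop := ∀ i : ℤ, (DR39.HF A i).map g = 0

theorem eq_zero_of_single {X Y : Dual.D A} (b : ℤ) [X.IsGE b] [X.IsLE b] [Y.IsGE b] [Y.IsLE b]
    (l : X ⟶ Y) (hl : (DR39.HF A b).map l = 0) : l = 0 := by
  obtain ⟨M, ⟨e⟩⟩ := DerivedCategory.exists_iso_singleFunctor_obj_of_isGE_of_isLE X b
  obtain ⟨N, ⟨e'⟩⟩ := DerivedCategory.exists_iso_singleFunctor_obj_of_isGE_of_isLE Y b
  obtain ⟨w, hw⟩ := (DerivedCategory.singleFunctor (ModuleCat.{u} A) b).map_surjective (e.inv ≫ l ≫ e'.hom)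
  have h := (DerivedCategory.singleFunctorCompHomologyFunctorIso (ModuleCat.{u} A) b).hom.naturality w
  rw [Functor.comp_map, hw, Functor.map_comp, Functor.map_comp, hl, zero_comp, comp_zero, zero_comp] at h
  have hw0 : w = 0 := by
    rw [← cancel_epi ((DerivedCategory.singleFunctorCompHomologyFunctorIso (ModuleCat.{u} A) b).hom.app M),
      comp_zero]
    exact h.symm
  rw [hw0, Functor.map_zero] at hw
  rw [← cancel_epi e.inv, ← cancel_mono e'.hom, Category.assoc, ← hw, comp_zero, zero_comp]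

/-- A morphism from an object in degrees `≤ b` that is zero on `H^b` factors through `τ_{<b}`. -/
theorem exists_lift {X Z : Dual.D A} (b : ℤ) [X.IsLE b] (g : X ⟶ Z) (hg : (DR39.HF A b).map g = 0) :
    ∃ v : X ⟶ (t.truncLT b).obj Z, v ≫ (t.truncLTι b).app Z = g := by
  suffices h : g ≫ (t.truncGEπ b).app Z = 0 by
    obtain ⟨v, hv⟩ := Triangle.coyoneda_exact₂ _ (t.triangleLTGE_distinguished b Z) g h
    exact ⟨v, hv.symm⟩
  set R := (t.truncGE b).obj Z with hR
  let g₁ := t.descTruncGE (g ≫ (t.truncGEπ b).app Z) b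
  have h₁ : (t.truncGEπ b).app X ≫ g₁ = g ≫ (t.truncGEπ b).app Z := t.π_descTruncGE _ _
  have hepi : Epi ((DR39.HF A b).map ((t.truncGEπ b).app X)) :=
    (DerivedCategory.HomologySequence.epi_homologyMap_mor₂_iff _ (t.triangleLTGE_distinguished b X) b (b + 1)).2
      ((DerivedCategory.isZero_of_isLE ((t.truncLT b).obj X) (b - 1) (b + 1) (by omega)).eq_of_tgt _ _)
  let l := t.liftTruncLT g₁ b (b + 1) rfl
  have hl : l ≫ (t.truncLTι (b + 1)).app R = g₁ := t.liftTruncLT_ι _ _ _ _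
  have hmono : Mono ((DR39.HF A b).map ((t.truncLTι (b + 1)).app R)) :=
    (DerivedCategory.HomologySequence.mono_homologyMap_mor₁_iff _ (t.triangleLTGE_distinguished (b + 1) R)
      (b - 1) b).2
      ((DerivedCategory.isZero_of_isGE ((t.truncGE (b + 1)).obj R) (b + 1) (b - 1) (by omega)).eq_of_src _ _)
  have : l = 0 := eq_zero_of_single b l (by
    rw [← cancel_epi ((DR39.HF A b).map ((t.truncGEπ b).app X)),
      ← cancel_mono ((DR39.HF A b).map ((t.truncLTι (b + 1)).app R)), Category.assoc, ← Functor.map_comp, hl,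
      ← Functor.map_comp, h₁, Functor.map_comp, hg, zero_comp, comp_zero, zero_comp])
  rw [← h₁, ← hl, this, zero_comp, comp_zero]

/-- `f` is a composite of `L` ghosts and a morphism. -/
def IsGhostPow : ℕ → ∀ {X Y : Dual.D A}, (X ⟶ Y) → Prop
  | 0, _, _, _ => True
  | L + 1, X, Y, f => ∃ (Z : Dual.D A) (g : X ⟶ Z) (h : Z ⟶ Y), IsGhost g ∧ IsGhostPow L h ∧ f = g ≫ h

theorem IsGhostPow.comp_left : ∀ {L : ℕ} {W X Y : Dual.D A} (u : W ⟶ X) {f : X ⟶ Y},
    IsGhostPow L f → IsGhostPow L (u ≫ f)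
  | 0, _, _, _, _, _, _ => trivial
  | _ + 1, _, _, _, u, _, ⟨Z, g, h, hg, hh, hf⟩ =>
    ⟨Z, u ≫ g, h, fun i => by rw [Functor.map_comp, hg i, comp_zero], hh, by rw [hf, Category.assoc]⟩

theorem eq_zero : ∀ (L : ℕ) {X Y : Dual.D A} (a b : ℤ) [X.IsLE b] [Y.IsGE a], b < a + L →
    ∀ f : X ⟶ Y, IsGhostPow L f → f = 0
  | 0, X, Y, a, b, _, _, hab, f, _ => t.zero f b a (by simpa using hab)
  | L + 1, X, Y, a, b, _, _, hab, f, ⟨Z, g, h, hg, hh, hf⟩ => by
    obtain ⟨v, hv⟩ := exists_lift b g (hg b)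
    have h0 := eq_zero L a (b - 1) (by omega) _ (hh.comp_left ((t.truncLTι b).app Z))
    rw [hf, ← hv, Category.assoc, h0, comp_zero]

end Groth.Agent.CAlg4.Ghost
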