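import Mathlib.RingTheory.PicardGroup
import Mathlib.RingTheory.Localization.AtPrime.Basic
import Mathlib.RingTheory.LocalRing.Module
import Mathlib.RingTheory.Ideal.Operations
import Mathlib.Order.Preorder.Finite

/-! An invertible module has a section generating it at finitely many given primes. -/

universe u

namespace Groth.Agent.CAlg4.InvGen

variable {A : Type u} [CommRing A] {M : Type u} [AddCommGroup M] [Module A M] [Module.Invertible A M]

/-- The elements not generating `M` at `p`. -/
noncomputable def bad (p : PrimeSpectrum A) : Submodule A M where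
  carrier := {m | ∀ e : LocalizedModule p.asIdeal.primeCompl M ≃ₗ[Localization.AtPrime p.asIdeal]
      Localization.AtPrime p.asIdeal,
    e (LocalizedModule.mkLinearMap p.asIdeal.primeCompl M m) ∈
      IsLocalRing.maximalIdeal (Localization.AtPrime p.asIdeal)}
  zero_mem' e := by rw [map_zero, map_zero]; exact zero_mem _
  add_mem' hx hy e := by rw [map_add, map_add]; exact add_mem (hx e) (hy e)
  smul_mem' a x hx e := by
    rw [map_smul, ← IsScalarTower.algebraMap_smul (Localization.AtPrime p.asIdeal) a
      (LocalizedModule.mkLinearMap p.asIdeal.primeCompl M x), map_smul]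
    exact Ideal.mul_mem_left _ _ (hx e)

theorem exists_equiv (p : PrimeSpectrum A) :
    Nonempty (LocalizedModule p.asIdeal.primeCompl M ≃ₗ[Localization.AtPrime p.asIdeal]
      Localization.AtPrime p.asIdeal) :=
  (Module.Invertible.free_iff_linearEquiv (R := Localization.AtPrime p.asIdeal)).1
    Module.free_of_flat_of_isLocalRing

theorem span_eq_top (p : PrimeSpectrum A) {s : M} (hs : s ∉ bad p) :
    Submodule.span (Localization.AtPrime p.asIdeal)
      {LocalizedModule.mkLinearMap p.asIdeal.primeCompl M s} = ⊤ := by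
  simp only [bad, Submodule.mem_mk, AddSubmonoid.mem_mk, AddSubsemigroup.mem_mk,
    Set.mem_ofPred_eq, not_forall] at hs
  obtain ⟨e, he⟩ := hs
  rw [IsLocalRing.mem_maximalIdeal, mem_nonunits_iff, not_not] at he
  obtain ⟨v, hv⟩ := he
  rw [eq_top_iff]
  intro y _
  refine Submodule.mem_span_singleton.2 ⟨e y * (↑v⁻¹ : Localization.AtPrime p.asIdeal), e.injective ?_⟩
  rw [map_smul, smul_eq_mul, ← hv, Units.inv_mul_cancel_right]

theorem bad_ne_top (p : PrimeSpectrum A) : bad (M := M) p ≠ ⊤ := by
  intro h
  obtain ⟨e⟩ := exists_equiv (M := M) p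
  obtain ⟨⟨m, s⟩, hm⟩ := IsLocalizedModule.surj p.asIdeal.primeCompl
    (LocalizedModule.mkLinearMap p.asIdeal.primeCompl M) (e.symm 1)
  have hmem : m ∈ bad p := h ▸ Submodule.mem_top
  have h2 := hmem e
  change s • e.symm 1 = _ at hm
  rw [← hm, Submonoid.smul_def, ← IsScalarTower.algebraMap_smul (Localization.AtPrime p.asIdeal) (s : A)
      (e.symm 1), map_smul, LinearEquiv.apply_symm_apply, smul_eq_mul, mul_one] at h2
  exact h2 (IsLocalization.map_units (Localization.AtPrime p.asIdeal) s)

theorem exists_generator (t : Finset (PrimeSpectrum A)) : ∃ s : M, ∀ p ∈ t, s ∉ bad p := by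
  classical
  induction t using Finset.strongInductionOn with
  | _ t ih =>
    rcases t.eq_empty_or_nonempty with rfl | hne
    · exact ⟨0, by simp⟩
    obtain ⟨p, hp, hpmin⟩ := t.exists_minimal hne
    obtain ⟨s, hs⟩ := ih _ (Finset.erase_ssubset hp)
    by_cases hsp : s ∈ bad p
    · obtain ⟨m, -, hm⟩ := SetLike.exists_of_lt (bad_ne_top (M := M) p).lt_top
      obtain ⟨a, ha, hap⟩ : ∃ a, (∀ q ∈ t.erase p, a ∈ q.asIdeal) ∧ a ∉ p.asIdeal := by
        have hne' : ¬ (t.erase p).inf (fun q => q.asIdeal) ≤ p.asIdeal := fun hle => by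
          obtain ⟨q, hq, hqp⟩ := (Ideal.IsPrime.inf_le' p.isPrime).1 hle
          exact Finset.ne_of_mem_erase hq
            (le_antisymm hqp (hpmin (Finset.mem_of_mem_erase hq) hqp))
        obtain ⟨a, ha, hap⟩ := Set.not_subset.1 hne'
        exact ⟨a, fun q hq => Submodule.mem_finsetInf.1 ha q hq, hap⟩
      refine ⟨s + a • m, fun q hq => ?_⟩
      by_cases hqp : q = p
      · subst hqp
        intro hmem
        refine hm fun e => ?_
        have h1 := ((bad q).add_mem_iff_right hsp).1 hmem e
        rw [map_smul, ← IsScalarTower.algebraMap_smul (Localization.AtPrime q.asIdeal) a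
          (LocalizedModule.mkLinearMap q.asIdeal.primeCompl M m), map_smul, smul_eq_mul] at h1
        refine (Ideal.IsPrime.mem_or_mem inferInstance h1).resolve_left fun h2 => ?_
        exact h2 (IsLocalization.map_units (Localization.AtPrime q.asIdeal) (⟨a, hap⟩ : q.asIdeal.primeCompl))
      · have hq' : q ∈ t.erase p := Finset.mem_erase.2 ⟨hqp, hq⟩
        intro hmem
        refine hs q hq' ((bad q).add_mem_iff_left (fun e => ?_) |>.1 hmem)
        rw [map_smul, ← IsScalarTower.algebraMap_smul (Localization.AtPrime q.asIdeal) a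
          (LocalizedModule.mkLinearMap q.asIdeal.primeCompl M m), map_smul, smul_eq_mul]
        refine Ideal.mul_mem_right _ _ ?_
        exact (IsLocalization.AtPrime.to_map_mem_maximal_iff (Localization.AtPrime q.asIdeal) q.asIdeal a).2
          (ha q hq')
    · refine ⟨s, fun q hq => ?_⟩
      by_cases hqp : q = p
      · rwa [hqp]
      · exact hs q (Finset.mem_erase.2 ⟨hqp, hq⟩)

theorem exists_span_eq_top {ι : Type*} [Finite ι] (p : ι → PrimeSpectrum A) :
    ∃ s : M, ∀ i : ι, Submodule.span (Localization.AtPrime (p i).asIdeal)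
      {LocalizedModule.mkLinearMap (p i).asIdeal.primeCompl M s} = ⊤ := by
  classical
  haveI := Fintype.ofFinite ι
  obtain ⟨s, hs⟩ := exists_generator (M := M) (Finset.univ.image p)
  exact ⟨s, fun i => span_eq_top (p i) (hs _ (Finset.mem_image_of_mem p (Finset.mem_univ i)))⟩

end Groth.Agent.CAlg4.InvGen
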