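import Groth.Agent.VarDim1.KrullAkizuki
import Mathlib.RingTheory.KrullDimension.Field
import Mathlib.RingTheory.Ideal.Over
import Mathlib.RingTheory.LocalRing.MaximalIdeal.Basic

/-! Closed fibres in Krull–Akizuki extensions. -/

universe u

open IsLocalRing

namespace Groth.Agent.CAlg4.KAFibre

theorem primesOver_facts (R S K L : Type u) [CommRing R] [IsDomain R] [IsNoetherianRing R] [IsLocalRing R]
    (hdim : ringKrullDim R = 1) [CommRing S] [IsDomain S] [Algebra R S] [Field K] [Field L] [Algebra R K]
    [IsFractionRing R K] [Algebra S L] [IsFractionRing S L] [Algebra K L] [Algebra R L] [IsScalarTower R K L]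
    [IsScalarTower R S L] [FiniteDimensional K L] :
    (∀ n ∈ (maximalIdeal R).primesOver S, n.IsMaximal) ∧ ((maximalIdeal R).primesOver S).Finite ∧
      ∀ n ∈ (maximalIdeal R).primesOver S, Module.Finite R (S ⧸ n) := by
  have : Ring.KrullDimLE 1 R := Ring.krullDimLE_iff.mpr hdim.le
  have hinjL : Function.Injective (algebraMap R L) := by
    rw [IsScalarTower.algebraMap_eq R K L]
    exact (algebraMap K L).injective.comp (IsFractionRing.injective R K)
  have : FaithfulSMul R L := (faithfulSMul_iff_algebraMap_injective R L).mpr hinjL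
  have hR : maximalIdeal R ≠ ⊥ := fun h => by
    let := (IsLocalRing.isField_iff_maximalIdeal_eq.2 h).toField
    rw [ringKrullDim_eq_zero_of_field] at hdim
    exact zero_ne_one hdim
  let φ : S →ₐ[R] L := IsScalarTower.toAlgHom R S L
  let e : S ≃ₐ[R] φ.range := AlgEquiv.ofInjective φ (IsFractionRing.injective S L)
  let J : Ideal φ.range := (maximalIdeal R).map (algebraMap R φ.range)
  have hJ : J ≠ ⊥ := fun h => hR (by
    refine (Submodule.eq_bot_iff _).2 fun x hx => hinjL ?_
    have : algebraMap R φ.range x ∈ J := Ideal.mem_map_of_mem _ hx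
    rw [h, Ideal.mem_bot] at this
    rw [map_zero, IsScalarTower.algebraMap_apply R φ.range L, this, map_zero])
  have hmem : ∀ n ∈ (maximalIdeal R).primesOver S,
      (n.comap e.symm).IsPrime ∧ J ≤ n.comap e.symm := by
    rintro n ⟨hn, hlo⟩
    refine ⟨Ideal.IsPrime.comap _, Ideal.map_le_iff_le_comap.2 fun x hx => ?_⟩
    show e.symm (algebraMap R φ.range x) ∈ n
    rw [e.symm.commutes]
    exact (hlo.over ▸ hx : x ∈ n.under R)
  refine ⟨fun n hn => ?_, ?_, fun n hn => ?_⟩
  · obtain ⟨hp, hle⟩ := hmem n hn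
    have hdimB := VarDim1.krullDimLE_subalgebra K φ.range
    have hne : n.comap e.symm ≠ ⊥ := fun h => hJ (le_bot_iff.1 (h ▸ hle))
    have := hn.1
    have hmax : (n.comap e.symm).IsMaximal := (Ring.krullDimLE_one_iff_of_noZeroDivisors.1 hdimB) _ hne hp
    have : n = (n.comap e.symm).comap e := by ext x; simp
    rw [this]
    exact Ideal.comap_isMaximal_of_surjective e e.surjective
  · refine Set.Finite.of_finite_image ((VarDim1.finite_setOf_prime_ge K φ.range hJ).subset ?_)
      (fun n _ n' _ h => Ideal.comap_injective_of_surjective e.symm e.symm.surjective h)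
    rintro _ ⟨n, hn, rfl⟩
    exact hmem n hn
  · obtain ⟨hp, hle⟩ := hmem n hn
    have := VarDim1.finite_quotient K φ.range (show n.comap e.symm ≠ ⊥ from fun h => hJ (le_bot_iff.1 (h ▸ hle)))
    let g : (φ.range ⧸ n.comap e.symm) →ₐ[R] (S ⧸ n) :=
      Ideal.quotientMapₐ n e.symm.toAlgHom le_rfl
    refine Module.Finite.of_surjective g.toLinearMap fun y => ?_
    obtain ⟨y, rfl⟩ := Ideal.Quotient.mk_surjective y
    refine ⟨Ideal.Quotient.mk _ (e y), ?_⟩
    show Ideal.Quotient.mk n (e.symm (e y)) = _
    rw [e.symm_apply_apply]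

end Groth.Agent.CAlg4.KAFibre
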