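import Groth.Agent.DR39.DBasic
import Mathlib.Algebra.Homology.Linear
import Mathlib.Algebra.Homology.ShortComplex.Linear
import Mathlib.Algebra.Homology.DerivedCategory.Linear

/-! Multiplication by a scalar on cohomology in `D(A)`, and the torsion criterion for triangles. -/

universe u

open CategoryTheory CategoryTheory.Limits CategoryTheory.Pretriangulated

attribute [local instance] HasDerivedCategory.standard

namespace Groth.Agent.CAlg4.TriTors

variable {A : Type u} [CommRing A]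

theorem HF_map_smul_id (f : A) (X : Dual.D A) (i : ℤ) :
    (DR39.HF A i).map (f • 𝟙 X) = f • 𝟙 ((DR39.HF A i).obj X) := by
  obtain ⟨K, ⟨e⟩⟩ := DR39.exists_complex_iso X
  have h1 : f • 𝟙 X = e.inv ≫ (DR39.QA A).map (f • 𝟙 K) ≫ e.hom := by
    rw [Functor.map_smul, CategoryTheory.Functor.map_id]
    simp
  have h2 := DR39.HQIso_naturality (f • 𝟙 K) i
  have h4 : HomologicalComplex.homologyMap (f • 𝟙 K) i = f • 𝟙 (K.homology i) := by
    show ShortComplex.homologyMap ((HomologicalComplex.shortComplexFunctor _ _ i).map (f • 𝟙 K)) =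
      f • 𝟙 (K.homology i)
    have : (HomologicalComplex.shortComplexFunctor _ _ i).map (f • 𝟙 K) = f • 𝟙 (K.sc i) := by
      ext <;> rfl
    rw [this, ShortComplex.homologyMap_smul, ShortComplex.homologyMap_id]
    rfl
  have h3 : (DR39.HF A i).map ((DR39.QA A).map (f • 𝟙 K)) = f • 𝟙 _ := by
    rw [← cancel_mono (DR39.HQIso K i).hom, h2, h4, Linear.smul_comp, Linear.comp_smul]
    simp
  rw [h1, Functor.map_comp, Functor.map_comp, h3]
  simp only [Linear.smul_comp, Linear.comp_smul, Category.id_comp, ← Functor.map_comp,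
    Iso.inv_hom_id, CategoryTheory.Functor.map_id]

theorem torsion_vanish (f : A) (M C : Dual.D A) (g : M ⟶ C) (h : C ⟶ M⟦(1 : ℤ)⟧)
    (hT : Triangle.mk (f • 𝟙 M) g h ∈ distinguishedTriangles)
    (hloc : ∀ i : ℤ, i < 0 → ∀ x : Dual.HD A M i, ∃ n : ℕ, f ^ n • x = 0)
    (hC : ∀ i : ℤ, i < -1 → Subsingleton (Dual.HD A C i)) :
    ∀ i : ℤ, i < 0 → Subsingleton (Dual.HD A M i) := by
  intro i hi
  have hz : IsZero ((DR39.HF A (i - 1)).obj (Triangle.mk (f • 𝟙 M) g h).obj₃) :=
    (DR39.isZero_HF_iff C (i - 1)).2 (hC (i - 1) (by omega))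
  have hm : Mono ((DR39.HF A i).map (f • 𝟙 M)) :=
    (DerivedCategory.HomologySequence.mono_homologyMap_mor₁_iff _ hT (i - 1) i (by omega)).2
      (hz.eq_of_src _ _)
  rw [HF_map_smul_id, ModuleCat.mono_iff_injective] at hm
  have hinj : ∀ x : Dual.HD A M i, f • x = 0 → x = 0 := fun x hx =>
    hm (show (f • 𝟙 ((DR39.HF A i).obj M)).hom x = (f • 𝟙 ((DR39.HF A i).obj M)).hom 0 by
      rw [map_zero]; exact hx)
  refine ⟨fun x y => ?_⟩
  obtain ⟨n, hn⟩ := hloc i hi (x - y)
  rw [← sub_eq_zero]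
  induction n with
  | zero => simpa using hn
  | succ n ih =>
    refine ih (hinj _ ?_)
    rw [smul_smul, ← pow_succ']
    exact hn

end Groth.Agent.CAlg4.TriTors
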