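import Groth.Agent.CAlg4.GhostZero
import Groth.Agent.CAlg4.TriTors
import Groth.Agent.CAlg4.ArtinRees
import Mathlib.Algebra.Homology.ShortComplex.ModuleCat
import Mathlib.Algebra.Homology.DerivedCategory.Linear
import Mathlib.Data.Int.Interval

/-! Iterated cones of multiplications, and morphisms which are trivial on them. -/

universe u

open CategoryTheory CategoryTheory.Limits CategoryTheory.Pretriangulated
open CochainComplex (mappingCone)

attribute [local instance] HasDerivedCategory.standard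

namespace Groth.Agent.CAlg4.Kos

variable {A : Type u} [CommRing A]

/-- The map on cones of a multiplication. -/
noncomputable def cmap (x : A) {F G : DRing.Cx A} (u : F ⟶ G) :
    mappingCone (x • 𝟙 F) ⟶ mappingCone (x • 𝟙 G) :=
  CochainComplex.mappingCone.map _ _ u u
    (by rw [Linear.smul_comp, Linear.comp_smul, Category.id_comp, Category.comp_id])

theorem inr_cmap (x : A) {F G : DRing.Cx A} (u : F ⟶ G) :
    CochainComplex.mappingCone.inr (x • 𝟙 F) ≫ cmap x u = u ≫ CochainComplex.mappingCone.inr (x • 𝟙 G) := by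
  simp [cmap, CochainComplex.mappingCone.map]

theorem cmap_comp (x : A) {F G H : DRing.Cx A} (u : F ⟶ G) (v : G ⟶ H) :
    cmap x (u ≫ v) = cmap x u ≫ cmap x v := by
  exact CochainComplex.mappingCone.map_comp _ _ _ _ _ _ _ _ _

theorem smul_id_iso {C : Type*} [Category C] [Preadditive C] [Linear A C] {X Y : C} (e : X ≅ Y) {a : A}
    (h : a • 𝟙 X = 0) : a • 𝟙 Y = 0 := by
  rw [show a • 𝟙 Y = e.inv ≫ (a • 𝟙 X) ≫ e.hom by
    rw [Linear.smul_comp, Category.id_comp, Linear.comp_smul, Iso.inv_hom_id], h, zero_comp, comp_zero]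

theorem Q_smul_id (x : A) (X : DRing.Cx A) :
    DerivedCategory.Q.map (x • 𝟙 X) = x • 𝟙 (DerivedCategory.Q.obj X) := by
  rw [Functor.map_smul, CategoryTheory.Functor.map_id]

/-- Iterated cone of multiplications on a module. -/
noncomputable def K : List A → ModuleCat.{u} A → DRing.Cx A
  | [], M => (HomologicalComplex.single (ModuleCat.{u} A) (ComplexShape.up ℤ) 0).obj M
  | x :: l, M => mappingCone (x • 𝟙 (K l M))

/-- Functoriality. -/
noncomputable def map : ∀ (l : List A) {M N : ModuleCat.{u} A}, (M ⟶ N) → (K l M ⟶ K l N)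
  | [], _, _, f => (HomologicalComplex.single (ModuleCat.{u} A) (ComplexShape.up ℤ) 0).map f
  | x :: l, _, _, f => cmap x (map l f)

theorem map_comp : ∀ (l : List A) {M N P : ModuleCat.{u} A} (f : M ⟶ N) (g : N ⟶ P),
    map l (f ≫ g) = map l f ≫ map l g
  | [], _, _, _, f, g => Functor.map_comp _ f g
  | x :: l, _, _, _, f, g =>
    (congrArg (cmap x) (map_comp l f g)).trans (cmap_comp x _ _)

theorem isZero_X : ∀ (l : List A) (M : ModuleCat.{u} A) (i : ℤ), i < -(l.length : ℤ) ∨ 0 < i →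
    IsZero ((K l M).X i)
  | [], M, i, hi => HomologicalComplex.isZero_single_obj_X _ _ _ _ (by simp at hi; omega)
  | x :: l, M, i, hi => by
    simp only [List.length_cons, Nat.cast_add, Nat.cast_one] at hi
    exact (CochainComplex.mappingCone.isZero_X_iff _ i).2
      ⟨isZero_X l M (i + 1) (by omega), isZero_X l M i (by omega)⟩

theorem exists_eq_inl_add_inr {F G : DRing.Cx A} (φ : F ⟶ G) (i : ℤ) (z : (mappingCone φ).X i) :
    ∃ (a : F.X (i + 1)) (b : G.X i),
      z = ((CochainComplex.mappingCone.inl φ).v (i + 1) i (by omega)).hom a +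
        ((CochainComplex.mappingCone.inr φ).f i).hom b :=
  ⟨((CochainComplex.mappingCone.fst φ).1.v i (i + 1) rfl).hom z,
    ((CochainComplex.mappingCone.snd φ).v i i (add_zero i)).hom z,
    congrArg (fun f => f.hom z) (CochainComplex.mappingCone.id_X φ i (i + 1) rfl).symm⟩

theorem finite_X : ∀ (l : List A) (M : ModuleCat.{u} A) [Module.Finite A M] (i : ℤ),
    Module.Finite A ((K l M).X i)
  | [], M, _, i => by
    by_cases h : i = 0
    · subst h
      exact Module.Finite.equiv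
        (HomologicalComplex.singleObjXSelf (ComplexShape.up ℤ) 0 M).symm.toLinearEquiv
    · exact DR39.finite_of_isZero (HomologicalComplex.isZero_single_obj_X _ _ _ _ h)
  | x :: l, M, _, i => by
    have := finite_X l M (i + 1)
    have := finite_X l M i
    refine Module.Finite.of_surjective (((CochainComplex.mappingCone.inl (x • 𝟙 (K l M))).v (i + 1) i
      (by omega)).hom.coprod ((CochainComplex.mappingCone.inr (x • 𝟙 (K l M))).f i).hom) fun z => ?_
    obtain ⟨a, b, rfl⟩ := exists_eq_inl_add_inr _ i z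
    exact ⟨(a, b), rfl⟩

theorem mem_smul_of_linear {X Y : Type u} [AddCommGroup X] [Module A X] [AddCommGroup Y] [Module A Y]
    {J : Ideal A} (g : X →ₗ[A] Y) {x : X} (hx : x ∈ (J • ⊤ : Submodule A X)) : g x ∈ (J • ⊤ : Submodule A Y) :=
  Submodule.smul_mono le_rfl le_top (Submodule.map_smul'' J ⊤ g ▸ Submodule.mem_map_of_mem hx)

theorem single_mem (J : Ideal A) {M N : ModuleCat.{u} A} (f : M ⟶ N)
    (hf : ∀ m, f.hom m ∈ (J • ⊤ : Submodule A N)) (i : ℤ)
    (z : ((HomologicalComplex.single (ModuleCat.{u} A) (ComplexShape.up ℤ) 0).obj M).X i) :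
    (((HomologicalComplex.single (ModuleCat.{u} A) (ComplexShape.up ℤ) 0).map f).f i).hom z ∈
      (J • ⊤ : Submodule A (((HomologicalComplex.single (ModuleCat.{u} A) (ComplexShape.up ℤ) 0).obj N).X i)) := by
  by_cases h : i = 0
  · subst h
    rw [HomologicalComplex.single_map_f_self]
    exact mem_smul_of_linear (HomologicalComplex.singleObjXSelf (ComplexShape.up ℤ) 0 N).inv.hom
      (hf ((HomologicalComplex.singleObjXSelf (ComplexShape.up ℤ) 0 M).hom.hom z))
  · have := ModuleCat.subsingleton_of_isZero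
      (HomologicalComplex.isZero_single_obj_X (ComplexShape.up ℤ) 0 M i h)
    rw [Subsingleton.elim z 0, map_zero]
    exact zero_mem _

theorem cmap_mem (J : Ideal A) (x : A) {F G : DRing.Cx A} (u : F ⟶ G)
    (hu : ∀ i z, (u.f i).hom z ∈ (J • ⊤ : Submodule A (G.X i))) (i : ℤ) (z : (mappingCone (x • 𝟙 F)).X i) :
    ((cmap x u).f i).hom z ∈ (J • ⊤ : Submodule A ((mappingCone (x • 𝟙 G)).X i)) := by
  obtain ⟨a, b, rfl⟩ := exists_eq_inl_add_inr (x • 𝟙 F) i z
  rw [map_add]
  refine add_mem ?_ ?_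
  · have e : (CochainComplex.mappingCone.inl (x • 𝟙 F)).v (i + 1) i (by omega) ≫ (cmap x u).f i =
        u.f (i + 1) ≫ (CochainComplex.mappingCone.inl (x • 𝟙 G)).v (i + 1) i (by omega) := by
      simp [cmap, CochainComplex.mappingCone.map]
    exact (congrArg (fun g => g.hom a) e).symm ▸ mem_smul_of_linear
      ((CochainComplex.mappingCone.inl (x • 𝟙 G)).v (i + 1) i (by omega)).hom (hu (i + 1) a)
  · have e : (CochainComplex.mappingCone.inr (x • 𝟙 F)).f i ≫ (cmap x u).f i =
        u.f i ≫ (CochainComplex.mappingCone.inr (x • 𝟙 G)).f i := by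
      simp [cmap, CochainComplex.mappingCone.map]
    exact (congrArg (fun g => g.hom b) e).symm ▸ mem_smul_of_linear
      ((CochainComplex.mappingCone.inr (x • 𝟙 G)).f i).hom (hu i b)

theorem map_mem (J : Ideal A) : ∀ (l : List A) {M N : ModuleCat.{u} A} (f : M ⟶ N),
    (∀ m, f.hom m ∈ (J • ⊤ : Submodule A N)) → ∀ i z,
      ((map l f).f i).hom z ∈ (J • ⊤ : Submodule A ((K l N).X i))
  | [], _, _, f, hf, i, z => single_mem J f hf i z
  | x :: l, _, _, f, hf, i, z => cmap_mem J x (map l f) (map_mem J l f hf) i z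

theorem sq_smul_cone {T : Triangle (Dual.D A)} (hT : T ∈ distinguishedTriangles) (a : A)
    (h₁ : a • 𝟙 T.obj₁ = 0) (h₂ : a • 𝟙 T.obj₂ = 0) : (a * a) • 𝟙 T.obj₃ = 0 := by
  obtain ⟨g, hg⟩ := Triangle.yoneda_exact₃ _ hT (a • 𝟙 T.obj₃) (by
    rw [Linear.comp_smul, Category.comp_id, ← Category.id_comp T.mor₂, ← Linear.smul_comp, h₂, zero_comp])
  have h1' : a • 𝟙 (T.obj₁⟦(1 : ℤ)⟧) = 0 := by
    rw [← CategoryTheory.Functor.map_id, ← Functor.map_smul, h₁, Functor.map_zero]
  rw [mul_smul, hg, ← Linear.smul_comp, ← Category.comp_id T.mor₃, ← Linear.comp_smul, h1', comp_zero, zero_comp]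

theorem sq_smul_cone_self {T : Triangle (Dual.D A)} (hT : T ∈ distinguishedTriangles) (x : A)
    (e : T.obj₁ ≅ T.obj₂) (h : T.mor₁ = x • e.hom) : (x * x) • 𝟙 T.obj₃ = 0 := by
  have h0 := comp_distTriang_mor_zero₁₂ _ hT
  rw [h, Linear.smul_comp, ← Linear.comp_smul, ← comp_zero (f := e.hom), cancel_epi] at h0
  obtain ⟨g, hg⟩ := Triangle.yoneda_exact₃ _ hT (x • 𝟙 T.obj₃) (by
    rw [Linear.comp_smul, Category.comp_id, h0])
  have h1 := comp_distTriang_mor_zero₃₁ _ hT
  rw [h, Functor.map_smul, Linear.comp_smul, ← Linear.smul_comp, ← zero_comp (f := e.hom⟦(1 : ℤ)⟧'),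
    cancel_mono] at h1
  rw [mul_smul, hg, ← Linear.smul_comp, h1, zero_comp]

/-- `a • 𝟙` vanishes on `Q K`. -/
def Kills (a : A) (X : DRing.Cx A) : Prop := a • 𝟙 (DerivedCategory.Q.obj X) = 0

theorem exists_kills : ∀ (l : List A) (M : ModuleCat.{u} A) (y : A), y ∈ l → ∃ N : ℕ, Kills (y ^ N) (K l M)
  | x :: l, M, y, hy => by
    have hT := DerivedCategory.mappingCone_triangle_distinguished (x • 𝟙 (K l M))
    rcases List.mem_cons.1 hy with rfl | hy
    · refine ⟨2, ?_⟩
      rw [sq]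
      exact sq_smul_cone_self hT y (Iso.refl _) (Q_smul_id y (K l M))
    · obtain ⟨N, hN⟩ := exists_kills l M y hy
      refine ⟨N + N, ?_⟩
      rw [pow_add]
      exact sq_smul_cone hT _ hN hN

theorem exists_pow_kills (I : Ideal A) (l : List A) (hl : Ideal.span {a | a ∈ l} = I) (M : ModuleCat.{u} A) :
    ∃ N : ℕ, ∀ a ∈ I ^ N, Kills a (K l M) := by
  let ann : Ideal A := LinearMap.ker (LinearMap.toSpanSingleton A _ (𝟙 (DerivedCategory.Q.obj (K l M))))
  have hI : I ≤ ann.radical := by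
    rw [← hl, Ideal.span_le]
    intro y hy
    obtain ⟨N, hN⟩ := exists_kills l M y hy
    exact ⟨N, LinearMap.mem_ker.2 hN⟩
  obtain ⟨N, hN⟩ := Ideal.exists_pow_le_of_le_radical_of_fg hI
    (hl ▸ Submodule.fg_span l.finite_toSet)
  exact ⟨N, fun a ha => LinearMap.mem_ker.1 (hN ha)⟩

theorem homologyMap_eq_zero {S₁ S₂ : ShortComplex (ModuleCat.{u} A)} (φ : S₁ ⟶ S₂)
    (h : ∀ z, S₁.g.hom z = 0 → φ.τ₂.hom z ∈ LinearMap.range S₂.f.hom) : ShortComplex.homologyMap φ = 0 := by
  rw [← cancel_epi S₁.homologyπ, comp_zero, ShortComplex.homologyπ_naturality]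
  ext c
  obtain ⟨w, hw⟩ := h (S₁.iCycles.hom c) (congrArg (fun f => f.hom c) S₁.iCycles_g)
  have : (ShortComplex.cyclesMap φ).hom c = S₂.toCycles.hom w :=
    (ModuleCat.mono_iff_injective S₂.iCycles).1 inferInstance
      ((congrArg (fun f => f.hom c) (ShortComplex.cyclesMap_i φ)).trans
        (hw.symm.trans (congrArg (fun f => f.hom w) S₂.toCycles_i).symm))
  show S₂.homologyπ.hom ((ShortComplex.cyclesMap φ).hom c) = 0
  rw [this]
  exact congrArg (fun f => f.hom w) S₂.toCycles_comp_homologyπ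

theorem smul_mem_range (S : ShortComplex (ModuleCat.{u} A)) (a : A) (ha : a • 𝟙 S.homology = 0)
    (y : S.X₂) (hy : S.g.hom y = 0) : a • y ∈ LinearMap.range S.f.hom := by
  let h := S.moduleCatLeftHomologyData
  have h0 : a • 𝟙 h.H = 0 := smul_id_iso h.homologyIso ha
  have := congrArg (fun f => f.hom ((LinearMap.range S.moduleCatToCycles).mkQ ⟨y, hy⟩)) h0
  obtain ⟨w, hw⟩ := (Submodule.Quotient.mk_eq_zero _).1
    (show (LinearMap.range S.moduleCatToCycles).mkQ (a • ⟨y, hy⟩) = 0 by rw [map_smul]; exact this)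
  exact ⟨w, congrArg Subtype.val hw⟩

theorem isLE (l : List A) (M : ModuleCat.{u} A) : (DerivedCategory.Q.obj (K l M)).IsLE 0 := by
  have : CochainComplex.IsStrictlyLE (K l M) 0 :=
    (CochainComplex.isStrictlyLE_iff _ _).2 fun i hi => isZero_X l M i (Or.inr hi)
  infer_instance

theorem isGE (l : List A) (M : ModuleCat.{u} A) : (DerivedCategory.Q.obj (K l M)).IsGE (-(l.length : ℤ)) := by
  have : CochainComplex.IsStrictlyGE (K l M) (-(l.length : ℤ)) :=
    (CochainComplex.isStrictlyGE_iff _ _).2 fun i hi => isZero_X l M i (Or.inl hi)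
  infer_instance

variable [IsNoetherianRing A]

theorem exists_ghost_at (I : Ideal A) (l : List A) (hl : Ideal.span {a | a ∈ l} = I)
    (M : ModuleCat.{u} A) [Module.Finite A M] (i : ℤ) :
    ∃ n : ℕ, ∀ m : ℕ, n ≤ m → ∀ (M' : ModuleCat.{u} A) (f : M' ⟶ M),
      (∀ x, f.hom x ∈ (I ^ m • ⊤ : Submodule A M)) → (DR39.HF A i).map (DerivedCategory.Q.map (map l f)) = 0 := by
  obtain ⟨N, hN⟩ := exists_pow_kills I l hl M
  have := finite_X l M i
  obtain ⟨c, hc⟩ := AR.exists_inf_le I (LinearMap.ker ((K l M).sc i).g.hom : Submodule A ((K l M).X i))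
  refine ⟨N + c, fun m hm M' f hf => ?_⟩
  rw [← cancel_mono (DR39.HQIso (K l M) i).hom, zero_comp, DR39.HQIso_naturality]
  have h0 : HomologicalComplex.homologyMap (map l f) i = 0 := homologyMap_eq_zero _ fun z hz => by
    have hker : ((K l M).sc i).g.hom (((map l f).f i).hom z) = 0 :=
      (congrArg (fun g => g.hom z) ((HomologicalComplex.shortComplexFunctor _ _ i).map (map l f)).comm₂₃).trans
        ((congrArg (ModuleCat.Hom.hom ((HomologicalComplex.shortComplexFunctor _ _ i).map (map l f)).τ₃) hz).trans (map_zero _))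
    have hmem := hc (m - c) ⟨by
      rw [Nat.sub_add_cancel (show c ≤ m by omega)]; exact map_mem (I ^ m) l f hf i z, hker⟩
    refine Submodule.smul_induction_on hmem (fun a ha y hy => ?_) fun u v hu hv => Submodule.add_mem _ hu hv
    refine smul_mem_range ((K l M).sc i) a ?_ y hy
    have hk : a • 𝟙 ((DR39.HF A i).obj (DerivedCategory.Q.obj (K l M))) = 0 := by
      rw [← TriTors.HF_map_smul_id]
      exact (congrArg _ (hN a (Ideal.pow_le_pow_right (by omega) ha))).trans (Functor.map_zero _ _ _)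
    exact smul_id_iso (DR39.HQIso (K l M) i) hk
  exact (congrArg ((DR39.HQIso _ i).hom ≫ ·) h0).trans comp_zero

theorem exists_ghost (I : Ideal A) (l : List A) (hl : Ideal.span {a | a ∈ l} = I)
    (M : ModuleCat.{u} A) [Module.Finite A M] :
    ∃ n : ℕ, ∀ (M' : ModuleCat.{u} A) (f : M' ⟶ M), (∀ x, f.hom x ∈ (I ^ n • ⊤ : Submodule A M)) →
      Ghost.IsGhost (DerivedCategory.Q.map (map l f)) := by
  choose n hn using exists_ghost_at I l hl M
  refine ⟨(Finset.Icc (-(l.length : ℤ)) 0).sup n, fun M' f hf i => ?_⟩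
  by_cases hi : i ∈ Finset.Icc (-(l.length : ℤ)) 0
  · exact hn i _ (Finset.le_sup hi) M' f hf
  · rw [Finset.mem_Icc] at hi
    have hz : IsZero ((DR39.HF A i).obj (DerivedCategory.Q.obj (K l M))) := by
      have := isLE l M
      have := isGE l M
      by_cases h : 0 < i
      · exact DerivedCategory.isZero_of_isLE _ 0 i h
      · exact DerivedCategory.isZero_of_isGE _ (-(l.length : ℤ)) i (by omega)
    exact hz.eq_of_tgt _ _

theorem exists_ghostPow (I : Ideal A) (l : List A) (hl : Ideal.span {a | a ∈ l} = I) :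
    ∀ (L : ℕ) (M : ModuleCat.{u} A) [Module.Finite A M], ∃ n : ℕ, ∀ (M' : ModuleCat.{u} A) (f : M' ⟶ M),
      (∀ x, f.hom x ∈ (I ^ n • ⊤ : Submodule A M)) → Ghost.IsGhostPow L (DerivedCategory.Q.map (map l f))
  | 0, _, _ => ⟨0, fun _ _ _ => trivial⟩
  | L + 1, M, _ => by
    obtain ⟨n', hn'⟩ := exists_ghostPow I l hl L M
    let M₁ : ModuleCat.{u} A := ModuleCat.of A ↥(I ^ n' • ⊤ : Submodule A M)
    obtain ⟨n, hn⟩ := exists_ghost I l hl M₁
    refine ⟨n + n', fun M' f hf => ?_⟩
    have hle : (I ^ (n + n') • ⊤ : Submodule A M) ≤ I ^ n' • ⊤ :=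
      Submodule.smul_mono_left (Ideal.pow_le_pow_right (Nat.le_add_left n' n))
    let g : M' ⟶ M₁ := ModuleCat.ofHom (f.hom.codRestrict _ fun x => hle (hf x))
    let ι : M₁ ⟶ M := ModuleCat.ofHom (I ^ n' • ⊤ : Submodule A M).subtype
    refine ⟨_, DerivedCategory.Q.map (map l g), DerivedCategory.Q.map (map l ι), hn _ g fun x => ?_,
      hn' _ ι fun y => y.2, by rw [← Functor.map_comp, ← map_comp]; rfl⟩
    have e : (I ^ (n + n') • ⊤ : Submodule A M) = I ^ n • (I ^ n' • ⊤) := by
      rw [pow_add, ← Submodule.smul_assoc, smul_eq_mul]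
    obtain ⟨y, hy, hyx⟩ := (Submodule.map_smul'' (I ^ n) ⊤ (I ^ n' • ⊤ : Submodule A M).subtype).ge
      (show (f.hom x) ∈ _ by rw [Submodule.map_subtype_top]; exact e.le (hf x))
    rwa [← show y = g.hom x from Subtype.ext hyx]

theorem exists_zero (I : Ideal A) (l : List A) (hl : Ideal.span {a | a ∈ l} = I)
    (M : ModuleCat.{u} A) [Module.Finite A M] :
    ∃ n : ℕ, ∀ (M' : ModuleCat.{u} A) (f : M' ⟶ M), (∀ x, f.hom x ∈ (I ^ n • ⊤ : Submodule A M)) →
      DerivedCategory.Q.map (map l f) = 0 := by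
  obtain ⟨n, hn⟩ := exists_ghostPow I l hl (l.length + 1) M
  refine ⟨n, fun M' f hf => ?_⟩
  have := isLE l M'
  have := isGE l M
  exact Ghost.eq_zero (l.length + 1) (-(l.length : ℤ)) 0 (by omega) _ (hn M' f hf)

omit [IsNoetherianRing A] in
theorem comp_eq_zero : ∀ (l : List A) {M N : ModuleCat.{u} A} (f : M ⟶ N) (W : Dual.D A),
    (∀ x ∈ l, x • 𝟙 W = 0) →
    (∀ g : DerivedCategory.Q.obj (K l N) ⟶ W, DerivedCategory.Q.map (map l f) ≫ g = 0) →
    ∀ g : DerivedCategory.Q.obj ((HomologicalComplex.single (ModuleCat.{u} A) (ComplexShape.up ℤ) 0).obj N) ⟶ W,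
      DerivedCategory.Q.map ((HomologicalComplex.single (ModuleCat.{u} A) (ComplexShape.up ℤ) 0).map f) ≫ g = 0
  | [], _, _, _, _, _, h, g => h g
  | x :: l, M, N, f, W, hW, h, g => by
    refine comp_eq_zero l f W (fun y hy => hW y (List.mem_cons_of_mem _ hy)) (fun g' => ?_) g
    obtain ⟨g'', hg⟩ := Triangle.yoneda_exact₂ _
      (DerivedCategory.mappingCone_triangle_distinguished (x • 𝟙 (K l N))) g' (by
        refine (congrArg (· ≫ g') (Q_smul_id x (K l N))).trans ?_
        rw [Linear.smul_comp, Category.id_comp, ← Category.comp_id g', ← Linear.comp_smul,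
          hW x List.mem_cons_self, comp_zero]
        rfl)
    rw [hg]
    refine (Category.assoc _ _ _).symm.trans ?_
    refine (congrArg (· ≫ g'') ((DerivedCategory.Q.map_comp _ _).symm.trans
      ((congrArg DerivedCategory.Q.map (inr_cmap x (map l f)).symm).trans
        (DerivedCategory.Q.map_comp _ _)))).trans ?_
    exact (Category.assoc _ _ _).trans ((congrArg (_ ≫ ·) (h g'')).trans comp_zero)

theorem exists_comp_eq_zero (I : Ideal A) (M : ModuleCat.{u} A) [Module.Finite A M] :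
    ∃ n : ℕ, 0 < n ∧ ∀ (M' : ModuleCat.{u} A) (f : M' ⟶ M), (∀ x, f.hom x ∈ (I ^ n • ⊤ : Submodule A M)) →
      ∀ (W : Dual.D A), (∀ x ∈ I, x • 𝟙 W = 0) →
      ∀ g : DerivedCategory.Q.obj ((HomologicalComplex.single (ModuleCat.{u} A) (ComplexShape.up ℤ) 0).obj M) ⟶ W,
        DerivedCategory.Q.map ((HomologicalComplex.single (ModuleCat.{u} A) (ComplexShape.up ℤ) 0).map f) ≫ g = 0 := by
  obtain ⟨s, hs⟩ := IsNoetherian.noetherian I
  have hl : Ideal.span {a | a ∈ s.toList} = I := by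
    rw [show {a : A | a ∈ s.toList} = (s : Set A) by ext; simp]
    exact hs
  obtain ⟨n, hn⟩ := exists_zero I s.toList hl M
  refine ⟨n + 1, Nat.succ_pos n, fun M' f hf W hW g => ?_⟩
  refine comp_eq_zero s.toList f W (fun x hx => hW x (hl ▸ Ideal.subset_span hx)) (fun g' => ?_) g
  rw [hn M' f fun x => Submodule.smul_mono_left (Ideal.pow_le_pow_right (Nat.le_succ n)) (hf x), zero_comp]

end Groth.Agent.CAlg4.Kos
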