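import Mathlib.Algebra.Module.Lattice
import Mathlib.RingTheory.OrderOfVanishing.Basic
import Mathlib.RingTheory.FiniteLength
import Mathlib.RingTheory.Localization.Module
import Mathlib.Data.ENat.BigOperators

/-! Lattices over one-dimensional Noetherian local domains. -/

universe u

open scoped nonZeroDivisors

namespace Groth.Agent.CAlg4.LatticeDimOne

variable {R K V : Type u} [CommRing R] [IsDomain R] [IsNoetherianRing R] [Field K] [Algebra R K]
  [IsFractionRing R K] [AddCommGroup V] [Module K V] [Module R V] [IsScalarTower R K V]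

omit [IsNoetherianRing R] in
theorem exists_smul_mem (M : Submodule R V) [Submodule.IsLattice K M] (v : V) :
    ∃ r ∈ R⁰, r • v ∈ M := by
  have hv : v ∈ Submodule.span K (M : Set V) := Submodule.IsLattice.span_eq_top.ge trivial
  induction hv using Submodule.span_induction with
  | mem x hx => exact ⟨1, one_mem _, by rwa [one_smul]⟩
  | zero => exact ⟨1, one_mem _, by simp⟩
  | add x y _ _ hx hy =>
    obtain ⟨a, ha, hax⟩ := hx
    obtain ⟨b, hb, hby⟩ := hy
    refine ⟨a * b, mul_mem ha hb, ?_⟩
    rw [smul_add]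
    refine add_mem ?_ ?_
    · rw [mul_comm, mul_smul]; exact M.smul_mem b hax
    · rw [mul_smul]; exact M.smul_mem a hby
  | smul c x _ hx =>
    obtain ⟨a, ha, hax⟩ := hx
    obtain ⟨n, d, hd, rfl⟩ := IsFractionRing.div_surjective (A := R) c
    refine ⟨d * a, mul_mem hd ha, ?_⟩
    have hd0 : algebraMap R K d ≠ 0 := IsFractionRing.to_map_ne_zero_of_mem_nonZeroDivisors hd
    have : (d * a) • (algebraMap R K n / algebraMap R K d) • x = n • a • x := by
      rw [← algebraMap_smul K (d * a), smul_smul, ← algebraMap_smul K n, ← algebraMap_smul K a, smul_smul,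
        map_mul]
      congr 1
      field_simp
    rw [this]
    exact M.smul_mem n hax

omit [IsNoetherianRing R] in
theorem exists_smul_le (M N : Submodule R V) [Submodule.IsLattice K M] (hN : N.FG) :
    ∃ r ∈ R⁰, ∀ v ∈ N, r • v ∈ M := by
  classical
  obtain ⟨s, rfl⟩ := hN
  choose r hr hrv using fun v : V => exists_smul_mem (K := K) M v
  refine ⟨∏ v ∈ s, r v, prod_mem fun v _ => hr v, fun w hw => ?_⟩
  induction hw using Submodule.span_induction with
  | mem x hx =>
    obtain ⟨q, hq⟩ := Finset.dvd_prod_of_mem r hx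
    rw [hq, mul_comm, mul_smul]
    exact M.smul_mem q (hrv x)
  | zero => simp
  | add x y _ _ hx hy => rw [smul_add]; exact add_mem hx hy
  | smul c x _ hx => rw [smul_comm]; exact M.smul_mem c hx

variable [Ring.KrullDimLE 1 R]

theorem length_ne_top (M N : Submodule R V) [Submodule.IsLattice K M] (hN : N.FG) :
    Module.length R (N ⧸ Submodule.comap N.subtype M) ≠ ⊤ := by
  obtain ⟨r, hr, hrN⟩ := exists_smul_le (K := K) M N hN
  obtain ⟨s, hs⟩ : (⊤ : Submodule R N).FG := (Submodule.fg_top N).2 hN
  let f : (s → R ⧸ Ideal.span {r}) →ₗ[R] N ⧸ Submodule.comap N.subtype M :=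
    ∑ i : s, (Submodule.liftQ (Ideal.span {r})
      (LinearMap.toSpanSingleton R _ (Submodule.Quotient.mk (i : N)))
      (by
        rw [Ideal.span, Submodule.span_singleton_le_iff_mem, LinearMap.mem_ker, LinearMap.toSpanSingleton_apply,
          ← Submodule.Quotient.mk_smul, Submodule.Quotient.mk_eq_zero]
        exact hrN _ (i : N).2)) ∘ₗ LinearMap.proj i
  have hf : Function.Surjective f := by
    classical
    rw [← LinearMap.range_eq_top, eq_top_iff,
      ← (Submodule.map_top _).trans (LinearMap.range_eq_top.2 (Submodule.Quotient.mk_surjective _) :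
        LinearMap.range (Submodule.comap N.subtype M).mkQ = ⊤), ← hs, Submodule.map_span, Submodule.span_le]
    rintro _ ⟨x, hx, rfl⟩
    refine ⟨Pi.single ⟨x, hx⟩ (Submodule.mkQ (Ideal.span {r}) 1), ?_⟩
    simp only [f, LinearMap.coe_sum, Finset.sum_apply, LinearMap.comp_apply, LinearMap.proj_apply]
    rw [Finset.sum_eq_single ⟨x, hx⟩ (fun b _ hb => by simp [Pi.single_eq_of_ne hb]) (by simp)]
    simp
    erw [Submodule.liftQ_apply]
    exact one_smul R (_ : N ⧸ Submodule.comap N.subtype M)
  refine ne_top_of_le_ne_top ?_ (Module.length_le_of_surjective f hf)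
  rw [Module.length_pi_of_fintype]
  exact ENat.sum_ne_top.2 fun _ _ => Module.length_ne_top_iff.2 (isFiniteLength_quotient_span_singleton R hr)

omit [IsDomain R] [IsNoetherianRing R] [IsFractionRing R K] [Ring.KrullDimLE 1 R] in
theorem fg_of_length_ne_top (M N : Submodule R V) [Submodule.IsLattice K M] (hle : M ≤ N)
    (h : Module.length R (N ⧸ Submodule.comap N.subtype M) ≠ ⊤) : N.FG := by
  have := (isFiniteLength_iff_isNoetherian_isArtinian.1 (Module.length_ne_top_iff.1 h)).1
  rw [← Submodule.fg_top]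
  refine Submodule.fg_of_fg_map_of_fg_inf_ker (Submodule.comap N.subtype M).mkQ (IsNoetherian.noetherian _) ?_
  rw [top_inf_eq, Submodule.ker_mkQ]
  refine (Submodule.fg_map_iff N.subtype N.injective_subtype).1 ?_
  rw [Submodule.map_comap_subtype, inf_eq_right.2 hle]
  exact Submodule.IsLattice.fg

omit [IsNoetherianRing R] [Ring.KrullDimLE 1 R] in
theorem span_eq_top_of_smul_mem (M N : Submodule R V) [Submodule.IsLattice K M]
    (h : ∀ v ∈ M, ∃ r ∈ R⁰, r • v ∈ N) : Submodule.span K (N : Set V) = ⊤ := by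
  rw [eq_top_iff, ← Submodule.IsLattice.span_eq_top (R := R) (A := K) (M := M), Submodule.span_le]
  intro v hv
  obtain ⟨r, hr, hrv⟩ := h v hv
  have h0 : algebraMap R K r ≠ 0 := IsFractionRing.to_map_ne_zero_of_mem_nonZeroDivisors hr
  have : v = (algebraMap R K r)⁻¹ • (r • v) := by
    rw [← algebraMap_smul K r v, smul_smul, inv_mul_cancel₀ h0, one_smul]
  rw [this]
  exact Submodule.smul_mem _ _ (Submodule.subset_span hrv)

omit [Ring.KrullDimLE 1 R] in
theorem isLattice_of_length_ne_top [IsLocalRing R] (hR : ¬ IsField R) (M N : Submodule R V)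
    [Submodule.IsLattice K M] (hle : N ≤ M)
    (h : Module.length R (M ⧸ Submodule.comap M.subtype N) ≠ ⊤) : Submodule.IsLattice K N := by
  obtain ⟨x, hx, hx0⟩ : ∃ x ∈ IsLocalRing.maximalIdeal R, x ≠ 0 := by
    by_contra! hm
    exact hR (IsLocalRing.isField_iff_maximalIdeal_eq.2 ((Submodule.eq_bot_iff _).2 hm))
  have : IsNoetherian R M := isNoetherian_of_fg_of_noetherian _ Submodule.IsLattice.fg
  refine ⟨?_, span_eq_top_of_smul_mem (K := K) M N fun v hv => ?_⟩
  · rw [← inf_eq_right.2 hle, ← Submodule.map_comap_subtype]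
    exact (IsNoetherian.noetherian _).map _
  have := (isFiniteLength_iff_isNoetherian_isArtinian.1 (Module.length_ne_top_iff.1 h)).2
  let q : ℕ →o (Submodule R (M ⧸ Submodule.comap M.subtype N))ᵒᵈ :=
    { toFun := fun n => OrderDual.toDual (Submodule.span R {x ^ n • Submodule.Quotient.mk ⟨v, hv⟩})
      monotone' := fun a b hab => by
        show Submodule.span R _ ≤ Submodule.span R _
        rw [Submodule.span_singleton_le_iff_mem, Submodule.mem_span_singleton]
        exact ⟨x ^ (b - a), by rw [smul_smul, ← pow_add, Nat.sub_add_cancel hab]⟩ }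
  obtain ⟨n, hn⟩ := IsArtinian.monotone_stabilizes q
  obtain ⟨a, ha⟩ := Submodule.mem_span_singleton.1
    (show x ^ n • Submodule.Quotient.mk ⟨v, hv⟩ ∈
      Submodule.span R {x ^ (n + 1) • (Submodule.Quotient.mk ⟨v, hv⟩ : M ⧸ Submodule.comap M.subtype N)} from
      (congrArg OrderDual.ofDual (hn (n + 1) (Nat.le_succ n))).le (Submodule.mem_span_singleton_self _))
  refine ⟨(1 - a * x) * x ^ n, mem_nonZeroDivisors_of_ne_zero (mul_ne_zero (fun h0 => ?_) (pow_ne_zero _ hx0)), ?_⟩
  · exact (IsLocalRing.maximalIdeal.isMaximal R).ne_top ((Ideal.eq_top_iff_one _).2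
      (by rw [sub_eq_zero] at h0; rw [h0]; exact Ideal.mul_mem_left _ a hx))
  · have h1 : ((1 - a * x) * x ^ n) • (⟨v, hv⟩ : M) ∈ Submodule.comap M.subtype N := by
      rw [← Submodule.Quotient.mk_eq_zero, Submodule.Quotient.mk_smul, sub_mul, one_mul, sub_smul, sub_eq_zero,
        mul_assoc, ← pow_succ', mul_smul]
      exact ha.symm
    exact h1

end Groth.Agent.CAlg4.LatticeDimOne
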