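import Groth.Agent.VarDim1.KrullAkizuki
import Mathlib.LinearAlgebra.Pi

set_option autoImplicit false

namespace Groth.Agent.CAlg4.LatticeLength

universe u

open Groth.Agent.VarDim1

variable {R : Type u} [CommRing R] [IsDomain R] [IsNoetherianRing R] [Ring.KrullDimLE 1 R]
variable (K : Type u) [Field K] [Algebra R K] [IsFractionRing R K]

theorem length_ne_top (x : R) (hx : x ≠ 0) :
    ∀ (r : ℕ) {M : Type u} [AddCommGroup M] [Module R M] (φ : M →ₗ[R] (Fin r → K)),
      Function.Injective φ → Module.length R (M ⧸ smulRange R M x) ≠ ⊤ := by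
  intro r
  induction r with
  | zero =>
    intro M _ _ φ hφ
    have : Subsingleton M := hφ.subsingleton
    simp [Module.length_eq_zero]
  | succ r ih =>
    intro M _ _ φ hφ
    let p : M →ₗ[R] K := (LinearMap.proj 0).comp φ
    let t : LinearMap.ker p →ₗ[R] (Fin r → K) :=
      (LinearMap.funLeft R K Fin.succ).comp (φ.comp (LinearMap.ker p).subtype)
    have ht : Function.Injective t := by
      rw [injective_iff_map_eq_zero]
      intro m hm
      refine Subtype.ext (hφ (funext fun i => ?_))
      rw [ZeroMemClass.coe_zero, map_zero]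
      refine Fin.cases ?_ (fun j => ?_) i
      · exact m.2
      · exact congrFun hm j
    have h1 := ih t ht
    have : Module.IsTorsionFree R (LinearMap.range p) := inferInstance
    have h2 : Module.length R (LinearMap.range p ⧸ smulRange R (LinearMap.range p) x) ≠ ⊤ :=
      ne_top_of_le_ne_top (by
        rw [Module.finrank_self]
        simpa using Ring.ord_ne_top (mem_nonZeroDivisors_of_ne_zero hx))
        (length_quot_smulRange_le K (LinearMap.range p).subtype Subtype.val_injective x hx)
    let a : (LinearMap.ker p ⧸ smulRange R (LinearMap.ker p) x) →ₗ[R] M ⧸ smulRange R M x :=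
      Submodule.mapQ _ _ (LinearMap.ker p).subtype (by rintro _ ⟨y, rfl⟩; exact ⟨y, rfl⟩)
    let b : (M ⧸ smulRange R M x) →ₗ[R] LinearMap.range p ⧸ smulRange R (LinearMap.range p) x :=
      Submodule.mapQ _ _ p.rangeRestrict (by
        rintro _ ⟨y, rfl⟩; exact ⟨p.rangeRestrict y, (map_smul p.rangeRestrict x y).symm⟩)
    have hex : LinearMap.ker b ≤ LinearMap.range a := by
      intro q hq
      obtain ⟨m, rfl⟩ := Submodule.Quotient.mk_surjective _ q
      obtain ⟨z, hz⟩ := (Submodule.Quotient.mk_eq_zero _).mp hq
      obtain ⟨w, rfl⟩ := p.surjective_rangeRestrict z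
      refine ⟨Submodule.Quotient.mk ⟨m - x • w, ?_⟩, (Submodule.Quotient.eq _).mpr ⟨-w, by simp⟩⟩
      have h3 : x • p w = p m := congrArg Subtype.val hz
      simp [LinearMap.mem_ker, h3]
    have hb : Function.Surjective b := fun q => by
      obtain ⟨z, rfl⟩ := Submodule.Quotient.mk_surjective _ q
      obtain ⟨w, rfl⟩ := p.surjective_rangeRestrict z
      exact ⟨Submodule.Quotient.mk w, rfl⟩
    rw [Module.length_eq_add_of_exact (LinearMap.ker b).subtype b Subtype.val_injective hb
      (LinearMap.exact_subtype_ker_map b)]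
    refine WithTop.add_ne_top.mpr ⟨ne_top_of_le_ne_top h1 ?_, h2⟩
    exact (Module.length_le_of_injective (Submodule.inclusion hex)
      (Submodule.inclusion_injective _)).trans
      (Module.length_le_of_surjective a.rangeRestrict a.surjective_rangeRestrict)

end Groth.Agent.CAlg4.LatticeLength
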