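import Mathlib.RingTheory.Length
import Mathlib.RingTheory.FiniteLength
import Mathlib.RingTheory.LocalRing.Length
import Mathlib.Algebra.Module.LocalizedModule.Submodule
import Mathlib.Algebra.Module.LocalizedModule.Exact
import Mathlib.RingTheory.Localization.Module
import Mathlib.RingTheory.Localization.AtPrime.Basic
import Mathlib.RingTheory.Spectrum.Maximal.Basic
import Mathlib.Data.ENat.BigOperators

/-! Length over the base as a sum of local lengths. -/

universe u

namespace Groth.Agent.CAlg4.LengthLocal

variable {A B : Type u} [CommRing A] [CommRing B] [Algebra A B]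

/-- The contribution of a maximal ideal. -/
noncomputable def term (A : Type u) [CommRing A] [Algebra A B] (N : Type u) [AddCommGroup N] [Module B N]
    (n : MaximalSpectrum B) : ℕ∞ :=
  Module.length A (B ⧸ n.asIdeal) *
    Module.length (Localization.AtPrime n.asIdeal) (LocalizedModule n.asIdeal.primeCompl N)

theorem loc_add {M N P : Type u} [AddCommGroup M] [Module B M] [AddCommGroup N] [Module B N] [AddCommGroup P]
    [Module B P] (f : M →ₗ[B] N) (g : N →ₗ[B] P) (hf : Function.Injective f) (hg : Function.Surjective g)
    (h : Function.Exact f g) (S : Submonoid B) :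
    Module.length (Localization S) (LocalizedModule S N) =
      Module.length (Localization S) (LocalizedModule S M) + Module.length (Localization S) (LocalizedModule S P) :=
  Module.length_eq_add_of_exact
    ((IsLocalizedModule.map S (LocalizedModule.mkLinearMap S M) (LocalizedModule.mkLinearMap S N)
      f).extendScalarsOfIsLocalization S (Localization S))
    ((IsLocalizedModule.map S (LocalizedModule.mkLinearMap S N) (LocalizedModule.mkLinearMap S P)
      g).extendScalarsOfIsLocalization S (Localization S))
    (IsLocalizedModule.map_injective S _ _ f hf) (IsLocalizedModule.map_surjective S _ _ g hg)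
    (IsLocalizedModule.map_exact S _ _ _ f g h)

theorem loc_simple (n : Ideal B) [n.IsMaximal] :
    Module.length (Localization.AtPrime n) (LocalizedModule n.primeCompl (B ⧸ n)) = 1 := by
  have hu : ∀ s : n.primeCompl, IsUnit (algebraMap B (Module.End B (B ⧸ n)) s) := fun s => by
    let := Ideal.Quotient.field n
    rw [Module.End.isUnit_iff]
    have hs : Ideal.Quotient.mk n (s : B) ≠ 0 := fun h => s.2 (Ideal.Quotient.eq_zero_iff_mem.1 h)
    refine (Function.Bijective.of_comp_iff' (Function.bijective_id) _).1 ?_
    show Function.Bijective fun y : B ⧸ n => (s : B) • y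
    simp only [Algebra.smul_def, Ideal.Quotient.algebraMap_eq]
    exact mulLeft_bijective₀ _ hs
  have : IsLocalizedModule n.primeCompl (LinearMap.id : (B ⧸ n) →ₗ[B] B ⧸ n) :=
    ⟨hu, fun y => ⟨(y, 1), one_smul _ _⟩, fun h => ⟨1, by simpa using h⟩⟩
  let e : LocalizedModule n.primeCompl (B ⧸ n) ≃ₗ[B] (B ⧸ n) := IsLocalizedModule.iso n.primeCompl LinearMap.id
  have hsimple : IsSimpleModule B (B ⧸ n) := isSimpleModule_iff_isCoatom.2 (Ideal.isMaximal_def.1 inferInstance)
  have hs : IsSimpleModule B (LocalizedModule n.primeCompl (B ⧸ n)) := IsSimpleModule.congr e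
  refine Module.length_eq_one_iff.2 ?_
  have : Nontrivial (LocalizedModule n.primeCompl (B ⧸ n)) := IsSimpleModule.nontrivial B _
  refine { exists_pair_ne := ⟨⊥, ⊤, bot_ne_top⟩, eq_bot_or_eq_top := fun p => ?_ }
  rcases eq_bot_or_eq_top (p.restrictScalars B) with h | h
  · exact Or.inl (Submodule.restrictScalars_injective B _ _ h)
  · exact Or.inr (Submodule.restrictScalars_injective B _ _ h)

theorem loc_simple_ne (n n' : Ideal B) [n.IsMaximal] [n'.IsMaximal] (h : n ≠ n') :
    Module.length (Localization.AtPrime n') (LocalizedModule n'.primeCompl (B ⧸ n)) = 0 := by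
  obtain ⟨s, hs, hs'⟩ := SetLike.not_le_iff_exists.1 (fun hle => h (Ideal.IsMaximal.eq_of_le ‹n.IsMaximal› Ideal.IsPrime.ne_top' hle))
  rw [Module.length_eq_zero_iff, LocalizedModule.subsingleton_iff]
  intro y
  obtain ⟨y, rfl⟩ := Ideal.Quotient.mk_surjective y
  exact ⟨s, hs', (Submodule.Quotient.mk_smul n s y).symm.trans
    ((Submodule.Quotient.mk_eq_zero n).2 (n.mul_mem_right y hs))⟩

theorem length_eq_finsum : ∀ {N : Type u} [AddCommGroup N] [Module B N],
    IsFiniteLength B N → ∀ [Module A N] [IsScalarTower A B N], (Function.support (term (B := B) A N)).Finite ∧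
      Module.length A N = ∑ᶠ n, term (B := B) A N n := by
  intro N _ _ h
  induction h with
  | @of_subsingleton N _ _ _ =>
    intro _ _
    have h0 : term (B := B) A N = fun _ => 0 := funext fun n => by
      show Module.length A _ * Module.length _ _ = 0
      rw [Module.length_eq_zero_iff.2 (inferInstance : Subsingleton (LocalizedModule n.asIdeal.primeCompl N)),
        mul_zero]
    rw [h0]
    refine ⟨by simp, ?_⟩
    rw [finsum_zero, Module.length_eq_zero_iff]
    infer_instance
  | @of_simple_quotient N _ _ K hK _ ih =>
    intro _ _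
    obtain ⟨hfin, hlen⟩ := @ih inferInstance inferInstance
    obtain ⟨m, hm, ⟨e⟩⟩ := isSimpleModule_iff_quot_maximal.1 hK
    have hloc : ∀ n : MaximalSpectrum B, term A N n = term A K n + term A (B ⧸ m) n := fun n => by
      rw [term, term, term, ← mul_add, loc_add K.subtype (e.toLinearMap ∘ₗ K.mkQ) K.injective_subtype
        (e.surjective.comp K.mkQ_surjective)
        (LinearMap.exact_iff.2 (by rw [LinearEquiv.ker_comp, Submodule.ker_mkQ, Submodule.range_subtype]))
        n.asIdeal.primeCompl]
    let m' : MaximalSpectrum B := ⟨m, hm⟩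
    have hm1 : ∀ n, n ≠ m' → term A (B ⧸ m) n = 0 := fun n hn => by
      rw [term, loc_simple_ne m n.asIdeal fun h => hn (MaximalSpectrum.ext h.symm), mul_zero]
    have hm2 : term A (B ⧸ m) m' = Module.length A (B ⧸ m) := by
      rw [term, loc_simple m, mul_one]
    have hfin' : (Function.support (term A (B ⧸ m))).Finite :=
      (Set.finite_singleton m').subset fun n hn => by_contra fun h => hn (hm1 n h)
    refine ⟨(hfin.union hfin').subset fun n hn => ?_, ?_⟩
    · by_contra h
      simp only [Set.mem_union, Function.mem_support, not_or, not_not] at h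
      exact hn (by rw [hloc, h.1, h.2, add_zero])
    · rw [funext hloc, finsum_add_distrib hfin hfin', ← hlen, finsum_eq_single _ m' hm1, hm2,
        ← (e.restrictScalars A).length_eq]
      exact Module.length_eq_add_of_exact (K.subtype.restrictScalars A) (K.mkQ.restrictScalars A)
        K.injective_subtype K.mkQ_surjective (LinearMap.exact_subtype_mkQ K)

theorem loc_quotient (x : B) (n : Ideal B) [n.IsPrime] :
    Module.length (Localization.AtPrime n) (LocalizedModule n.primeCompl (B ⧸ Ideal.span {x})) =
      Module.length (Localization.AtPrime n)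
        (Localization.AtPrime n ⧸ Ideal.span {algebraMap B (Localization.AtPrime n) x}) := by
  let f := Submodule.toLocalizedQuotient' (Localization.AtPrime n) n.primeCompl
    (Algebra.linearMap B (Localization.AtPrime n)) (Ideal.span {x})
  let e : LocalizedModule n.primeCompl (B ⧸ Ideal.span {x}) ≃ₗ[B] _ := IsLocalizedModule.iso n.primeCompl f
  refine ((e.extendScalarsOfIsLocalization n.primeCompl (Localization.AtPrime n)).length_eq).trans
    (LinearEquiv.length_eq (Submodule.quotEquivOfEq _ _ ?_))
  rw [Ideal.span, Submodule.localized'_span, Set.image_singleton]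
  rfl

end Groth.Agent.CAlg4.LengthLocal
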