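import Mathlib

/-! Approximating local homomorphisms by essentially finite type ones. -/

universe u v

namespace Groth.Agent.CAlg4.LocalApprox

variable {B : Type v} {S : Type u} [CommRing B] [CommRing S] [Algebra B S]

/-- Fractions of elements of `A` with denominators invertible in `S`. -/
def loc (A : Subalgebra B S) : Subalgebra B S where
  carrier := {x | ∃ a ∈ A, ∃ b ∈ A, IsUnit b ∧ x * b = a}
  mul_mem' := by
    rintro x y ⟨a, ha, b, hb, hbu, e⟩ ⟨a', ha', b', hb', hbu', e'⟩
    exact ⟨a * a', mul_mem ha ha', b * b', mul_mem hb hb', hbu.mul hbu', by linear_combination y * b' * e + a * e'⟩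
  add_mem' := by
    rintro x y ⟨a, ha, b, hb, hbu, e⟩ ⟨a', ha', b', hb', hbu', e'⟩
    exact ⟨a * b' + a' * b, add_mem (mul_mem ha hb') (mul_mem ha' hb), b * b', mul_mem hb hb', hbu.mul hbu',
      by linear_combination b' * e + b * e'⟩
  algebraMap_mem' r := ⟨_, A.algebraMap_mem r, 1, one_mem _, isUnit_one, mul_one _⟩

theorem le_loc (A : Subalgebra B S) : A ≤ loc A := fun x hx => ⟨x, hx, 1, one_mem _, isUnit_one, mul_one _⟩

theorem isUnit_loc (A : Subalgebra B S) (x : loc A) (hx : IsUnit (x : S)) : IsUnit x := by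
  obtain ⟨a, ha, b, hb, hbu, e⟩ := x.2
  obtain ⟨y, hy⟩ := hx.exists_right_inv
  refine IsUnit.of_mul_eq_one (⟨y, b, hb, a, ha, e ▸ hx.mul hbu, ?_⟩ : loc A) (Subtype.ext hy)
  linear_combination b * hy - y * e

theorem isLocalRing_loc [IsLocalRing S] (A : Subalgebra B S) : IsLocalRing (loc A) :=
  .of_isUnit_or_isUnit_one_sub_self fun x =>
    (IsLocalRing.isUnit_or_isUnit_one_sub_self (x : S)).imp (isUnit_loc A x) (fun h => isUnit_loc A (1 - x) h)

theorem essFiniteType_loc (A : Subalgebra B S) (hA : A.FG) : Algebra.EssFiniteType B (loc A) := by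
  have : Algebra.FiniteType B A := (Subalgebra.fg_iff_finiteType A).1 hA
  let M : Submonoid A := (IsUnit.submonoid S).comap A.val.toRingHom.toMonoidHom
  let _ : Algebra A (loc A) := (Subalgebra.inclusion (le_loc A)).toRingHom.toAlgebra
  have : IsScalarTower B A (loc A) :=
    IsScalarTower.of_algebraMap_eq fun b => ((Subalgebra.inclusion (le_loc A)).commutes b).symm
  have : IsLocalization M (loc A) := by
    refine (isLocalization_iff _ _).2 ⟨fun s => isUnit_loc A _ s.2, fun x => ?_, fun {x y} h => ⟨1, ?_⟩⟩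
    · obtain ⟨a, ha, b, hb, hbu, e⟩ := x.2
      exact ⟨(⟨a, ha⟩, ⟨⟨b, hb⟩, hbu⟩), Subtype.ext e⟩
    · have h' : (x : S) = (y : S) := congrArg (fun z : loc A => (z : S)) h
      rw [Subtype.ext h']
  have : Algebra.EssFiniteType A (loc A) := Algebra.EssFiniteType.of_isLocalization _ M
  exact Algebra.EssFiniteType.comp B A (loc A)

theorem main (R S : Type u) [CommRing R] [CommRing S] [IsLocalRing R]
    [IsLocalRing S] [Algebra R S] [IsLocalHom (algebraMap R S)] (E : Finset R) (F : Finset S) :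
    ∃ (R₀ : Subring R) (S₀ : Subring S) (h : ∀ x ∈ R₀, algebraMap R S x ∈ S₀),
      (E : Set R) ⊆ R₀ ∧ (F : Set S) ⊆ S₀ ∧ ∃ (_ : IsLocalRing R₀) (_ : IsLocalRing S₀),
        IsLocalHom R₀.subtype ∧ IsLocalHom S₀.subtype ∧
          IsLocalHom ((algebraMap R S).restrict R₀ S₀ h) ∧
          (algebraMap ℤ R₀).EssFiniteType ∧ ((algebraMap R S).restrict R₀ S₀ h).EssFiniteType := by
  let AR : Subalgebra ℤ R := Algebra.adjoin ℤ (E : Set R)
  let R₀ := loc AR
  let AS : Subalgebra R₀ S := Algebra.adjoin R₀ (F : Set S)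
  let S₀ := loc AS
  have h : ∀ x ∈ R₀.toSubring, algebraMap R S x ∈ S₀.toSubring := fun x hx =>
    le_loc AS (AS.algebraMap_mem (⟨x, hx⟩ : R₀))
  refine ⟨R₀.toSubring, S₀.toSubring, h, fun x hx => le_loc AR (Algebra.subset_adjoin hx),
    fun x hx => le_loc AS (Algebra.subset_adjoin hx), isLocalRing_loc AR, isLocalRing_loc AS,
    ⟨fun x hx => isUnit_loc AR x hx⟩, ⟨fun x hx => isUnit_loc AS x hx⟩, ⟨fun x hx => ?_⟩, ?_, ?_⟩
  · refine isUnit_loc AR x ?_
    exact isUnit_of_map_unit (algebraMap R S) _ (hx.map S₀.toSubring.subtype)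
  · have := essFiniteType_loc AR ⟨E, rfl⟩
    have he : algebraMap ℤ R₀.toSubring = algebraMap ℤ R₀ := RingHom.ext_int _ _
    rw [he]
    exact RingHom.essFiniteType_algebraMap.2 this
  · have := essFiniteType_loc AS ⟨F, rfl⟩
    have h2 := RingHom.essFiniteType_algebraMap.2 this
    exact h2

end Groth.Agent.CAlg4.LocalApprox
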