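import Mathlib.RingTheory.MvPolynomial.Basic
import Mathlib.RingTheory.Polynomial.Basic
import Mathlib.RingTheory.SimpleModule.Basic
import Mathlib.RingTheory.Flat.Basic
import Mathlib.RingTheory.Flat.EquationalCriterion
import Mathlib.LinearAlgebra.TensorProduct.RightExactness

/-! A polynomial of unit content is a non-zero-divisor with flat quotient. -/

universe u v

open TensorProduct MvPolynomial

namespace Groth.Agent.CAlg4.McCoy

variable {A : Type u} [CommRing A] {σ : Type v}

theorem eq_zero_of_mul_eq_zero {f g : MvPolynomial σ A}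
    (hf : Ideal.span (Set.range f.coeff) = ⊤) (h : f * g = 0) : g = 0 := by
  classical
  by_contra hg
  let N : Submodule A A := Submodule.span A (g.support.image g.coeff : Set A)
  have hmemN : ∀ d, g.coeff d ∈ N := fun d => by
    by_cases hd : d ∈ g.support
    · exact Submodule.subset_span (Finset.mem_coe.2 (Finset.mem_image_of_mem _ hd))
    · rw [MvPolynomial.notMem_support_iff.1 hd]; exact zero_mem _
  have : Module.Finite A N := Module.Finite.iff_fg.2 (Submodule.fg_span (Finset.finite_toSet _))
  have : Nontrivial N := by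
    obtain ⟨d, hd⟩ := MvPolynomial.ne_zero_iff.1 hg
    exact ⟨⟨⟨_, hmemN d⟩, 0, fun e => hd (congrArg Subtype.val e)⟩⟩
  obtain ⟨N', hN', -⟩ := (eq_top_or_exists_le_coatom (⊥ : Submodule A N)).resolve_left bot_ne_top
  have : IsSimpleModule A (N ⧸ N') := isSimpleModule_iff_isCoatom.2 hN'
  obtain ⟨m, hm, ⟨e⟩⟩ := isSimpleModule_iff_quot_maximal.1 (inferInstance : IsSimpleModule A (N ⧸ N'))
  let φ : N →ₗ[A] A ⧸ m := e.toLinearMap ∘ₗ N'.mkQ
  have hφ : Function.Surjective φ := e.surjective.comp (Submodule.mkQ_surjective N')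
  let G : MvPolynomial σ (A ⧸ m) :=
    ∑ d ∈ g.support, monomial d (φ ⟨g.coeff d, hmemN d⟩)
  have hG : ∀ d, G.coeff d = φ ⟨g.coeff d, hmemN d⟩ := fun d => by
    simp only [G, coeff_sum, coeff_monomial, Finset.sum_ite_eq']
    split_ifs with hd
    · rfl
    · have h0 : (⟨g.coeff d, hmemN d⟩ : N) = 0 := Subtype.ext (MvPolynomial.notMem_support_iff.1 hd)
      rw [h0, map_zero]
  let fm : MvPolynomial σ (A ⧸ m) := MvPolynomial.map (Ideal.Quotient.mk m) f
  have hfG : fm * G = 0 := by
    ext d
    rw [coeff_mul, coeff_zero]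
    have e1 : ∀ x : (σ →₀ ℕ) × (σ →₀ ℕ), fm.coeff x.1 * G.coeff x.2 =
        φ (f.coeff x.1 • (⟨g.coeff x.2, hmemN x.2⟩ : N)) := fun x => by
      rw [hG, map_smul, Algebra.smul_def, Ideal.Quotient.algebraMap_eq]
      simp [fm, MvPolynomial.coeff_map]
    rw [Finset.sum_congr rfl fun x _ => e1 x, ← map_sum]
    convert map_zero φ
    apply Subtype.ext
    rw [Submodule.coe_sum]
    simp only [Submodule.coe_smul, smul_eq_mul, ZeroMemClass.coe_zero]
    rw [← coeff_mul, h, coeff_zero]
  have := hm
  rcases mul_eq_zero.1 hfG with h0 | h0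
  · apply hm.ne_top
    rw [eq_top_iff, ← hf, Ideal.span_le]
    rintro _ ⟨d, rfl⟩
    have := congrArg (MvPolynomial.coeff d) h0
    simpa [fm, MvPolynomial.coeff_map, Ideal.Quotient.eq_zero_iff_mem] using this
  · obtain ⟨x, hx⟩ := hφ 1
    have hker : (⊤ : Submodule A N) ≤ LinearMap.ker φ := by
      rintro ⟨y, hy⟩ -
      induction hy using Submodule.span_induction with
      | mem y hy =>
        obtain ⟨d, -, rfl⟩ := Finset.mem_image.1 hy
        rw [LinearMap.mem_ker]
        have := hG d
        rw [h0, coeff_zero] at this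
        exact this.symm
      | zero => exact zero_mem _
      | add y z hy hz ihy ihz =>
        rw [LinearMap.mem_ker] at ihy ihz ⊢
        rw [show (⟨y + z, add_mem hy hz⟩ : N) = ⟨y, hy⟩ + ⟨z, hz⟩ from rfl, map_add, ihy, ihz, add_zero]
      | smul a y hy ihy =>
        rw [LinearMap.mem_ker] at ihy ⊢
        rw [show (⟨a • y, N.smul_mem a hy⟩ : N) = a • ⟨y, hy⟩ from rfl, map_smul, ihy, smul_zero]
    have := hker (Submodule.mem_top (x := x))
    rw [LinearMap.mem_ker, hx] at this
    exact one_ne_zero this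

theorem coeff_mem_of_mul {f g : MvPolynomial σ A} (hf : Ideal.span (Set.range f.coeff) = ⊤)
    (J : Ideal A) (h : ∀ d, (f * g).coeff d ∈ J) : ∀ d, g.coeff d ∈ J := by
  have hcont : Ideal.span (Set.range (MvPolynomial.map (Ideal.Quotient.mk J) f).coeff) = ⊤ := by
    have := congrArg (Ideal.map (Ideal.Quotient.mk J)) hf
    rw [Ideal.map_span, Ideal.map_top, ← Set.range_comp] at this
    rwa [show (MvPolynomial.map (Ideal.Quotient.mk J) f).coeff = Ideal.Quotient.mk J ∘ f.coeff from
      funext fun d => MvPolynomial.coeff_map _ _ d]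
  have h0 : MvPolynomial.map (Ideal.Quotient.mk J) f * MvPolynomial.map (Ideal.Quotient.mk J) g = 0 := by
    ext d
    rw [← map_mul, MvPolynomial.coeff_map, coeff_zero, Ideal.Quotient.eq_zero_iff_mem]
    exact h d
  intro d
  have := congrArg (MvPolynomial.coeff d) (eq_zero_of_mul_eq_zero hcont h0)
  simpa [MvPolynomial.coeff_map, Ideal.Quotient.eq_zero_iff_mem] using this

theorem flat_quotient {f : MvPolynomial σ A} (hf : Ideal.span (Set.range f.coeff) = ⊤) :
    Module.Flat A (MvPolynomial σ A ⧸ Ideal.span ({f} : Set (MvPolynomial σ A))) := by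
  classical
  rw [Module.Flat.iff_rTensor_injective']
  intro J
  let B := MvPolynomial σ A
  let K := Ideal.span ({f} : Set B)
  let q : B →ₗ[A] B ⧸ K := (Ideal.Quotient.mkₐ A K).toLinearMap
  let ι : J ⊗[A] B →ₗ[A] B :=
    (TensorProduct.lid A B).toLinearMap ∘ₗ J.subtype.rTensor B
  have hι : Function.Injective ι :=
    (TensorProduct.lid A B).injective.comp
      (Module.Flat.rTensor_preserves_injective_linearMap J.subtype Subtype.val_injective)
  rw [← LinearMap.ker_eq_bot, LinearMap.ker_eq_bot']
  intro x hx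
  obtain ⟨y, rfl⟩ := LinearMap.lTensor_surjective (J : Type u)
    (show Function.Surjective q from Ideal.Quotient.mk_surjective) x
  have hq0 : q (ι y) = 0 := by
    have : ∀ w : J ⊗[A] B, q (ι w) =
        TensorProduct.lid A (B ⧸ K) (J.subtype.rTensor (B ⧸ K) (q.lTensor J w)) := by
      intro w
      induction w using TensorProduct.induction_on with
      | zero => simp
      | tmul j b => simp [ι]
      | add a b ha hb => simp only [map_add, ha, hb]
    rw [this, hx, map_zero]
  obtain ⟨b, hb⟩ := Ideal.mem_span_singleton.1 (Ideal.Quotient.eq_zero_iff_mem.1 hq0)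
  have hcoef : ∀ (w : J ⊗[A] B) d, (ι w).coeff d ∈ J := by
    intro w d
    induction w using TensorProduct.induction_on with
    | zero => simp
    | tmul j c => simp only [ι, LinearMap.comp_apply, LinearMap.rTensor_tmul, LinearEquiv.coe_coe,
        TensorProduct.lid_tmul, coeff_smul, smul_eq_mul]; exact Ideal.mul_mem_right _ _ j.2
    | add a c ha hc => rw [map_add, coeff_add]; exact add_mem ha hc
  have hbJ : ∀ d, b.coeff d ∈ J := coeff_mem_of_mul hf J fun d => hb ▸ hcoef y d
  let z : J ⊗[A] B := ∑ d ∈ b.support, (⟨b.coeff d, hbJ d⟩ : J) ⊗ₜ monomial d 1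
  have hz : ι z = b := by
    simp only [z, ι, map_sum, LinearMap.comp_apply, LinearMap.rTensor_tmul, LinearEquiv.coe_coe,
      TensorProduct.lid_tmul, Submodule.coe_subtype]
    conv_rhs => rw [b.as_sum]
    refine Finset.sum_congr rfl fun d _ => ?_
    rw [MvPolynomial.smul_monomial, smul_eq_mul, mul_one]
  have hy : y = (LinearMap.mulLeft A f).lTensor J z := by
    apply hι
    have : ∀ w : J ⊗[A] B, ι ((LinearMap.mulLeft A f).lTensor J w) = f * ι w := by
      intro w
      induction w using TensorProduct.induction_on with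
      | zero => simp
      | tmul j c => simp [ι]
      | add a c ha hc => simp only [map_add, ha, hc, mul_add]
    rw [this, hz, hb]
  rw [hy, ← LinearMap.lTensor_comp_apply]
  have : q ∘ₗ LinearMap.mulLeft A f = 0 := by
    refine LinearMap.ext fun c => ?_
    exact Ideal.Quotient.eq_zero_iff_mem.2 (Ideal.mul_mem_right _ _ (Ideal.mem_span_singleton_self f))
  rw [this, LinearMap.lTensor_zero, LinearMap.zero_apply]

theorem mem_nonZeroDivisors {f : MvPolynomial σ A} (hf : Ideal.span (Set.range f.coeff) = ⊤) :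
    f ∈ nonZeroDivisors (MvPolynomial σ A) :=
  mem_nonZeroDivisors_iff_right.2 fun _ hg => eq_zero_of_mul_eq_zero hf ((mul_comm _ _).trans hg)

end Groth.Agent.CAlg4.McCoy
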