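import Mathlib

/-! Successive approximation for nodal deformations. -/

universe u
open IsLocalRing

namespace Groth.Agent.CAlg4.NodeApprox

variable {A B : Type u} [CommRing A] [IsLocalRing A] [CommRing B] [IsLocalRing B] [Algebra A B]
  [IsLocalHom (algebraMap A B)]

theorem split_elem (hres : Function.Bijective (ResidueField.map (algebraMap A B))) {u v : B}
    (hgen : maximalIdeal B = Ideal.span {u, v} ⊔ (maximalIdeal A).map (algebraMap A B)) (b : B) :
    ∃ (c : A) (d e : B), b - (algebraMap A B c + u * d + v * e) ∈ (maximalIdeal A).map (algebraMap A B) := by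
  obtain ⟨x, hx⟩ := hres.2 (residue B b)
  obtain ⟨c, rfl⟩ := residue_surjective x
  rw [ResidueField.map_residue] at hx
  have h : b - algebraMap A B c ∈ maximalIdeal B := Ideal.Quotient.eq.1 hx.symm
  rw [hgen] at h
  obtain ⟨s, hs, w, hw, hsum⟩ := Submodule.mem_sup.1 h
  obtain ⟨d, e, rfl⟩ := Ideal.mem_span_pair.1 hs
  refine ⟨c, d, e, ?_⟩
  have : b - (algebraMap A B c + u * d + v * e) = w := by linear_combination -hsum
  rwa [this]

theorem split (hres : Function.Bijective (ResidueField.map (algebraMap A B))) {u v : B}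
    (hgen : maximalIdeal B = Ideal.span {u, v} ⊔ (maximalIdeal A).map (algebraMap A B)) (k : ℕ) {x : B}
    (hx : x ∈ (maximalIdeal A ^ k).map (algebraMap A B)) :
    ∃ a ∈ maximalIdeal A ^ k, ∃ y ∈ (maximalIdeal A ^ k).map (algebraMap A B),
      ∃ z ∈ (maximalIdeal A ^ k).map (algebraMap A B),
        x - (algebraMap A B a + u * y + v * z) ∈ (maximalIdeal A ^ (k + 1)).map (algebraMap A B) := by
  induction hx using Submodule.span_induction with
  | mem x hx =>
    obtain ⟨a, ha, rfl⟩ := hx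
    exact ⟨a, ha, 0, zero_mem _, 0, zero_mem _, by simp⟩
  | zero => exact ⟨0, zero_mem _, 0, zero_mem _, 0, zero_mem _, by simp⟩
  | add x₁ x₂ _ _ h₁ h₂ =>
    obtain ⟨a₁, ha₁, y₁, hy₁, z₁, hz₁, h₁⟩ := h₁
    obtain ⟨a₂, ha₂, y₂, hy₂, z₂, hz₂, h₂⟩ := h₂
    refine ⟨_, add_mem ha₁ ha₂, _, add_mem hy₁ hy₂, _, add_mem hz₁ hz₂, ?_⟩
    convert add_mem h₁ h₂ using 1
    rw [map_add]; ring
  | smul b x _ h =>
    obtain ⟨a, ha, y, hy, z, hz, h⟩ := h
    obtain ⟨c, d, e, hb⟩ := split_elem hres hgen b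
    refine ⟨c * a, Ideal.mul_mem_left _ _ ha, b * y + d * algebraMap A B a,
      add_mem (Ideal.mul_mem_left _ _ hy) (Ideal.mul_mem_left _ _ (Ideal.mem_map_of_mem _ ha)),
      b * z + e * algebraMap A B a,
      add_mem (Ideal.mul_mem_left _ _ hz) (Ideal.mul_mem_left _ _ (Ideal.mem_map_of_mem _ ha)), ?_⟩
    have h' : (b - (algebraMap A B c + u * d + v * e)) * algebraMap A B a ∈
        (maximalIdeal A ^ (k + 1)).map (algebraMap A B) := by
      rw [pow_succ', Ideal.map_mul]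
      exact Ideal.mul_mem_mul hb (Ideal.mem_map_of_mem _ ha)
    convert add_mem (Ideal.mul_mem_left _ b h) h' using 1
    rw [map_mul, smul_eq_mul]; ring

/-- One step of the approximation. -/
theorem step (hres : Function.Bijective (ResidueField.map (algebraMap A B))) {u v : B}
    (hgen : maximalIdeal B = Ideal.span {u, v} ⊔ (maximalIdeal A).map (algebraMap A B)) (n : ℕ)
    (U V : B) (ε : A)
    (hU : U - u ∈ (maximalIdeal A).map (algebraMap A B)) (hV : V - v ∈ (maximalIdeal A).map (algebraMap A B))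
    (h : U * V - algebraMap A B ε ∈ (maximalIdeal A ^ (n + 1)).map (algebraMap A B)) :
    ∃ U' V' : B, ∃ ε' : A, U' - U ∈ (maximalIdeal A ^ (n + 1)).map (algebraMap A B) ∧
      V' - V ∈ (maximalIdeal A ^ (n + 1)).map (algebraMap A B) ∧ ε' - ε ∈ maximalIdeal A ^ (n + 1) ∧
      U' * V' - algebraMap A B ε' ∈ (maximalIdeal A ^ (n + 2)).map (algebraMap A B) := by
  obtain ⟨a, ha, y, hy, z, hz, h'⟩ := split hres hgen (n + 1) h
  refine ⟨U - z, V - y, ε + a, by simpa using hz, by simpa using hy, by simpa using ha, ?_⟩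
  have hy' : (U - u) * y ∈ (maximalIdeal A ^ (n + 1 + 1)).map (algebraMap A B) := by
    rw [pow_succ', Ideal.map_mul]; exact Ideal.mul_mem_mul hU hy
  have hz' : (V - v) * z ∈ (maximalIdeal A ^ (n + 1 + 1)).map (algebraMap A B) := by
    rw [pow_succ', Ideal.map_mul]; exact Ideal.mul_mem_mul hV hz
  have hzy : z * y ∈ (maximalIdeal A ^ (n + 1 + 1)).map (algebraMap A B) := by
    rw [pow_succ', Ideal.map_mul]
    exact Ideal.mul_mem_mul (Ideal.map_mono (Ideal.pow_le_self (Nat.succ_ne_zero n)) hz) hy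
  convert add_mem (sub_mem (sub_mem h' hy') hz') hzy using 1
  rw [map_add]; ring

theorem exists_seq (hres : Function.Bijective (ResidueField.map (algebraMap A B))) {u v : B}
    (huv : u * v ∈ (maximalIdeal A).map (algebraMap A B))
    (hgen : maximalIdeal B = Ideal.span {u, v} ⊔ (maximalIdeal A).map (algebraMap A B)) :
    ∃ (us vs : ℕ → B) (ε : ℕ → A), us 0 = u ∧ vs 0 = v ∧ ε 0 = 0 ∧
      ∀ n : ℕ, us n - u ∈ (maximalIdeal A).map (algebraMap A B) ∧
        vs n - v ∈ (maximalIdeal A).map (algebraMap A B) ∧ ε n ∈ maximalIdeal A ∧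
        us (n + 1) - us n ∈ (maximalIdeal A ^ (n + 1)).map (algebraMap A B) ∧
        vs (n + 1) - vs n ∈ (maximalIdeal A ^ (n + 1)).map (algebraMap A B) ∧
        ε (n + 1) - ε n ∈ maximalIdeal A ^ (n + 1) ∧
        us n * vs n - algebraMap A B (ε n) ∈ (maximalIdeal A ^ (n + 1)).map (algebraMap A B) := by
  classical
  let P : ℕ → B × B × A → Prop := fun n s =>
    s.1 - u ∈ (maximalIdeal A).map (algebraMap A B) ∧ s.2.1 - v ∈ (maximalIdeal A).map (algebraMap A B) ∧
      s.2.2 ∈ maximalIdeal A ∧ s.1 * s.2.1 - algebraMap A B s.2.2 ∈ (maximalIdeal A ^ (n + 1)).map (algebraMap A B)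
  have hstep : ∀ n s, P n s → ∃ s', P (n + 1) s' ∧
      s'.1 - s.1 ∈ (maximalIdeal A ^ (n + 1)).map (algebraMap A B) ∧
      s'.2.1 - s.2.1 ∈ (maximalIdeal A ^ (n + 1)).map (algebraMap A B) ∧
      s'.2.2 - s.2.2 ∈ maximalIdeal A ^ (n + 1) := by
    rintro n ⟨U, V, e⟩ ⟨hU, hV, he, h⟩
    obtain ⟨U', V', e', h1, h2, h3, h4⟩ := step hres hgen n U V e hU hV h
    have hle := Ideal.pow_le_self (I := maximalIdeal A) (Nat.succ_ne_zero n)
    refine ⟨⟨U', V', e'⟩, ⟨?_, ?_, ?_, h4⟩, h1, h2, h3⟩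
    · simpa using add_mem (Ideal.map_mono hle h1) hU
    · simpa using add_mem (Ideal.map_mono hle h2) hV
    · simpa using add_mem (hle h3) he
  choose F hF using hstep
  have h0 : P 0 (u, v, 0) := ⟨by simp, by simp, zero_mem _, by simpa using huv⟩
  let s : (n : ℕ) → {s // P n s} := fun n =>
    Nat.rec ⟨(u, v, 0), h0⟩ (fun n s => ⟨F n s.1 s.2, (hF n s.1 s.2).1⟩) n
  exact ⟨fun n => (s n).1.1, fun n => (s n).1.2.1, fun n => (s n).1.2.2, rfl, rfl, rfl, fun n =>
    ⟨(s n).2.1, (s n).2.2.1, (s n).2.2.2.1, (hF n _ (s n).2).2.1, (hF n _ (s n).2).2.2.1,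
      (hF n _ (s n).2).2.2.2, (s n).2.2.2.2⟩⟩

end Groth.Agent.CAlg4.NodeApprox
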