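import Groth.Agent.CAlg4.NodeApprox
import Groth.Agent.Cohen12.Structure
import Groth.Agent.Hens22.CompletionUnrAdic
import Groth.Agent.EGA4H10.CplQuot
import Groth.Agent.Helper62.FlatNil
import Mathlib

/-! The local structure of nodal deformations. -/

universe u
open IsLocalRing TensorProduct

namespace Groth.Agent.CAlg4.NodeDef

theorem injective_of_surjective_endo {N : Type*} [CommRing N] [IsNoetherianRing N] (f : N →+* N)
    (hf : Function.Surjective f) : Function.Injective f := by
  let F : ℕ → N →+* N := fun n => Nat.rec (RingHom.id N) (fun _ g => f.comp g) n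
  have hF : ∀ n, Function.Surjective (F n) := fun n => by
    induction n with
    | zero => exact Function.surjective_id
    | succ n ih => exact hf.comp ih
  have hmono : Monotone fun n => RingHom.ker (F n) := monotone_nat_of_le_succ fun n x hx => by
    rw [RingHom.mem_ker] at hx ⊢
    show f (F n x) = 0
    rw [hx, map_zero]
  obtain ⟨n, hn⟩ := monotone_stabilizes_iff_noetherian.2 (inferInstance : IsNoetherian N N) ⟨_, hmono⟩
  refine (injective_iff_map_eq_zero f).2 fun x hx => ?_
  obtain ⟨y, rfl⟩ := hF n x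
  have h : y ∈ RingHom.ker (F (n + 1)) := hx
  have h' : y ∈ RingHom.ker (F n) := by
    have heq : RingHom.ker (F n) = RingHom.ker (F (n + 1)) := hn (n + 1) n.le_succ
    rw [heq]
    exact h
  exact h'

theorem exists_limit {C : Type u} [CommRing C] (J : Ideal C) [IsAdicComplete J C] (x : ℕ → C)
    (hx : ∀ n, x (n + 1) - x n ∈ J ^ n) : ∃ L, ∀ n, L - x n ∈ J ^ n := by
  obtain ⟨L, hL⟩ := IsPrecomplete.prec (I := J) (M := C) inferInstance (f := x) fun {m n} hmn => by
    rw [SModEq.sub_mem, smul_eq_mul, Ideal.mul_top]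
    induction hmn with
    | refl => simp
    | step h ih =>
      rename_i k
      have he : x m - x (k + 1) = (x m - x k) - (x (k + 1) - x k) := by ring
      rw [he]
      exact sub_mem ih (Ideal.pow_le_pow_right h (hx k))
  refine ⟨L, fun n => ?_⟩
  have h := hL n
  rw [SModEq.sub_mem, smul_eq_mul, Ideal.mul_top] at h
  rw [← neg_sub]
  exact neg_mem h

theorem mem_of_forall {C : Type u} [CommRing C] [IsLocalRing C] [IsNoetherianRing C] (I : Ideal C) {x : C}
    (hI : I ≤ maximalIdeal C) (h : ∀ n, x ∈ I ⊔ maximalIdeal C ^ n) : x ∈ I := by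
  have : Nontrivial (C ⧸ I) :=
    Ideal.Quotient.nontrivial_iff.2 (ne_top_of_le_ne_top (maximalIdeal.isMaximal C).ne_top hI)
  have : IsLocalRing (C ⧸ I) := .of_surjective' (Ideal.Quotient.mk I) Ideal.Quotient.mk_surjective
  rw [← Ideal.Quotient.eq_zero_iff_mem]
  have hmem : Ideal.Quotient.mk I x ∈ ⨅ n, (maximalIdeal C).map (Ideal.Quotient.mk I) ^ n := by
    rw [Ideal.mem_iInf]
    intro n
    rw [← Ideal.map_pow]
    have := Ideal.mem_map_of_mem (Ideal.Quotient.mk I) (h n)
    rwa [Ideal.map_sup, Ideal.map_quotient_self, bot_sup_eq] at this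
  rw [Ideal.iInf_pow_eq_bot_of_isLocalRing] at hmem
  · exact hmem
  · intro htop
    have hle : (maximalIdeal C).map (Ideal.Quotient.mk I) ≤ maximalIdeal (C ⧸ I) := by
      refine Ideal.map_le_iff_le_comap.2 fun a ha hu => ?_
      have : IsLocalHom (Ideal.Quotient.mk I) := .of_surjective _ Ideal.Quotient.mk_surjective
      exact ha (isUnit_of_map_unit _ a hu)
    exact (maximalIdeal.isMaximal (C ⧸ I)).ne_top (top_unique (htop.ge.trans hle))

abbrev P2 (W : Type u) [CommRing W] : Type u := MvPowerSeries (Fin 2) W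

noncomputable abbrev rel (W : Type u) [CommRing W] (α : W) : P2 W := MvPowerSeries.X 0 * MvPowerSeries.X 1 - MvPowerSeries.C α

variable (A B : Type u) [CommRing A] [IsLocalRing A] [IsNoetherianRing A] [CommRing B] [IsLocalRing B]
  [IsNoetherianRing B] [Algebra A B] [IsLocalHom (algebraMap A B)]

theorem exists_hom (hres : Function.Bijective (ResidueField.map (algebraMap A B)))
    (u v : B) (hu : u ∈ maximalIdeal B) (hv : v ∈ maximalIdeal B)
    (huv : u * v ∈ (maximalIdeal A).map (algebraMap A B))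
    (hgen : maximalIdeal B = Ideal.span {u, v} ⊔ (maximalIdeal A).map (algebraMap A B)) :
    ∃ (α : AdicCompletion (maximalIdeal A) A)
      (_ : α ∈ (maximalIdeal A).map (algebraMap A (AdicCompletion (maximalIdeal A) A)))
      (φ : P2 (AdicCompletion (maximalIdeal A) A) →+* AdicCompletion (maximalIdeal B) B),
      φ (rel _ α) = 0 ∧
      (∀ a : A, φ (MvPowerSeries.C (algebraMap A _ a)) = algebraMap A _ a) ∧
      Function.Surjective φ ∧
      (maximalIdeal (P2 (AdicCompletion (maximalIdeal A) A))).map φ ≤ maximalIdeal _ ∧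
        φ (MvPowerSeries.X 0) - algebraMap B (AdicCompletion (maximalIdeal B) B) u ∈
          (maximalIdeal A).map (algebraMap A (AdicCompletion (maximalIdeal B) B)) ∧
        φ (MvPowerSeries.X 1) - algebraMap B (AdicCompletion (maximalIdeal B) B) v ∈
          (maximalIdeal A).map (algebraMap A (AdicCompletion (maximalIdeal B) B)) := by
  classical
  let Ac := AdicCompletion (maximalIdeal A) A
  let Bc := AdicCompletion (maximalIdeal B) B
  have hA := Hens22.isCompl'_adic A
  have hB := Hens22.isCompl'_adic B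
  have := hA.noetherian
  have := hA.complete
  have := hB.noetherian
  have := hB.complete
  obtain ⟨us, vs, ε, -, -, -, hseq⟩ := NodeApprox.exists_seq hres huv hgen
  let g : A →+* Bc := algebraMap A Bc
  let I : Ideal Bc := (maximalIdeal A).map g
  have hBmax : ∀ (k : ℕ) (b : B), b ∈ maximalIdeal B ^ k → algebraMap B Bc b ∈ maximalIdeal Bc ^ k := fun k b hb =>
    (hB.mem_pow_iff k b).2 hb
  have hmB : (maximalIdeal A).map (algebraMap A B) ≤ maximalIdeal B := hgen ▸ le_sup_right
  have hpow : ∀ k, (maximalIdeal A ^ k).map (algebraMap A B) ≤ maximalIdeal B ^ k := fun k => by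
    rw [Ideal.map_pow]; exact Ideal.pow_right_mono hmB k
  have hIimg : ∀ b ∈ (maximalIdeal A).map (algebraMap A B), algebraMap B Bc b ∈ I := fun b hb => by
    have := Ideal.mem_map_of_mem (algebraMap B Bc) hb
    rwa [Ideal.map_map, ← IsScalarTower.algebraMap_eq] at this
  have hI : I ≤ maximalIdeal Bc := by
    show (maximalIdeal A).map (algebraMap A Bc) ≤ _
    rw [IsScalarTower.algebraMap_eq A B Bc, ← Ideal.map_map, ← hB.map_eq]
    exact Ideal.map_mono hmB
  obtain ⟨U, hU⟩ := exists_limit (maximalIdeal Bc) (fun n => algebraMap B Bc (us n)) fun n => by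
    rw [← map_sub]
    exact Ideal.pow_le_pow_right n.le_succ (hBmax _ _ (hpow _ (hseq n).2.2.2.1))
  obtain ⟨V, hV⟩ := exists_limit (maximalIdeal Bc) (fun n => algebraMap B Bc (vs n)) fun n => by
    rw [← map_sub]
    exact Ideal.pow_le_pow_right n.le_succ (hBmax _ _ (hpow _ (hseq n).2.2.2.2.1))
  obtain ⟨α, hα⟩ := exists_limit (maximalIdeal Ac) (fun n => algebraMap A Ac (ε n)) fun n => by
    rw [← map_sub]
    exact Ideal.pow_le_pow_right n.le_succ ((hA.mem_pow_iff _ _).2 (hseq n).2.2.2.2.2.1)
  have hαm : α ∈ (maximalIdeal A).map (algebraMap A Ac) := by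
    rw [hA.map_eq]
    have h1 := hα 1
    rw [pow_one] at h1
    have h2 : algebraMap A Ac (ε 1) ∈ maximalIdeal Ac := by
      rw [← hA.map_eq]; exact Ideal.mem_map_of_mem _ (hseq 1).2.2.1
    have := add_mem h1 h2
    rwa [sub_add_cancel] at this
  obtain ⟨w, hw⟩ := Cohen12.exists_extension (A := A) g hI
  have hUu : U - algebraMap B Bc u ∈ I := mem_of_forall I hI fun n => by
    have h : algebraMap B Bc (us n) - algebraMap B Bc u ∈ I := by rw [← map_sub]; exact hIimg _ (hseq n).1
    have := add_mem (Ideal.mem_sup_left (T := maximalIdeal Bc ^ n) h) (Ideal.mem_sup_right (S := I) (hU n))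
    rwa [add_comm, sub_add_sub_cancel] at this
  have hVv : V - algebraMap B Bc v ∈ I := mem_of_forall I hI fun n => by
    have h : algebraMap B Bc (vs n) - algebraMap B Bc v ∈ I := by rw [← map_sub]; exact hIimg _ (hseq n).2.1
    have := add_mem (Ideal.mem_sup_left (T := maximalIdeal Bc ^ n) h) (Ideal.mem_sup_right (S := I) (hV n))
    rwa [add_comm, sub_add_sub_cancel] at this
  have hwmax : (maximalIdeal Ac).map w ≤ maximalIdeal Bc := by
    rw [← hA.map_eq, Ideal.map_map, show w.comp (algebraMap A Ac) = g from RingHom.ext hw]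
    exact hI
  have hUV : U * V = w α := by
    refine IsHausdorff.eq_iff_smodEq (I := maximalIdeal Bc).mpr fun n => ?_
    rw [smul_eq_mul, Ideal.mul_top, SModEq.sub_mem]
    have h3 : w (α - algebraMap A Ac (ε n)) ∈ maximalIdeal Bc ^ n :=
      Ideal.pow_right_mono hwmax n (by rw [← Ideal.map_pow]; exact Ideal.mem_map_of_mem w (hα n))
    rw [map_sub, hw] at h3
    have h4 : algebraMap B Bc (us n * vs n - algebraMap A B (ε n)) ∈ maximalIdeal Bc ^ n :=
      Ideal.pow_le_pow_right n.le_succ (hBmax _ _ (hpow _ (hseq n).2.2.2.2.2.2))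
    rw [map_sub, map_mul, ← IsScalarTower.algebraMap_apply] at h4
    have he : U * V - w α = (U - algebraMap B Bc (us n)) * V + algebraMap B Bc (us n) * (V - algebraMap B Bc (vs n))
        + (algebraMap B Bc (us n) * algebraMap B Bc (vs n) - g (ε n)) - (w α - g (ε n)) := by ring
    rw [he]
    exact sub_mem (add_mem (add_mem (Ideal.mul_mem_right _ _ (hU n)) (Ideal.mul_mem_left _ _ (hV n))) h4) h3
  have humax : algebraMap B Bc u ∈ maximalIdeal Bc := by rw [← hB.map_eq]; exact Ideal.mem_map_of_mem _ hu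
  have hvmax : algebraMap B Bc v ∈ maximalIdeal Bc := by rw [← hB.map_eq]; exact Ideal.mem_map_of_mem _ hv
  have hUm : U ∈ maximalIdeal Bc := by
    have := add_mem (hI hUu) humax
    rwa [sub_add_cancel] at this
  have hVm : V ∈ maximalIdeal Bc := by
    have := add_mem (hI hVv) hvmax
    rwa [sub_add_cancel] at this
  obtain ⟨φ, hC, hX⟩ := LA18.exists_powerSeries_hom (maximalIdeal Bc) w ![U, V] (fun i => by
    fin_cases i
    · exact hUm
    · exact hVm)
  have hX0 : φ (MvPowerSeries.X 0) = U := hX 0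
  have hX1 : φ (MvPowerSeries.X 1) = V := hX 1
  have hloc : (maximalIdeal (P2 Ac)).map φ ≤ maximalIdeal Bc := by
    rw [Cohen12.maximalIdeal_powerSeries, Ideal.map_sup, Ideal.map_map, Ideal.map_span]
    refine sup_le ?_ (Ideal.span_le.mpr ?_)
    · rw [show φ.comp (MvPowerSeries.C : Ac →+* P2 Ac) = w from RingHom.ext hC]
      exact hwmax
    · rintro _ ⟨_, ⟨i, rfl⟩, rfl⟩
      fin_cases i
      · exact hX0.symm ▸ hUm
      · exact hX1.symm ▸ hVm
  have := Cohen12.isAdicComplete_powerSeries (W := Ac) 2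
  have hsurj : Function.Surjective φ := by
    refine CAlg6.surjective_of_cotangent φ hloc (fun z => ?_) (le_sup_of_le_left ?_)
    · have := hB.isLocalHom
      obtain ⟨y, rfl⟩ := hB.bijective_residueField.2 z
      obtain ⟨x, rfl⟩ := hres.2 y
      obtain ⟨a, rfl⟩ := residue_surjective x
      refine ⟨MvPowerSeries.C (algebraMap A Ac a), ?_⟩
      show residue Bc (φ _) = residue Bc (algebraMap B Bc (algebraMap A B a))
      rw [hC, hw, ← IsScalarTower.algebraMap_apply]
    · have hIle : I ≤ (maximalIdeal (P2 Ac)).map φ := Ideal.map_le_iff_le_comap.2 fun a ha => by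
        rw [Ideal.mem_comap, ← hw a, ← hC]
        refine Ideal.mem_map_of_mem φ ((Cohen12.mem_maximalIdeal_powerSeries 2).2 ?_)
        rw [MvPowerSeries.constantCoeff_C, ← hA.map_eq]
        exact Ideal.mem_map_of_mem _ ha
      rw [← hB.map_eq]
      refine (Ideal.map_mono hgen.le).trans ?_
      rw [Ideal.map_sup, Ideal.map_span, Ideal.map_map, ← IsScalarTower.algebraMap_eq]
      refine sup_le (Ideal.span_le.2 ?_) hIle
      rintro _ ⟨z, hz, rfl⟩
      rcases hz with rfl | rfl
      · have h := sub_mem (Ideal.mem_map_of_mem φ ((Cohen12.mem_maximalIdeal_powerSeries 2).2 (by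
          rw [MvPowerSeries.constantCoeff_X]; exact zero_mem _) : MvPowerSeries.X 0 ∈ maximalIdeal (P2 Ac)))
          (hIle hUu)
        rwa [hX0, sub_sub_cancel] at h
      · have h := sub_mem (Ideal.mem_map_of_mem φ ((Cohen12.mem_maximalIdeal_powerSeries 2).2 (by
          rw [MvPowerSeries.constantCoeff_X]; exact zero_mem _) : MvPowerSeries.X 1 ∈ maximalIdeal (P2 Ac)))
          (hIle hVv)
        rwa [hX1, sub_sub_cancel] at h
  refine ⟨α, hαm, φ, ?_, fun a => by rw [hC, hw], hsurj, hloc, ?_, ?_⟩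
  · rw [map_sub, map_mul, hX0, hX1, hC, hUV, sub_self]
  · rw [hX0]; exact hUu
  · rw [hX1]; exact hVv

theorem mem_map_C_iff {W : Type u} [CommRing W] (J : Ideal W) (hJ : J.FG) {σ : Type*} (f : MvPowerSeries σ W) :
    (∀ d, MvPowerSeries.coeff d f ∈ J) ↔ f ∈ J.map (MvPowerSeries.C : W →+* MvPowerSeries σ W) := by
  classical
  obtain ⟨k, t, ht⟩ := Submodule.fg_iff_exists_fin_generating_family.1 hJ
  constructor
  · intro h
    have hc : ∀ d, ∃ c : Fin k → W, ∑ j, c j * t j = MvPowerSeries.coeff d f := fun d => by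
      have := h d
      rw [← ht] at this
      exact (Submodule.mem_span_range_iff_exists_fun W).1 this
    choose c hc using hc
    let fj : Fin k → MvPowerSeries σ W := fun j d => c d j
    have hf : f = ∑ j, fj j * MvPowerSeries.C (t j) := by
      ext d
      rw [map_sum, ← hc d]
      exact Finset.sum_congr rfl fun j _ => by rw [MvPowerSeries.coeff_mul_C]; rfl
    rw [hf]
    exact sum_mem fun j _ => Ideal.mul_mem_left _ _
      (Ideal.mem_map_of_mem _ (ht.le (Submodule.subset_span ⟨j, rfl⟩)))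
  · intro h
    induction h using Submodule.span_induction with
    | mem x hx =>
      obtain ⟨a, ha, rfl⟩ := hx
      intro d
      rw [MvPowerSeries.coeff_C]
      split_ifs
      · exact ha
      · exact zero_mem _
    | zero => intro d; simp
    | add x y _ _ hx hy => intro d; rw [map_add]; exact add_mem (hx d) (hy d)
    | smul r x _ hx =>
      intro d
      rw [smul_eq_mul, MvPowerSeries.coeff_mul]
      exact sum_mem fun p _ => Ideal.mul_mem_left _ _ (hx p.2)

theorem ker_eq [Module.Flat A B]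
    (hfib : ∃ e : AdicCompletion ((maximalIdeal B).map (Ideal.Quotient.mk
          ((maximalIdeal A).map (algebraMap A B))))
          (B ⧸ (maximalIdeal A).map (algebraMap A B)) ≃+*
        (P2 (ResidueField A) ⧸
          Ideal.span {(MvPowerSeries.X 0 * MvPowerSeries.X 1 : P2 (ResidueField A))}),
      ∀ a : A, e (algebraMap (B ⧸ (maximalIdeal A).map (algebraMap A B)) _
          (Ideal.Quotient.mk _ (algebraMap A B a))) =
        Ideal.Quotient.mk _ (MvPowerSeries.C (residue A a)))
    (α : AdicCompletion (maximalIdeal A) A)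
    (hα : α ∈ (maximalIdeal A).map (algebraMap A (AdicCompletion (maximalIdeal A) A)))
    (φ : P2 (AdicCompletion (maximalIdeal A) A) →+* AdicCompletion (maximalIdeal B) B)
    (hrel : φ (rel _ α) = 0)
    (hC : ∀ a : A, φ (MvPowerSeries.C (algebraMap A _ a)) = algebraMap A _ a)
    (hsurj : Function.Surjective φ)
    (_hloc : (maximalIdeal (P2 (AdicCompletion (maximalIdeal A) A))).map φ ≤ maximalIdeal _) :
    RingHom.ker φ = Ideal.span {rel _ α} := by
  let Ac := AdicCompletion (maximalIdeal A) A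
  let Bc := AdicCompletion (maximalIdeal B) B
  have hA := Hens22.isCompl'_adic A
  have hB := Hens22.isCompl'_adic B
  have := hA.noetherian
  have := hA.complete
  have := hB.noetherian
  have : IsNoetherianRing (P2 Ac) := Cohen12.isNoetherianRing_powerSeries Ac 2
  let w : Ac →+* Bc := φ.comp MvPowerSeries.C
  let _ : Algebra Ac Bc := w.toAlgebra
  have : IsScalarTower A Ac Bc := IsScalarTower.of_algebraMap_eq fun a => (hC a).symm
  have : IsLocalHom (algebraMap Ac Bc) := Hens22.isLocalHom_completed (B := B) hA hB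
  have : Module.Flat Ac Bc := Hens22.flat_completed (A := A) (B := B) hA hB
  let J : Ideal (P2 Ac) := Ideal.span {rel Ac α}
  have hJ : ∀ x ∈ J, φ x = 0 := fun x hx => by
    obtain ⟨c, rfl⟩ := Ideal.mem_span_singleton'.1 hx
    rw [map_mul, hrel, mul_zero]
  let ψ : P2 Ac ⧸ J →+* Bc := Ideal.Quotient.lift J φ hJ
  have halg : (algebraMap Ac (P2 Ac ⧸ J)) = (Ideal.Quotient.mk J).comp MvPowerSeries.C := RingHom.ext fun c => by
    show Ideal.Quotient.mk J (algebraMap Ac (P2 Ac) c) = _
    rw [MvPowerSeries.algebraMap_apply, Algebra.algebraMap_self_apply]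
    rfl
  let ψl : (P2 Ac ⧸ J) →ₐ[Ac] Bc := AlgHom.mk ψ fun c => by
    show ψ (algebraMap Ac (P2 Ac ⧸ J) c) = w c
    rw [halg]
    rfl
  have hψs : Function.Surjective ψl := Ideal.Quotient.lift_surjective_of_surjective J hJ hsurj
  let M : Ideal Bc := (maximalIdeal A).map (algebraMap A Bc)
  let mQ : Ideal (P2 Ac ⧸ J) := (maximalIdeal Ac).map (algebraMap Ac (P2 Ac ⧸ J))
  -- reduction of the source
  let N := P2 (ResidueField A) ⧸ Ideal.span {(MvPowerSeries.X 0 * MvPowerSeries.X 1 : P2 (ResidueField A))}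
  have := hA.isLocalHom
  let r : ResidueField A ≃+* ResidueField Ac := RingEquiv.ofBijective _ hA.bijective_residueField
  let ρ : Ac →+* ResidueField A := r.symm.toRingHom.comp (residue Ac)
  have hρs : Function.Surjective ρ := r.symm.surjective.comp residue_surjective
  have hρ0 : ∀ c, ρ c = 0 ↔ c ∈ maximalIdeal Ac := fun c =>
    (map_eq_zero_iff r.symm r.symm.injective).trans (residue_eq_zero_iff c)
  let red : P2 Ac →+* N := (Ideal.Quotient.mk _).comp (MvPowerSeries.map ρ)
  have hmaps : Function.Surjective (MvPowerSeries.map (σ := Fin 2) ρ) := fun g =>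
    ⟨fun i => Function.surjInv hρs (g i),
      MvPowerSeries.ext fun i => by rw [MvPowerSeries.coeff_map]; exact Function.surjInv_eq hρs _⟩
  have hreds : Function.Surjective red := Ideal.Quotient.mk_surjective.comp hmaps
  have hrho : MvPowerSeries.map (σ := Fin 2) ρ (rel Ac α) = MvPowerSeries.X 0 * MvPowerSeries.X 1 := by
    rw [map_sub, map_mul, MvPowerSeries.map_X, MvPowerSeries.map_X, MvPowerSeries.map_C,
      (hρ0 α).2 (hA.map_eq ▸ hα), map_zero, sub_zero]
  have hredJ : J ≤ RingHom.ker red := by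
    rw [Ideal.span_le, Set.singleton_subset_iff, SetLike.mem_coe, RingHom.mem_ker, RingHom.comp_apply, hrho,
      Ideal.Quotient.eq_zero_iff_mem]
    exact Ideal.mem_span_singleton_self _
  let red' : P2 Ac ⧸ J →+* N := Ideal.Quotient.lift J red hredJ
  have hred'ker : RingHom.ker red' ≤ mQ := by
    intro z hz
    obtain ⟨f, rfl⟩ := Ideal.Quotient.mk_surjective z
    have hz' : MvPowerSeries.map ρ f ∈ Ideal.span {(MvPowerSeries.X 0 * MvPowerSeries.X 1 : P2 (ResidueField A))} :=
      Ideal.Quotient.eq_zero_iff_mem.1 hz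
    obtain ⟨c, hc⟩ := Ideal.mem_span_singleton'.1 hz'
    obtain ⟨c, rfl⟩ := hmaps c
    have hmem : f - c * rel Ac α ∈ (maximalIdeal Ac).map (MvPowerSeries.C : Ac →+* P2 Ac) := by
      refine (mem_map_C_iff _ (IsNoetherian.noetherian _) _).1 fun d => (hρ0 _).1 ?_
      rw [← MvPowerSeries.coeff_map, map_sub, map_mul, hrho, hc, sub_self, map_zero]
    have h := Ideal.mem_map_of_mem (Ideal.Quotient.mk J) hmem
    rw [Ideal.map_map, map_sub, Ideal.Quotient.eq_zero_iff_mem.2
      (Ideal.mul_mem_left J c (Ideal.mem_span_singleton_self _)), sub_zero, ← halg] at h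
    exact h
  -- reduction of the target
  let I₀ := (maximalIdeal A).map (algebraMap A B)
  have hI₀ : I₀ ≤ maximalIdeal B := ((local_hom_TFAE (algebraMap A B)).out 0 2).1 ‹_›
  have : Nontrivial (B ⧸ I₀) :=
    Ideal.Quotient.nontrivial_iff.2 (ne_top_of_le_ne_top (maximalIdeal.isMaximal B).ne_top hI₀)
  have : IsLocalRing (B ⧸ I₀) := .of_surjective' (Ideal.Quotient.mk I₀) Ideal.Quotient.mk_surjective
  have hsB : Function.Surjective (algebraMap B (B ⧸ I₀)) := Ideal.Quotient.mk_surjective
  have hmq : (maximalIdeal B).map (Ideal.Quotient.mk I₀) = maximalIdeal (B ⧸ I₀) := by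
    refine le_antisymm (Ideal.map_le_iff_le_comap.2 fun a ha hu => ?_) fun z hz => ?_
    · have : IsLocalHom (Ideal.Quotient.mk I₀) := .of_surjective _ Ideal.Quotient.mk_surjective
      exact ha (isUnit_of_map_unit _ a hu)
    · obtain ⟨b, rfl⟩ := Ideal.Quotient.mk_surjective z
      exact Ideal.mem_map_of_mem _ fun hu => hz (hu.map _)
  obtain ⟨e, -⟩ := hfib
  have e' : AdicCompletion (maximalIdeal (B ⧸ I₀)) (B ⧸ I₀) ≃+* N := hmq ▸ e
  let q : Bc ⧸ M ≃+* N := ((Ideal.quotEquivOfEq (by
    show (maximalIdeal A).map (algebraMap A Bc) = _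
    rw [IsScalarTower.algebraMap_eq A B Bc, ← Ideal.map_map, Ideal.Quotient.algebraMap_eq, Ideal.mk_ker])).trans
      (EGA4H10.cplQuotEquiv B (B ⧸ I₀) hsB)).trans e'
  have hmQM : ∀ z ∈ mQ, ψ z ∈ M := by
    intro z hz
    have hle : mQ ≤ M.comap ψ := by
      refine Ideal.map_le_iff_le_comap.2 fun c hc => ?_
      rw [Ideal.mem_comap, Ideal.mem_comap, show ψ (algebraMap Ac (P2 Ac ⧸ J) c) = algebraMap Ac Bc c from ψl.commutes c]
      have := Ideal.mem_map_of_mem (algebraMap Ac Bc) ((hA.map_eq).ge hc)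
      rwa [Ideal.map_map, ← IsScalarTower.algebraMap_eq] at this
    exact hle hz
  have hred0 : ∀ z, red' z = 0 → q (Ideal.Quotient.mk M (ψ z)) = 0 := fun z hz => by
    rw [Ideal.Quotient.eq_zero_iff_mem.2 (hmQM z (hred'ker hz)), map_zero]
  have hred's : Function.Surjective red' := Ideal.Quotient.lift_surjective_of_surjective J hredJ hreds
  let F : N →+* N := red'.liftOfSurjective hred's ⟨q.toRingHom.comp ((Ideal.Quotient.mk M).comp ψ), hred0⟩
  have hF : ∀ z, F (red' z) = q (Ideal.Quotient.mk M (ψ z)) := fun z => RingHom.liftOfRightInverse_comp_apply _ _ _ _ z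
  have hFs : Function.Surjective F := fun y => by
    obtain ⟨b, hb⟩ := Ideal.Quotient.mk_surjective (q.symm y)
    obtain ⟨z, rfl⟩ := hψs b
    exact ⟨red' z, (hF z).trans ((congrArg q hb).trans (q.apply_symm_apply y))⟩
  have : IsNoetherianRing N := isNoetherianRing_of_surjective _ N red hreds
  have hFi := injective_of_surjective_endo F hFs
  -- conclusion
  have hkm : RingHom.ker ψ ≤ mQ := fun z hz => hred'ker (hFi (by
    rw [hF, RingHom.mem_ker.1 hz, map_zero, map_zero, map_zero]))
  have hQloc : IsLocalRing (P2 Ac ⧸ J) := by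
    have : Nontrivial (P2 Ac ⧸ J) := ψ.domain_nontrivial
    exact .of_surjective' (Ideal.Quotient.mk J) Ideal.Quotient.mk_surjective
  have hker : RingHom.ker ψ = ⊥ := by
    refine Submodule.eq_bot_of_le_smul_of_le_jacobson_bot (maximalIdeal (P2 Ac ⧸ J)) _ (IsNoetherian.noetherian _)
      (fun z hz => ?_) (IsLocalRing.jacobson_eq_maximalIdeal (⊥ : Ideal _) bot_ne_top).ge
    have hzJ : z ∈ maximalIdeal Ac • (⊤ : Submodule Ac (P2 Ac ⧸ J)) := by
      rw [Ideal.smul_top_eq_map]; exact hkm hz
    have h := FlatNil62.mem_smul_of_flat_range ψl.toLinearMap hψs (maximalIdeal Ac) (k := z) hz hzJ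
    refine Submodule.smul_induction_on h (fun c hc y hy => ?_) (fun _ _ => add_mem)
    rw [Algebra.smul_def c y]
    refine (Submodule.smul_mem_smul ?_ hy : algebraMap Ac (P2 Ac ⧸ J) c • y ∈ maximalIdeal (P2 Ac ⧸ J) • RingHom.ker ψ)
    intro hunit
    have h1 : algebraMap Ac Bc c ∈ maximalIdeal Bc := map_nonunit (algebraMap Ac Bc) c hc
    exact h1 (ψl.commutes c ▸ hunit.map ψl)
  refine le_antisymm (fun x hx => ?_) hJ
  have : Ideal.Quotient.mk J x ∈ RingHom.ker ψ := hx
  rw [hker] at this
  exact Ideal.Quotient.eq_zero_iff_mem.1 this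

theorem surjection (hres : Function.Bijective (ResidueField.map (algebraMap A B)))
    (u v : B) (hu : u ∈ maximalIdeal B) (hv : v ∈ maximalIdeal B)
    (huv : u * v ∈ (maximalIdeal A).map (algebraMap A B))
    (hgen : maximalIdeal B = Ideal.span {u, v} ⊔ (maximalIdeal A).map (algebraMap A B)) :
    ∃ (α : AdicCompletion (maximalIdeal A) A)
      (_ : α ∈ (maximalIdeal A).map (algebraMap A (AdicCompletion (maximalIdeal A) A)))
      (ψ : (P2 (AdicCompletion (maximalIdeal A) A) ⧸ Ideal.span {rel _ α}) →ₐ[A]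
        AdicCompletion (maximalIdeal B) B),
      Function.Surjective ψ ∧
      (Module.Flat A B → (∃ e : AdicCompletion ((maximalIdeal B).map (Ideal.Quotient.mk
            ((maximalIdeal A).map (algebraMap A B))))
            (B ⧸ (maximalIdeal A).map (algebraMap A B)) ≃+*
          (P2 (ResidueField A) ⧸
            Ideal.span {(MvPowerSeries.X 0 * MvPowerSeries.X 1 : P2 (ResidueField A))}),
        ∀ a : A, e (algebraMap (B ⧸ (maximalIdeal A).map (algebraMap A B)) _
            (Ideal.Quotient.mk _ (algebraMap A B a))) =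
          Ideal.Quotient.mk _ (MvPowerSeries.C (residue A a))) → Function.Injective ψ) ∧
        ψ (Ideal.Quotient.mk _ (MvPowerSeries.X 0)) - algebraMap B (AdicCompletion (maximalIdeal B) B) u ∈
          (maximalIdeal A).map (algebraMap A (AdicCompletion (maximalIdeal B) B)) ∧
        ψ (Ideal.Quotient.mk _ (MvPowerSeries.X 1)) - algebraMap B (AdicCompletion (maximalIdeal B) B) v ∈
          (maximalIdeal A).map (algebraMap A (AdicCompletion (maximalIdeal B) B)) := by
  obtain ⟨α, hα, φ, hrel, hC, hsurj, hloc, h0, h1⟩ := exists_hom A B hres u v hu hv huv hgen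
  have hle : ∀ x ∈ Ideal.span {rel _ α}, φ x = 0 := fun x hx => by
    obtain ⟨c, rfl⟩ := Ideal.mem_span_singleton'.1 hx
    rw [map_mul, hrel, mul_zero]
  refine ⟨α, hα, AlgHom.mk (Ideal.Quotient.lift _ φ hle) (fun a => by
    show φ (algebraMap A (P2 (AdicCompletion (maximalIdeal A) A)) a) = _
    rw [MvPowerSeries.algebraMap_apply]
    exact hC a), ?_, fun hflat hfib => ?_, h0, h1⟩
  · exact Ideal.Quotient.lift_surjective_of_surjective _ hle hsurj
  · refine (injective_iff_map_eq_zero _).2 fun x hx => ?_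
    obtain ⟨x, rfl⟩ := Ideal.Quotient.mk_surjective x
    have hmem : x ∈ RingHom.ker φ := hx
    rw [ker_eq A B hfib α hα φ hrel hC hsurj hloc] at hmem
    exact Ideal.Quotient.eq_zero_iff_mem.2 hmem

end Groth.Agent.CAlg4.NodeDef
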