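import Mathlib.LinearAlgebra.Matrix.Charpoly.Coeff
import Mathlib.LinearAlgebra.Charpoly.ToMatrix
import Mathlib.RingTheory.Norm.Defs
import Mathlib.RingTheory.AdjoinRoot

/-! `N_{(k[T]/χ)/k}(P) = det P(u)` for `χ` the characteristic polynomial of `u`. -/

universe u

open Polynomial Matrix

namespace Groth.Agent.CAlg4.NormDet

variable {R : Type u} [CommRing R] {m n : Type*} [Fintype m] [DecidableEq m] [Fintype n] [DecidableEq n]

theorem det_aeval_X_add_C {l : Type*} [Fintype l] [DecidableEq l] (W : Matrix l l R) (a : R) :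
    (aeval W (X + C a)).det = (-1) ^ Fintype.card l * W.charpoly.eval (-a) := by
  rw [Matrix.eval_charpoly, ← Matrix.det_neg]
  congr 1
  ext i j
  simp [Matrix.algebraMap_matrix_apply, Matrix.diagonal_apply]
  split_ifs <;> ring

theorem map_det_aeval {S : Type u} [CommRing S] [Algebra R S] {l : Type*} [Fintype l] [DecidableEq l]
    (W : Matrix l l R) (Q : R[X]) :
    algebraMap R S (aeval W Q).det = (aeval (W.map (algebraMap R S)) (Q.map (algebraMap R S))).det := by
  rw [RingHom.map_det, aeval_map_algebraMap]
  congr 1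
  exact (aeval_algHom_apply ((Algebra.ofId R S).mapMatrix) W Q).symm

theorem det_aeval_of_splits (U : Matrix m m R) (V : Matrix n n R) (hχ : U.charpoly = V.charpoly)
    (hcard : Fintype.card m = Fintype.card n) {q : R[X]} (hq : q.Splits) :
    (aeval U q).det = (aeval V q).det := by
  induction hq using Submonoid.closure_induction with
  | mem x hx =>
    rcases hx with ⟨a, rfl⟩ | ⟨a, rfl⟩
    · simp [Algebra.algebraMap_eq_smul_one, Matrix.det_smul, hcard]
    · rw [det_aeval_X_add_C, det_aeval_X_add_C, hχ, hcard]
  | one => simp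
  | mul x y _ _ hx hy => rw [map_mul, map_mul, det_mul, det_mul, hx, hy]

theorem det_aeval_eq (U : Matrix m m R) (V : Matrix n n R) (hχ : U.charpoly = V.charpoly)
    (P : R[X]) : (aeval U P).det = (aeval V P).det := by
  nontriviality R
  have hcard : Fintype.card m = Fintype.card n := by
    rw [← charpoly_natDegree_eq_dim U, hχ, charpoly_natDegree_eq_dim]
  rcases Nat.eq_zero_or_pos (Fintype.card m) with h0 | hpos
  · have := Fintype.card_eq_zero_iff.mp h0
    have := Fintype.card_eq_zero_iff.mp (hcard ▸ h0)
    simp [det_isEmpty]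
  set Q : R[X] := P + U.charpoly * X ^ (P.natDegree + 1) with hQdef
  have hUQ : aeval U Q = aeval U P := by simp [hQdef, Matrix.aeval_self_charpoly]
  have hVQ : aeval V Q = aeval V P := by simp [hQdef, hχ, Matrix.aeval_self_charpoly]
  have hQ : Q.Monic := by
    refine Monic.add_of_right ((U.charpoly_monic).mul (monic_X_pow _)) ?_
    rw [(U.charpoly_monic).degree_mul_comm]
    refine lt_of_le_of_lt degree_le_natDegree ?_
    rw [degree_eq_natDegree (Monic.ne_zero (((monic_X_pow _).mul (U.charpoly_monic)))),
      (monic_X_pow _).natDegree_mul (U.charpoly_monic), natDegree_X_pow, charpoly_natDegree_eq_dim]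
    exact_mod_cast (by omega : P.natDegree < P.natDegree + 1 + Fintype.card m)
  obtain ⟨S, _, _, _, _, _, hS⟩ := hQ.exists_splits_map
  have hinj : Function.Injective (algebraMap R S) :=
    FaithfulSMul.algebraMap_injective R S
  apply hinj
  rw [← hUQ, ← hVQ, map_det_aeval U, map_det_aeval V]
  refine det_aeval_of_splits _ _ ?_ hcard hS
  rw [Matrix.charpoly_map, Matrix.charpoly_map, hχ]

theorem norm_adjoinRoot (M : Type u) [AddCommGroup M] [Module R M] [Module.Free R M] [Module.Finite R M]
    (u : M →ₗ[R] M) (P : R[X]) :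
    Algebra.norm R (AdjoinRoot.mk u.charpoly P) = LinearMap.det (aeval u P) := by
  classical
  nontriviality R
  let b := Module.Free.chooseBasis R M
  have hm : u.charpoly.Monic := u.charpoly_monic
  let pb := AdjoinRoot.powerBasis' hm
  let L := Algebra.leftMulMatrix pb.basis
  let V := L (AdjoinRoot.root u.charpoly)
  have hV : V.charpoly = u.charpoly := by
    have h0 : aeval (AdjoinRoot.root u.charpoly) V.charpoly = 0 := by
      apply Algebra.leftMulMatrix_injective pb.basis
      rw [map_zero, ← aeval_algHom_apply]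
      exact Matrix.aeval_self_charpoly V
    rw [AdjoinRoot.aeval_eq, AdjoinRoot.mk_eq_zero] at h0
    refine eq_of_monic_of_dvd_of_natDegree_le hm (charpoly_monic V) h0 ?_
    rw [charpoly_natDegree_eq_dim, Fintype.card_fin]
    simp [pb]
  have h1 : Algebra.norm R (AdjoinRoot.mk u.charpoly P) = (aeval V P).det := by
    rw [Algebra.norm_eq_matrix_det pb.basis, ← AdjoinRoot.aeval_eq, ← aeval_algHom_apply]
  have h2 : LinearMap.det (aeval u P) = (aeval (LinearMap.toMatrix b b u) P).det := by
    rw [← LinearMap.det_toMatrix b]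
    congr 1
    exact (aeval_algHom_apply (LinearMap.toMatrixAlgEquiv b).toAlgHom u P).symm
  rw [h1, h2]
  apply det_aeval_eq
  rw [hV, LinearMap.charpoly_toMatrix]

end Groth.Agent.CAlg4.NormDet
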