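import Groth.Agent.CAlg1.AB
import Groth.Agent.EGA4Alg4.DepthChange

/-! Change of rings for projective dimension. -/

universe u

open CategoryTheory IsLocalRing

namespace Groth.Agent.CAlg4.PDChange

variable {R : Type u} [CommRing R]

theorem hasPD_pi (N : Type u) [AddCommGroup N] [Module R N] (a : ℕ)
    (h : HasProjectiveDimensionLE (ModuleCat.of R N) a) :
    ∀ n : ℕ, HasProjectiveDimensionLE (ModuleCat.of R (Fin n → N)) a
  | 0 => by
    have : Limits.IsZero (ModuleCat.of R (Fin 0 → N)) := ModuleCat.isZero_of_subsingleton _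
    have := this.hasProjectiveDimensionLT_zero
    exact hasProjectiveDimensionLT_of_ge _ 0 (a + 1) (Nat.zero_le _)
  | n + 1 => by
    have ih := hasPD_pi N a h n
    let g : (Fin (n + 1) → N) →ₗ[R] (Fin n → N) := LinearMap.funLeft R N Fin.succ
    have hg : Function.Surjective g := fun y => ⟨Fin.cons 0 y, funext fun i => by simp [g]⟩
    let e : N ≃ₗ[R] LinearMap.ker g :=
      { toFun := fun x => ⟨Fin.cons x 0, LinearMap.mem_ker.2 (funext fun i => by simp [g])⟩
        invFun := fun x => x.1 0
        map_add' := fun x y => Subtype.ext (funext fun i => by cases i using Fin.cases <;> simp)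
        map_smul' := fun c x => Subtype.ext (funext fun i => by cases i using Fin.cases <;> simp)
        left_inv := fun x => by simp
        right_inv := fun x => Subtype.ext (funext fun i => by
          cases i using Fin.cases with
          | zero => simp
          | succ j =>
            simp only [Fin.cons_succ]
            exact (congrFun (LinearMap.mem_ker.1 x.2) j).symm) }
    have hS := LinearMap.shortExact_shortComplexKer hg
    exact hS.hasProjectiveDimensionLT_X₂ (a + 1)
      (@hasProjectiveDimensionLT_of_iso _ _ _ _ _ e.toModuleIso (a + 1) h) ih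

theorem hasPD_restrict (S : Type u) [CommRing S] [Algebra R S] [IsNoetherianRing S] (a : ℕ)
    (hS : HasProjectiveDimensionLE (ModuleCat.of R S) a) :
    ∀ (e : ℕ) (E : Type u) [AddCommGroup E] [Module S E] [Module R E] [IsScalarTower R S E] [Module.Finite S E],
      HasProjectiveDimensionLE (ModuleCat.of S E) e → HasProjectiveDimensionLE (ModuleCat.of R E) (a + e)
  | 0, E, _, _, _, _, _, h => by
    have : Module.Projective S E := (EGA4H10.hasPD_zero_iff E).1 h
    obtain ⟨n, f, hf⟩ := Module.Finite.exists_fin' S E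
    obtain ⟨s, hs⟩ := Module.projective_lifting_property f LinearMap.id hf
    have := hasPD_pi S a hS n
    exact Retract.hasProjectiveDimensionLT (X := ModuleCat.of R E) (Y := ModuleCat.of R (Fin n → S))
      { i := ModuleCat.ofHom (s.restrictScalars R)
        r := ModuleCat.ofHom (f.restrictScalars R)
        retract := ModuleCat.hom_ext (LinearMap.ext fun x => LinearMap.congr_fun hs x) } (a + 1)
  | e + 1, E, _, _, _, _, _, h => by
    obtain ⟨n, f, hf⟩ := Module.Finite.exists_fin' S E
    have hK := (EGA4H10.hasPD_succ_iff (LinearMap.ker f).subtype f (Submodule.subtype_injective _)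
      (LinearMap.exact_subtype_ker_map f) hf e).1 h
    have ih := hasPD_restrict S a hS e (LinearMap.ker f) hK
    have hF := hasPD_pi S a hS n
    have hR := LinearMap.shortExact_shortComplexKer (f := f.restrictScalars R) hf
    let e' : LinearMap.ker f ≃ₗ[R] LinearMap.ker (f.restrictScalars R) :=
      { toFun := fun x => ⟨x.1, x.2⟩
        invFun := fun x => ⟨x.1, x.2⟩
        map_add' := fun _ _ => rfl
        map_smul' := fun _ _ => rfl
        left_inv := fun _ => rfl
        right_inv := fun _ => rfl }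
    have h1 : HasProjectiveDimensionLT (f.restrictScalars R).shortComplexKer.X₁ (a + e + 1) :=
      @hasProjectiveDimensionLT_of_iso _ _ _ _ _ e'.toModuleIso (a + e + 1) ih
    have hF' : HasProjectiveDimensionLT (f.restrictScalars R).shortComplexKer.X₂ (a + e + 1 + 1) :=
      @hasProjectiveDimensionLT_of_ge _ _ _ (ModuleCat.of R (Fin n → S)) (a + 1) (a + e + 1 + 1) (by omega) hF
    exact hR.hasProjectiveDimensionLT_X₃ (a + e + 1) h1 hF'

variable [IsLocalRing R] [IsNoetherianRing R]

/-- The projective dimension, via depth. -/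
theorem exists_pd_eq (M : Type u) [AddCommGroup M] [Module R M] [Module.Finite R M] [Nontrivial M]
    (h : projectiveDimension (ModuleCat.of R M) ≠ ⊤) :
    ∃ p : ℕ, projectiveDimension (ModuleCat.of R M) = (p : WithBot ℕ∞) ∧
      LocCoh.depth R R = p + LocCoh.depth R M := by
  classical
  have hex := (projectiveDimension_ne_top_iff _).1 h
  refine ⟨Nat.find hex, le_antisymm ((projectiveDimension_le_iff _ _).2 (Nat.find_spec hex))
    ((projectiveDimension_ge_iff _ _).2 fun hlt => ?_),
    CAlg1.auslander_buchsbaum _ M (Nat.find_spec hex) fun m hm => Nat.find_min' hex hm⟩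
  rcases hp : Nat.find hex with _ | q
  · rw [hp, hasProjectiveDimensionLT_zero_iff_isZero] at hlt
    exact not_subsingleton M (ModuleCat.subsingleton_of_isZero hlt)
  · rw [hp] at hlt
    exact Nat.find_min hex (by omega : q < Nat.find hex) hlt

theorem pd_eq_add (I : Ideal R) (E : Type u) [AddCommGroup E] [Module (R ⧸ I) E] [Module R E]
    [IsScalarTower R (R ⧸ I) E] [Module.Finite (R ⧸ I) E] [Nontrivial E]
    (h1 : projectiveDimension (ModuleCat.of R (R ⧸ I)) ≠ ⊤)
    (h2 : projectiveDimension (ModuleCat.of (R ⧸ I) E) ≠ ⊤) :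
    projectiveDimension (ModuleCat.of R E) ≠ ⊤ ∧
      projectiveDimension (ModuleCat.of R E) =
        projectiveDimension (ModuleCat.of R (R ⧸ I)) + projectiveDimension (ModuleCat.of (R ⧸ I) E) := by
  have hq : Nontrivial (R ⧸ I) := Module.nontrivial (R ⧸ I) E
  have : IsLocalRing (R ⧸ I) := .of_surjective' (Ideal.Quotient.mk I) Ideal.Quotient.mk_surjective
  have : IsLocalHom (algebraMap R (R ⧸ I)) := IsLocalHom.of_surjective _ Ideal.Quotient.mk_surjective
  have : Module.Finite R E := Module.Finite.trans (R ⧸ I) E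
  obtain ⟨a, ha⟩ := (projectiveDimension_ne_top_iff _).1 h1
  obtain ⟨e, he⟩ := (projectiveDimension_ne_top_iff _).1 h2
  have h3 : projectiveDimension (ModuleCat.of R E) ≠ ⊤ :=
    (projectiveDimension_ne_top_iff _).2 ⟨a + e, hasPD_restrict (R ⧸ I) a ha e E he⟩
  obtain ⟨p₁, hp₁, hd₁⟩ := exists_pd_eq (R ⧸ I) h1
  obtain ⟨p₂, hp₂, hd₂⟩ := exists_pd_eq (R := R ⧸ I) E h2
  obtain ⟨p₃, hp₃, hd₃⟩ := exists_pd_eq E h3
  refine ⟨h3, ?_⟩
  rw [EGA4Alg4.depth_eq_of_finite (A := R) (B := R ⧸ I) (R ⧸ I)] at hd₁
  rw [EGA4Alg4.depth_eq_of_finite (A := R) (B := R ⧸ I) E] at hd₃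
  obtain ⟨d, hd⟩ := EGA4Alg4.exists_depth_eq (A := R ⧸ I) (M := E)
  rw [hd] at hd₂ hd₃
  rw [hd₂, hd₃] at hd₁
  norm_cast at hd₁
  rw [hp₁, hp₂, hp₃, ← Nat.cast_add]
  congr 1
  omega

end Groth.Agent.CAlg4.PDChange
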