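import Groth.Agent.SLang50.Basic
import Mathlib.FieldTheory.IsAlgClosed.Basic
import Mathlib.FieldTheory.Finite.Basic
import Mathlib.RingTheory.Int.Basic

/-! Fitting decomposition of a `p`-linear endomorphism. -/

universe u

namespace Groth.Agent.CAlg4.PLinear

open Groth.Agent.SLang50

variable {p : ℕ} [Fact p.Prime] {k : Type u} [Field k] [CharP k p]
  {V : Type u} [AddCommGroup V] [Module k V] [FiniteDimensional k V] {F : V →+ V}

omit [Fact p.Prime] [CharP k p] [FiniteDimensional k V] in
theorem iterate_smul (hF : ∀ (a : k) (v : V), F (a • v) = a ^ p • F v) :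
    ∀ (n : ℕ) (c : k) (x : V), F^[n] (c • x) = c ^ (p ^ n) • F^[n] x := by
  intro n
  induction n with
  | zero => simp
  | succ n ih =>
    intro c x
    rw [Function.iterate_succ_apply', ih, hF, Function.iterate_succ_apply', ← pow_mul, ← pow_succ]

omit [FiniteDimensional k V] in
theorem linearIndependent_of_int (hF : ∀ (a : k) (v : V), F (a • v) = a ^ p • F v) (s : Finset V)
    (hs : ∀ v ∈ s, F v = v)
    (h : ∀ c : V → ℤ, (∑ v ∈ s, c v • v) = 0 → ∀ v ∈ s, (p : ℤ) ∣ c v) :
    LinearIndepOn k id (s : Set V) := by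
  classical
  induction s using Finset.induction_on with
  | empty => simp
  | insert a s ha ih =>
    have hind : LinearIndepOn k id (s : Set V) := by
      refine ih (fun v hv => hs v (Finset.mem_insert_of_mem hv)) fun c hc v hv => ?_
      have := h (Function.update c a 0) (by
        rw [Finset.sum_insert ha, Function.update_self, zero_smul, zero_add, ← hc]
        exact Finset.sum_congr rfl fun w hw => by
          rw [Function.update_of_ne (fun e : w = a => ha (e ▸ hw))]) v (Finset.mem_insert_of_mem hv)
      rwa [Function.update_of_ne (fun e : v = a => ha (e ▸ hv))] at this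
    rw [Finset.coe_insert]
    refine hind.insert fun hmem => ?_
    rw [Submodule.mem_span_image_finset_iff_exists_fun'] at hmem
    obtain ⟨c, hc⟩ := hmem
    simp only [id_eq] at hc
    have hfix : ∀ v ∈ s, c v ^ p = c v := by
      have h0 : ∑ v ∈ s, (c v ^ p - c v) • v = 0 := by
        simp only [sub_smul, Finset.sum_sub_distrib]
        have : F (∑ v ∈ s, c v • v) = ∑ v ∈ s, c v ^ p • v := by
          rw [map_sum]
          exact Finset.sum_congr rfl fun v hv => by rw [hF, hs v (Finset.mem_insert_of_mem hv)]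
        rw [← this, hc, hs a (Finset.mem_insert_self a s), sub_self]
      intro v hv
      exact sub_eq_zero.1 (linearIndepOn_finset_iff.1 hind (fun v => c v ^ p - c v) h0 v hv)
    have hint : ∀ v, ∃ n : ℤ, v ∈ s → (n : k) = c v := fun v => by
      by_cases hv : v ∈ s
      · obtain ⟨n, hn⟩ := (mem_bot_iff_intCast p k).1 ((Subfield.mem_bot_iff_pow_eq_self k p).2 (hfix v hv))
        exact ⟨n, fun _ => hn⟩
      · exact ⟨0, fun h => absurd h hv⟩
    choose n hn using hint
    have := h (Function.update n a (-1)) (by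
      rw [Finset.sum_insert ha, Function.update_self, neg_smul, one_smul, neg_add_eq_zero]
      conv_lhs => rw [← hc]
      refine Finset.sum_congr rfl fun v hv => ?_
      rw [Function.update_of_ne (fun e : v = a => ha (e ▸ hv)), ← hn v hv, Int.cast_smul_eq_zsmul])
      a (Finset.mem_insert_self a s)
    rw [Function.update_self, dvd_neg] at this
    exact (Fact.out : p.Prime).ne_one (by exact_mod_cast Int.eq_one_of_dvd_one (by positivity) this)

theorem isCompl [IsAlgClosed k] (hF : ∀ (a : k) (v : V), F (a • v) = a ^ p • F v) :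
    IsCompl (Submodule.span k {v : V | F v = v})
      (Submodule.span k {v : V | ∃ m : ℕ, (⇑F)^[m] v = 0}) := by
  classical
  have hp : 1 < p := (Fact.out : p.Prime).one_lt
  have hpk : (p : k) = 0 := CharP.cast_eq_zero k p
  obtain ⟨N, hN, -, -, -⟩ := exists_semisimple (φ := F) hF
  obtain ⟨b, hb, hfixed⟩ := exists_semisimple_basis hp hpk (φ := F) hF
  have hit : ∀ (m : ℕ) (c : Fin _ → k),
      F^[m] (∑ i, c i • (b i : V)) = ∑ i, c i ^ (p ^ m) • (b i : V) := fun m c => by
    rw [iterate_map_sum]
    exact Finset.sum_congr rfl fun i _ => by rw [iterate_smul hF, Function.iterate_fixed (hb i)]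
  have hspan : Submodule.span k {v : V | F v = v} = ⨅ n, imageSpan k F n := by
    refine le_antisymm (Submodule.span_le.2 fun v hv => (hfixed v hv).1) fun v hv => ?_
    have h := congrArg (Submodule.subtype _) (b.sum_repr ⟨v, hv⟩)
    rw [map_sum] at h
    change _ = v at h
    rw [← h]
    exact Submodule.sum_mem _ fun i _ => Submodule.smul_mem _ _ (Submodule.subset_span (hb i))
  let Z : Submodule k V :=
    { carrier := {v | ∃ m : ℕ, F^[m] v = 0}
      zero_mem' := ⟨0, rfl⟩
      add_mem' := by
        rintro x y ⟨m, hm⟩ ⟨n, hn⟩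
        refine ⟨n + m, ?_⟩
        rw [iterate_map_add, Function.iterate_add_apply, hm, iterate_map_zero, zero_add,
          add_comm n m, Function.iterate_add_apply, hn, iterate_map_zero]
      smul_mem' := by
        rintro c x ⟨m, hm⟩
        exact ⟨m, by rw [iterate_smul hF, hm, smul_zero]⟩ }
  have hZ : Submodule.span k {v : V | ∃ m : ℕ, (⇑F)^[m] v = 0} = Z := Submodule.span_eq Z
  rw [hspan, hZ]
  refine IsCompl.of_le ?_ ?_
  · rintro v ⟨hv, m, hm⟩
    rw [Submodule.mem_bot]
    have h := congrArg (Submodule.subtype _) (b.sum_repr ⟨v, hv⟩)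
    rw [map_sum] at h
    change ∑ i, b.repr ⟨v, hv⟩ i • (b i : V) = v at h
    rw [← h, hit] at hm
    have hli : LinearIndependent k fun i => (b i : V) :=
      b.linearIndependent.map' (Submodule.subtype _) (Submodule.ker_subtype _)
    have h0 := fun i => eq_zero_of_pow_eq_zero (Fintype.linearIndependent_iff.1 hli _ hm i)
    rw [← h]
    exact Finset.sum_eq_zero fun i _ => by rw [h0 i, zero_smul]
  · intro v _
    choose c hc using fun i => IsAlgClosed.exists_pow_nat_eq (b.repr ⟨_, hN v⟩ i)
      (pow_pos (zero_lt_one.trans hp) (N + 1))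
    let e := ∑ i, c i • (b i : V)
    have he : F^[N + 1] e = F^[N + 1] v := by
      rw [hit]
      simp only [hc]
      have h := congrArg (Submodule.subtype _) (b.sum_repr ⟨_, hN v⟩)
      rw [map_sum] at h
      exact h
    have h2 : F^[N + 1] (v - e) = 0 := by rw [iterate_map_sub, he, sub_self]
    exact Submodule.mem_sup.2 ⟨e, Submodule.sum_mem _ fun i _ => Submodule.smul_mem _ _ (b i).2,
      v - e, ⟨N + 1, h2⟩, add_sub_cancel _ _⟩

theorem main [IsAlgClosed k] (hF : ∀ (a : k) (v : V), F (a • v) = a ^ p • F v) :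
    IsCompl (Submodule.span k {v : V | F v = v})
        (Submodule.span k {v : V | ∃ m : ℕ, (⇑F)^[m] v = 0}) ∧
      ∀ (s : Finset V), (∀ v ∈ s, F v = v) →
        (∀ c : s → ℤ, (∑ v : s, c v • (v : V)) = 0 → ∀ v : s, (p : ℤ) ∣ c v) →
          LinearIndependent k (fun v : s => (v : V)) := by
  refine ⟨isCompl hF, fun s hs h => (linearIndependent_of_int hF s hs fun c hc v hv => ?_).linearIndependent⟩
  exact h (fun v => c v) ((Finset.sum_coe_sort s fun v => c v • v).trans hc) ⟨v, hv⟩

end Groth.Agent.CAlg4.PLinear
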