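import Groth.Agent.S1994
import Groth.Agent.Hens22.PairHens
import Groth.Agent.CAlg1.GRingBasic
import Groth.Agent.Henz21.Unique
import Groth.Prelude.Def_Hens2
import Mathlib

/-! The henselization of a pair of a G-ring is a G-ring. -/

set_option autoImplicit false
universe u

open IsLocalRing

namespace Groth.Agent.CAlg4.PairHensGRing

variable {A : Type u} [CommRing A] {I : Ideal A} {B : Type u} [CommRing B] [Algebra A B]

/-- A prime of the henselization containing the ideal is determined by its contraction. -/
theorem prime_ext (hB : Hens2.IsPairHenselization A I B) (q n : Ideal B)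
    (hq : I.map (algebraMap A B) ≤ q) (hn : I.map (algebraMap A B) ≤ n)
    (h : q.under A = n.under A) : q = n := by
  have key : ∀ q n : Ideal B, I.map (algebraMap A B) ≤ q → I.map (algebraMap A B) ≤ n →
      q.under A = n.under A → q ≤ n := by
    intro q n hq hn h x hx
    obtain ⟨a, ha⟩ := (Hens22.quotientMap_bijective hB).2 (Ideal.Quotient.mk _ x)
    obtain ⟨a, rfl⟩ := Ideal.Quotient.mk_surjective a
    rw [Ideal.quotientMap_mk, Ideal.Quotient.eq] at ha
    have haq : a ∈ q.under A := by
      rw [Ideal.mem_comap]
      simpa using add_mem (hq ha) hx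
    rw [h] at haq
    have := sub_mem (Ideal.mem_comap.1 haq) (hn ha)
    simpa using this
  exact le_antisymm (key q n hq hn h) (key n q hn hq h.symm)

theorem main (hA : CAlg.IsGRing A) (hB : Hens2.IsPairHenselization A I B) : CAlg.IsGRing B := by
  have := hA.1
  obtain ⟨hN, -, -⟩ := Groth.Agent.S1994.result A I B hB
  refine GRing57.isGRing_of_isMaximal fun n hn => ?_
  have hhens : HenselianRing B (I.map (algebraMap A B)) := hB.1
  have hIn : I.map (algebraMap A B) ≤ n := by
    refine hhens.jac.trans ?_
    rw [Ideal.jacobson]
    exact sInf_le ⟨bot_le, hn⟩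
  let m : Ideal A := n.under A
  let R := Localization.AtPrime m
  let Rn := Localization.AtPrime n
  let : Algebra R Rn := (Localization.localRingHom m n (algebraMap A B) rfl).toAlgebra
  have hcompat : ∀ a, algebraMap R Rn (algebraMap A R a) = algebraMap B Rn (algebraMap A B a) :=
    fun a => Localization.localRingHom_to_map m n (algebraMap A B) rfl a
  have : IsLocalHom (algebraMap R Rn) := Localization.isLocalHom_localRingHom m n (algebraMap A B) rfl
  let S := Henz21.Henselization Rn
  let : Algebra R S := ((algebraMap Rn S).comp (algebraMap R Rn)).toAlgebra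
  have : IsLocalHom (algebraMap R S) := RingHom.isLocalHom_comp (algebraMap Rn S) (algebraMap R Rn)
  have hSh : Hensel.IsHenselization Rn S := inferInstance
  have : Hensel.IsHenselization R S := by
    refine ⟨hSh.henselian, fun T _ _ f hf => ?_⟩
    have hI : I.map (f.comp (algebraMap A R)) ≤ maximalIdeal T := by
      rw [Ideal.map_le_iff_le_comap]
      intro a ha
      rw [Ideal.mem_comap, RingHom.comp_apply]
      refine map_nonunit f _ ?_
      rw [IsLocalization.AtPrime.to_map_mem_maximal_iff R m]
      exact hIn (Ideal.mem_map_of_mem _ ha)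
    obtain ⟨g, hg, huniq⟩ := hB.2 T (maximalIdeal T) (f.comp (algebraMap A R)) inferInstance hI
    dsimp only at hg huniq
    have hfc : (maximalIdeal T).comap f = maximalIdeal R :=
      ((IsLocalRing.local_hom_TFAE f).out 0 4).1 hf
    have hq : (maximalIdeal T).comap g = n := by
      refine prime_ext hB _ _ ?_ hIn ?_
      · rw [← Ideal.map_le_iff_le_comap, Ideal.map_map, hg]
        exact hI
      · rw [Ideal.under, Ideal.comap_comap, hg, ← Ideal.comap_comap, hfc]
        exact IsLocalization.AtPrime.comap_maximalIdeal R m
    have hu : ∀ x : n.primeCompl, IsUnit (g x) := fun x => by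
      rw [← notMem_maximalIdeal]
      exact fun h => x.2 (hq ▸ h)
    let g1 : Rn →+* T := IsLocalization.lift (M := n.primeCompl) hu
    have hg1 : g1.comp (algebraMap R Rn) = f := by
      refine IsLocalization.ringHom_ext m.primeCompl (RingHom.ext fun a => ?_)
      simp only [RingHom.comp_apply, hcompat, g1, IsLocalization.lift_eq]
      exact RingHom.congr_fun hg a
    have hg1l : IsLocalHom g1 := by
      constructor
      intro x hx
      obtain ⟨b, s, rfl⟩ := IsLocalization.exists_mk'_eq n.primeCompl x
      rw [IsLocalization.AtPrime.isUnit_mk'_iff Rn n]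
      intro hb
      have : g1 (IsLocalization.mk' Rn b s) * g1 (algebraMap B Rn s) = g b := by
        rw [← map_mul, IsLocalization.mk'_spec, IsLocalization.lift_eq]
      have hgu : IsUnit (g b) := this ▸ hx.mul (by rw [IsLocalization.lift_eq]; exact hu s)
      exact (mem_maximalIdeal _).1 (Ideal.mem_comap.1 (hq.symm ▸ hb : b ∈ (maximalIdeal T).comap g)) hgu
    obtain ⟨g2, hg2, huniq2⟩ := hSh.universal T g1 hg1l
    dsimp only at hg2 huniq2
    refine ⟨g2, ?_, fun g' hg' => ?_⟩
    · show g2.comp ((algebraMap Rn S).comp (algebraMap R Rn)) = f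
      rw [← RingHom.comp_assoc, hg2, hg1]
    · refine huniq2 g' (IsLocalization.ringHom_ext n.primeCompl ?_)
      rw [IsLocalization.lift_comp]
      refine huniq _ (RingHom.ext fun a => ?_)
      simp only [RingHom.comp_apply, ← hcompat]
      exact RingHom.congr_fun hg' (algebraMap A R a)
  have : IsNoetherianRing R := IsLocalization.isNoetherianRing m.primeCompl _ inferInstance
  have : IsNoetherianRing Rn := IsLocalization.isNoetherianRing n.primeCompl _ inferInstance
  have hS := (Hensel20.henselization_isRegularHom_iff (R := R) S).2 (hA.2 m)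
  exact (Hensel20.henselization_isRegularHom_iff (R := Rn) S).1 hS

end Groth.Agent.CAlg4.PairHensGRing
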