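import Groth.Agent.EGA4H10.Serre
import Mathlib.RingTheory.PicardGroup
import Mathlib.Algebra.Module.LocalizedModule.Exact
import Mathlib.Algebra.Exact.Basic
import Mathlib.RingTheory.Localization.BaseChange
import Mathlib.LinearAlgebra.Matrix.Determinant.Basic
import Mathlib.LinearAlgebra.Matrix.ToLin
import Mathlib.RingTheory.LocalRing.Module

/-! Invertible modules over localizations of regular local rings are free. -/

universe u

open CategoryTheory

namespace Groth.Agent.CAlg4.PicRegular

variable {R : Type u} [CommRing R]

/-- Stably free, finite rank. -/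
def SF (A : Type u) [CommRing A] (M : Type u) [AddCommGroup M] [Module A M] : Prop :=
  ∃ a b : ℕ, Nonempty ((M × (Fin a → A)) ≃ₗ[A] (Fin b → A))

/-- `(Fin a → A) × (Fin b → A) ≅ Fin (a + b) → A`. -/
noncomputable def finAddEquiv (A : Type u) [CommRing A] (a b : ℕ) :
    ((Fin a → A) × (Fin b → A)) ≃ₗ[A] (Fin (a + b) → A) :=
  (LinearEquiv.sumArrowLequivProdArrow (Fin a) (Fin b) A A).symm.trans
    (LinearEquiv.funCongrLeft A A finSumFinEquiv.symm)

theorem SF.of_ext {A : Type u} [CommRing A] {K F N : Type u} [AddCommGroup K] [Module A K]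
    [AddCommGroup F] [Module A F] [AddCommGroup N] [Module A N] (e : F ≃ₗ[A] K × N) {c : ℕ}
    (eF : F ≃ₗ[A] (Fin c → A)) (h : SF A K) : SF A N := by
  obtain ⟨a, b, ⟨eK⟩⟩ := h
  refine ⟨b, c + a, ⟨?_⟩⟩
  exact ((LinearEquiv.prodCongr (LinearEquiv.refl A N) eK.symm).trans <|
    (LinearEquiv.prodAssoc A N K (Fin a → A)).symm.trans <|
    (LinearEquiv.prodCongr ((LinearEquiv.prodComm A N K).trans (e.symm.trans eF))
      (LinearEquiv.refl A (Fin a → A))).trans (finAddEquiv A c a))

theorem SF.of_equiv {A : Type u} [CommRing A] {M N : Type u} [AddCommGroup M] [Module A M]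
    [AddCommGroup N] [Module A N] (e : M ≃ₗ[A] N) (h : SF A M) : SF A N := by
  obtain ⟨a, b, ⟨eM⟩⟩ := h
  exact ⟨a, b, ⟨(LinearEquiv.prodCongr e.symm (LinearEquiv.refl A (Fin a → A))).trans eM⟩⟩

theorem free_of_SF {A : Type u} [CommRing A] [Nontrivial A] {M : Type u} [AddCommGroup M] [Module A M]
    [Module.Invertible A M] (h : SF A M) : Nonempty (M ≃ₗ[A] A) := by
  classical
  obtain ⟨a, b, ⟨e⟩⟩ := h
  obtain rfl : b = a + 1 := by
    obtain ⟨m, hm⟩ := Ideal.exists_maximal A
    let k := A ⧸ m
    let _ := Ideal.Quotient.field m
    have h1 := (LinearEquiv.baseChange A k _ _ e).finrank_eq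
    have h2 := (TensorProduct.prodRight A k k M (Fin a → A)).finrank_eq
    have h3 : Module.finrank k (TensorProduct A k M) = 1 := Module.Invertible.finrank_eq_one k _
    have h4 : ∀ j : ℕ, Module.finrank k (TensorProduct A k (Fin j → A)) = j := fun j => by
      rw [(TensorProduct.piScalarRight A k k (Fin j)).finrank_eq, Module.finrank_fin_fun]
    rw [Module.finrank_prod, h3, h4] at h2
    rw [h4, h2] at h1
    omega
  let rows : Fin a → Fin (a + 1) → A := fun i => e (0, Pi.single i 1)
  have upd : ∀ x z : Fin (a + 1) → A,
      (Matrix.of (Fin.cons x rows)).updateRow 0 z = Matrix.of (Fin.cons z rows) := fun x z =>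
    Fin.update_cons_zero (α := fun _ => Fin (a + 1) → A) x rows z
  let θ : (Fin (a + 1) → A) →ₗ[A] A :=
    { toFun := fun x => Matrix.det (Matrix.of (Fin.cons x fun i => e (0, Pi.single i 1)))
      map_add' := fun x y => by
        have h := Matrix.det_updateRow_add (Matrix.of (Fin.cons x rows)) 0 x y
        rw [upd, upd, upd] at h
        exact h
      map_smul' := fun c x => by
        have h := Matrix.det_updateRow_smul (Matrix.of (Fin.cons x rows)) 0 c x
        rw [upd, upd] at h
        exact h }
  let φ : M →ₗ[A] A := θ ∘ₗ e.toLinearMap ∘ₗ LinearMap.inl A M (Fin a → A)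
  have hker : ∀ y : Fin a → A, θ (e (0, y)) = 0 := by
    have : θ ∘ₗ e.toLinearMap ∘ₗ LinearMap.inr A M (Fin a → A) = 0 := by
      refine LinearMap.pi_ext fun i c => ?_
      have hrow : θ (e (0, Pi.single i 1)) = 0 :=
        Matrix.det_zero_of_row_eq (i := 0) (j := i.succ) (Fin.succ_ne_zero i).symm (by ext; simp)
      simp only [LinearMap.comp_apply, LinearEquiv.coe_coe, LinearMap.inr_apply, LinearMap.zero_apply]
      rw [show ((0 : M), Pi.single (M := fun _ : Fin a => A) i c) = c • ((0 : M), Pi.single i (1 : A)) by
        rw [Prod.smul_mk, smul_zero, ← Pi.single_smul, smul_eq_mul, mul_one], map_smul, map_smul, hrow,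
        smul_zero]
    exact fun y => LinearMap.congr_fun this y
  have hsurj : Function.Surjective φ := by
    rw [← LinearMap.range_eq_top]
    by_contra hne
    obtain ⟨m, hm, hle⟩ := Ideal.exists_le_maximal _ hne
    let k := A ⧸ m
    let _ := Ideal.Quotient.field m
    let π := Ideal.Quotient.mk m
    let v : Fin a → Fin (a + 1) → k := fun i j => π (e (0, Pi.single i 1) j)
    have hv : LinearIndependent k v := by
      rw [Fintype.linearIndependent_iff]
      intro c hc i
      choose c' hc' using fun i => Ideal.Quotient.mk_surjective (c i)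
      have hm' : ∀ j, (∑ i, c' i • e (0, Pi.single i 1)) j ∈ m := fun j => by
        rw [← Ideal.Quotient.eq_zero_iff_mem]
        have := congrFun hc j
        simpa [Finset.sum_apply, v, π, ← hc'] using this
      let L : (Fin (a + 1) → A) →ₗ[A] A :=
        (LinearMap.proj i).comp ((LinearMap.snd A M (Fin a → A)).comp e.symm.toLinearMap)
      have hL : L (∑ i, c' i • e (0, Pi.single i 1)) = c' i := by
        simp [L, map_sum, Pi.single_apply]
      have hmem : L (∑ i, c' i • e (0, Pi.single i 1)) ∈ m := by
        rw [pi_eq_sum_univ' (∑ i, c' i • e (0, Pi.single i 1)), map_sum]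
        refine Submodule.sum_mem _ fun j _ => ?_
        rw [map_smul, smul_eq_mul]
        exact Ideal.mul_mem_right _ _ (hm' j)
      rw [hL, ← Ideal.Quotient.eq_zero_iff_mem, hc'] at hmem
      exact hmem
    obtain ⟨x, hx⟩ : ∃ x : Fin (a + 1) → k, x ∉ Submodule.span k (Set.range v) := by
      by_contra hc
      push Not at hc
      have h1 := finrank_range_le_card (R := k) v
      rw [Set.finrank, Submodule.eq_top_iff'.2 hc, finrank_top, Module.finrank_fin_fun,
        Fintype.card_fin] at h1
      omega
    have hli : LinearIndependent k (Fin.cons x v : Fin (a + 1) → Fin (a + 1) → k) :=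
      linearIndependent_finCons.2 ⟨hv, hx⟩
    choose x' hx' using fun j => Ideal.Quotient.mk_surjective (x j)
    have hdet : π (θ x') ≠ 0 := by
      show π (Matrix.det _) ≠ 0
      rw [RingHom.map_det, ← isUnit_iff_ne_zero, ← Matrix.isUnit_iff_isUnit_det,
        ← Matrix.linearIndependent_rows_iff_isUnit]
      convert hli using 1
      all_goals try rfl
      funext i j
      refine Fin.cases ?_ (fun i => ?_) i
      · simp [π, hx', Matrix.row]
      · simp [π, v, Matrix.row]
    refine hdet (Ideal.Quotient.eq_zero_iff_mem.2 (hle ⟨(e.symm x').1, ?_⟩))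
    show θ (e ((e.symm x').1, 0)) = θ x'
    conv_rhs => rw [← e.apply_symm_apply x',
      show e.symm x' = ((e.symm x').1, 0) + ((0 : M), (e.symm x').2) by simp,
      map_add, map_add, hker, add_zero]
  exact ⟨LinearEquiv.ofBijective φ (Module.Invertible.bijective_of_surjective hsurj)⟩

variable (S : Submonoid R)

theorem sf_localized [IsLocalRing R] [IsNoetherianRing R] (n : ℕ) : ∀ (N : Type u) [AddCommGroup N] [Module R N]
    [Module.Finite R N], HasProjectiveDimensionLT (ModuleCat.of R N) (n + 1) →
    Module.Projective (Localization S) (LocalizedModule S N) → SF (Localization S) (LocalizedModule S N) := by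
  classical
  induction n with
  | zero =>
    intro N _ _ _ hpd _
    have hN : Projective (ModuleCat.of R N) := projective_iff_hasProjectiveDimensionLT_one.2 hpd
    have : Module.Projective R N := (IsProjective.iff_projective (R := R) N).2 hN
    have : Module.Free R N := Module.free_of_flat_of_isLocalRing
    have eN := (Module.finBasis R N).equivFun
    let eloc : LocalizedModule S N ≃ₗ[Localization S] (Fin (Module.finrank R N) → Localization S) :=
      ((IsLocalizedModule.isBaseChange S (Localization S) (LocalizedModule.mkLinearMap S N)).equiv.symm).trans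
        ((LinearEquiv.baseChange R (Localization S) _ _ eN).trans
          (TensorProduct.piScalarRight R (Localization S) (Localization S) (Fin (Module.finrank R N))))
    exact ⟨0, Module.finrank R N, ⟨LinearEquiv.prodUnique.trans eloc⟩⟩
  | succ n ih =>
    intro N _ _ _ hpd hproj
    obtain ⟨c, g, hg⟩ := Module.Finite.exists_fin' R N
    let K := LinearMap.ker g
    have hK : HasProjectiveDimensionLT (ModuleCat.of R K) (n + 1) := by
      let T := ShortComplex.mk (ModuleCat.ofHom K.subtype) (ModuleCat.ofHom g) (by ext x; exact x.2)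
      have hT : T.ShortExact := ModuleCat.shortComplex_shortExact T
        (LinearMap.exact_subtype_ker_map g) Subtype.val_injective hg
      have h2 : HasProjectiveDimensionLT T.X₂ (n + 1) := by
        have : Projective (ModuleCat.of R (Fin c → R)) :=
          (IsProjective.iff_projective (R := R) (Fin c → R)).1 inferInstance
        exact hasProjectiveDimensionLT_of_ge _ 1 _ (by omega)
      exact hT.hasProjectiveDimensionLT_X₁ (n + 1) h2 hpd
    let ι := LocalizedModule.map S K.subtype
    let π := LocalizedModule.map S g
    have hι : Function.Injective ι := LocalizedModule.map_injective S K.subtype Subtype.val_injective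
    have hπ : Function.Surjective π := LocalizedModule.map_surjective S g hg
    have hex : Function.Exact ι π := LocalizedModule.map_exact S K.subtype g (LinearMap.exact_subtype_ker_map g)
    obtain ⟨σ, hσ⟩ := Module.projective_lifting_property π LinearMap.id hπ
    let e : LocalizedModule S (Fin c → R) ≃ₗ[Localization S] LocalizedModule S K × LocalizedModule S N :=
      (Function.Exact.splitSurjectiveEquiv (M := LocalizedModule S K) (N := LocalizedModule S (Fin c → R))
        (P := LocalizedModule S N) (f := ι) (g := π) hex hι ⟨σ, hσ⟩).1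
    let eF : LocalizedModule S (Fin c → R) ≃ₗ[Localization S] (Fin c → Localization S) :=
      ((IsLocalizedModule.isBaseChange S (Localization S)
          (LocalizedModule.mkLinearMap S (Fin c → R))).equiv.symm).trans
        (TensorProduct.piScalarRight R (Localization S) (Localization S) (Fin c))
    have : Module.Projective (Localization S) (LocalizedModule S (Fin c → R)) :=
      .of_equiv eF.symm
    have hKp : Module.Projective (Localization S) (LocalizedModule S K) :=
      .of_split (e.symm.toLinearMap ∘ₗ LinearMap.inl _ _ _) (LinearMap.fst _ _ _ ∘ₗ e.toLinearMap)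
        (LinearMap.ext fun x => by simp)
    exact SF.of_ext e eF (ih K hK hKp)

theorem subsingleton_pic [IsRegularLocalRing R] : Subsingleton (CommRing.Pic (Localization S)) := by
  classical
  let A := Localization S
  rcases subsingleton_or_nontrivial A with hA | hA
  · exact CommRing.Pic.subsingleton_iff.2 fun M _ _ _ => Module.Free.of_subsingleton' A M
  refine CommRing.Pic.subsingleton_iff.2 fun M _ _ _ => ?_
  let _ : Module R M := Module.compHom M (algebraMap R A)
  have : IsScalarTower R A M := IsScalarTower.of_algebraMap_smul fun _ _ => rfl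
  obtain ⟨t, ht⟩ := Module.Finite.fg_top (R := A) (M := M)
  let N : Submodule R M := Submodule.span R (t : Set M)
  have : Module.Finite R N := Module.Finite.span_of_finite R t.finite_toSet
  have hloc : IsLocalizedModule S N.subtype := by
    refine ⟨fun s => ?_, fun m => ?_, fun {x y} h => ⟨1, by rw [Subtype.ext h]⟩⟩
    · let u := (IsLocalization.map_units A s).unit
      refine (Module.End.isUnit_iff _).2 (Function.bijective_iff_has_inverse.2
        ⟨fun m => (u⁻¹ : Aˣ) • m, fun m => ?_, fun m => ?_⟩)
      · show (u⁻¹ : Aˣ) • (s : R) • m = m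
        rw [← IsScalarTower.algebraMap_smul A (s : R) m, Units.smul_def, smul_smul,
          show algebraMap R A (s : R) = (u : A) from rfl, Units.inv_mul, one_smul]
      · show (s : R) • (u⁻¹ : Aˣ) • m = m
        rw [← IsScalarTower.algebraMap_smul A (s : R), Units.smul_def, smul_smul,
          show algebraMap R A (s : R) = (u : A) from rfl, Units.mul_inv, one_smul]
    · have hm : m ∈ Submodule.span A (t : Set M) := ht ▸ Submodule.mem_top
      induction hm using Submodule.span_induction with
      | mem x hx => exact ⟨(⟨x, Submodule.subset_span hx⟩, 1), one_smul _ _⟩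
      | zero => exact ⟨(0, 1), smul_zero _⟩
      | add x y _ _ hx hy =>
        obtain ⟨⟨p, s⟩, hp⟩ := hx
        obtain ⟨⟨q, r⟩, hq⟩ := hy
        refine ⟨(((r : S) : R) • p + ((s : S) : R) • q, s * r), ?_⟩
        simp only [map_add, map_smul, Submonoid.smul_def, Submonoid.coe_mul] at hp hq ⊢
        rw [← hp, ← hq, smul_add, smul_smul, smul_smul, mul_comm (s : R) r]
      | smul a x _ hx =>
        obtain ⟨⟨p, s⟩, hp⟩ := hx
        obtain ⟨⟨c, r⟩, hc⟩ := IsLocalization.surj S a
        refine ⟨(c • p, r * s), ?_⟩
        simp only [map_smul, Submonoid.smul_def, Submonoid.coe_mul] at hp ⊢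
        rw [← hp, mul_smul, smul_comm (s : R) a x, ← IsScalarTower.algebraMap_smul A (r : R), smul_smul,
          mul_comm, hc, IsScalarTower.algebraMap_smul]
  let e₀ : LocalizedModule S N ≃ₗ[R] M := IsLocalizedModule.iso S N.subtype
  let e : LocalizedModule S N ≃ₗ[A] M := LinearEquiv.extendScalarsOfIsLocalization S A e₀
  have : Module.Projective A (LocalizedModule S N) := .of_equiv e.symm
  obtain ⟨d, hd⟩ := EGA4H10.exists_bound R
  obtain ⟨f⟩ := free_of_SF (SF.of_equiv e (sf_localized S d N (hd N) inferInstance))
  exact .of_equiv f.symm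

end Groth.Agent.CAlg4.PicRegular
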