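import Groth.Agent.CAlg4.PicRegular
import Groth.Agent.CAlg4.NilSurj
import Groth.Agent.S2049
import Mathlib

/-! Invertible modules on the generic fibre over a valuation ring with regular closed fibre. -/

universe u

open CategoryTheory Groth.Agent.CAlg4.PicRegular

namespace Groth.Agent.CAlg4.PicValuation

variable {R A : Type u} [CommRing R] [CommRing A] [Algebra R A]

theorem flat_submodule [IsDomain R] [ValuationRing R] {F : Type u} [AddCommGroup F] [Module A F] [Module R F]
    [IsScalarTower R A F] [Module.Flat R F] (N : Submodule A F) : Module.Flat R N := by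
  rw [Module.Flat.flat_iff_torsion_eq_bot_of_isBezout, eq_bot_iff]
  rintro x ⟨a, ha⟩
  have : (x : F) ∈ Submodule.torsion R F := ⟨a, by
    have := congrArg Subtype.val ha
    simpa using this⟩
  rw [Module.Flat.torsion_eq_bot] at this
  exact (Submodule.mem_bot R).2 (Subtype.ext this)

theorem flat_fun [Module.Flat R A] (c : ℕ) : Module.Flat R (Fin c → A) :=
  Module.Flat.of_linearEquiv (DFinsupp.linearEquivFunOnFintype (R := R) (M := fun _ : Fin c => A)).symm

theorem mem_smul_top_iff (I : Ideal R) {F : Type u} [AddCommGroup F] [Module A F] [Module R F]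
    [IsScalarTower R A F] (x : F) :
    x ∈ I • (⊤ : Submodule R F) ↔ x ∈ I.map (algebraMap R A) • (⊤ : Submodule A F) := by
  rw [← Submodule.restrictScalars_mem R (I.map (algebraMap R A) • ⊤ : Submodule A F),
    Ideal.smul_restrictScalars I (⊤ : Submodule A F), Submodule.restrictScalars_top]

/-- Reduction modulo the ideal of the closed fibre. -/
noncomputable def red (J : Ideal A) {M N : Type u} [AddCommGroup M] [Module A M] [AddCommGroup N] [Module A N]
    (f : M →ₗ[A] N) : (M ⧸ (J • ⊤ : Submodule A M)) →ₗ[A ⧸ J] N ⧸ (J • ⊤ : Submodule A N) :=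
  (Submodule.mapQ _ _ f (Submodule.smul_top_le_comap_smul_top J f)).extendScalarsOfSurjective
    Ideal.Quotient.mk_surjective

theorem red_mk (J : Ideal A) {M N : Type u} [AddCommGroup M] [Module A M] [AddCommGroup N] [Module A N]
    (f : M →ₗ[A] N) (x : M) : red J f (Submodule.Quotient.mk x) = Submodule.Quotient.mk (f x) := rfl

theorem red_surjective (J : Ideal A) {M N : Type u} [AddCommGroup M] [Module A M] [AddCommGroup N] [Module A N]
    (f : M →ₗ[A] N) (hf : Function.Surjective f) : Function.Surjective (red J f) := fun y => by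
  obtain ⟨y, rfl⟩ := Submodule.Quotient.mk_surjective _ y
  obtain ⟨x, rfl⟩ := hf y
  exact ⟨Submodule.Quotient.mk x, rfl⟩

theorem red_exact (I : Ideal R) {F N : Type u} [AddCommGroup F] [Module A F] [Module R F] [IsScalarTower R A F]
    [AddCommGroup N] [Module A N] [Module R N] [IsScalarTower R A N] [Module.Flat R N]
    (g : F →ₗ[A] N) (hg : Function.Surjective g) :
    Function.Injective (red (I.map (algebraMap R A)) (LinearMap.ker g).subtype) ∧
      Function.Exact (red (I.map (algebraMap R A)) (LinearMap.ker g).subtype) (red (I.map (algebraMap R A)) g) := by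
  set J := I.map (algebraMap R A)
  refine ⟨(injective_iff_map_eq_zero _).2 fun x hx => ?_, fun y => ?_⟩
  · obtain ⟨x, rfl⟩ := Submodule.Quotient.mk_surjective _ x
    rw [red_mk, Submodule.Quotient.mk_eq_zero] at hx
    rw [Submodule.Quotient.mk_eq_zero]
    have h := NilSurj.inf_smul_le I (g.restrictScalars R) hg
      (show (x : F) ∈ _ from ⟨(mem_smul_top_iff I _).2 hx, x.2⟩)
    have key : ∀ y ∈ I • LinearMap.ker (g.restrictScalars R), ∃ z ∈ (J • ⊤ : Submodule A (LinearMap.ker g)),
        (z : F) = y := by
      intro y hy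
      refine Submodule.smul_induction_on hy (fun r hr w hw => ?_) ?_
      · exact ⟨algebraMap R A r • ⟨w, hw⟩, Submodule.smul_mem_smul (Ideal.mem_map_of_mem _ hr) Submodule.mem_top,
          algebraMap_smul A r w⟩
      · rintro _ _ ⟨z₁, h₁, rfl⟩ ⟨z₂, h₂, rfl⟩
        exact ⟨z₁ + z₂, add_mem h₁ h₂, rfl⟩
    obtain ⟨z, hz, hzx⟩ := key _ h
    rwa [Subtype.ext hzx] at hz
  · obtain ⟨y, rfl⟩ := Submodule.Quotient.mk_surjective _ y
    constructor
    · intro hy
      rw [red_mk, Submodule.Quotient.mk_eq_zero] at hy
      have h2 : g y ∈ (J • ⊤ : Submodule A F).map g := by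
        rwa [Submodule.map_smul'', Submodule.map_top, LinearMap.range_eq_top.2 hg]
      obtain ⟨z, hz, hzy⟩ := h2
      refine ⟨Submodule.Quotient.mk ⟨y - z, by rw [LinearMap.mem_ker, map_sub, hzy, sub_self]⟩, ?_⟩
      rw [red_mk]
      exact (Submodule.Quotient.eq _).2 (by simpa using (Submodule.neg_mem _ hz))
    · rintro ⟨x, hx⟩
      obtain ⟨x, rfl⟩ := Submodule.Quotient.mk_surjective _ x
      rw [← hx, red_mk, red_mk]
      exact (Submodule.Quotient.mk_eq_zero _).2 (by
        have h0 : g (x : F) = 0 := x.2
        show g (x : F) ∈ _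
        rw [h0]; exact zero_mem _)

variable [IsDomain R] [ValuationRing R] [IsLocalRing A] [IsLocalHom (algebraMap R A)] [Module.Flat R A]
  [Algebra.EssFiniteType R A] (S : Submonoid A)

theorem map_maximalIdeal_le' :
    (IsLocalRing.maximalIdeal R).map (algebraMap R A) ≤ IsLocalRing.maximalIdeal A :=
  ((IsLocalRing.local_hom_TFAE (algebraMap R A)).out 0 2).1 ‹IsLocalHom (algebraMap R A)›

theorem map_maximalIdeal_le_jacobson :
    (IsLocalRing.maximalIdeal R).map (algebraMap R A) ≤ Ideal.jacobson ⊥ :=
  map_maximalIdeal_le'.trans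
    (IsLocalRing.maximalIdeal_le_jacobson _)

theorem finite_ker {F N : Type u} [AddCommGroup F] [Module A F] [Module.Finite A F] [AddCommGroup N] [Module A N]
    [Module R N] [IsScalarTower R A N] [Module.Flat R N] (g : F →ₗ[A] N) (hg : Function.Surjective g) :
    Module.Finite A (LinearMap.ker g) := by
  have : Module.Finite A N := Module.Finite.of_surjective g hg
  have : Module.FinitePresentation A N := Groth.Agent.S2049.result (A := R) (B := A) (M := N)
  exact Module.Finite.iff_fg.2 (Module.FinitePresentation.fg_ker g hg)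

theorem free_of_red_projective (N : Type u) [AddCommGroup N] [Module A N] [Module R N] [IsScalarTower R A N]
    [Module.Finite A N] [Module.Flat R N]
    (h : Module.Projective (A ⧸ (IsLocalRing.maximalIdeal R).map (algebraMap R A))
      (N ⧸ ((IsLocalRing.maximalIdeal R).map (algebraMap R A) • ⊤ : Submodule A N))) :
    ∃ c : ℕ, Nonempty ((Fin c → A) ≃ₗ[A] N) := by
  classical
  set m := IsLocalRing.maximalIdeal R
  set J := m.map (algebraMap R A)
  have hJ : J ≤ Ideal.jacobson ⊥ := map_maximalIdeal_le_jacobson
  have hJtop : J ≠ ⊤ := ne_top_of_le_ne_top (IsLocalRing.maximalIdeal.isMaximal A).ne_top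
    map_maximalIdeal_le'
  have : Nontrivial (A ⧸ J) := Ideal.Quotient.nontrivial_iff.2 hJtop
  have : IsLocalRing (A ⧸ J) := IsLocalRing.of_surjective' (Ideal.Quotient.mk J) Ideal.Quotient.mk_surjective
  have : Module.Finite (A ⧸ J) (N ⧸ (J • ⊤ : Submodule A N)) := Module.Finite.of_restrictScalars_finite A _ _
  have : Module.Free (A ⧸ J) (N ⧸ (J • ⊤ : Submodule A N)) := Module.free_of_flat_of_isLocalRing
  let b := Module.finBasis (A ⧸ J) (N ⧸ (J • ⊤ : Submodule A N))
  choose v hv using fun i => Submodule.Quotient.mk_surjective _ (b i)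
  let g : (Fin (Module.finrank (A ⧸ J) (N ⧸ (J • ⊤ : Submodule A N))) → A) →ₗ[A] N := Fintype.linearCombination A v
  have hmk : ∀ a, Submodule.Quotient.mk (g a) = ∑ i, Ideal.Quotient.mk J (a i) • b i := fun a => by
    simp only [g, Fintype.linearCombination_apply, ← Submodule.mkQ_apply, map_sum, map_smul]
    refine Finset.sum_congr rfl fun i _ => ?_
    rw [Submodule.mkQ_apply, hv]
    exact (algebraMap_smul (A ⧸ J) (a i) (b i)).symm
  have hg : Function.Surjective g := by
    rw [← LinearMap.range_eq_top]
    refine top_unique (Submodule.le_of_le_smul_of_le_jacobson_bot Module.Finite.fg_top hJ fun x _ => ?_)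
    choose a ha using fun i => Ideal.Quotient.mk_surjective (b.repr (Submodule.Quotient.mk x) i)
    have h1 : (Submodule.Quotient.mk (g a) : N ⧸ (J • ⊤ : Submodule A N)) = Submodule.Quotient.mk x := by
      rw [hmk]; simp_rw [ha]; exact b.sum_repr _
    rw [Submodule.Quotient.eq] at h1
    rw [← sub_sub_cancel (g a) x]
    exact Submodule.sub_mem _ (Submodule.mem_sup_left ⟨a, rfl⟩) (Submodule.mem_sup_right h1)
  have := flat_fun (R := R) (A := A) (Module.finrank (A ⧸ J) (N ⧸ (J • ⊤ : Submodule A N)))
  have hK := finite_ker (R := R) g hg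
  have hker : LinearMap.ker g = ⊥ := by
    have h0 : (⊤ : Submodule A (LinearMap.ker g)) ≤ J • ⊤ := by
      intro x _
      rw [← Submodule.Quotient.mk_eq_zero]
      refine (red_exact m g hg).1 ?_
      rw [map_zero, red_mk, Submodule.Quotient.mk_eq_zero]
      have hsum : ∑ i, Ideal.Quotient.mk J (x.1 i) • b i = 0 := by
        rw [← hmk, show g x = 0 from x.2, Submodule.Quotient.mk_zero]
      have hcoef := Fintype.linearIndependent_iff.1 b.linearIndependent _ hsum
      show x.1 ∈ J • (⊤ : Submodule A _)
      rw [pi_eq_sum_univ' x.1]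
      exact Submodule.sum_mem _ fun i _ =>
        Submodule.smul_mem_smul (Ideal.Quotient.eq_zero_iff_mem.1 (hcoef i)) Submodule.mem_top
    have h1 := Submodule.eq_bot_of_le_smul_of_le_jacobson_bot J ⊤ Module.Finite.fg_top h0 hJ
    exact (Submodule.eq_bot_iff _).2 fun x hx =>
      congrArg Subtype.val ((Submodule.eq_bot_iff _).1 h1 ⟨x, hx⟩ Submodule.mem_top)
  exact ⟨_, ⟨LinearEquiv.ofBijective g ⟨LinearMap.ker_eq_bot.1 hker, hg⟩⟩⟩

theorem sf_localized (n : ℕ) : ∀ (N : Type u) [AddCommGroup N] [Module A N] [Module R N] [IsScalarTower R A N]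
    [Module.Finite A N] [Module.Flat R N],
    HasProjectiveDimensionLT (ModuleCat.of (A ⧸ (IsLocalRing.maximalIdeal R).map (algebraMap R A))
      (N ⧸ ((IsLocalRing.maximalIdeal R).map (algebraMap R A) • ⊤ : Submodule A N))) (n + 1) →
    Module.Projective (Localization S) (LocalizedModule S N) → SF (Localization S) (LocalizedModule S N) := by
  classical
  induction n with
  | zero =>
    intro N _ _ _ _ _ _ hpd _
    have hN : Projective (ModuleCat.of _ (N ⧸ ((IsLocalRing.maximalIdeal R).map (algebraMap R A) • ⊤ : Submodule A N))) :=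
      projective_iff_hasProjectiveDimensionLT_one.2 hpd
    obtain ⟨c, ⟨e⟩⟩ := free_of_red_projective (R := R) N ((IsProjective.iff_projective _).2 hN)
    let eloc : LocalizedModule S N ≃ₗ[Localization S] (Fin c → Localization S) :=
      ((IsLocalizedModule.isBaseChange S (Localization S) (LocalizedModule.mkLinearMap S N)).equiv.symm).trans
        ((LinearEquiv.baseChange A (Localization S) _ _ e.symm).trans
          (TensorProduct.piScalarRight A (Localization S) (Localization S) (Fin c)))
    exact ⟨0, c, ⟨LinearEquiv.prodUnique.trans eloc⟩⟩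
  | succ n ih =>
    intro N _ _ _ _ _ _ hpd hproj
    set m := IsLocalRing.maximalIdeal R
    set J := m.map (algebraMap R A)
    obtain ⟨c, g, hg⟩ := Module.Finite.exists_fin' A N
    have := flat_fun (R := R) (A := A) c
    have := finite_ker (R := R) g hg
    let K := LinearMap.ker g
    have : Module.Flat R K := flat_submodule K
    have hK : HasProjectiveDimensionLT (ModuleCat.of (A ⧸ J) (K ⧸ (J • ⊤ : Submodule A K))) (n + 1) := by
      obtain ⟨hinj, hex⟩ := red_exact m g hg
      let T := ShortComplex.mk (ModuleCat.ofHom (red J K.subtype)) (ModuleCat.ofHom (red J g))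
        (ModuleCat.hom_ext hex.linearMap_comp_eq_zero)
      have hT : T.ShortExact := ModuleCat.shortComplex_shortExact T hex hinj (red_surjective J g hg)
      have h2 : HasProjectiveDimensionLT T.X₂ (n + 1) := by
        have : Module.Projective (A ⧸ J) ((Fin c → A) ⧸ (J • ⊤ : Submodule A (Fin c → A))) :=
          .of_equiv ((TensorProduct.quotTensorEquivQuotSMul (Fin c → A) J).extendScalarsOfSurjective
            Ideal.Quotient.mk_surjective)
        have : Projective (ModuleCat.of (A ⧸ J) ((Fin c → A) ⧸ (J • ⊤ : Submodule A (Fin c → A)))) :=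
          (IsProjective.iff_projective _).1 inferInstance
        exact hasProjectiveDimensionLT_of_ge _ 1 _ (by omega)
      exact hT.hasProjectiveDimensionLT_X₁ (n + 1) h2 hpd
    let ι := LocalizedModule.map S K.subtype
    let π := LocalizedModule.map S g
    have hι : Function.Injective ι := LocalizedModule.map_injective S K.subtype Subtype.val_injective
    have hπ : Function.Surjective π := LocalizedModule.map_surjective S g hg
    have hex : Function.Exact ι π := LocalizedModule.map_exact S K.subtype g (LinearMap.exact_subtype_ker_map g)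
    obtain ⟨σ, hσ⟩ := Module.projective_lifting_property π LinearMap.id hπ
    let e : LocalizedModule S (Fin c → A) ≃ₗ[Localization S] LocalizedModule S K × LocalizedModule S N :=
      (Function.Exact.splitSurjectiveEquiv (M := LocalizedModule S K) (N := LocalizedModule S (Fin c → A))
        (P := LocalizedModule S N) (f := ι) (g := π) hex hι ⟨σ, hσ⟩).1
    let eF : LocalizedModule S (Fin c → A) ≃ₗ[Localization S] (Fin c → Localization S) :=
      ((IsLocalizedModule.isBaseChange S (Localization S)
          (LocalizedModule.mkLinearMap S (Fin c → A))).equiv.symm).trans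
        (TensorProduct.piScalarRight A (Localization S) (Localization S) (Fin c))
    have : Module.Projective (Localization S) (LocalizedModule S (Fin c → A)) := .of_equiv eF.symm
    have hKp : Module.Projective (Localization S) (LocalizedModule S K) :=
      .of_split (e.symm.toLinearMap ∘ₗ LinearMap.inl _ _ _) (LinearMap.fst _ _ _ ∘ₗ e.toLinearMap)
        (LinearMap.ext fun x => by simp)
    exact SF.of_ext e eF (ih K hK hKp)

theorem subsingleton_pic [IsRegularLocalRing (A ⧸ (IsLocalRing.maximalIdeal R).map (algebraMap R A))]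
    (hS : ∀ r : R, r ≠ 0 → algebraMap R A r ∈ S) : Subsingleton (CommRing.Pic (Localization S)) := by
  classical
  let AS := Localization S
  rcases subsingleton_or_nontrivial AS with hA | hA
  · exact CommRing.Pic.subsingleton_iff.2 fun M _ _ _ => Module.Free.of_subsingleton' AS M
  refine CommRing.Pic.subsingleton_iff.2 fun M _ _ _ => ?_
  let _ : Module A M := Module.compHom M (algebraMap A AS)
  have : IsScalarTower A AS M := IsScalarTower.of_algebraMap_smul fun _ _ => rfl
  let _ : Module R M := Module.compHom M (algebraMap R A)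
  have : IsScalarTower R A M := IsScalarTower.of_algebraMap_smul fun _ _ => rfl
  have hflatM : Module.Flat R M := by
    rw [Module.Flat.flat_iff_torsion_eq_bot_of_isBezout, eq_bot_iff]
    rintro x ⟨⟨a, ha⟩, hax⟩
    have hu := IsLocalization.map_units AS (⟨_, hS a (nonZeroDivisors.ne_zero ha)⟩ : S)
    have h1 : algebraMap A AS (algebraMap R A a) • x = 0 := hax
    exact (Submodule.mem_bot R).2 (hu.smul_left_cancel.1 (h1.trans (smul_zero _).symm))
  obtain ⟨t, ht⟩ := Module.Finite.fg_top (R := AS) (M := M)
  let N : Submodule A M := Submodule.span A (t : Set M)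
  have : Module.Finite A N := Module.Finite.span_of_finite A t.finite_toSet
  have : Module.Flat R N := flat_submodule N
  have hloc : IsLocalizedModule S N.subtype := by
    refine ⟨fun s => ?_, fun m => ?_, fun {x y} h => ⟨1, by rw [Subtype.ext h]⟩⟩
    · let u := (IsLocalization.map_units AS s).unit
      refine (Module.End.isUnit_iff _).2 (Function.bijective_iff_has_inverse.2
        ⟨fun m => (u⁻¹ : ASˣ) • m, fun m => ?_, fun m => ?_⟩)
      · show (u⁻¹ : ASˣ) • (s : A) • m = m
        rw [← IsScalarTower.algebraMap_smul AS (s : A) m, Units.smul_def, smul_smul,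
          show algebraMap A AS (s : A) = (u : AS) from rfl, Units.inv_mul, one_smul]
      · show (s : A) • (u⁻¹ : ASˣ) • m = m
        rw [← IsScalarTower.algebraMap_smul AS (s : A), Units.smul_def, smul_smul,
          show algebraMap A AS (s : A) = (u : AS) from rfl, Units.mul_inv, one_smul]
    · have hm : m ∈ Submodule.span AS (t : Set M) := ht ▸ Submodule.mem_top
      induction hm using Submodule.span_induction with
      | mem x hx => exact ⟨(⟨x, Submodule.subset_span hx⟩, 1), one_smul _ _⟩
      | zero => exact ⟨(0, 1), smul_zero _⟩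
      | add x y _ _ hx hy =>
        obtain ⟨⟨p, s⟩, hp⟩ := hx
        obtain ⟨⟨q, r⟩, hq⟩ := hy
        refine ⟨(((r : S) : A) • p + ((s : S) : A) • q, s * r), ?_⟩
        simp only [map_add, map_smul, Submonoid.smul_def, Submonoid.coe_mul] at hp hq ⊢
        rw [← hp, ← hq, smul_add, smul_smul, smul_smul, mul_comm (s : A) r]
      | smul a x _ hx =>
        obtain ⟨⟨p, s⟩, hp⟩ := hx
        obtain ⟨⟨c, r⟩, hc⟩ := IsLocalization.surj S a
        refine ⟨(c • p, r * s), ?_⟩
        simp only [map_smul, Submonoid.smul_def, Submonoid.coe_mul] at hp ⊢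
        rw [← hp, mul_smul, smul_comm (s : A) a x, ← IsScalarTower.algebraMap_smul AS (r : A), smul_smul,
          mul_comm, hc, IsScalarTower.algebraMap_smul]
  let e₀ : LocalizedModule S N ≃ₗ[A] M := IsLocalizedModule.iso S N.subtype
  let e : LocalizedModule S N ≃ₗ[AS] M := LinearEquiv.extendScalarsOfIsLocalization S AS e₀
  have : Module.Projective AS (LocalizedModule S N) := .of_equiv e.symm
  obtain ⟨d, hd⟩ := EGA4H10.exists_bound (A ⧸ (IsLocalRing.maximalIdeal R).map (algebraMap R A))
  obtain ⟨f⟩ := free_of_SF (SF.of_equiv e (sf_localized (R := R) S d N (hd _) inferInstance))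
  exact .of_equiv f.symm

theorem main (hreg : IsRegularRing (TensorProduct R (IsLocalRing.ResidueField R) A)) :
    Subsingleton (CommRing.Pic (TensorProduct R (FractionRing R) A)) := by
  set m := IsLocalRing.maximalIdeal R
  let J := m.map (algebraMap R A)
  have hJtop : J ≠ ⊤ := ne_top_of_le_ne_top (IsLocalRing.maximalIdeal.isMaximal A).ne_top
    map_maximalIdeal_le'
  have : Nontrivial (A ⧸ J) := Ideal.Quotient.nontrivial_iff.2 hJtop
  have : IsLocalRing (A ⧸ J) := IsLocalRing.of_surjective' (Ideal.Quotient.mk J) Ideal.Quotient.mk_surjective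
  let e : TensorProduct R (R ⧸ m) A ≃+* (A ⧸ J) :=
    (Algebra.TensorProduct.comm R (R ⧸ m) A).toRingEquiv.trans
      (Algebra.TensorProduct.quotIdealMapEquivTensorQuot A m).symm.toRingEquiv
  have : IsRegularRing (A ⧸ J) :=
    IsRegularRing.of_ringEquiv (R := TensorProduct R (IsLocalRing.ResidueField R) A) e
  have : IsRegularLocalRing (A ⧸ J) := IsRegularLocalRing.of_isRegularRing_of_isLocalRing _
  let S := Algebra.algebraMapSubmonoid A (nonZeroDivisors R)
  have hS : Subsingleton (CommRing.Pic (Localization S)) :=
    subsingleton_pic (R := R) S fun r hr => ⟨r, mem_nonZeroDivisors_of_ne_zero hr, rfl⟩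
  let C := TensorProduct R (FractionRing R) A
  let _ : Algebra A C := Algebra.TensorProduct.rightAlgebra
  have : IsLocalization S C := inferInstance
  let e' : Localization S ≃ₐ[A] C := IsLocalization.algEquiv S _ _
  refine CommRing.Pic.subsingleton_iff.2 fun M _ _ _ => ?_
  let _ : Algebra C (Localization S) := e'.symm.toRingEquiv.toRingHom.toAlgebra
  let _ : Algebra (Localization S) C := e'.toRingEquiv.toRingHom.toAlgebra
  have : IsScalarTower C (Localization S) C := IsScalarTower.of_algebraMap_eq fun x => (e'.apply_symm_apply x).symm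
  refine CommRing.Pic.subsingleton_iff.1 ⟨fun x y => ?_⟩ M inferInstance
  rw [← CommRing.Pic.mapAlgebra_self_apply (M := x), ← CommRing.Pic.mapAlgebra_self_apply (M := y),
    ← CommRing.Pic.mapAlgebra_mapAlgebra (A := Localization S) (B := C) (M := x),
    ← CommRing.Pic.mapAlgebra_mapAlgebra (A := Localization S) (B := C) (M := y), hS.elim (CommRing.Pic.mapAlgebra C _ x)
      (CommRing.Pic.mapAlgebra C _ y)]

end Groth.Agent.CAlg4.PicValuation
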