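import Mathlib.RingTheory.Length
import Mathlib.RingTheory.Ideal.Operations
import Mathlib.Data.Sym.Card
import Mathlib.LinearAlgebra.Quotient.Pi
import Mathlib.Algebra.BigOperators.Fin

set_option autoImplicit false

namespace Groth.Agent.CAlg4.PowerLength

universe u

variable {R : Type u} [CommRing R] {d : ℕ} (g : Fin d → R)

lemma pow_le_span (n : ℕ) :
    Ideal.span (Set.range g) ^ n ≤
      Ideal.span (Set.range fun s : Sym (Fin d) n => ((s : Multiset (Fin d)).map g).prod) := by
  induction n with
  | zero =>
    rw [pow_zero, Ideal.one_eq_top]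
    intro x _
    rw [← mul_one x]
    exact Ideal.mul_mem_left _ _ (Ideal.subset_span ⟨Sym.nil, by simp⟩)
  | succ n ih =>
    rw [pow_succ]
    refine (Ideal.mul_mono_left ih).trans ?_
    rw [Ideal.span_mul_span', Ideal.span_le]
    rintro _ ⟨_, ⟨s, rfl⟩, _, ⟨i, rfl⟩, rfl⟩
    refine Ideal.subset_span ⟨i ::ₛ s, ?_⟩
    simp only [Sym.coe_cons, Multiset.map_cons, Multiset.prod_cons]
    exact mul_comm _ _

lemma length_pow_succ_le (n : ℕ) :
    Module.length R (R ⧸ Ideal.span (Set.range g) ^ (n + 1)) ≤
      (Nat.multichoose d n : ℕ∞) * Module.length R (R ⧸ Ideal.span (Set.range g)) +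
        Module.length R (R ⧸ Ideal.span (Set.range g) ^ n) := by
  classical
  set I := Ideal.span (Set.range g)
  let π : (R ⧸ I ^ (n + 1)) →ₗ[R] R ⧸ I ^ n := Submodule.factor (Ideal.pow_le_pow_right (Nat.le_succ n))
  let ρ : (Sym (Fin d) n → R) →ₗ[R] R ⧸ I ^ (n + 1) :=
    (Submodule.mkQ (I ^ (n + 1))) ∘ₗ
      Fintype.linearCombination R (fun s : Sym (Fin d) n => ((s : Multiset (Fin d)).map g).prod)
  have hmem : ∀ s : Sym (Fin d) n, ((s : Multiset (Fin d)).map g).prod ∈ I ^ n := fun s => by
    have h := Ideal.multiset_prod_span_singleton ((s : Multiset (Fin d)).map g)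
    have hle : (((s : Multiset (Fin d)).map g).map fun i => Ideal.span ({i} : Set R)).prod ≤ I ^ n := by
      have hh : ∀ m : Multiset (Fin d),
          ((m.map g).map fun i => Ideal.span ({i} : Set R)).prod ≤ I ^ Multiset.card m := fun m => by
        induction m using Multiset.induction with
        | empty => simp
        | cons a m ihm =>
          simp only [Multiset.map_cons, Multiset.prod_cons, Multiset.card_cons, pow_succ']
          exact Ideal.mul_mono ((Ideal.span_singleton_le_iff_mem _).mpr
            (Ideal.subset_span ⟨a, rfl⟩)) ihm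
      simpa using hh (s : Multiset (Fin d))
    exact hle (h ▸ Ideal.mem_span_singleton_self _)
  have hker : Submodule.pi Set.univ (fun _ : Sym (Fin d) n => I) ≤ LinearMap.ker ρ := by
    intro v hv
    show Submodule.Quotient.mk _ = 0
    rw [Submodule.Quotient.mk_eq_zero, Fintype.linearCombination_apply]
    refine sum_mem fun s _ => ?_
    rw [smul_eq_mul, pow_succ']
    exact Ideal.mul_mem_mul (hv s trivial) (hmem s)
  let ρ' := Submodule.liftQ _ ρ hker
  have hex : LinearMap.ker π ≤ LinearMap.range ρ' := by
    intro x hx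
    obtain ⟨x, rfl⟩ := Submodule.Quotient.mk_surjective _ x
    have hxn : x ∈ I ^ n := (Submodule.Quotient.mk_eq_zero _).mp hx
    obtain ⟨c, hc⟩ := Submodule.mem_span_range_iff_exists_fun R |>.mp (pow_le_span g n hxn)
    refine ⟨Submodule.Quotient.mk c, ?_⟩
    show Submodule.Quotient.mk _ = _
    rw [Fintype.linearCombination_apply, hc]
  rw [Module.length_eq_add_of_exact (LinearMap.ker π).subtype π (Submodule.subtype_injective _)
    (Submodule.factor_surjective _) (LinearMap.exact_subtype_ker_map π)]
  refine add_le_add ?_ le_rfl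
  calc Module.length R (LinearMap.ker π) ≤ Module.length R (LinearMap.range ρ') :=
        Module.length_le_of_injective (Submodule.inclusion hex) (Submodule.inclusion_injective _)
    _ ≤ Module.length R ((Sym (Fin d) n → R) ⧸ Submodule.pi Set.univ fun _ : Sym (Fin d) n => I) :=
        Module.length_le_of_surjective ρ'.rangeRestrict ρ'.surjective_rangeRestrict
    _ = _ := by
      rw [(Submodule.quotientPi fun _ : Sym (Fin d) n => I).length_eq, Module.length_pi_of_fintype,
        Finset.sum_const, Finset.card_univ, Sym.card_sym_eq_multichoose, Fintype.card_fin,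
        nsmul_eq_mul]

lemma sum_multichoose (d n : ℕ) :
    ∑ j ∈ Finset.range n, Nat.multichoose d j ≤ Nat.multichoose (d + 1) (n - 1) := by
  induction n with
  | zero => simp
  | succ n ih =>
    rw [Finset.sum_range_succ, Nat.succ_sub_one]
    cases n with
    | zero => simp
    | succ n => rw [Nat.multichoose_succ_succ, Nat.succ_sub_one] at *; omega

lemma length_pow_le (n : ℕ) :
    Module.length R (R ⧸ Ideal.span (Set.range g) ^ n) ≤
      ((∑ j ∈ Finset.range n, Nat.multichoose d j : ℕ) : ℕ∞) *
        Module.length R (R ⧸ Ideal.span (Set.range g)) := by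
  induction n with
  | zero =>
    rw [pow_zero, Ideal.one_eq_top]
    have : Subsingleton (R ⧸ (⊤ : Ideal R)) := Submodule.Quotient.subsingleton_iff.mpr rfl
    simp [Module.length_eq_zero]
  | succ n ih =>
    refine (length_pow_succ_le g n).trans ?_
    rw [Finset.sum_range_succ, Nat.cast_add, add_mul, add_comm]
    exact add_le_add ih le_rfl

end Groth.Agent.CAlg4.PowerLength
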