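import Mathlib.Algebra.Module.Projective
import Mathlib.RingTheory.Finiteness.Basic
import Mathlib.RingTheory.Finiteness.Projective
import Mathlib.LinearAlgebra.Pi
import Mathlib.Algebra.BigOperators.Fin
import Mathlib.RingTheory.Ideal.Operations
import Mathlib.RingTheory.Ideal.Maps
import Mathlib.RingTheory.Finiteness.Prod

set_option autoImplicit false

namespace Groth.Agent.CAlg4.PropP

universe u v

variable {R : Type u} [CommRing R]

/-- every proper finitely generated ideal has a nonzero annihilator -/
abbrev HasP (R : Type u) [CommRing R] : Prop :=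
  ∀ I : Ideal R, I.FG → I ≠ ⊤ → I.annihilator ≠ ⊥

variable {M : Type v} [AddCommGroup M] [Module R M] [Module.Finite R M] [Module.Projective R M]

lemma exists_form (hP : HasP R) (e : M) (he : ∀ r : R, r • e = 0 → r = 0) :
    ∃ ρ : M →ₗ[R] R, ρ e = 1 := by
  obtain ⟨n, p, s, -, hs, hps⟩ := Module.Finite.exists_comp_eq_id_of_projective R M
  set f := s e
  have hann : (Ideal.span (Set.range f)).annihilator = ⊥ := by
    rw [Submodule.eq_bot_iff]
    intro r hr
    rw [Submodule.mem_annihilator] at hr
    refine he r (hs ?_)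
    rw [map_smul, map_zero]
    exact funext fun i => hr (f i) (Ideal.subset_span ⟨i, rfl⟩)
  have htop : Ideal.span (Set.range f) = ⊤ := by
    by_contra hne
    exact hP _ (Submodule.fg_span (Set.finite_range f)) hne hann
  obtain ⟨a, ha⟩ := (Ideal.mem_span_range_iff_exists_fun).mp
    ((Ideal.eq_top_iff_one _).mp htop)
  exact ⟨(Fintype.linearCombination R a).comp s, by
    simpa [Fintype.linearCombination_apply, mul_comm] using ha⟩

lemma exists_left_inverse (hP : HasP R) : ∀ (k : ℕ) {M : Type v} [AddCommGroup M] [Module R M]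
    [Module.Finite R M] [Module.Projective R M] (u : (Fin k → R) →ₗ[R] M), Function.Injective u →
    ∃ L : M →ₗ[R] (Fin k → R), L ∘ₗ u = LinearMap.id := by
  intro k
  induction k with
  | zero => exact fun u _ => ⟨0, LinearMap.ext fun x => Subsingleton.elim _ _⟩
  | succ k ih =>
    intro M _ _ _ _ u hu
    set e := u (Pi.single 0 1)
    obtain ⟨ρ, hρ⟩ := exists_form hP e (fun r hr => by
      have h := congrFun (hu (show u (r • Pi.single 0 1) = u 0 by rw [map_smul, map_zero]; exact hr)) 0
      simpa using h)
    let π : M →ₗ[R] M := LinearMap.id - ρ.smulRight e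
    have hπ : ∀ m, ρ (π m) = 0 := fun m => by simp [π, hρ]
    let q : M →ₗ[R] LinearMap.ker ρ := LinearMap.codRestrict _ π hπ
    have hq : q ∘ₗ (LinearMap.ker ρ).subtype = LinearMap.id :=
      LinearMap.ext fun m => Subtype.ext (by
        show m.1 - ρ m.1 • e = m.1
        rw [LinearMap.mem_ker.mp m.2, zero_smul, sub_zero])
    have : Module.Projective R (LinearMap.ker ρ) := Module.Projective.of_split _ _ hq
    have : Module.Finite R (LinearMap.ker ρ) := Module.Finite.of_surjective q
      fun m => ⟨m.1, LinearMap.congr_fun hq m⟩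
    let c : (Fin k → R) →ₗ[R] (Fin (k + 1) → R) :=
      LinearMap.pi (Fin.cons (0 : (Fin k → R) →ₗ[R] R) fun l => LinearMap.proj l)
    have hc : ∀ y, c y = Fin.cons 0 y := fun y => funext fun l => by
      refine Fin.cases ?_ (fun j => ?_) l <;> simp [c]
    have hdec : ∀ x : Fin (k + 1) → R, x = x 0 • Pi.single 0 1 + c (Fin.tail x) := fun x => by
      refine funext fun l => ?_
      refine Fin.cases ?_ (fun j => ?_) l <;> simp [hc, Fin.tail]
    obtain ⟨L', hL'⟩ := ih (q ∘ₗ u ∘ₗ c) (by
      rw [injective_iff_map_eq_zero]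
      intro y hy
      have h1 : u (c y) - ρ (u (c y)) • e = 0 := congrArg Subtype.val hy
      rw [← map_smul, ← map_sub, ← map_zero u] at h1
      refine funext fun j => ?_
      simpa [hc] using congrFun (hu h1) j.succ)
    let y : M →ₗ[R] (Fin k → R) := L' ∘ₗ q
    have hy : ∀ x, y (u x) = Fin.tail x := fun x => by
      have hqe : q e = 0 := Subtype.ext (by
        show e - ρ e • e = 0
        rw [hρ, one_smul, sub_self])
      conv_lhs => rw [hdec x]
      show L' (q (u (_ + _))) = _
      rw [map_add, map_add, map_smul, map_smul, hqe, smul_zero, zero_add]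
      exact LinearMap.congr_fun hL' _
    refine ⟨(ρ - ρ ∘ₗ u ∘ₗ c ∘ₗ y).smulRight (Pi.single 0 1) + c ∘ₗ y, LinearMap.ext fun x => ?_⟩
    have h2 : ρ (u x) = x 0 + ρ (u (c (Fin.tail x))) := by
      conv_lhs => rw [hdec x, map_add, map_smul, map_add, map_smul, hρ, smul_eq_mul, mul_one]
    simp only [LinearMap.comp_apply, LinearMap.add_apply, LinearMap.smulRight_apply,
      LinearMap.sub_apply, LinearMap.id_apply, hy, h2, add_sub_cancel_right]
    exact (hdec x).symm

theorem coker_projective (hP : HasP R) {N : Type v} [AddCommGroup N] [Module R N] [Module.Finite R N]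
    [Module.Projective R N] (u : N →ₗ[R] M) (hu : Function.Injective u) :
    Module.Projective R (M ⧸ LinearMap.range u) := by
  obtain ⟨k, p, s, hp, hs, hps⟩ := Module.Finite.exists_comp_eq_id_of_projective R N
  -- complement of N in the free module
  have hmem : ∀ x, x - s (p x) ∈ LinearMap.ker p := fun x => by
    have := LinearMap.congr_fun hps (p x)
    simp only [LinearMap.comp_apply, LinearMap.id_apply] at this
    simp [this]
  let q : (Fin k → R) →ₗ[R] LinearMap.ker p := LinearMap.codRestrict _ (LinearMap.id - s ∘ₗ p) hmem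
  have hq : q ∘ₗ (LinearMap.ker p).subtype = LinearMap.id :=
    LinearMap.ext fun m => Subtype.ext (by
      show m.1 - s (p m.1) = m.1
      rw [LinearMap.mem_ker.mp m.2, map_zero, sub_zero])
  have : Module.Projective R (LinearMap.ker p) := Module.Projective.of_split _ _ hq
  have : Module.Finite R (LinearMap.ker p) := Module.Finite.of_surjective q
    fun m => ⟨m.1, LinearMap.congr_fun hq m⟩
  obtain ⟨L, hL⟩ := exists_left_inverse (M := M × LinearMap.ker p) hP k
    ((u ∘ₗ p).prod q) (by
      rw [injective_iff_map_eq_zero]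
      intro x hx
      have h1 : p x = 0 := hu (by rw [map_zero]; exact congrArg Prod.fst hx)
      have h2 : x - s (p x) = 0 := congrArg Subtype.val (congrArg Prod.snd hx)
      rwa [h1, map_zero, sub_zero] at h2)
  let l : M →ₗ[R] N := p ∘ₗ L ∘ₗ LinearMap.inl R M (LinearMap.ker p)
  have hl : ∀ n, l (u n) = n := by
    intro n
    have h1 := LinearMap.congr_fun hL (s n)
    have hpn : p (s n) = n := LinearMap.congr_fun hps n
    have h2 : ((u ∘ₗ p).prod q) (s n) = (u n, 0) := Prod.ext (by simp [hpn])
      (Subtype.ext (by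
        show s n - s (p (s n)) = 0
        rw [hpn, sub_self]))
    simp only [LinearMap.comp_apply, LinearMap.id_apply, h2] at h1
    simp [l, h1, hpn]
  let g : M ⧸ LinearMap.range u →ₗ[R] M := Submodule.liftQ _ (LinearMap.id - u ∘ₗ l) (by
    rintro _ ⟨n, rfl⟩; simp [hl])
  refine Module.Projective.of_split g (LinearMap.range u).mkQ
    (Submodule.linearMap_qext _ (LinearMap.ext fun m => ?_))
  simp [g]

end Groth.Agent.CAlg4.PropP
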