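import Groth.Agent.CAlgH2.LocalDimField
import Groth.Agent.E4O.FibreDimRing
import Mathlib

/-! Coordinates on a finite type algebra adapted to a prime, with quasi-finite projection. -/

universe u
open scoped TensorProduct

namespace Groth.Agent.CAlg4.QFAdapted

theorem exists_coords (k F S : Type u) [Field k] [CommRing F] [CommRing S] [Algebra k F] [Algebra.FiniteType k F]
    (ι : S →+* F) (hι : ∀ y : F, ∃ c : k, c ≠ 0 ∧ ∃ s : S, c • y = ι s) (Q : Ideal F) [Q.IsPrime] (n r : ℕ)
    (hn : CAlgH2.dimAt k Q = n) (hr : CAlgH2.trdegQuot k Q = r) :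
    ∃ (hrn : r ≤ n) (t : Fin n → S),
      Q ∈ (Ideal.span (Set.range fun i : {i : Fin n // r ≤ (i : ℕ)} => ι (t i))).minimalPrimes ∧
      AlgebraicIndependent k (fun j : Fin r => Ideal.Quotient.mk Q (ι (t (Fin.castLE hrn j)))) := by
  classical
  have := Algebra.FiniteType.isNoetherianRing k F
  have hsum := CAlgH2.height_add_trdegQuot_eq_dimAt k Q
  rw [hn, hr] at hsum
  obtain ⟨h, hh⟩ := ENat.ne_top_iff_exists.1 (Ideal.height_ne_top (I := Q) (Ideal.IsPrime.ne_top inferInstance))
  rw [← hh] at hsum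
  have hsum' : h + r = n := by exact_mod_cast hsum
  obtain ⟨s, hs, hcard⟩ := Ideal.exists_finset_card_eq_height_of_isNoetherianRing Q
  have hcard' : s.card = h := by rw [← hh] at hcard; exact_mod_cast hcard
  have : Algebra.FiniteType k (F ⧸ Q) :=
    Algebra.FiniteType.of_surjective (Ideal.Quotient.mkₐ k Q) Ideal.Quotient.mk_surjective
  let G : Set (F ⧸ Q) := Set.range fun x : S => Ideal.Quotient.mk Q (ι x)
  have hG : Algebra.adjoin k G = ⊤ := by
    rw [eq_top_iff]
    intro y _
    obtain ⟨y, rfl⟩ := Ideal.Quotient.mk_surjective y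
    obtain ⟨c, hc, x, hx⟩ := hι y
    have : Ideal.Quotient.mk Q y = c⁻¹ • Ideal.Quotient.mk Q (ι x) := by
      rw [← hx, show Ideal.Quotient.mk Q (c • y) = c • Ideal.Quotient.mk Q y from rfl, smul_smul,
        inv_mul_cancel₀ hc, one_smul]
    rw [this]
    exact Subalgebra.smul_mem _ (Algebra.subset_adjoin (Set.mem_range_self x)) _
  have : FaithfulSMul k (F ⧸ Q) :=
    (faithfulSMul_iff_algebraMap_injective _ _).2 (algebraMap k (F ⧸ Q)).injective
  have : Algebra.IsAlgebraic (Algebra.adjoin k G) (F ⧸ Q) :=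
    ⟨fun y => isAlgebraic_algebraMap (⟨y, hG ▸ Algebra.mem_top⟩ : Algebra.adjoin k G)⟩
  obtain ⟨b, hbG, hb⟩ := exists_isTranscendenceBasis_subset (R := k) G
  have hbc : Cardinal.mk b = r := by
    rw [hb.cardinalMk_eq_trdeg, E4O.trdeg_eq_natCast k (F ⧸ Q)]
    exact congrArg Nat.cast hr
  have : Finite b := Cardinal.lt_aleph0_iff_finite.1 (hbc ▸ Cardinal.natCast_lt_aleph0)
  let eb : Fin r ≃ b := (Finite.equivFinOfCardEq (by
    rw [Nat.card, hbc, Cardinal.toNat_natCast])).symm
  choose w hw using fun j : Fin r => hbG (eb j).2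
  choose c hc x hx using hι
  let es : Fin h ≃ s := (Finset.equivFinOfCardEq hcard').symm
  let t : Fin n → S := fun i => if hi : (i : ℕ) < r then w ⟨i, hi⟩ else x (es ⟨i - r, by omega⟩ : F)
  refine ⟨by omega, t, ?_, ?_⟩
  · convert hs using 2
    refine le_antisymm ?_ ?_
    · rw [Ideal.span_le]
      rintro _ ⟨⟨i, hi⟩, rfl⟩
      simp only [t, not_lt.2 hi, dite_false, SetLike.mem_coe]
      rw [← hx, Algebra.smul_def]
      exact Ideal.mul_mem_left _ _ (Ideal.subset_span (es _).2)
    · rw [Ideal.span_le]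
      intro y hy
      obtain ⟨⟨j, hj⟩, he⟩ := es.surjective ⟨y, hy⟩
      have hmem : ι (x y) ∈ Ideal.span (Set.range fun i : {i : Fin n // r ≤ (i : ℕ)} => ι (t i)) := by
        refine Ideal.subset_span ⟨⟨⟨r + j, by omega⟩, Nat.le_add_right r j⟩, ?_⟩
        simp only [t, not_lt.2 (Nat.le_add_right r j), dite_false]
        congr 3
        simp [he]
      rw [← hx] at hmem
      have hu : IsUnit (algebraMap k F (c y)) := (isUnit_iff_ne_zero.2 (hc y)).map _
      rw [Algebra.smul_def, Ideal.unit_mul_mem_iff_mem _ hu] at hmem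
      exact hmem
  · convert hb.1.comp eb eb.injective using 1
    funext j
    simp only [t, Fin.val_castLE, j.2, dite_true, Fin.eta, Function.comp_apply]
    exact hw j

variable {n r : ℕ}

/-- Setting the variables of index at least `r` to zero. -/
noncomputable def trunc (C : Type u) [CommRing C] (n r : ℕ) : MvPolynomial (Fin n) C →ₐ[C] MvPolynomial (Fin r) C :=
  MvPolynomial.aeval fun i => if hi : (i : ℕ) < r then MvPolynomial.X ⟨i, hi⟩ else 0

/-- The ideal of the last variables. -/
noncomputable def lastVars (C : Type u) [CommRing C] (n r : ℕ) : Ideal (MvPolynomial (Fin n) C) :=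
  Ideal.span (Set.range fun i : {i : Fin n // r ≤ (i : ℕ)} => (MvPolynomial.X (i : Fin n) : MvPolynomial (Fin n) C))

theorem sub_rename_trunc_mem (C : Type u) [CommRing C] (hrn : r ≤ n) (f : MvPolynomial (Fin n) C) :
    f - MvPolynomial.rename (Fin.castLE hrn) (trunc C n r f) ∈ lastVars C n r := by
  induction f using MvPolynomial.induction_on with
  | C a => simp [trunc]
  | add a b ha hb => simpa [sub_add_sub_comm] using add_mem ha hb
  | mul_X a i ha =>
    rw [map_mul, map_mul]
    by_cases hi : (i : ℕ) < r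
    · have : MvPolynomial.rename (Fin.castLE hrn) (trunc C n r (MvPolynomial.X i)) = MvPolynomial.X i := by
        simp [trunc, hi]
      rw [this, ← sub_mul]
      exact Ideal.mul_mem_right _ _ ha
    · have : trunc C n r (MvPolynomial.X i) = 0 := by simp [trunc, hi]
      rw [this, map_zero, mul_zero, sub_zero]
      exact Ideal.mul_mem_left _ _ (Ideal.subset_span ⟨⟨i, not_lt.1 hi⟩, rfl⟩)

theorem comap_eq_lastVars {k F : Type u} [Field k] [CommRing F] [Algebra k F] (Q : Ideal F) (t : Fin n → F)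
    (hrn : r ≤ n) (hlast : ∀ i : Fin n, r ≤ (i : ℕ) → t i ∈ Q)
    (hind : AlgebraicIndependent k (fun j : Fin r => Ideal.Quotient.mk Q (t (Fin.castLE hrn j)))) :
    Q.comap (MvPolynomial.aeval (R := k) t) = lastVars k n r := by
  have hle : lastVars k n r ≤ Q.comap (MvPolynomial.aeval (R := k) t) := by
    rw [lastVars, Ideal.span_le]
    rintro _ ⟨i, rfl⟩
    simpa using hlast i i.2
  refine le_antisymm (fun f hf => ?_) hle
  have h1 := sub_rename_trunc_mem k hrn f
  have h2 : MvPolynomial.aeval t (MvPolynomial.rename (Fin.castLE hrn) (trunc k n r f)) ∈ Q := by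
    have := sub_mem hf (hle h1)
    simpa using this
  have h3 : MvPolynomial.aeval (fun j : Fin r => Ideal.Quotient.mk Q (t (Fin.castLE hrn j))) (trunc k n r f) = 0 := by
    rw [MvPolynomial.aeval_rename] at h2
    have := Ideal.Quotient.eq_zero_iff_mem.2 h2
    rw [← Ideal.Quotient.mkₐ_eq_mk k, ← AlgHom.comp_apply, MvPolynomial.comp_aeval] at this
    exact this
  rw [hind.eq_zero_of_aeval_eq_zero _ h3, map_zero, sub_zero] at h1
  exact h1

theorem mk_aeval_rename {k F : Type u} [Field k] [CommRing F] [Algebra k F] (Q : Ideal F) (t : Fin n → F)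
    (e : Fin r → Fin n) (g : MvPolynomial (Fin r) k) :
    Ideal.Quotient.mk Q (MvPolynomial.aeval t (MvPolynomial.rename e g)) =
      MvPolynomial.aeval (fun j => Ideal.Quotient.mk Q (t (e j))) g := by
  induction g using MvPolynomial.induction_on with
  | C a => simp [Ideal.Quotient.mk_algebraMap]
  | add a b ha hb => simp only [map_add, ha, hb]
  | mul_X a i ha => simp only [map_mul, MvPolynomial.rename_X, MvPolynomial.aeval_X, ha]

variable (R : Type u) [CommRing R] (p : Ideal R) [p.IsPrime]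

theorem comap_map_lastVars (hrn : r ≤ n) :
    (lastVars p.ResidueField n r).comap (MvPolynomial.map (algebraMap R p.ResidueField)) =
      p.map (algebraMap R (MvPolynomial (Fin n) R)) ⊔ lastVars R n r := by
  have hcomm : ∀ f : MvPolynomial (Fin n) R, trunc p.ResidueField n r (MvPolynomial.map (algebraMap R p.ResidueField) f) =
      MvPolynomial.map (algebraMap R p.ResidueField) (trunc R n r f) := by
    intro f
    induction f using MvPolynomial.induction_on with
    | C a => simp [trunc]
    | add a b ha hb => simp [ha, hb]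
    | mul_X a i ha =>
      simp only [map_mul, ha]
      congr 1
      by_cases hi : (i : ℕ) < r <;> simp [trunc, hi]
  refine le_antisymm (fun f hf => ?_) (sup_le ?_ ?_)
  · have h0 : trunc p.ResidueField n r (MvPolynomial.map (algebraMap R p.ResidueField) f) = 0 := by
      have hle : lastVars p.ResidueField n r ≤ RingHom.ker (trunc p.ResidueField n r) := by
        rw [lastVars, Ideal.span_le]
        rintro _ ⟨⟨i, hi⟩, rfl⟩
        simp [trunc, not_lt.2 hi]
      exact hle hf
    rw [hcomm] at h0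
    refine Submodule.mem_sup.2 ⟨_, ?_, _, sub_rename_trunc_mem R hrn f, add_sub_cancel _ _⟩
    rw [MvPolynomial.algebraMap_eq, MvPolynomial.mem_map_C_iff]
    intro m
    by_cases hm : ∃ u : Fin r →₀ ℕ, u.mapDomain (Fin.castLE hrn) = m
    · obtain ⟨u, rfl⟩ := hm
      rw [MvPolynomial.coeff_rename_mapDomain _ (Fin.castLE_injective hrn)]
      have := congrArg (MvPolynomial.coeff u) h0
      rw [MvPolynomial.coeff_map, MvPolynomial.coeff_zero] at this
      exact Ideal.algebraMap_residueField_eq_zero.1 this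
    · rw [MvPolynomial.coeff_rename_eq_zero _ _ _ (fun u hu => absurd ⟨u, hu⟩ hm)]
      exact zero_mem _
  · rw [Ideal.map_le_iff_le_comap]
    intro a ha
    show MvPolynomial.map _ (algebraMap R _ a) ∈ lastVars p.ResidueField n r
    rw [MvPolynomial.algebraMap_eq, MvPolynomial.map_C, Ideal.algebraMap_residueField_eq_zero.2 ha, map_zero]
    exact zero_mem _
  · rw [lastVars, Ideal.span_le]
    rintro _ ⟨i, rfl⟩
    show MvPolynomial.map _ _ ∈ lastVars p.ResidueField n r
    rw [MvPolynomial.map_X]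
    exact Ideal.subset_span ⟨i, rfl⟩

theorem exists_denom (f : MvPolynomial (Fin n) p.ResidueField) :
    ∃ c : p.ResidueField, c ≠ 0 ∧ ∃ g : MvPolynomial (Fin n) R,
      MvPolynomial.map (algebraMap R p.ResidueField) g = MvPolynomial.C c * f := by
  induction f using MvPolynomial.induction_on with
  | C a =>
    obtain ⟨x, y, hy, rfl⟩ := IsFractionRing.div_surjective (R ⧸ p) a
    obtain ⟨x, rfl⟩ := Ideal.Quotient.mk_surjective x
    obtain ⟨y, rfl⟩ := Ideal.Quotient.mk_surjective y
    have hy' : algebraMap R p.ResidueField y ≠ 0 := fun h => nonZeroDivisors.ne_zero hy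
      (Ideal.Quotient.eq_zero_iff_mem.2 (Ideal.algebraMap_residueField_eq_zero.1 h))
    refine ⟨_, hy', MvPolynomial.C x, ?_⟩
    rw [MvPolynomial.map_C, ← map_mul]
    congr 1
    rw [IsScalarTower.algebraMap_apply R (R ⧸ p) p.ResidueField, IsScalarTower.algebraMap_apply R (R ⧸ p) p.ResidueField y,
      Ideal.Quotient.algebraMap_eq, mul_div_cancel₀]
    rw [IsScalarTower.algebraMap_apply R (R ⧸ p) p.ResidueField y] at hy'
    exact hy'
  | add a b ha hb =>
    obtain ⟨c, hc, g, hg⟩ := ha
    obtain ⟨c', hc', g', hg'⟩ := hb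
    obtain ⟨x, y, hy, hxy⟩ := IsFractionRing.div_surjective (R ⧸ p) c
    obtain ⟨x, rfl⟩ := Ideal.Quotient.mk_surjective x
    obtain ⟨y, rfl⟩ := Ideal.Quotient.mk_surjective y
    obtain ⟨x', y', hy', hxy'⟩ := IsFractionRing.div_surjective (R ⧸ p) c'
    obtain ⟨x', rfl⟩ := Ideal.Quotient.mk_surjective x'
    obtain ⟨y', rfl⟩ := Ideal.Quotient.mk_surjective y'
    let φ := algebraMap R p.ResidueField
    have hyn : φ y ≠ 0 := fun h => nonZeroDivisors.ne_zero hy
      (Ideal.Quotient.eq_zero_iff_mem.2 (Ideal.algebraMap_residueField_eq_zero.1 h))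
    have hyn' : φ y' ≠ 0 := fun h => nonZeroDivisors.ne_zero hy'
      (Ideal.Quotient.eq_zero_iff_mem.2 (Ideal.algebraMap_residueField_eq_zero.1 h))
    have hc1 : φ x = c * φ y := (div_eq_iff hyn).1 hxy
    have hc2 : φ x' = c' * φ y' := (div_eq_iff hyn').1 hxy'
    refine ⟨φ x * φ x', mul_ne_zero (hc1 ▸ mul_ne_zero hc hyn) (hc2 ▸ mul_ne_zero hc' hyn'),
      MvPolynomial.C (y * x') * g + MvPolynomial.C (x * y') * g', ?_⟩
    simp only [map_add, map_mul, MvPolynomial.map_C, hg, hg']
    show MvPolynomial.C (φ y) * MvPolynomial.C (φ x') * _ + MvPolynomial.C (φ x) * MvPolynomial.C (φ y') * _ = _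
    rw [hc1, hc2, map_mul, map_mul]
    ring
  | mul_X a i ha =>
    obtain ⟨c, hc, g, hg⟩ := ha
    exact ⟨c, hc, g * MvPolynomial.X i, by rw [map_mul, MvPolynomial.map_X, hg, mul_assoc]⟩

theorem trdeg_residue {S : Type u} [CommRing S] [Algebra R S] (q : Ideal S) [q.IsPrime] [q.LiesOver p]
    [Algebra (Localization.AtPrime p) (Localization.AtPrime q)] [Localization.AtPrime.IsLiesOverAlgebra p q] :
    Algebra.trdeg p.ResidueField q.ResidueField = Algebra.trdeg (R ⧸ p) (S ⧸ q) := by
  refine E4O.trdeg_eq_of_square (D := R ⧸ p) (K := p.ResidueField) (algebraMap (S ⧸ q) q.ResidueField)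
    (IsFractionRing.injective _ _) ((injective_iff_map_eq_zero _).2 fun d hd => ?_) (fun d => ?_) fun x => ?_
  · obtain ⟨a, rfl⟩ := Ideal.Quotient.mk_surjective d
    exact Ideal.Quotient.eq_zero_iff_mem.2 ((Ideal.LiesOver.over (P := q) (p := p)).symm.le
      (show algebraMap R S a ∈ q from Ideal.Quotient.eq_zero_iff_mem.1 hd))
  · obtain ⟨a, rfl⟩ := Ideal.Quotient.mk_surjective d
    show algebraMap (S ⧸ q) q.ResidueField (algebraMap R (S ⧸ q) a) =
      algebraMap p.ResidueField q.ResidueField (algebraMap (R ⧸ p) p.ResidueField (algebraMap R (R ⧸ p) a))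
    rw [← IsScalarTower.algebraMap_apply R (S ⧸ q) q.ResidueField, ← IsScalarTower.algebraMap_apply R (R ⧸ p) p.ResidueField,
      ← IsScalarTower.algebraMap_apply R p.ResidueField q.ResidueField]
  · obtain ⟨a, b, hb, rfl⟩ := IsFractionRing.div_surjective (S ⧸ q) x
    exact ⟨b, a, nonZeroDivisors.ne_zero hb,
      mul_div_cancel₀ _ ((map_ne_zero_iff _ (IsFractionRing.injective _ _)).2 (nonZeroDivisors.ne_zero hb))⟩

theorem isOpen_singleton {k G : Type u} [Field k] [CommRing G] [Algebra k G] [Algebra.FiniteType k G]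
    (Q : PrimeSpectrum G) (hle : ∀ Q' : PrimeSpectrum G, Q' ≤ Q → Q' = Q) (hge : ∀ Q' : PrimeSpectrum G, Q ≤ Q' → Q' = Q) :
    IsOpen ({Q} : Set (PrimeSpectrum G)) := by
  obtain ⟨g, hg, hmin⟩ := CAlgH2.exists_notMem_forall k Q.asIdeal
  convert (PrimeSpectrum.basicOpen g).isOpen using 1
  refine Set.Subset.antisymm (Set.singleton_subset_iff.2 hg) fun Q' hQ' => ?_
  obtain ⟨P, hP, hPQ⟩ := Ideal.exists_minimalPrimes_le (I := (⊥ : Ideal G)) (J := Q'.asIdeal) bot_le
  have h1 := hle ⟨P, hP.1.1⟩ (hmin P hP fun h => hQ' (hPQ h))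
  exact hge Q' (h1 ▸ hPQ)

variable (S : Type u) [CommRing S] [Algebra R S] [Algebra.FiniteType R S]

theorem weaklyQuasiFiniteAt (hrn : r ≤ n) (q : Ideal S) [q.IsPrime] [q.LiesOver p] (Q : PrimeSpectrum (p.Fiber S))
    (hQ : Q.asIdeal.comap (Algebra.TensorProduct.includeRight.toRingHom) = q)
    (hr : CAlgH2.trdegQuot p.ResidueField Q.asIdeal = r) (t : Fin n → S)
    (hmin : Q.asIdeal ∈ (Ideal.span (Set.range fun i : {i : Fin n // r ≤ (i : ℕ)} =>
      (Algebra.TensorProduct.includeRight (R := R) (A := p.ResidueField) (t i) : p.Fiber S))).minimalPrimes)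
    (hind : AlgebraicIndependent p.ResidueField (fun j : Fin r =>
      Ideal.Quotient.mk Q.asIdeal (Algebra.TensorProduct.includeRight (R := R) (A := p.ResidueField) (t (Fin.castLE hrn j)))))
    [Algebra (MvPolynomial (Fin n) R) S] [IsScalarTower R (MvPolynomial (Fin n) R) S]
    (ht : ∀ i, algebraMap (MvPolynomial (Fin n) R) S (MvPolynomial.X i) = t i) :
    q.under (MvPolynomial (Fin n) R) = p.map (algebraMap R (MvPolynomial (Fin n) R)) ⊔ lastVars R n r ∧
      Algebra.WeaklyQuasiFiniteAt (MvPolynomial (Fin n) R) q := by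
  let A := MvPolynomial (Fin n) R
  let k := p.ResidueField
  let ι : S →ₐ[R] p.Fiber S := Algebra.TensorProduct.includeRight
  let Ψ := MvPolynomial.aeval (R := k) fun i => ι (t i)
  have hcomm : ∀ f : A, ι (algebraMap A S f) = Ψ (MvPolynomial.map (algebraMap R k) f) := by
    intro f
    induction f using MvPolynomial.induction_on with
    | C a =>
      rw [MvPolynomial.map_C, ← MvPolynomial.algebraMap_eq, ← IsScalarTower.algebraMap_apply, AlgHom.commutes,
        ← MvPolynomial.algebraMap_eq, AlgHom.commutes, ← IsScalarTower.algebraMap_apply]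
    | add a b ha hb => simp only [map_add, ha, hb]
    | mul_X a i ha =>
      simp only [map_mul, ha, MvPolynomial.map_X, Ψ, MvPolynomial.aeval_X]
      rw [show algebraMap A S (MvPolynomial.X i) = t i from ht i]
  have hΨQ : Q.asIdeal.comap Ψ = lastVars k n r :=
    comap_eq_lastVars Q.asIdeal _ hrn (fun i hi => hmin.1.2 (Ideal.subset_span ⟨⟨i, hi⟩, rfl⟩)) hind
  have hcomap : ∀ q' : Ideal S, ∀ Q' : PrimeSpectrum (p.Fiber S), Q'.asIdeal.comap ι.toRingHom = q' →
      q'.under A = (Q'.asIdeal.comap Ψ).comap (MvPolynomial.map (algebraMap R k)) := by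
    intro q' Q' h
    ext f
    subst h
    show ι (algebraMap A S f) ∈ Q'.asIdeal ↔ Ψ (MvPolynomial.map (algebraMap R k) f) ∈ Q'.asIdeal
    rw [hcomm]
  have hP : q.under A = p.map (algebraMap R A) ⊔ lastVars R n r := by
    rw [hcomap q Q hQ, hΨQ, comap_map_lastVars R p hrn]
  refine ⟨hP, ?_⟩
  let e := PrimeSpectrum.primesOverOrderIsoFiber R S p
  have hsymm : ∀ (Q' : PrimeSpectrum (p.Fiber S)), Q'.asIdeal.comap ι.toRingHom = (e.symm Q').1 := fun Q' =>
    (PrimeSpectrum.coe_primesOverOrderIsoFiber_symm_apply (R := R) (S := S) (p := p) Q').symm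
  have key : ∀ q' : Ideal S, q'.IsPrime → q'.under A = q.under A → (q' ≤ q ∨ q ≤ q') → q' = q := by
    intro q' hq' hu hor
    have : q'.LiesOver p := ⟨by
      rw [← Ideal.under_under (B := A) q', hu, Ideal.under_under]; exact Ideal.LiesOver.over⟩
    let Q' := e ⟨q', hq', this⟩
    have hQ' : Q'.asIdeal.comap ι.toRingHom = q' := by rw [hsymm]; simp [Q']
    have hQe : Q = e ⟨q, ‹q.IsPrime›, ‹q.LiesOver p›⟩ := e.symm.injective (Subtype.ext (by
      rw [← hsymm, OrderIso.symm_apply_apply]; exact hQ))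
    have hΨ : Q'.asIdeal.comap Ψ = Q.asIdeal.comap Ψ := by
      have heq := (hcomap q' Q' hQ').symm.trans (hu.trans (hcomap q Q hQ))
      ext f
      obtain ⟨c, hc, g, hg⟩ := exists_denom R p f
      have hu : IsUnit (MvPolynomial.C c : MvPolynomial (Fin n) k) := (isUnit_iff_ne_zero.2 hc).map _
      rw [← Ideal.unit_mul_mem_iff_mem (Q'.asIdeal.comap Ψ) hu, ← Ideal.unit_mul_mem_iff_mem (Q.asIdeal.comap Ψ) hu, ← hg]
      exact SetLike.ext_iff.1 heq g
    rcases hor with hle | hge
    · have h1 : Q' ≤ Q := hQe ▸ e.monotone hle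
      have h2 : Ideal.span (Set.range fun i : {i : Fin n // r ≤ (i : ℕ)} => ι (t i)) ≤ Q'.asIdeal := by
        rw [Ideal.span_le]
        rintro _ ⟨i, rfl⟩
        have : (MvPolynomial.X (i : Fin n) : MvPolynomial (Fin n) k) ∈ Q'.asIdeal.comap Ψ := by
          rw [hΨ, hΨQ]; exact Ideal.subset_span ⟨i, rfl⟩
        simpa [Ψ] using this
      have h3 : Q' = Q := le_antisymm h1 (hmin.2 ⟨Q'.isPrime, h2⟩ h1)
      rw [← hQ', h3]; exact hQ
    · have h1 : Q.asIdeal ≤ Q'.asIdeal := (hQe ▸ e.monotone hge : Q ≤ Q')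
      have hsum := CAlgH2.height_add_trdegQuot k Q.asIdeal Q'.asIdeal h1
      have hle : r ≤ CAlgH2.trdegQuot k Q'.asIdeal := by
        have hind' : AlgebraicIndependent k
            (fun j : Fin r => Ideal.Quotient.mk Q'.asIdeal (ι (t (Fin.castLE hrn j)))) := by
          rw [algebraicIndependent_iff]
          intro g hg
          refine hind.eq_zero_of_aeval_eq_zero g ?_
          have h4 : MvPolynomial.rename (Fin.castLE hrn) g ∈ Q'.asIdeal.comap Ψ := by
            show Ψ _ ∈ Q'.asIdeal
            rw [← Ideal.Quotient.eq_zero_iff_mem]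
            exact (mk_aeval_rename (k := k) Q'.asIdeal (fun i => ι (t i)) (Fin.castLE hrn) g).trans hg
          rw [hΨ] at h4
          have h5 : Ideal.Quotient.mk Q.asIdeal (Ψ (MvPolynomial.rename (Fin.castLE hrn) g)) = 0 :=
            Ideal.Quotient.eq_zero_iff_mem.2 h4
          exact (mk_aeval_rename (k := k) Q.asIdeal (fun i => ι (t i)) (Fin.castLE hrn) g).symm.trans h5
        have : Algebra.FiniteType k (p.Fiber S ⧸ Q'.asIdeal) :=
          Algebra.FiniteType.of_surjective (Ideal.Quotient.mkₐ k _) Ideal.Quotient.mk_surjective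
        have := hind'.lift_cardinalMk_le_trdeg
        rw [E4O.trdeg_eq_natCast k (p.Fiber S ⧸ Q'.asIdeal), Cardinal.mk_fin, Cardinal.lift_natCast,
          Cardinal.lift_natCast] at this
        exact Nat.cast_le.1 this
      rw [hr] at hsum
      obtain ⟨m, hm⟩ : ∃ m : ℕ, (Q'.asIdeal.map (Ideal.Quotient.mk Q.asIdeal)).height = m := by
        refine Option.ne_none_iff_exists'.1 fun h => ?_
        rw [show (Q'.asIdeal.map (Ideal.Quotient.mk Q.asIdeal)).height = ⊤ from h] at hsum
        simp at hsum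
      rw [hm] at hsum
      have hm0 : m = 0 := by
        have : m + CAlgH2.trdegQuot k Q'.asIdeal = r := by exact_mod_cast hsum
        omega
      rw [hm0, Nat.cast_zero] at hm
      have := Ideal.isPrime_map_quotientMk_of_isPrime h1
      rw [Ideal.height_eq_zero_iff, IsDomain.minimalPrimes_eq_singleton_bot, Set.mem_singleton_iff,
        Ideal.map_eq_bot_iff_le_ker, Ideal.mk_ker] at hm
      rw [← hQ', show Q' = Q from le_antisymm hm h1]; exact hQ
  let P := q.under A
  have : Algebra.FiniteType A S := Algebra.FiniteType.of_restrictScalars_finiteType R A S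
  have : q.LiesOver P := ⟨rfl⟩
  let e2 := PrimeSpectrum.primesOverOrderIsoFiber A S P
  let Q₂ := e2 ⟨q, ‹q.IsPrime›, ‹q.LiesOver P›⟩
  have hiso : IsOpen ({Q₂} : Set (PrimeSpectrum (P.Fiber S))) := by
    have hcl : ∀ z, (z.1 ≤ q ∨ q ≤ z.1) → e2 z = Q₂ := fun z hz => congrArg e2 (Subtype.ext
      (key z.1 z.2.1 z.2.2.over.symm hz))
    refine isOpen_singleton (k := P.ResidueField) Q₂ (fun z hz => ?_) (fun z hz => ?_)
    · obtain ⟨z, rfl⟩ := e2.surjective z
      exact hcl z (Or.inl (e2.le_iff_le.1 hz))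
    · obtain ⟨z, rfl⟩ := e2.surjective z
      exact hcl z (Or.inr (e2.le_iff_le.1 hz))
  have := Algebra.QuasiFiniteAt.of_isOpen_singleton (R := P.ResidueField) Q₂ hiso
  refine Algebra.WeaklyQuasiFiniteAt.of_quasiFiniteAt_residueField P q Q₂.asIdeal ?_
  show ((e2.symm Q₂) : Ideal S) = q
  simp [Q₂]

theorem main (q : Ideal S) [q.IsPrime] [q.LiesOver p] [Algebra (Localization.AtPrime p) (Localization.AtPrime q)]
    [Localization.AtPrime.IsLiesOverAlgebra p q] (Q : PrimeSpectrum (p.Fiber S))
    (hQ : Q.asIdeal.comap (Algebra.TensorProduct.includeRight.toRingHom) = q) (n r : ℕ)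
    (hdim : FlatMor.localDim (PrimeSpectrum (p.Fiber S)) Q = (n : WithBot ℕ∞))
    (hr : Algebra.trdeg p.ResidueField q.ResidueField = r) :
    ∃ (f : R) (g : S), f ∉ p ∧ g ∉ q ∧
      ∃ φ : MvPolynomial (Fin n) (Localization.Away f) →ₐ[R] Localization.Away g,
        φ.toRingHom.FiniteType ∧ φ.toRingHom.QuasiFinite ∧
        (q.map (algebraMap S (Localization.Away g))).comap φ =
          p.map (algebraMap R (MvPolynomial (Fin n) (Localization.Away f))) ⊔
            Ideal.span (Set.range fun i : {i : Fin n // r ≤ (i : ℕ)} =>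
              (MvPolynomial.X (i : Fin n) : MvPolynomial (Fin n) (Localization.Away f))) := by
  classical
  have hn : CAlgH2.dimAt p.ResidueField Q.asIdeal = n := by
    have := (CAlgH2.localDim_eq_dimAt p.ResidueField Q.asIdeal).symm.trans hdim
    exact_mod_cast this
  have hr' : CAlgH2.trdegQuot p.ResidueField Q.asIdeal = r := by
    rw [CAlgH2.trdegQuot, E4O.trdeg_fiber_quotient p Q.asIdeal q hQ.symm, ← trdeg_residue R p q, hr,
      Cardinal.toNat_natCast]
  have hι : ∀ y : p.Fiber S, ∃ c : p.ResidueField, c ≠ 0 ∧ ∃ s : S,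
      c • y = (Algebra.TensorProduct.includeRight (R := R) (A := p.ResidueField) : S →ₐ[R] p.Fiber S).toRingHom s := by
    intro y
    obtain ⟨a, ha, s, hs⟩ := Ideal.Fiber.exists_smul_eq_one_tmul p y
    exact ⟨algebraMap R _ a, fun h => ha (Ideal.algebraMap_residueField_eq_zero.1 h), s,
      (algebraMap_smul _ a y).trans hs⟩
  obtain ⟨hrn, t, hmin, hind⟩ := exists_coords p.ResidueField (p.Fiber S) S _ hι Q.asIdeal n r hn hr'
  let A := MvPolynomial (Fin n) R
  let := (MvPolynomial.aeval (R := R) t).toRingHom.toAlgebra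
  have hst : IsScalarTower R A S := IsScalarTower.of_algebraMap_eq fun a => ((MvPolynomial.aeval (R := R) t).commutes a).symm
  obtain ⟨hP, hwqf⟩ := weaklyQuasiFiniteAt R p S hrn q Q hQ hr' t hmin hind fun i => MvPolynomial.aeval_X t i
  have hAft : Algebra.FiniteType A S := Algebra.FiniteType.of_restrictScalars_finiteType R A S
  obtain ⟨S', hfg, g, hgq, hbij⟩ :=
    Algebra.QuasiFiniteAt.exists_fg_and_exists_notMem_and_awayMap_bijective (R := A) q
  have : Module.Finite A S' := ⟨(Submodule.fg_top _).mpr hfg⟩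
  have : Algebra.QuasiFinite A (Localization.Away g) := .trans _ S' _
  have hqf : Algebra.QuasiFinite A (Localization.Away g.1) :=
    Algebra.QuasiFinite.of_surjective_algHom (R := A) (S := Localization.Away g) (T := Localization.Away g.1)
      (Localization.awayMapₐ S'.val g) hbij.2
  let e1 : Localization.Away (1 : R) ≃ₐ[R] R :=
    (IsLocalization.atUnits R (Submonoid.powers (1 : R)) (S := Localization.Away (1 : R))
      (fun x hx => by obtain ⟨m, rfl⟩ := hx; simp)).symm
  let E : MvPolynomial (Fin n) (Localization.Away (1 : R)) ≃ₐ[R] A := MvPolynomial.mapAlgEquiv (Fin n) e1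
  let ψ : A →ₐ[R] Localization.Away g.1 := IsScalarTower.toAlgHom R A _
  refine ⟨1, g.1, fun h => ‹p.IsPrime›.ne_top ((Ideal.eq_top_iff_one p).2 h), hgq, ψ.comp E.toAlgHom, ?_, ?_, ?_⟩
  · have h1 : (algebraMap A (Localization.Away g.1)).FiniteType := by
      rw [RingHom.finiteType_algebraMap]
      exact Algebra.FiniteType.trans hAft (IsLocalization.finiteType_of_monoid_fg (Submonoid.powers g.1) _)
    exact h1.comp (RingHom.FiniteType.of_surjective _ E.surjective)
  · exact (RingHom.quasiFinite_algebraMap.2 hqf).comp (RingHom.QuasiFinite.of_finite E.toRingEquiv.finite)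
  · have hdis : Disjoint (Submonoid.powers g.1 : Set S) q := by
      rw [Set.disjoint_left]
      rintro _ ⟨m, rfl⟩ h
      exact hgq (‹q.IsPrime›.mem_of_pow_mem m h)
    have hu : (q.map (algebraMap S (Localization.Away g.1))).under S = q :=
      IsLocalization.under_map_of_isPrime_disjoint (Submonoid.powers g.1) _ ‹q.IsPrime› hdis
    have hψ : (q.map (algebraMap S (Localization.Away g.1))).comap ψ = q.under A := by
      conv_rhs => rw [← hu, Ideal.under_under]
      rfl
    have h2 : ((q.map (algebraMap S (Localization.Away g.1))).comap (ψ.comp E.toAlgHom)) =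
        (p.map (algebraMap R A) ⊔ lastVars R n r).comap E.toAlgHom := by
      rw [← hP, ← hψ]; rfl
    rw [h2]
    have h3 : (p.map (algebraMap R A) ⊔ lastVars R n r) =
        (p.map (algebraMap R (MvPolynomial (Fin n) (Localization.Away (1 : R)))) ⊔
            lastVars (Localization.Away (1 : R)) n r).map E.toAlgHom.toRingHom := by
      rw [Ideal.map_sup, Ideal.map_map, show E.toAlgHom.toRingHom.comp (algebraMap R _) = algebraMap R A from RingHom.ext E.commutes, lastVars, lastVars, Ideal.map_span,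
        ← Set.range_comp]
      congr 3
      funext i
      exact (MvPolynomial.map_X _ _).symm
    rw [h3]
    exact Ideal.comap_map_of_bijective E.toAlgHom.toRingHom E.bijective

end Groth.Agent.CAlg4.QFAdapted
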