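import Groth.Agent.EGA4Alg4.IntegralDim
import Groth.Agent.CAlgH2.LocalDimField
import Mathlib

/-! A finite type algebra is, locally, quasi-finite over a polynomial ring in as many variables as the
local dimension of the fibre. -/

universe u
open scoped TensorProduct

namespace Groth.Agent.CAlg4.QFFibre

theorem exists_noether (k A : Type u) [Field k] [CommRing A] [Nontrivial A] [Algebra k A] [Algebra.FiniteType k A]
    (n : ℕ) (hn : ringKrullDim A ≤ (n : WithBot ℕ∞)) :
    ∃ (d : ℕ) (_ : d ≤ n) (g : MvPolynomial (Fin d) k →ₐ[k] A), g.Finite := by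
  obtain ⟨d, g, hinj, hg⟩ := exists_finite_inj_algHom_of_fg k A
  refine ⟨d, ?_, g, hg⟩
  let := g.toRingHom.toAlgebra
  have : Module.Finite (MvPolynomial (Fin d) k) A := hg
  have := Groth.Agent.EGA4Alg4.ringKrullDim_eq_of_integral (A := MvPolynomial (Fin d) k) (B := A) hinj
  rw [this] at hn
  simp only [MvPolynomial.ringKrullDim_of_isNoetherianRing, ringKrullDim_eq_zero_of_field, zero_add, Nat.card_eq_fintype_card, Fintype.card_fin] at hn
  exact_mod_cast hn

variable (R : Type u) [CommRing R] (p : Ideal R) [p.IsPrime]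

theorem isUnit_algebraMap_residueField {c : R} (hc : c ∉ p) : IsUnit (algebraMap R p.ResidueField c) :=
  isUnit_iff_ne_zero.2 fun h => hc (Ideal.algebraMap_residueField_eq_zero.1 h)

variable (T : Type u) [CommRing T] [Algebra R T]

theorem exists_finite_lift [Algebra.FiniteType R T] [Nontrivial (p.Fiber T)] (n : ℕ)
    (hn : ringKrullDim (p.Fiber T) ≤ (n : WithBot ℕ∞)) :
    ∃ t : Fin n → T,
      (MvPolynomial.aeval (R := p.ResidueField) fun i => ((1 : p.ResidueField) ⊗ₜ[R] t i : p.Fiber T)).Finite := by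
  obtain ⟨d, hd, g, hg⟩ := exists_noether p.ResidueField (p.Fiber T) n hn
  choose c hc t ht using fun i : Fin d => Ideal.Fiber.exists_smul_eq_one_tmul p (g (MvPolynomial.X i))
  refine ⟨fun i => if h : (i : ℕ) < d then t ⟨i, h⟩ else 0, ?_⟩
  let σ : MvPolynomial (Fin n) p.ResidueField →ₐ[p.ResidueField] MvPolynomial (Fin d) p.ResidueField :=
    MvPolynomial.aeval fun i => if h : (i : ℕ) < d then
      MvPolynomial.C (algebraMap R p.ResidueField (c ⟨i, h⟩)) * MvPolynomial.X ⟨i, h⟩ else 0
  have hσ : Function.Surjective σ := by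
    rw [← AlgHom.range_eq_top, eq_top_iff, ← MvPolynomial.adjoin_range_X, Algebra.adjoin_le_iff]
    rintro _ ⟨i, rfl⟩
    obtain ⟨v, hv⟩ := isUnit_algebraMap_residueField R p (hc i)
    refine ⟨MvPolynomial.C (↑v⁻¹ : p.ResidueField) * MvPolynomial.X (Fin.castLE hd i), ?_⟩
    simp only [AlgHom.toRingHom_eq_coe, RingHom.coe_coe, map_mul, σ, MvPolynomial.aeval_X, MvPolynomial.aeval_C,
      Fin.val_castLE, i.2, dite_true, Fin.eta, MvPolynomial.algebraMap_eq, ← hv]
    rw [← mul_assoc, ← map_mul, Units.inv_mul, map_one, one_mul]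
  have : MvPolynomial.aeval (R := p.ResidueField)
      (fun i : Fin n => ((1 : p.ResidueField) ⊗ₜ[R] (if h : (i : ℕ) < d then t ⟨i, h⟩ else 0) : p.Fiber T)) =
      g.comp σ := by
    refine MvPolynomial.algHom_ext fun i => ?_
    simp only [AlgHom.coe_comp, Function.comp_apply, MvPolynomial.aeval_X, σ]
    split
    · rw [map_mul, ← MvPolynomial.algebraMap_eq, AlgHom.commutes, ← ht, Algebra.smul_def,
        IsScalarTower.algebraMap_apply R p.ResidueField (p.Fiber T)]
    · simp
  rw [this]
  exact hg.comp (AlgHom.Finite.of_surjective σ hσ)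

theorem quasiFiniteAt_aeval [Algebra.FiniteType R T] (n : ℕ) (t : Fin n → T)
    (hfin : (MvPolynomial.aeval (R := p.ResidueField) fun i =>
      ((1 : p.ResidueField) ⊗ₜ[R] t i : p.Fiber T)).Finite)
    [Algebra (MvPolynomial (Fin n) R) T] [IsScalarTower R (MvPolynomial (Fin n) R) T]
    (ht : ∀ i, algebraMap (MvPolynomial (Fin n) R) T (MvPolynomial.X i) = t i)
    (q : Ideal T) [q.IsPrime] [q.LiesOver p] :
    Algebra.WeaklyQuasiFiniteAt (MvPolynomial (Fin n) R) q := by
  let A := MvPolynomial (Fin n) R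
  let P := q.under A
  let k := p.ResidueField
  have hPp : P.LiesOver p := ⟨by rw [Ideal.under_under, ← Ideal.LiesOver.over (P := q) (p := p)]⟩
  let ι : k →ₐ[R] P.ResidueField :=
    Ideal.ResidueField.mapₐ p P (Algebra.ofId R A) (Ideal.LiesOver.over (P := P) (p := p))
  let e : MvPolynomial (Fin n) k →+* P.ResidueField :=
    MvPolynomial.eval₂Hom ι.toRingHom fun i => algebraMap A P.ResidueField (MvPolynomial.X i)
  let θ : p.Fiber T →ₐ[R] P.Fiber T :=
    Algebra.TensorProduct.lift ((Algebra.TensorProduct.includeLeft (S := R)).comp ι)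
      ((Algebra.TensorProduct.includeRight (R := A) (A := P.ResidueField) (B := T)).restrictScalars R)
      fun _ _ => .all _ _
  let ψ := MvPolynomial.aeval (R := k) fun i => ((1 : k) ⊗ₜ[R] t i : p.Fiber T)
  have hθψ : ∀ a, θ (ψ a) = algebraMap P.ResidueField (P.Fiber T) (e a) := by
    intro a
    show (θ.toRingHom.comp ψ.toRingHom) a = ((algebraMap P.ResidueField (P.Fiber T)).comp e) a
    congr 1
    refine MvPolynomial.ringHom_ext (fun c => ?_) fun i => ?_
    · simp [θ, ψ, e, Algebra.TensorProduct.algebraMap_apply]; rfl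
    · simp only [RingHom.coe_comp, Function.comp_apply, AlgHom.toRingHom_eq_coe, RingHom.coe_coe, ψ, θ, e,
        MvPolynomial.aeval_X, MvPolynomial.eval₂Hom_X', Algebra.TensorProduct.lift_tmul, map_one, one_mul,
        AlgHom.restrictScalars_apply, Algebra.TensorProduct.includeRight_apply]
      rw [← IsScalarTower.algebraMap_apply A P.ResidueField (P.Fiber T), Algebra.algebraMap_eq_smul_one,
        Algebra.TensorProduct.one_def, ← TensorProduct.tmul_smul, ← Algebra.algebraMap_eq_smul_one, ht]
  let := ψ.toRingHom.toAlgebra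
  have : Module.Finite (MvPolynomial (Fin n) k) (p.Fiber T) := hfin
  obtain ⟨G, hG⟩ := this.fg_top
  have hPfin : Module.Finite P.ResidueField (P.Fiber T) := by
    classical
    refine ⟨⟨G.image θ, eq_top_iff.2 fun z hz => ?_⟩⟩
    clear hz
    induction z using TensorProduct.induction_on with
    | zero => exact zero_mem _
    | add a b ha hb => exact add_mem ha hb
    | tmul c u =>
      have key : ∀ y : p.Fiber T, θ y ∈ Submodule.span P.ResidueField ((G.image θ : Finset _) : Set (P.Fiber T)) := by
        intro y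
        have hy : y ∈ Submodule.span (MvPolynomial (Fin n) k) (G : Set (p.Fiber T)) := by rw [hG]; trivial
        induction hy using Submodule.span_induction with
        | mem g hg => exact Submodule.subset_span (Finset.mem_image_of_mem θ hg)
        | zero => rw [map_zero]; exact zero_mem _
        | add a b _ _ ha hb => rw [map_add]; exact add_mem ha hb
        | smul a g _ hg =>
          rw [show a • g = ψ a * g from rfl, map_mul, hθψ, ← Algebra.smul_def]
          exact Submodule.smul_mem _ _ hg
      have h1 := key (1 ⊗ₜ[R] u)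
      simp only [θ, Algebra.TensorProduct.lift_tmul, map_one, one_mul, AlgHom.restrictScalars_apply,
        Algebra.TensorProduct.includeRight_apply] at h1
      rw [show c ⊗ₜ[A] u = c • ((1 : P.ResidueField) ⊗ₜ[A] u) by
        rw [TensorProduct.smul_tmul', smul_eq_mul, mul_one]]
      exact Submodule.smul_mem _ _ h1
  rw [Algebra.weaklyQuasiFiniteAt_iff]
  have : Algebra.QuasiFinite A (P.Fiber T) := Algebra.QuasiFinite.trans A P.ResidueField _
  let W := Localization.AtPrime q ⧸ P.map (algebraMap A (Localization.AtPrime q))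
  let g1 : P.ResidueField →ₐ[A] W := Ideal.ResidueField.liftₐ P (Algebra.ofId A W)
    (fun a ha => by
      rw [RingHom.mem_ker]
      exact Ideal.Quotient.eq_zero_iff_mem.2 (Ideal.mem_map_of_mem _ ha))
    (fun a ha => by
      show IsUnit (algebraMap A W a)
      rw [IsScalarTower.algebraMap_apply A (Localization.AtPrime q) W, IsScalarTower.algebraMap_apply A T (Localization.AtPrime q)]
      exact (IsLocalization.map_units _ (⟨algebraMap A T a, ha⟩ : q.primeCompl)).map _)
  let f : P.Fiber T →ₐ[A] W :=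
    Algebra.TensorProduct.lift g1 (IsScalarTower.toAlgHom A T W) fun _ _ => .all _ _
  refine Algebra.QuasiFinite.of_forall_exists_mul_mem_range f fun x => ?_
  obtain ⟨x, rfl⟩ := Ideal.Quotient.mk_surjective x
  obtain ⟨x, ⟨s, hs⟩, rfl⟩ := IsLocalization.exists_mk'_eq q.primeCompl x
  have hf : ∀ b : T, f (1 ⊗ₜ[A] b) = algebraMap T W b := fun b => by simp [f]
  refine ⟨1 ⊗ₜ[A] s, ?_, 1 ⊗ₜ[A] x, ?_⟩
  · rw [hf, IsScalarTower.algebraMap_apply T (Localization.AtPrime q) W]
    exact (IsLocalization.map_units _ (⟨s, hs⟩ : q.primeCompl)).map _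
  · show f _ = _
    rw [hf, hf, IsScalarTower.algebraMap_apply T (Localization.AtPrime q) W x,
      IsScalarTower.algebraMap_apply T (Localization.AtPrime q) W s]
    show Ideal.Quotient.mk _ _ = Ideal.Quotient.mk _ _ * Ideal.Quotient.mk _ _
    rw [← map_mul, IsLocalization.mk'_spec _ x (⟨s, hs⟩ : q.primeCompl)]

variable (S : Type u) [CommRing S] [Algebra R S] [Algebra.FiniteType R S]

theorem exists_nhd (Q : PrimeSpectrum (p.Fiber S)) (n : ℕ)
    (hdim : FlatMor.localDim (PrimeSpectrum (p.Fiber S)) Q = (n : WithBot ℕ∞)) :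
    ∃ s : S, ((1 : p.ResidueField) ⊗ₜ[R] s : p.Fiber S) ∉ Q.asIdeal ∧
      ringKrullDim (p.Fiber (Localization.Away s)) ≤ (n : WithBot ℕ∞) ∧
      Nontrivial (p.Fiber (Localization.Away s)) := by
  have : Nonempty {U : TopologicalSpace.Opens (PrimeSpectrum (p.Fiber S)) // Q ∈ U} := ⟨⟨⊤, trivial⟩⟩
  obtain ⟨⟨U, hQU⟩, hU⟩ := ciInf_mem
    (fun U : {U : TopologicalSpace.Opens (PrimeSpectrum (p.Fiber S)) // Q ∈ U} =>
      topologicalKrullDim (U.1 : Set (PrimeSpectrum (p.Fiber S))))
  replace hU : topologicalKrullDim (U : Set (PrimeSpectrum (p.Fiber S))) = (n : WithBot ℕ∞) := hU.trans hdim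
  obtain ⟨_, ⟨g, rfl⟩, hgQ, hgU⟩ :=
    PrimeSpectrum.isTopologicalBasis_basic_opens.exists_subset_of_mem_open hQU U.isOpen
  obtain ⟨c, hc, s, hs⟩ := Ideal.Fiber.exists_smul_eq_one_tmul p g
  have hassoc : Associated g ((1 : p.ResidueField) ⊗ₜ[R] s : p.Fiber S) := by
    have hu : IsUnit (algebraMap R (p.Fiber S) c) := by
      rw [IsScalarTower.algebraMap_apply R p.ResidueField]
      exact (isUnit_algebraMap_residueField R p hc).map _
    rw [← hs, Algebra.smul_def]
    exact (associated_unit_mul_left g _ hu).symm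
  have hsQ : ((1 : p.ResidueField) ⊗ₜ[R] s : p.Fiber S) ∉ Q.asIdeal := fun h =>
    hgQ (Ideal.mem_of_dvd _ hassoc.symm.dvd h)
  refine ⟨s, hsQ, ?_, ?_⟩
  · refine le_trans ?_ ((Topology.IsInducing.topologicalKrullDim_le (f := Set.inclusion hgU)
      (Topology.IsEmbedding.inclusion hgU).isInducing).trans hU.le)
    have he := IsLocalization.Away.tensorProductEquivTMulRight R p.ResidueField s (Localization.Away s)
    rw [Groth.Agent.CAlgH2.ringKrullDim_away_eq_topologicalKrullDim, ringKrullDim_eq_of_ringEquiv he.toRingEquiv]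
    have : IsLocalization.Away g (Localization.Away ((1 : p.ResidueField) ⊗ₜ[R] s : p.Fiber S)) :=
      IsLocalization.Away.of_associated hassoc.symm
    exact (ringKrullDim_eq_of_ringEquiv (IsLocalization.algEquiv (Submonoid.powers g) (Localization.Away g)
      (Localization.Away ((1 : p.ResidueField) ⊗ₜ[R] s : p.Fiber S))).toRingEquiv).ge
  · have he := IsLocalization.Away.tensorProductEquivTMulRight R p.ResidueField s (Localization.Away s)
    have : Nontrivial (Localization.Away ((1 : p.ResidueField) ⊗ₜ[R] s : p.Fiber S)) :=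
      RingHom.domain_nontrivial (IsLocalization.Away.lift (g := algebraMap (p.Fiber S) Q.asIdeal.ResidueField)
        ((1 : p.ResidueField) ⊗ₜ[R] s : p.Fiber S)
        (isUnit_iff_ne_zero.2 fun h => hsQ (Ideal.algebraMap_residueField_eq_zero.1 h)))
    exact he.toEquiv.nontrivial

theorem exists_chart (q : Ideal S) [q.IsPrime] [q.LiesOver p] (Q : PrimeSpectrum (p.Fiber S))
    (hQ : Q.asIdeal.comap (Algebra.TensorProduct.includeRight.toRingHom) = q) (n : ℕ)
    (hdim : FlatMor.localDim (PrimeSpectrum (p.Fiber S)) Q = (n : WithBot ℕ∞)) :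
    ∃ g : S, g ∉ q ∧ ∃ φ : MvPolynomial (Fin n) R →ₐ[R] Localization.Away g,
      φ.toRingHom.FiniteType ∧ φ.toRingHom.QuasiFinite := by
  obtain ⟨s, hsQ, hn, hnt⟩ := exists_nhd R p S Q n hdim
  let T := Localization.Away s
  have hTft : Algebra.FiniteType R T := by
    have : Algebra.FiniteType S T := IsLocalization.finiteType_of_monoid_fg (Submonoid.powers s) T
    exact Algebra.FiniteType.trans ‹Algebra.FiniteType R S› this
  obtain ⟨t, hfin⟩ := exists_finite_lift R p T n hn
  let := (MvPolynomial.aeval (R := R) t).toRingHom.toAlgebra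
  have hst : IsScalarTower R (MvPolynomial (Fin n) R) T :=
    IsScalarTower.of_algebraMap_eq fun r => ((MvPolynomial.aeval (R := R) t).commutes r).symm
  let A := MvPolynomial (Fin n) R
  have hsq : s ∉ q := fun h => hsQ (by rw [← hQ] at h; exact h)
  have hdis : Disjoint (Submonoid.powers s : Set S) q := by
    rw [Set.disjoint_left]
    rintro _ ⟨m, rfl⟩ h
    exact hsq (‹q.IsPrime›.mem_of_pow_mem m h)
  let q' := q.map (algebraMap S T)
  have hq' : q'.IsPrime := IsLocalization.isPrime_of_isPrime_disjoint (Submonoid.powers s) _ q ‹_› hdis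
  have hu : q'.under S = q := IsLocalization.under_map_of_isPrime_disjoint (Submonoid.powers s) _ ‹_› hdis
  have : q'.LiesOver p := ⟨by rw [← Ideal.under_under (B := S), hu]; exact Ideal.LiesOver.over⟩
  have hwqf := quasiFiniteAt_aeval R p T n t hfin (fun i => MvPolynomial.aeval_X t i) q'
  have hATft : Algebra.FiniteType A T := Algebra.FiniteType.of_restrictScalars_finiteType R A T
  obtain ⟨S', hfg, r, hrq, hbij⟩ :=
    Algebra.QuasiFiniteAt.exists_fg_and_exists_notMem_and_awayMap_bijective (R := A) q'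
  have : Module.Finite A S' := ⟨(Submodule.fg_top _).mpr hfg⟩
  have : Algebra.QuasiFinite A (Localization.Away r) := .trans _ S' _
  have hqf : Algebra.QuasiFinite A (Localization.Away r.1) := by
    let f := Localization.awayMapₐ S'.val r
    have hf : Function.Surjective f := hbij.2
    exact Algebra.QuasiFinite.of_surjective_algHom (R := A) (S := Localization.Away r) (T := Localization.Away r.1) f hf
  obtain ⟨⟨v, ⟨_, m, rfl⟩⟩, hv⟩ := IsLocalization.surj (Submonoid.powers s) r.1
  refine ⟨s * v, fun h => ?_, ?_⟩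
  · refine (‹q.IsPrime›.mem_or_mem h).elim hsq fun hvq => hrq ?_
    have : r.1 * algebraMap S T (s ^ m) ∈ q' := hv ▸ Ideal.mem_map_of_mem _ hvq
    refine (hq'.mem_or_mem this).resolve_right fun h' => ?_
    have : s ^ m ∈ q'.under S := h'
    rw [hu] at this
    exact hsq (‹q.IsPrime›.mem_of_pow_mem m this)
  have hassoc : Associated (algebraMap S T v) r.1 := by
    rw [← hv]
    exact associated_mul_unit_left r.1 _ (IsLocalization.map_units T (⟨s ^ m, m, rfl⟩ : Submonoid.powers s))
  have : IsLocalization.Away (algebraMap S T v) (Localization.Away r.1) :=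
    IsLocalization.Away.of_associated hassoc.symm
  have : IsLocalization.Away (s * v) (Localization.Away r.1)  :=
    (mul_comm v s) ▸ IsLocalization.Away.mul T (Localization.Away r.1) s v
  let e : Localization.Away r.1 ≃ₐ[S] Localization.Away (s * v) := IsLocalization.algEquiv (Submonoid.powers (s * v)) _ _
  let φ : A →ₐ[R] Localization.Away (s * v) :=
    (e.restrictScalars R).toAlgHom.comp (IsScalarTower.toAlgHom R A (Localization.Away r.1))
  refine ⟨φ, ?_, ?_⟩
  · have h1 : (algebraMap A (Localization.Away r.1)).FiniteType := by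
      rw [RingHom.finiteType_algebraMap]
      exact Algebra.FiniteType.trans hATft (IsLocalization.finiteType_of_monoid_fg (Submonoid.powers r.1) _)
    exact (RingHom.FiniteType.of_surjective _ e.surjective).comp h1
  · exact (RingHom.QuasiFinite.of_finite e.toRingEquiv.finite).comp (RingHom.quasiFinite_algebraMap.2 hqf)

end Groth.Agent.CAlg4.QFFibre
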