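import Groth.Agent.CAlg4.QFRegular
import Groth.Agent.CAlg5.FlatDescent
import Mathlib

/-! Geometric regularity of a single formal fibre ascends along quasi-finite maps. -/

universe u
open IsLocalRing TensorProduct
open Groth.Agent.CAlg4.RegHomLoc Groth.Agent.CAlg4.QFRegular

namespace Groth.Agent.CAlg4.QFFormalFibre

theorem regular_descend {B C D K : Type u} [CommRing B] [CommRing C] [CommRing D] [CommRing K] [Algebra B C]
    [Algebra C D] [Algebra B D] [IsScalarTower B C D] [Algebra B K] [Module.FaithfullyFlat C D]
    (h : IsRegularRing (K ⊗[B] D)) : IsRegularRing (K ⊗[B] C) := by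
  have : IsRegularRing (D ⊗[C] (C ⊗[B] K)) := IsRegularRing.of_ringEquiv <|
    (Algebra.TensorProduct.comm B K D).toRingEquiv.trans
      (Algebra.TensorProduct.cancelBaseChange B C D D K).symm.toRingEquiv
  have : IsRegularRing ((C ⊗[B] K) ⊗[C] D) :=
    IsRegularRing.of_ringEquiv (Algebra.TensorProduct.comm C D (C ⊗[B] K)).toRingEquiv
  have := CAlg5.isRegularRing_of_faithfullyFlat (C ⊗[B] K) ((C ⊗[B] K) ⊗[C] D)
  exact IsRegularRing.of_ringEquiv (Algebra.TensorProduct.comm B C K).toRingEquiv

theorem bijective_cpl (A : Type u) [CommRing A] [IsLocalRing A] (h : IsAdicComplete (maximalIdeal A) A) :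
    Function.Bijective (algebraMap A (EGA4.Cpl A)) :=
  AdicCompletion.of_bijective_iff.2 h

theorem descend_cpl (B TM K : Type u) [CommRing B] [IsLocalRing B] [IsNoetherianRing B] [CommRing TM]
    [IsLocalRing TM] [IsNoetherianRing TM] [Algebra B TM] [Module.Flat B TM] [IsLocalHom (algebraMap B TM)]
    (hc : IsAdicComplete (maximalIdeal TM) TM) [CommRing K] [Algebra B K] (h : IsRegularRing (K ⊗[B] TM)) :
    IsRegularRing (K ⊗[B] EGA4.Cpl B) := by
  obtain ⟨_, _, _, _, _, _, _⟩ := Ega11.FormalDescent.exists_cpl_map B TM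
  refine regular_descend (D := EGA4.Cpl TM) ?_
  let eT : TM ≃ₐ[B] EGA4.Cpl TM :=
    AlgEquiv.ofBijective (IsScalarTower.toAlgHom B TM (EGA4.Cpl TM)) (bijective_cpl TM hc)
  exact IsRegularRing.of_ringEquiv (Algebra.TensorProduct.congr (AlgEquiv.refl (R := B) (A₁ := K)) eT).toRingEquiv

theorem regular_loc (C T TM K : Type u) [CommRing C] [CommRing T] [CommRing TM] [CommRing K] [Algebra C T]
    [Algebra T TM] [Algebra C TM] [IsScalarTower C T TM] [Algebra C K] (M : Submonoid T) [IsLocalization M TM]
    (h : IsRegularRing (T ⊗[C] K)) : IsRegularRing (K ⊗[C] TM) := by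
  have : IsRegularRing ((T ⊗[C] K) ⊗[T] TM) := isRegularRing_tensor_localization T TM (T ⊗[C] K) M
  exact IsRegularRing.of_ringEquiv <|
    (Algebra.TensorProduct.comm T (T ⊗[C] K) TM).toRingEquiv.trans <|
      (Algebra.TensorProduct.cancelBaseChange C T TM TM K).toRingEquiv.trans
        (Algebra.TensorProduct.comm C TM K).toRingEquiv

set_option synthInstance.maxHeartbeats 400000 in
theorem core (L C : Type u) [CommRing L] [IsLocalRing L] [IsNoetherianRing L] [CommRing C] [Algebra L C]
    [Module.Finite L C] (q : Ideal C) [q.IsMaximal] (B : Type u) [CommRing B] [IsLocalRing B] [IsNoetherianRing B]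
    [Algebra C B] [IsLocalization.AtPrime B q] [Algebra L B] [IsScalarTower L C B]
    (K : Type u) [CommRing K] [Algebra B K] [Algebra L K] [IsScalarTower L B K]
    (hK : IsRegularRing (K ⊗[L] EGA4.Cpl L)) : IsRegularRing (K ⊗[B] EGA4.Cpl B) := by
  have hcompl := Hens22.isCompl'_adic L
  have : IsNoetherianRing (EGA4.Cpl L) := hcompl.noetherian
  have : IsAdicComplete (maximalIdeal (EGA4.Cpl L)) (EGA4.Cpl L) := hcompl.complete
  have := EGA4H10.faithfullyFlat_cpl L
  let T := C ⊗[L] EGA4.Cpl L
  let _ : Algebra (EGA4.Cpl L) T := Algebra.TensorProduct.rightAlgebra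
  have hfin : Module.Finite (EGA4.Cpl L) T :=
    Module.Finite.equiv (Algebra.TensorProduct.commRight L (EGA4.Cpl L) C).toLinearEquiv
  have : IsNoetherianRing T := isNoetherian_of_tower (EGA4.Cpl L) inferInstance
  have : Module.FaithfullyFlat C T := inferInstance
  obtain ⟨P, hP⟩ := PrimeSpectrum.comap_surjective_of_faithfullyFlat (A := C) (B := T) ⟨q, inferInstance⟩
  obtain ⟨M, hM, hPM⟩ := Ideal.exists_le_maximal P.asIdeal P.2.ne_top
  have hMq : M.comap (algebraMap C T) = q :=
    (Ideal.IsMaximal.eq_of_le inferInstance (Ideal.IsPrime.comap _).ne_top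
      ((congrArg PrimeSpectrum.asIdeal hP).ge.trans (Ideal.comap_mono hPM))).symm
  let TM := Localization.AtPrime M
  have : IsNoetherianRing TM := IsLocalization.isNoetherianRing M.primeCompl _ inferInstance
  have : IsAdicComplete ((maximalIdeal (EGA4.Cpl L)).map (algebraMap (EGA4.Cpl L) T)) T :=
    SGA3a.isAdicComplete_map_of_finite T
  have hbij := Hens22.bijective_pi_atPrime_of_surjOn (A := EGA4.Cpl L) T (surjOn_idempotents _)
  have hsurj : Function.Surjective (algebraMap T TM) := fun y => by
    classical
    obtain ⟨t, ht⟩ := hbij.2 (Function.update 0 ⟨M, hM⟩ y)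
    refine ⟨t, (congrFun ht ⟨M, hM⟩).trans ?_⟩
    simp [TM]
  have : Module.Finite (EGA4.Cpl L) TM :=
    Module.Finite.of_surjective (IsScalarTower.toAlgHom (EGA4.Cpl L) T TM).toLinearMap hsurj
  have hTMcompl := EGA4H10.isAdicComplete_maximalIdeal_of_finite (EGA4.Cpl L) TM
  -- the algebra map `B → T_M`
  have hu : ∀ y : q.primeCompl, IsUnit (algebraMap C TM y) := fun y => by
    rw [IsScalarTower.algebraMap_apply C T TM]
    exact IsLocalization.map_units TM (⟨algebraMap C T y, fun h => y.2 (hMq.le h)⟩ : M.primeCompl)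
  let _ : Algebra B TM := (IsLocalization.lift (M := q.primeCompl) hu).toAlgebra
  have : IsScalarTower C B TM :=
    IsScalarTower.of_algebraMap_eq fun c => (IsLocalization.lift_eq (M := q.primeCompl) hu c).symm
  have : Module.Flat C TM := Module.Flat.trans C T TM
  have : Module.Flat B TM := (Module.flat_iff_of_isLocalization B q.primeCompl TM).2 inferInstance
  have : IsLocalHom (algebraMap B TM) := by
    refine ⟨fun b hb => ?_⟩
    obtain ⟨c, s, rfl⟩ := IsLocalization.exists_mk'_eq q.primeCompl b
    have h1 : IsUnit (algebraMap T TM (algebraMap C T c)) := by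
      rw [← IsScalarTower.algebraMap_apply, IsScalarTower.algebraMap_apply C B TM,
        ← IsLocalization.mk'_spec B c s, map_mul]
      exact hb.mul ((IsLocalization.map_units B s).map _)
    rw [IsLocalization.AtPrime.isUnit_to_map_iff TM M] at h1
    rw [IsLocalization.AtPrime.isUnit_mk'_iff B q]
    exact fun h => h1 (hMq.ge h)
  refine descend_cpl B TM K hTMcompl ?_
  -- regularity over `C`
  let _ : Algebra C K := ((algebraMap B K).comp (algebraMap C B)).toAlgebra
  have : IsScalarTower C B K := IsScalarTower.of_algebraMap_eq fun _ => rfl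
  have : IsScalarTower L C K := IsScalarTower.of_algebraMap_eq fun l => by
    show _ = algebraMap B K (algebraMap C B (algebraMap L C l))
    rw [← IsScalarTower.algebraMap_apply L C B, ← IsScalarTower.algebraMap_apply L B K]
  have h1 : IsRegularRing (T ⊗[C] K) := IsRegularRing.of_ringEquiv <|
    (Algebra.TensorProduct.cancelBaseChange L C K K (EGA4.Cpl L)).symm.toRingEquiv.trans
      (Algebra.TensorProduct.comm C K T).toRingEquiv
  have h3 : IsRegularRing (K ⊗[C] TM) := regular_loc C T TM K M.primeCompl h1
  have := IsLocalization.tensorProduct_compatibleSMul q.primeCompl B K TM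
  exact IsRegularRing.of_ringEquiv
    (Algebra.TensorProduct.equivOfCompatibleSMul C B C K TM).symm.toRingEquiv

theorem quasiFinite (R R' : Type u) [CommRing R] [CommRing R'] [IsNoetherianRing R] [IsNoetherianRing R']
    [Algebra R R'] [Algebra.FiniteType R R'] (p' : Ideal R') [p'.IsPrime] [Algebra.QuasiFiniteAt R p']
    (p : Ideal R) [p.IsPrime] [p'.LiesOver p]
    (Q' : Ideal (Localization.AtPrime p')) [Q'.IsPrime] (Q : Ideal (Localization.AtPrime p)) [Q.IsPrime]
    (hQ : Q.comap (algebraMap R (Localization.AtPrime p)) = Q'.comap (algebraMap R (Localization.AtPrime p')))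
    (h : CAlg.IsGeometricallyRegular Q.ResidueField (EGA4.formalFibre (Localization.AtPrime p) Q)) :
    CAlg.IsGeometricallyRegular Q'.ResidueField (EGA4.formalFibre (Localization.AtPrime p') Q') := by
  let L := Localization.AtPrime p
  let B := Localization.AtPrime p'
  have : IsNoetherianRing L := IsLocalization.isNoetherianRing p.primeCompl _ inferInstance
  have : IsNoetherianRing B := IsLocalization.isNoetherianRing p'.primeCompl _ inferInstance
  let _ := Localization.AtPrime.algebraOfLiesOver p p'
  have : Algebra.EssFiniteType R B := Algebra.EssFiniteType.comp R R' B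
  have : Algebra.EssFiniteType L B := Algebra.EssFiniteType.of_comp R L B
  have hqf : Algebra.QuasiFinite L B := Algebra.QuasiFinite.of_restrictScalars R L B
  let m := maximalIdeal L
  have hlh : IsLocalHom (algebraMap L B) := Localization.isLocalHom_localRingHom p p' (algebraMap R R') (p'.over_def p)
  have h0 : (maximalIdeal B).comap (algebraMap L B) = m :=
    ((IsLocalRing.local_hom_TFAE (algebraMap L B)).out 0 4).mp hlh
  have : (maximalIdeal B).LiesOver m := ⟨h0.symm⟩
  have hfib : Module.Finite (L ⧸ m) (B ⧸ m.map (algebraMap L B)) := by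
    have : Algebra.QuasiFinite (L ⧸ m) (B ⧸ m.map (algebraMap L B)) :=
      Algebra.QuasiFinite.of_restrictScalars L (L ⧸ m) _
    have : IsArtinianRing (L ⧸ m) := by
      let := Ideal.Quotient.field m
      infer_instance
    exact Module.Finite.of_quasiFinite
  have : Module.Finite L (B ⧸ m.map (algebraMap L B)) := Module.Finite.trans (L ⧸ m) _
  have hle : m.map (algebraMap L B) ≤ maximalIdeal B := Ideal.map_le_iff_le_comap.2 h0.ge
  have hres : Module.Finite (ResidueField L) (ResidueField B) := by
    have : Module.Finite L (ResidueField B) :=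
      Module.Finite.of_surjective (Ideal.Quotient.factorₐ L hle).toLinearMap (Ideal.Quotient.factor_surjective hle)
    exact Module.Finite.of_restrictScalars_finite L _ _
  have hdim : ringKrullDim (B ⧸ m.map (algebraMap L B)) = 0 := by
    have : IsArtinianRing (B ⧸ m.map (algebraMap L B)) := by
      let := Ideal.Quotient.field m
      exact IsArtinianRing.of_finite (L ⧸ m) _
    have : Nontrivial (B ⧸ m.map (algebraMap L B)) := Ideal.Quotient.nontrivial_iff.2
      (ne_top_of_le_ne_top (maximalIdeal.isMaximal B).ne_top hle)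
    exact le_antisymm (Ring.krullDimLE_iff.1 (inferInstanceAs (Ring.KrullDimLE 0 _))) ringKrullDim_nonneg_of_nontrivial
  obtain ⟨C, _, _, _, _, q, _, hCfin, hCloc⟩ := LocalQF.exists_finite_localization L B hres hdim
  have hq : q.IsMaximal := by
    refine Ideal.isMaximal_of_isIntegral_of_isMaximal_comap (R := L) q ?_
    have h1 : q = (maximalIdeal B).comap (algebraMap C B) := (IsLocalization.AtPrime.under_maximalIdeal B q).symm
    rw [h1, Ideal.comap_comap, ← IsScalarTower.algebraMap_eq, h0]
    infer_instance
  -- the prime `Q` is below `Q'`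
  have hQQ : Q = Q'.comap (algebraMap L B) := by
    rw [← IsLocalization.map_under p.primeCompl L Q, ← IsLocalization.map_under p.primeCompl L (Q'.comap (algebraMap L B))]
    congr 1
    simp only [Ideal.under_def, Ideal.comap_comap]
    exact hQ.trans (by rw [← IsScalarTower.algebraMap_eq R L B])
  have : Q'.LiesOver Q := ⟨hQQ⟩
  let _ := Localization.AtPrime.algebraOfLiesOver Q Q'
  intro K _ _ hK
  let _ : Algebra Q.ResidueField K :=
    ((algebraMap Q'.ResidueField K).comp (algebraMap Q.ResidueField Q'.ResidueField)).toAlgebra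
  have : IsScalarTower Q.ResidueField Q'.ResidueField K := IsScalarTower.of_algebraMap_eq fun _ => rfl
  have : Module.Finite Q.ResidueField K := Module.Finite.trans Q'.ResidueField K
  have hreg := h K this
  let _ : Algebra B K := ((algebraMap Q'.ResidueField K).comp (algebraMap B Q'.ResidueField)).toAlgebra
  let _ : Algebra L K := ((algebraMap B K).comp (algebraMap L B)).toAlgebra
  have : IsScalarTower L B K := IsScalarTower.of_algebraMap_eq fun _ => rfl
  have : IsScalarTower B Q'.ResidueField K := IsScalarTower.of_algebraMap_eq fun _ => rfl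
  have : IsScalarTower L Q.ResidueField K := IsScalarTower.of_algebraMap_eq fun l => by
    show algebraMap Q'.ResidueField K (algebraMap B Q'.ResidueField (algebraMap L B l)) =
      algebraMap Q'.ResidueField K (algebraMap Q.ResidueField Q'.ResidueField (algebraMap L Q.ResidueField l))
    rw [← IsScalarTower.algebraMap_apply L B Q'.ResidueField, ← IsScalarTower.algebraMap_apply L Q.ResidueField Q'.ResidueField]
  have hKL : IsRegularRing (K ⊗[L] EGA4.Cpl L) := IsRegularRing.of_ringEquiv
    (Algebra.TensorProduct.cancelBaseChange L Q.ResidueField Q.ResidueField K (EGA4.Cpl L)).toRingEquiv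
  have := core L C q B K hKL
  exact IsRegularRing.of_ringEquiv
    (Algebra.TensorProduct.cancelBaseChange B Q'.ResidueField Q'.ResidueField K (EGA4.Cpl B)).symm.toRingEquiv

end Groth.Agent.CAlg4.QFFormalFibre
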