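import Groth.Agent.CAlg4.CMFlat
import Groth.Agent.CAlg1.Miracle
import Groth.Agent.CAlgH2.LocalDimField
import Mathlib

/-! Flatness over a polynomial ring of a quasi-finite algebra: dimension and depth criterion. -/

universe u
open IsLocalRing

namespace Groth.Agent.CAlg4.QFMiracle

variable (k S : Type u) [Field k] [CommRing S] [Algebra k S] [Algebra.FiniteType k S] (d : ℕ)
  [Algebra (MvPolynomial (Fin d) k) S] [IsScalarTower k (MvPolynomial (Fin d) k) S]
  [Algebra.QuasiFinite (MvPolynomial (Fin d) k) S]

theorem main (q : Ideal S) [q.IsPrime] :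
    Module.Flat (MvPolynomial (Fin d) k) (Localization.AtPrime q) ↔
      (LocCoh.IsCohenMacaulayLocalRing (Localization.AtPrime q) ∧
        FlatMor.localDim (PrimeSpectrum S) ⟨q, inferInstance⟩ = (d : WithBot ℕ∞)) := by
  let A := MvPolynomial (Fin d) k
  let p := q.under A
  have : q.LiesOver p := ⟨rfl⟩
  let : Algebra (Localization.AtPrime p) (Localization.AtPrime q) := Localization.AtPrime.algebraOfLiesOver p q
  let Ap := Localization.AtPrime p
  let Sq := Localization.AtPrime q
  have := Algebra.FiniteType.isNoetherianRing k S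
  have : IsNoetherianRing Sq := IsLocalization.isNoetherianRing q.primeCompl _ inferInstance
  have hcmA : LocCoh.IsCohenMacaulayLocalRing Ap := CAlg1.cm_of_isRegularLocalRing Ap
  have hdim0 : ringKrullDim (Sq ⧸ (maximalIdeal Ap).map (algebraMap Ap Sq)) = 0 := by
    have hle : (maximalIdeal Ap).map (algebraMap Ap Sq) ≤ maximalIdeal Sq := map_maximalIdeal_le _
    have : Nontrivial (Sq ⧸ (maximalIdeal Ap).map (algebraMap Ap Sq)) :=
      Ideal.Quotient.nontrivial_iff.mpr fun h => (maximalIdeal.isMaximal Sq).ne_top (top_le_iff.mp (h ▸ hle))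
    have : Ring.KrullDimLE 0 (Sq ⧸ (maximalIdeal Ap).map (algebraMap Ap Sq)) := by
      refine Ring.krullDimLE_zero_iff.2 fun P hP => ?_
      let π := Ideal.Quotient.mk ((maximalIdeal Ap).map (algebraMap Ap Sq))
      have h1 : P.comap π ≤ maximalIdeal Sq := le_maximalIdeal (Ideal.IsPrime.comap π (hK := hP)).ne_top
      have h2 : (P.comap π).under S = q := by
        refine Algebra.QuasiFinite.eq_of_le_of_under_eq (R := A) _ _ ?_ ?_
        · exact (Ideal.comap_mono h1).trans (IsLocalization.AtPrime.under_maximalIdeal Sq q).le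
        · refine le_antisymm ?_ ?_
          · exact Ideal.comap_mono ((Ideal.comap_mono h1).trans (IsLocalization.AtPrime.under_maximalIdeal Sq q).le)
          · intro x hx
            show π (algebraMap S Sq (algebraMap A S x)) ∈ P
            rw [← IsScalarTower.algebraMap_apply A S Sq, IsScalarTower.algebraMap_apply A Ap Sq,
              Ideal.Quotient.eq_zero_iff_mem.2 (Ideal.mem_map_of_mem _
                ((IsLocalization.AtPrime.to_map_mem_maximal_iff Ap p x).2 hx))]
            exact zero_mem _
      have h3 : P.comap π = maximalIdeal Sq := by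
        refine le_antisymm h1 ?_
        rw [← IsLocalization.map_under q.primeCompl Sq (maximalIdeal Sq), Ideal.map_le_iff_le_comap]
        show (maximalIdeal Sq).comap (algebraMap S Sq) ≤ _
        exact (IsLocalization.AtPrime.under_maximalIdeal Sq q).le.trans h2.ge
      refine ⟨⟨hP.ne_top, fun J hJ => ?_⟩⟩
      by_contra hJt
      refine hJ.ne (le_antisymm hJ.le ?_)
      have h4 : J.comap π ≤ P.comap π := h3 ▸ le_maximalIdeal fun h =>
        hJt ((Ideal.comap_eq_top_iff).1 h)
      rw [← Ideal.map_comap_of_surjective π Ideal.Quotient.mk_surjective J, Ideal.map_le_iff_le_comap]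
      exact h4
    exact ringKrullDimZero_iff_ringKrullDim_eq_zero.mp this
  have htr : CAlgH2.trdegQuot k q = CAlgH2.trdegQuot k p := by
    have : IsScalarTower k p.ResidueField q.ResidueField := IsScalarTower.of_algebraMap_eq fun x => by
      rw [IsScalarTower.algebraMap_apply k A p.ResidueField, ← IsScalarTower.algebraMap_apply A p.ResidueField q.ResidueField,
        ← IsScalarTower.algebraMap_apply k A q.ResidueField]
    have : Algebra.IsAlgebraic p.ResidueField q.ResidueField := inferInstance
    rw [CAlgH2.trdegQuot, CAlgH2.trdegQuot, ← CAlgH2.trdeg_residueField k q, ← CAlgH2.trdeg_residueField k p,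
      ← trdeg_add_eq k p.ResidueField (A := q.ResidueField), trdeg_eq_zero (R := p.ResidueField), add_zero]
  have hA : p.height + CAlgH2.trdegQuot k p = (d : ℕ∞) := by
    rw [CAlgH2.height_add_trdegQuot_eq_dimAt k p]
    obtain ⟨Q, hQ, -, he⟩ := CAlgH2.exists_dimAt_eq k p
    rw [IsDomain.minimalPrimes_eq_singleton_bot, Set.mem_singleton_iff] at hQ
    rw [he, hQ, CAlgH2.trdegQuot,
      (AlgEquiv.quotientBot k A).trdeg_eq, MvPolynomial.trdeg_of_isDomain, Cardinal.mk_fin, Cardinal.lift_natCast,
      Cardinal.toNat_natCast]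
  have hS := CAlgH2.height_add_trdegQuot_eq_dimAt k q
  rw [htr] at hS
  have hld : FlatMor.localDim (PrimeSpectrum S) ⟨q, inferInstance⟩ = (d : WithBot ℕ∞) ↔
      ringKrullDim Sq = ringKrullDim Ap := by
    rw [CAlgH2.localDim_eq_dimAt k q, IsLocalization.AtPrime.ringKrullDim_eq_height q Sq,
      IsLocalization.AtPrime.ringKrullDim_eq_height p Ap, WithBot.coe_inj]
    rw [show ((d : WithBot ℕ∞)) = (((d : ℕ∞)) : WithBot ℕ∞) from rfl, WithBot.coe_inj, ← hS, ← hA]
    exact ⟨fun h => WithTop.add_right_cancel (ENat.natCast_ne_top _) h, fun h => by rw [h]⟩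
  rw [← Module.flat_iff_of_isLocalization Ap p.primeCompl, hld]
  constructor
  · intro h
    refine ⟨(CMFlat.cm_iff (A := Ap) (B := Sq) hdim0).1 hcmA, ?_⟩
    rw [CMFlat.dim_eq_add (A := Ap) (B := Sq), hdim0, add_zero]
  · rintro ⟨hB, hd⟩
    exact CAlg1.miracle_flatness _ Ap Sq rfl (by rw [hdim0, add_zero, hd])

end Groth.Agent.CAlg4.QFMiracle
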