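import Groth.Agent.Fib62.RegularFlat
import Groth.Agent.PPH.QRLocal
import Groth.Agent.QReg14.BaseChange
import Groth.Agent.EGA4Alg4.QuasiReg
import Mathlib

/-! Flatness of quotients by sequences that are quasi-regular modulo a locally nilpotent ideal. -/

universe u
open TensorProduct RingTheory.Sequence

namespace Groth.Agent.CAlg4.QRFlat

theorem isQuasiRegular_equiv {R R' : Type u} [CommRing R] [CommRing R'] (e : R ≃+* R') {c : ℕ} {f : Fin c → R}
    (h : CAlgX.IsQuasiRegular f) : CAlgX.IsQuasiRegular fun i => e (f i) := by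
  let := e.toRingHom.toAlgebra
  have : IsLocalization (⊥ : Submonoid R) R' := by
    refine ⟨fun y => ?_, fun z => ⟨(e.symm z, 1), ?_⟩, fun {x y} hxy => ⟨1, by rw [e.injective hxy]⟩⟩
    · rw [Submonoid.mem_bot.1 y.2, map_one]; exact isUnit_one
    · show z * e 1 = e (e.symm z)
      rw [map_one, mul_one, RingEquiv.apply_symm_apply]
  exact PPH.QR.isQuasiRegular_of_qrs (⊥ : Submonoid R) R'
    fun n F hF he d => ⟨1, one_mem _, by rw [one_mul]; exact h n F hF he d⟩

variable {A' B' : Type u} [CommRing A'] [CommRing B'] [Algebra A' B'] (I : Ideal A')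

/-- Base change through the reduction modulo `I`. -/
theorem exists_fibre_equiv [Algebra (A' ⧸ I) (B' ⧸ I.map (algebraMap A' B'))]
    [IsScalarTower A' (A' ⧸ I) (B' ⧸ I.map (algebraMap A' B'))]
    (K : Type u) [CommRing K] [Algebra A' K] [Algebra (A' ⧸ I) K] [IsScalarTower A' (A' ⧸ I) K] :
    ∃ φ : (K ⊗[A' ⧸ I] (B' ⧸ I.map (algebraMap A' B'))) ≃+* (K ⊗[A'] B'),
      ∀ b : B', φ (1 ⊗ₜ Ideal.Quotient.mk _ b) = 1 ⊗ₜ b := by
  let J := I.map (algebraMap A' B')
  let g1 : K ⊗[A'] B' →ₐ[K] K ⊗[A' ⧸ I] (B' ⧸ J) := Algebra.TensorProduct.lift (Algebra.ofId _ _)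
    (((Algebra.TensorProduct.includeRight (R := A' ⧸ I) (A := K)).restrictScalars A').comp (Ideal.Quotient.mkₐ A' J))
    fun _ _ => .all _ _
  have hker : J ≤ RingHom.ker (Algebra.TensorProduct.includeRight (R := A') (A := K) (B := B')).toRingHom := by
    refine Ideal.map_le_iff_le_comap.2 fun a ha => ?_
    rw [Ideal.mem_comap, RingHom.mem_ker, AlgHom.toRingHom_eq_coe, RingHom.coe_coe, AlgHom.commutes,
      IsScalarTower.algebraMap_apply A' K (K ⊗[A'] B'), IsScalarTower.algebraMap_apply A' (A' ⧸ I) K]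
    simp [Ideal.Quotient.eq_zero_iff_mem.2 ha]
  let h : (B' ⧸ J) →ₐ[A' ⧸ I] K ⊗[A'] B' :=
    { Ideal.Quotient.lift J (Algebra.TensorProduct.includeRight (R := A') (A := K) (B := B')).toRingHom
        (fun x hx => hker hx) with
      commutes' := fun a => by
        obtain ⟨a, rfl⟩ := Ideal.Quotient.mk_surjective a
        show Ideal.Quotient.lift J _ _ (algebraMap (A' ⧸ I) (B' ⧸ J) (algebraMap A' (A' ⧸ I) a)) =
          algebraMap (A' ⧸ I) (K ⊗[A'] B') (algebraMap A' (A' ⧸ I) a)
        rw [← IsScalarTower.algebraMap_apply, ← IsScalarTower.algebraMap_apply,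
          IsScalarTower.algebraMap_apply A' B' (B' ⧸ J), Ideal.Quotient.algebraMap_eq, Ideal.Quotient.lift_mk]
        exact (Algebra.TensorProduct.includeRight (R := A') (A := K) (B := B')).commutes a }
  let g2 : K ⊗[A' ⧸ I] (B' ⧸ J) →ₐ[K] K ⊗[A'] B' :=
    Algebra.TensorProduct.lift (Algebra.ofId _ _) h fun _ _ => .all _ _
  have hh : ∀ b : B', h (Ideal.Quotient.mk J b) = 1 ⊗ₜ b := fun b => rfl
  have h21 : g2.comp g1 = AlgHom.id K _ := by
    refine Algebra.TensorProduct.ext (by ext) (AlgHom.ext fun b => ?_)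
    simp [g1, g2, hh]
  have h12 : g1.comp g2 = AlgHom.id K _ := by
    refine Algebra.TensorProduct.ext (by ext) (AlgHom.ext fun b => ?_)
    obtain ⟨b, rfl⟩ := Ideal.Quotient.mk_surjective b
    simp [g1, g2, hh]
  refine ⟨(AlgEquiv.ofAlgHom g2 g1 h21 h12).toRingEquiv, fun b => ?_⟩
  show g2 (1 ⊗ₜ[A' ⧸ I] Ideal.Quotient.mk J b) = 1 ⊗ₜ[A'] b
  rw [Algebra.TensorProduct.lift_tmul, map_one, one_mul, hh]

theorem flat_quotient [Module.Flat A' B'] [Algebra.FinitePresentation A' B'] (hI : ∀ x ∈ I, IsNilpotent x)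
    [Algebra (A' ⧸ I) (B' ⧸ I.map (algebraMap A' B'))]
    [IsScalarTower A' (A' ⧸ I) (B' ⧸ I.map (algebraMap A' B'))]
    (r : ℕ) (f' : Fin r → B')
    (hq : CAlgX.IsQuasiRegular fun i => Ideal.Quotient.mk (I.map (algebraMap A' B')) (f' i))
    (hflat : Module.Flat (A' ⧸ I) ((B' ⧸ I.map (algebraMap A' B')) ⧸
        Ideal.span (Set.range fun i => Ideal.Quotient.mk (I.map (algebraMap A' B')) (f' i)))) :
    Module.Flat A' (B' ⧸ Ideal.span (Set.range f')) := by
  refine Module.flat_of_isLocalized_maximal (R := A') B' (B' ⧸ Ideal.span (Set.range f'))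
    (fun P _ => LocalizedModule P.primeCompl (B' ⧸ Ideal.span (Set.range f')))
    (fun P _ => LocalizedModule.mkLinearMap P.primeCompl (B' ⧸ Ideal.span (Set.range f'))) fun m hm => ?_
  let gs := List.ofFn f'
  have hgs : Ideal.ofList gs = Ideal.span (Set.range f') := by
    simp [gs, Ideal.ofList, List.mem_ofFn', Set.range, eq_comm]
  by_cases hle : Ideal.span (Set.range f') ≤ m
  swap
  · obtain ⟨x, hx, hxm⟩ := SetLike.not_le_iff_exists.1 hle
    have : Subsingleton (LocalizedModule m.primeCompl (B' ⧸ Ideal.span (Set.range f'))) := by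
      rw [LocalizedModule.subsingleton_iff]
      intro y
      obtain ⟨y, rfl⟩ := Ideal.Quotient.mk_surjective y
      exact ⟨x, hxm, Ideal.Quotient.eq_zero_iff_mem.2 (Ideal.mul_mem_right y _ hx)⟩
    infer_instance
  let P : PrimeSpectrum B' := ⟨m, inferInstance⟩
  let p := P.asIdeal.under A'
  let K := p.ResidueField
  have hIp : I ≤ p := fun x hx => by
    obtain ⟨n, hn⟩ := hI x hx
    exact (inferInstance : p.IsPrime).mem_of_pow_mem n (hn.symm ▸ p.zero_mem)
  let := (Ideal.Quotient.lift I (algebraMap A' K)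
    (fun x hx => Ideal.algebraMap_residueField_eq_zero.2 (hIp hx))).toAlgebra
  have : IsScalarTower A' (A' ⧸ I) K := IsScalarTower.of_algebraMap_eq fun x => rfl
  obtain ⟨φ, hφ⟩ := exists_fibre_equiv (B' := B') I K
  have h1 : CAlgX.IsQuasiRegular fun i => ((1 : K) ⊗ₜ[A'] f' i : p.Fiber B') := by
    have h := isQuasiRegular_equiv φ (QReg14.isQuasiRegular_baseChange K _ hq)
    simpa only [hφ] using h
  have : IsNoetherianRing (p.Fiber B') := Algebra.FiniteType.isNoetherianRing K _
  let Q := Fib62.fibrePoint (A := A') P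
  let L := Fib62.FibreLocal A' P
  have h2 : CAlgX.IsQuasiRegular fun i => algebraMap (p.Fiber B') L ((1 : K) ⊗ₜ[A'] f' i) :=
    PPH.QR.isQuasiRegular_of_qrs Q.asIdeal.primeCompl L
      fun n F hF he d => ⟨1, one_mem _, by rw [one_mul]; exact h1 n F hF he d⟩
  let := Algebra.TensorProduct.rightAlgebra (R := A') (A := K) (B := B')
  have hmem : ∀ i, algebraMap B' L (f' i) ∈ Ring.jacobson L := fun i => by
    rw [Ring.jacobson_eq_sInf_isMaximal]
    refine Submodule.mem_sInf.2 fun M hM => ?_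
    rw [IsLocalRing.eq_maximalIdeal hM]
    rw [IsScalarTower.algebraMap_apply B' (p.Fiber B') L,
      IsLocalization.AtPrime.to_map_mem_maximal_iff L Q.asIdeal]
    have : f' i ∈ Q.asIdeal.comap (algebraMap B' (p.Fiber B')) := by
      rw [Fib62.comap_fibrePoint]
      exact hle (Ideal.subset_span ⟨i, rfl⟩)
    exact this
  have : IsNoetherianRing L := IsLocalization.isNoetherianRing Q.asIdeal.primeCompl L inferInstance
  have h3 : IsWeaklyRegular L (List.ofFn fun i => algebraMap B' L (f' i)) := by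
    refine EGA4Alg4.isWeaklyRegular_of_isQuasiRegular r L _ hmem ?_
    convert h2 using 2
    exact IsScalarTower.algebraMap_apply B' (p.Fiber B') L _
  have h4 : IsWeaklyRegular L gs := by
    rwa [← isWeaklyRegular_map_algebraMap_iff (S := L), List.map_ofFn]
  have h5 : IsWeaklyRegular (L ⊗[B'] B') gs :=
    (LinearEquiv.isWeaklyRegular_congr (R := B') (TensorProduct.rid B' L) gs).mpr h4
  have hM : Module.Flat A' (Localization.AtPrime P.asIdeal ⊗[B'] B') := by
    have : Module.Flat A' (Localization.AtPrime P.asIdeal) := Module.Flat.trans A' B' _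
    exact Module.Flat.of_linearEquiv ((TensorProduct.rid B' (Localization.AtPrime P.asIdeal)).restrictScalars A')
  obtain ⟨-, h6⟩ := Fib62.weaklyRegular_and_flat P gs B' hM h5
  have h7 := h6 gs.length le_rfl
  rw [List.take_length] at h7
  let e : (B' ⧸ Ideal.span (Set.range f')) ≃ₗ[B'] (B' ⧸ (Ideal.ofList gs • (⊤ : Submodule B' B'))) :=
    Submodule.quotEquivOfEq _ _ (by rw [smul_eq_mul, Ideal.mul_top, hgs])
  exact Module.Flat.of_linearEquiv (((LocalizedModule.equivTensorProduct m.primeCompl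
    (B' ⧸ Ideal.span (Set.range f'))).restrictScalars A').trans
    ((AlgebraTensorModule.congr (LinearEquiv.refl (Localization.AtPrime m) (Localization.AtPrime m)) e).restrictScalars A'))

end Groth.Agent.CAlg4.QRFlat
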