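import Groth.Agent.CAlg4.QRFlat
import Mathlib

/-! Smoothness of quotients by sequences that are quasi-regular modulo a locally nilpotent ideal. -/

universe u
open TensorProduct

namespace Groth.Agent.CAlg4.QRSmooth

variable {A' S : Type u} [CommRing A'] [CommRing S] [Algebra A' S] (I : Ideal A')
  {C : Type u} [CommRing C] [Algebra A' C] [Algebra (A' ⧸ I) C] [IsScalarTower A' (A' ⧸ I) C]
  (β : S →ₐ[A'] C) (hβ : Function.Surjective β) (hker : RingHom.ker β ≤ I.map (algebraMap A' S))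
  (K : Type u) [CommRing K] [Algebra A' K] [Algebra (A' ⧸ I) K] [IsScalarTower A' (A' ⧸ I) K]

include hβ hker in
theorem exists_fibre_equiv : Nonempty ((K ⊗[A' ⧸ I] C) ≃ₐ[K] K ⊗[A'] S) := by
  let g1 : K ⊗[A'] S →ₐ[K] K ⊗[A' ⧸ I] C := Algebra.TensorProduct.lift (Algebra.ofId _ _)
    (((Algebra.TensorProduct.includeRight (R := A' ⧸ I) (A := K)).restrictScalars A').comp β)
    fun _ _ => .all _ _
  have hle : RingHom.ker β.toRingHom ≤ RingHom.ker (Algebra.TensorProduct.includeRight (R := A') (A := K) (B := S)).toRingHom := by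
    refine hker.trans (Ideal.map_le_iff_le_comap.2 fun a ha => ?_)
    rw [Ideal.mem_comap, RingHom.mem_ker, AlgHom.toRingHom_eq_coe, RingHom.coe_coe, AlgHom.commutes,
      IsScalarTower.algebraMap_apply A' K (K ⊗[A'] S), IsScalarTower.algebraMap_apply A' (A' ⧸ I) K]
    simp [Ideal.Quotient.eq_zero_iff_mem.2 ha]
  let h₀ : C →ₐ[A'] K ⊗[A'] S := AlgHom.liftOfSurjective β hβ Algebra.TensorProduct.includeRight hle
  let h : C →ₐ[A' ⧸ I] K ⊗[A'] S :=
    { h₀.toRingHom with
      commutes' := fun a => by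
        obtain ⟨a, rfl⟩ := Ideal.Quotient.mk_surjective a
        show h₀ (algebraMap (A' ⧸ I) C (algebraMap A' (A' ⧸ I) a)) =
          algebraMap (A' ⧸ I) (K ⊗[A'] S) (algebraMap A' (A' ⧸ I) a)
        rw [← IsScalarTower.algebraMap_apply, ← IsScalarTower.algebraMap_apply, AlgHom.commutes] }
  have hh : ∀ s : S, h (β s) = 1 ⊗ₜ s := fun s => AlgHom.liftOfSurjective_apply β hβ _ hle s
  let g2 : K ⊗[A' ⧸ I] C →ₐ[K] K ⊗[A'] S :=
    Algebra.TensorProduct.lift (Algebra.ofId _ _) h fun _ _ => .all _ _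
  have h21 : g2.comp g1 = AlgHom.id K _ := by
    refine Algebra.TensorProduct.ext (by ext) (AlgHom.ext fun b => ?_)
    simp [g1, g2, hh]
  have h12 : g1.comp g2 = AlgHom.id K _ := by
    refine Algebra.TensorProduct.ext (by ext) (AlgHom.ext fun c => ?_)
    obtain ⟨s, rfl⟩ := hβ c
    simp [g1, g2, hh]
  exact ⟨AlgEquiv.ofAlgHom g2 g1 h21 h12⟩

theorem smooth_quotient {A' B' : Type u} [CommRing A'] [CommRing B'] [Algebra A' B'] [Module.Flat A' B']
    [Algebra.FinitePresentation A' B'] (I : Ideal A') (hI : ∀ x ∈ I, IsNilpotent x)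
    [Algebra (A' ⧸ I) (B' ⧸ I.map (algebraMap A' B'))]
    [IsScalarTower A' (A' ⧸ I) (B' ⧸ I.map (algebraMap A' B'))]
    (r : ℕ) (f' : Fin r → B')
    (hq : CAlgX.IsQuasiRegular fun i => Ideal.Quotient.mk (I.map (algebraMap A' B')) (f' i))
    (hsm : Algebra.Smooth (A' ⧸ I) ((B' ⧸ I.map (algebraMap A' B')) ⧸
        Ideal.span (Set.range fun i => Ideal.Quotient.mk (I.map (algebraMap A' B')) (f' i)))) :
    Algebra.Smooth A' (B' ⧸ Ideal.span (Set.range f')) := by
  let J := I.map (algebraMap A' B')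
  let F := Ideal.span (Set.range fun i => Ideal.Quotient.mk J (f' i))
  have hflat' : Module.Flat A' (B' ⧸ Ideal.span (Set.range f')) :=
    QRFlat.flat_quotient I hI r f' hq inferInstance
  have hfp : Algebra.FinitePresentation A' (B' ⧸ Ideal.span (Set.range f')) :=
    Algebra.FinitePresentation.quotient (Submodule.fg_span (Set.finite_range f'))
  have hF : F = (Ideal.span (Set.range f')).map (Ideal.Quotient.mk J) := by
    rw [Ideal.map_span, ← Set.range_comp]; rfl
  let β : (B' ⧸ Ideal.span (Set.range f')) →ₐ[A'] ((B' ⧸ J) ⧸ F) :=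
    Ideal.Quotient.liftₐ _ ((Ideal.Quotient.mkₐ A' F).comp (Ideal.Quotient.mkₐ A' J)) fun x hx =>
      Ideal.Quotient.eq_zero_iff_mem.2 (hF ▸ Ideal.mem_map_of_mem _ hx)
  have hβ : Function.Surjective β := fun c => by
    obtain ⟨c, rfl⟩ := Ideal.Quotient.mk_surjective c
    obtain ⟨c, rfl⟩ := Ideal.Quotient.mk_surjective c
    exact ⟨Ideal.Quotient.mk _ c, rfl⟩
  have hker : RingHom.ker β ≤ I.map (algebraMap A' (B' ⧸ Ideal.span (Set.range f'))) := by
    intro y hy
    obtain ⟨x, rfl⟩ := Ideal.Quotient.mk_surjective y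
    have h1 : Ideal.Quotient.mk J x ∈ F := Ideal.Quotient.eq_zero_iff_mem.1 hy
    rw [hF] at h1
    have h2 : x ∈ ((Ideal.span (Set.range f')).map (Ideal.Quotient.mk J)).comap (Ideal.Quotient.mk J) := h1
    rw [Ideal.comap_map_of_surjective _ Ideal.Quotient.mk_surjective, ← RingHom.ker_eq_comap_bot, Ideal.mk_ker] at h2
    obtain ⟨a, ha, b, hb, rfl⟩ := Submodule.mem_sup.1 h2
    rw [map_add, Ideal.Quotient.eq_zero_iff_mem.2 ha, zero_add,
      IsScalarTower.algebraMap_eq A' B' (B' ⧸ Ideal.span (Set.range f')), ← Ideal.map_map]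
    exact Ideal.mem_map_of_mem _ hb
  refine Algebra.Smooth.of_formallySmooth_fiber fun p _ => ?_
  have hIp : I ≤ p := fun x hx => by
    obtain ⟨n, hn⟩ := hI x hx
    exact (inferInstance : p.IsPrime).mem_of_pow_mem n (hn.symm ▸ p.zero_mem)
  let := (Ideal.Quotient.lift I (algebraMap A' p.ResidueField)
    (fun x hx => Ideal.algebraMap_residueField_eq_zero.2 (hIp hx))).toAlgebra
  have : IsScalarTower A' (A' ⧸ I) p.ResidueField := IsScalarTower.of_algebraMap_eq fun x => rfl
  obtain ⟨φ⟩ := exists_fibre_equiv I β hβ hker p.ResidueField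
  exact Algebra.FormallySmooth.of_equiv φ

end Groth.Agent.CAlg4.QRSmooth
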