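import Mathlib.Algebra.Module.FinitePresentation
import Mathlib.RingTheory.Bezout
import Mathlib.RingTheory.Localization.AtPrime.Basic
import Mathlib.RingTheory.Localization.Module
import Mathlib.LinearAlgebra.Pi
import Mathlib.Algebra.Module.Torsion.Basic
import Mathlib.LinearAlgebra.LinearIndependent.Basic

set_option autoImplicit false

namespace Groth.Agent.CAlg4.RDLifting

universe u

/-- the lifting condition on a surjection -/
def IsRD {R : Type u} [CommRing R] {B C : Type u} [AddCommGroup B] [Module R B] [AddCommGroup C]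
    [Module R C] (π : B →ₗ[R] C) : Prop :=
  ∀ (f : R) (b : B), π (f • b) = 0 → ∃ a : B, π a = 0 ∧ f • a = f • b

variable {R : Type u} [CommRing R]

lemma exists_lift_cyclic {B C : Type u} [AddCommGroup B] [Module R B] [AddCommGroup C] [Module R C]
    (π : B →ₗ[R] C) (hπ : Function.Surjective π) (h : IsRD π) (a : R) (c : C) (hc : a • c = 0) :
    ∃ b : B, π b = c ∧ a • b = 0 := by
  obtain ⟨b, rfl⟩ := hπ c
  obtain ⟨a', ha', he⟩ := h a b (by rw [map_smul, hc])
  exact ⟨b - a', by rw [map_sub, ha', sub_zero], by rw [smul_sub, he, sub_self]⟩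

lemma exists_dvd_all {ι : Type u} (s : Finset ι) (hs : s.Nonempty) (x : ι → R)
    (hR : ∀ a b : R, a ∣ b ∨ b ∣ a) : ∃ i ∈ s, ∀ j ∈ s, x i ∣ x j := by
  classical
  induction hs using Finset.Nonempty.cons_induction with
  | singleton i => exact ⟨i, by simp, by simp⟩
  | cons i t hit _ ih =>
    obtain ⟨j, hj, hmin⟩ := ih
    rcases hR (x i) (x j) with h | h
    · refine ⟨i, by simp, fun l hl => ?_⟩
      rcases Finset.mem_cons.mp hl with rfl | hl
      exacts [dvd_rfl, h.trans (hmin l hl)]
    · refine ⟨j, Finset.mem_cons_of_mem hj, fun l hl => ?_⟩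
      rcases Finset.mem_cons.mp hl with rfl | hl
      exacts [h, hmin l hl]

lemma lift_pi (hR : ∀ a b : R, a ∣ b ∨ b ∣ a) {B C : Type u} [AddCommGroup B] [Module R B]
    [AddCommGroup C] [Module R C] (π : B →ₗ[R] C) (hπ : Function.Surjective π) (h : IsRD π) :
    ∀ (n : ℕ) (K : Submodule R (Fin n → R)), K.FG → ∀ ψ : (Fin n → R) →ₗ[R] C,
      K ≤ LinearMap.ker ψ → ∃ φ : (Fin n → R) →ₗ[R] B, π ∘ₗ φ = ψ ∧ K ≤ LinearMap.ker φ := by
  intro n
  induction n with
  | zero => exact fun K _ ψ _ => ⟨0, LinearMap.ext fun x => by rw [Subsingleton.elim x 0, map_zero, map_zero],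
      fun x _ => by simp⟩
  | succ n ih =>
    intro K hK ψ hψ
    classical
    obtain ⟨q, r, hr⟩ := Submodule.fg_iff_exists_fin_generating_family.mp hK
    rcases Nat.eq_zero_or_pos q with rfl | hq
    · have hK0 : K = ⊥ := by rw [← hr, Set.range_eq_empty, Submodule.span_empty]
      choose b hb using fun i => hπ (ψ (Pi.single i 1))
      exact ⟨Fintype.linearCombination R b, LinearMap.pi_ext' fun i => LinearMap.ext_ring (by
        simp [hb]), hK0 ▸ bot_le⟩
    have : Nonempty (Fin q) := ⟨⟨0, hq⟩⟩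
    obtain ⟨⟨⟨i⟩, ⟨j⟩⟩, -, hmin⟩ := exists_dvd_all
      (Finset.univ : Finset (ULift.{u} (Fin q) × ULift.{u} (Fin (n + 1))))
      ⟨⟨⟨⟨0, hq⟩⟩, ⟨0⟩⟩, Finset.mem_univ _⟩ (fun ij => r ij.1.down ij.2.down) hR
    set a := r i j with ha
    have hdiv : ∀ i' j', a ∣ r i' j' := fun i' j' => hmin (⟨i'⟩, ⟨j'⟩) (Finset.mem_univ _)
    have hdvd : ∀ x ∈ K, a ∣ x j := by
      intro x hx
      rw [← hr] at hx
      induction hx using Submodule.span_induction with
      | mem x hx => obtain ⟨i', rfl⟩ := hx; exact hdiv i' j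
      | zero => simp
      | add x y _ _ hx hy => exact dvd_add hx hy
      | smul c x _ hx => exact dvd_mul_of_dvd_right hx c
    choose e he using fun j' => hdiv i j'
    let e' : Fin (n + 1) → R := Function.update e j 1
    have hri : r i = a • e' := by
      ext j'
      rcases eq_or_ne j' j with rfl | hne
      · simp [e', ha]
      · simp [e', hne, he j']
    have hej : e' j = 1 := by simp [e']
    let ι : (Fin n → R) →ₗ[R] (Fin (n + 1) → R) :=
      LinearMap.pi (Fin.insertNth j (0 : (Fin n → R) →ₗ[R] R) fun l => LinearMap.proj l)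
    let ρ : (Fin (n + 1) → R) →ₗ[R] (Fin n → R) :=
      LinearMap.funLeft R R j.succAbove ∘ₗ
        (LinearMap.id - (LinearMap.proj j : (Fin (n + 1) → R) →ₗ[R] R).smulRight e')
    have hιρ : ∀ x, ι (ρ x) = x - x j • e' := by
      intro x
      ext l
      refine Fin.succAboveCases j ?_ (fun m => ?_) l
      · simp [ι, hej]
      · simp [ι, ρ]
    have hmem : ∀ x ∈ K, x - x j • e' ∈ K := by
      intro x hx
      obtain ⟨t, ht⟩ := hdvd x hx
      rw [show x j • e' = t • r i by rw [hri, smul_smul, ht, mul_comm]]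
      exact K.sub_mem hx (K.smul_mem t (hr ▸ Submodule.subset_span ⟨i, rfl⟩))
    obtain ⟨φ', hφ', hK'⟩ := ih (K.map ρ) (hK.map ρ) (ψ ∘ₗ ι) (by
      rintro _ ⟨x, hx, rfl⟩
      rw [LinearMap.mem_ker, LinearMap.comp_apply, hιρ]
      exact hψ (hmem x hx))
    obtain ⟨b, hb, hab⟩ := exists_lift_cyclic π hπ h a (ψ e') (by
      rw [← map_smul, ← hri]
      exact hψ (hr ▸ Submodule.subset_span ⟨i, rfl⟩))
    refine ⟨φ' ∘ₗ ρ + (LinearMap.proj j : (Fin (n + 1) → R) →ₗ[R] R).smulRight b,
      LinearMap.ext fun x => ?_, fun x hx => ?_⟩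
    · have := LinearMap.congr_fun hφ' (ρ x)
      simp only [LinearMap.comp_apply] at this
      simp only [LinearMap.comp_apply, LinearMap.add_apply, map_add, this, hιρ,
        LinearMap.smulRight_apply, map_smul, hb, map_sub]
      exact sub_add_cancel _ _
    · obtain ⟨t, ht⟩ := hdvd x hx
      rw [LinearMap.mem_ker, LinearMap.add_apply, LinearMap.comp_apply,
        LinearMap.mem_ker.mp (hK' ⟨x, hx, rfl⟩), LinearMap.smulRight_apply, zero_add]
      show x j • b = 0
      rw [ht, mul_comm, mul_smul, hab, smul_zero]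

lemma dvd_or_dvd_localization [IsDomain R] [IsBezout R] (m : Ideal R) [m.IsPrime]
    (a b : Localization.AtPrime m) : a ∣ b ∨ b ∣ a := by
  set φ := algebraMap R (Localization.AtPrime m)
  obtain ⟨r, s, rfl⟩ := IsLocalization.exists_mk'_eq m.primeCompl a
  obtain ⟨r', s', rfl⟩ := IsLocalization.exists_mk'_eq m.primeCompl b
  have hd : ∀ (y : R) (t : m.primeCompl), Associated (φ y) (IsLocalization.mk' _ y t) := fun y t =>
    Associated.symm ⟨(IsLocalization.map_units (Localization.AtPrime m) t).unit, by simp [φ]⟩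
  suffices φ r ∣ φ r' ∨ φ r' ∣ φ r from
    this.imp (fun h => (hd r s).dvd_iff_dvd_left.mp ((hd r' s').dvd_iff_dvd_right.mp h))
      (fun h => (hd r' s').dvd_iff_dvd_left.mp ((hd r s).dvd_iff_dvd_right.mp h))
  obtain ⟨g, hg⟩ := (IsBezout.iff_span_pair_isPrincipal.mp ‹_› r r').1
  obtain ⟨x, hx⟩ := Submodule.mem_span_singleton.mp (hg ▸ Ideal.subset_span (Set.mem_insert r {r'}) :
    r ∈ Submodule.span R {g})
  obtain ⟨y, hy⟩ := Submodule.mem_span_singleton.mp
    (hg ▸ Ideal.subset_span (Set.mem_insert_of_mem r rfl) : r' ∈ Submodule.span R {g})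
  obtain ⟨p, q, hpq⟩ := Ideal.mem_span_pair.mp
    (hg ▸ Submodule.mem_span_singleton_self g : g ∈ Ideal.span {r, r'})
  rw [smul_eq_mul] at hx hy
  by_cases h0 : g = 0
  · exact Or.inl (by simp [← hx, ← hy, h0])
  have h1 : p * x + q * y = 1 := by
    apply mul_right_cancel₀ h0
    rw [one_mul, add_mul, mul_assoc, mul_assoc, hx, hy, hpq]
  by_cases hxm : x ∈ m
  · have hym : y ∉ m := fun hym => (Ideal.IsPrime.ne_top ‹m.IsPrime›)
      (m.eq_top_iff_one.mpr (h1 ▸ m.add_mem (m.mul_mem_left p hxm) (m.mul_mem_left q hym)))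
    refine Or.inr ?_
    rw [← hy, map_mul]
    exact ((IsLocalization.map_units (Localization.AtPrime m) (⟨y, hym⟩ : m.primeCompl)).mul_left_dvd).mpr
      (hx ▸ map_dvd φ (dvd_mul_left g x))
  · refine Or.inl ?_
    rw [← hx, map_mul]
    exact ((IsLocalization.map_units (Localization.AtPrime m) (⟨x, hxm⟩ : m.primeCompl)).mul_left_dvd).mpr
      (hy ▸ map_dvd φ (dvd_mul_left g y))

lemma isRD_localized (m : Ideal R) [m.IsPrime] {B C : Type u} [AddCommGroup B] [Module R B]
    [AddCommGroup C] [Module R C] (π : B →ₗ[R] C) (h : IsRD π) :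
    IsRD (LocalizedModule.map m.primeCompl π) := by
  intro f x hfx
  induction x using LocalizedModule.induction_on with
  | _ b t =>
    obtain ⟨r, u, rfl⟩ := IsLocalization.exists_mk'_eq m.primeCompl f
    rw [← Localization.mk_eq_mk', LocalizedModule.mk_smul_mk, LocalizedModule.map_mk, map_smul] at hfx
    obtain ⟨v, hv⟩ := LocalizedModule.mk_eq.mp (hfx.trans (LocalizedModule.zero_mk (u * t)).symm)
    simp only [Submonoid.smul_def, smul_zero, smul_smul] at hv
    obtain ⟨a, ha, hab⟩ := h _ b ((map_smul π _ b).trans hv)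
    refine ⟨LocalizedModule.mk a t, by rw [LocalizedModule.map_mk, ha, LocalizedModule.zero_mk], ?_⟩
    rw [← Localization.mk_eq_mk', LocalizedModule.mk_smul_mk, LocalizedModule.mk_smul_mk]
    refine LocalizedModule.mk_eq.mpr ⟨v, ?_⟩
    simp only [Submonoid.smul_def, smul_smul]
    exact hab

theorem lift_fp [IsDomain R] [IsBezout R] (P : Type u) [AddCommGroup P] [Module R P]
    [Module.FinitePresentation R P] {B C : Type u} [AddCommGroup B] [Module R B]
    [AddCommGroup C] [Module R C] (π : B →ₗ[R] C) (hπ : Function.Surjective π) (h : IsRD π)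
    (ψ : P →ₗ[R] C) : ∃ φ : P →ₗ[R] B, π ∘ₗ φ = ψ := by
  let T : (P →ₗ[R] B) →ₗ[R] (P →ₗ[R] C) :=
    { toFun := fun φ => π ∘ₗ φ
      map_add' := fun x y => LinearMap.comp_add x y π
      map_smul' := fun c x => LinearMap.comp_smul π c x }
  let I : Ideal R := (LinearMap.range T).comap (LinearMap.toSpanSingleton R _ ψ)
  suffices I = ⊤ by
    obtain ⟨φ, hφ⟩ : (1 : R) ∈ I := this ▸ trivial
    exact ⟨φ, by simpa [T] using hφ⟩
  by_contra hI
  obtain ⟨m, hm, hIm⟩ := Ideal.exists_le_maximal I hI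
  set S := Localization.AtPrime m
  obtain ⟨n, ρ, hρ⟩ := Module.Finite.exists_fin' S (LocalizedModule m.primeCompl P)
  obtain ⟨φ₀, h1, h2⟩ := lift_pi (dvd_or_dvd_localization m) (LocalizedModule.map m.primeCompl π)
    (IsLocalizedModule.map_surjective _ _ _ _ hπ) (isRD_localized m π h) n (LinearMap.ker ρ)
    (Module.FinitePresentation.fg_ker ρ hρ) ((LocalizedModule.map m.primeCompl ψ) ∘ₗ ρ)
    (fun x hx => by rw [LinearMap.mem_ker, LinearMap.comp_apply, LinearMap.mem_ker.mp hx, map_zero])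
  let φm : LocalizedModule m.primeCompl P →ₗ[S] LocalizedModule m.primeCompl B :=
    (LinearMap.ker ρ).liftQ φ₀ h2 ∘ₗ (ρ.quotKerEquivOfSurjective hρ).symm.toLinearMap
  have hφm : ∀ z, LocalizedModule.map m.primeCompl π (φm z) = LocalizedModule.map m.primeCompl ψ z := by
    intro z
    obtain ⟨x, rfl⟩ := hρ z
    have := LinearMap.congr_fun h1 x
    simpa [φm] using this
  obtain ⟨φ, s, hφ⟩ := Module.FinitePresentation.exists_lift_of_isLocalizedModule m.primeCompl
    (LocalizedModule.mkLinearMap m.primeCompl B)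
    ((φm.restrictScalars R) ∘ₗ LocalizedModule.mkLinearMap m.primeCompl P)
  obtain ⟨u, hu⟩ := Module.Finite.exists_smul_of_comp_eq_of_isLocalizedModule m.primeCompl
    (LocalizedModule.mkLinearMap m.primeCompl C) (π ∘ₗ φ) ((s : R) • ψ) (LinearMap.ext fun x => by
      have h3 := congrArg (LocalizedModule.map m.primeCompl π) (LinearMap.congr_fun hφ x)
      simp only [LinearMap.comp_apply, LinearMap.smul_apply, LinearMap.restrictScalars_apply,
        Submonoid.smul_def, LinearMap.map_smul_of_tower, hφm, LocalizedModule.mkLinearMap_apply,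
        LocalizedModule.map_mk] at h3 ⊢
      rw [h3, LocalizedModule.smul'_mk])
  have hmem : (u : R) * (s : R) ∈ I := by
    refine ⟨(u : R) • φ, ?_⟩
    show π ∘ₗ ((u : R) • φ) = ((u : R) * (s : R)) • ψ
    rw [LinearMap.comp_smul, mul_smul]
    exact hu
  rcases hm.isPrime.mem_or_mem (hIm hmem) with h' | h'
  exacts [u.2 h', s.2 h']

lemma exists_injective_free [IsDomain R] (M : Type u) [AddCommGroup M] [Module R M]
    [Module.Finite R M] [Module.IsTorsionFree R M] :
    ∃ (n : ℕ) (f : M →ₗ[R] (Fin n → R)), Function.Injective f := by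
  classical
  obtain ⟨k, v, hv⟩ := Module.Finite.exists_fin (R := R) (M := M)
  obtain ⟨s, hs, hmax⟩ := exists_maximal_linearIndepOn R v
  have hex : ∀ i, ∃ a : R, a ≠ 0 ∧ a • v i ∈ Submodule.span R (v '' s) := by
    intro i
    by_cases hi : i ∈ s
    · exact ⟨1, one_ne_zero, by simpa using Submodule.subset_span (Set.mem_image_of_mem v hi)⟩
    · exact hmax i hi
  choose a ha0 ha using hex
  set c := ∏ i, a i
  have hc : c ≠ 0 := Finset.prod_ne_zero_iff.mpr fun i _ => ha0 i
  have hmem : ∀ m : M, c • m ∈ Submodule.span R (Set.range fun i : s => v i) := by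
    intro m
    have hm : m ∈ Submodule.span R (Set.range v) := hv ▸ trivial
    induction hm using Submodule.span_induction with
    | mem m hm =>
      obtain ⟨i, rfl⟩ := hm
      rw [← Set.image_eq_range]
      simp only [c]
      rw [← Finset.mul_prod_erase _ _ (Finset.mem_univ i), mul_comm, mul_smul]
      exact Submodule.smul_mem _ _ (ha i)
    | zero => simp
    | add x y _ _ hx hy => rw [smul_add]; exact add_mem hx hy
    | smul r x _ hx => rw [smul_comm]; exact Submodule.smul_mem _ r hx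
  let b := Module.Basis.span hs
  let e := (b.reindex (Fintype.equivFin s)).equivFun
  refine ⟨_, e.toLinearMap ∘ₗ LinearMap.codRestrict _ (c • LinearMap.id) hmem, ?_⟩
  refine e.injective.comp fun x y hxy => ?_
  exact smul_right_injective M hc (congrArg Subtype.val hxy)

end Groth.Agent.CAlg4.RDLifting
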