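import Groth.Agent.EGA4Alg4.GeomRegFS
import Groth.Agent.CAlg4.DerivRegular
import Groth.Agent.CAlg1.Miracle
import Groth.Agent.EGA4H10.CompleteUC
import Mathlib

/-! Polynomial maps given by a differential basis into geometrically regular algebras. -/

set_option autoImplicit false
universe u
open IsLocalRing

namespace Groth.Agent.CAlg4.RegularBasisMap

/-- The residue field of a local algebra over a field admits a section modulo the square of the maximal ideal. -/
theorem exists_section (k B : Type u) [Field k] [CommRing B] [IsLocalRing B] [Algebra k B] :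
    ∃ σ : ResidueField B →+* B ⧸ maximalIdeal B ^ 2,
      ∀ b : B, Ideal.Quotient.mk (maximalIdeal B ^ 2) b - σ (residue B b) ∈ (maximalIdeal B).cotangentIdeal := by
  let P := Sep12.prime k
  let κ := ResidueField B
  let E := B ⧸ maximalIdeal B ^ 2
  have hle : maximalIdeal B ^ 2 ≤ maximalIdeal B := Ideal.pow_le_self two_ne_zero
  let π : E →ₐ[P] κ := Ideal.Quotient.factorₐ P hle
  have hker : RingHom.ker π = (maximalIdeal B).cotangentIdeal :=
    show RingHom.ker (Ideal.Quotient.factor hle) = _ from (Ideal.Quotient.factor_ker hle).trans (by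
      ext z
      rw [Ideal.mem_map_iff_of_surjective _ Ideal.Quotient.mk_surjective]
      rfl)
  have hsurj : Function.Surjective π := Ideal.Quotient.factor_surjective hle
  have hJ : RingHom.ker π ^ 2 = ⊥ := by
    rw [hker]
    exact Ideal.cotangentIdeal_square _
  let e := Ideal.quotientKerAlgEquivOfSurjective (f := π) hsurj
  have hfs : CAlgX.IsAdicFormallySmooth P κ (maximalIdeal κ) :=
    EGA4Alg4.GeomFS13.isAdicFormallySmooth_prime_of_regular (k := k)
  obtain ⟨χ, hχ⟩ := hfs E (RingHom.ker π) hJ e.symm.toAlgHom ⟨1, fun x hx => by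
    rw [pow_one, IsLocalRing.maximalIdeal_eq_bot, Ideal.mem_bot] at hx
    rw [hx, map_zero]⟩
  have hπ : ∀ z, π (χ z) = z := fun z => by
    have h1 := congrArg e (AlgHom.congr_fun hχ z)
    exact h1.trans (e.apply_symm_apply z)
  refine ⟨χ.toRingHom, fun b => ?_⟩
  rw [← hker, RingHom.mem_ker, map_sub]
  exact sub_eq_zero.2 (hπ (residue B b)).symm

/-- Derivations dual to a regular system of parameters. -/
theorem exists_dual_derivations (k B : Type u) [Field k] [CommRing B] [IsRegularLocalRing B] [Algebra k B] :
    ∃ (r : ℕ) (f : Fin r → B) (D : Fin r → Derivation ℤ B (ResidueField B)),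
      Ideal.span (Set.range f) = maximalIdeal B ∧ ringKrullDim B = r ∧
        ∀ i j, D i (f j) = if i = j then 1 else 0 := by
  classical
  obtain ⟨σ, hσ⟩ := exists_section k B
  let m := maximalIdeal B
  let r := Module.finrank (ResidueField B) (CotangentSpace B)
  let b : Module.Basis (Fin r) (ResidueField B) (CotangentSpace B) := Module.finBasis _ _
  choose g hg using fun i => m.toCotangent_surjective (b i)
  let d : B → CotangentSpace B := fun x =>
    m.cotangentEquivIdeal.symm ⟨Ideal.Quotient.mk _ x - σ (residue B x), hσ x⟩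
  have hd : ∀ x, (m.cotangentEquivIdeal (d x) : B ⧸ m ^ 2) = Ideal.Quotient.mk _ x - σ (residue B x) := fun x => by
    simp [d]
  have hinj : Function.Injective fun z : CotangentSpace B => (m.cotangentEquivIdeal z : B ⧸ m ^ 2) :=
    Subtype.val_injective.comp m.cotangentEquivIdeal.injective
  have hadd : ∀ x y, d (x + y) = d x + d y := fun x y => hinj <| by
    simp only [map_add, Submodule.coe_add, hd, add_sub_add_comm]
  have hmul : ∀ x y, d (x * y) = x • d y + y • d x := fun x y => hinj <| by
    have h0 : (Ideal.Quotient.mk (m ^ 2) x - σ (residue B x)) * (Ideal.Quotient.mk (m ^ 2) y - σ (residue B y)) = 0 := by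
      have := Ideal.mul_mem_mul (hσ x) (hσ y)
      rw [← pow_two, Ideal.cotangentIdeal_square] at this
      exact (Ideal.mem_bot).1 this
    simp only [map_add, Submodule.coe_add, map_smul, Submodule.coe_smul_of_tower, hd, map_mul]
    simp only [Algebra.smul_def, Ideal.Quotient.algebraMap_eq, hd]
    linear_combination (-1 : B ⧸ m ^ 2) * h0
  let dd : Fin r → Derivation ℤ B (ResidueField B) := fun i =>
    Derivation.mk' (AddMonoidHom.toIntLinearMap
      { toFun := fun x => b.coord i (d x)
        map_zero' := by
          have : d 0 = 0 := by simpa using hadd 0 0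
          rw [this, map_zero]
        map_add' := fun x y => by rw [hadd, map_add] }) fun x y => by
      show b.coord i (d (x * y)) = x • b.coord i (d y) + y • b.coord i (d x)
      rw [hmul, map_add, LinearMap.map_smul_of_tower, LinearMap.map_smul_of_tower]
  refine ⟨r, fun i => (g i : B), dd, ?_, ?_, fun i j => ?_⟩
  · have h1 : Submodule.span B (Set.range g) = ⊤ := by
      rw [← CotangentSpace.span_image_eq_top_iff, ← Set.range_comp, show (maximalIdeal B).toCotangent ∘ g = b from
        funext hg, b.span_eq]
    have h2 := congrArg (Submodule.map m.subtype) h1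
    rw [Submodule.map_span, ← Set.range_comp, Submodule.map_top, Submodule.range_subtype] at h2
    exact h2
  · exact ((IsRegularLocalRing.iff_finrank_cotangentSpace B).1 inferInstance).symm
  · show b.coord i (d (g j)) = _
    have : d (g j) = b j := by
      refine hinj ?_
      show (m.cotangentEquivIdeal (d (g j)) : B ⧸ m ^ 2) = m.cotangentEquivIdeal (b j)
      rw [hd, (residue_eq_zero_iff _).2 (g j).2, map_zero, sub_zero, ← hg j, Ideal.cotangentEquivIdeal_apply]
      rfl
    rw [this, Module.Basis.coord_apply, b.repr_self, Finsupp.single_apply]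
    exact if_congr eq_comm rfl rfl

variable (k : Type u) [Field k] (A : Type u) [CommRing A] [IsLocalRing A] [IsNoetherianRing A] [Algebra k A]
  (F : IntermediateField k (ResidueField A)) (m : ℕ) (φ : MvPolynomial (Fin m) k →ₐ[k] A)
  (hφ : ∀ i : Fin m, residue A (φ (MvPolynomial.X i)) ∈ F)
  (hb : LinearIndependent F
      (fun i : Fin m => KaehlerDifferential.D k F ⟨residue A (φ (MvPolynomial.X i)), hφ i⟩) ∧
    Submodule.span F (Set.range
      (fun i : Fin m => KaehlerDifferential.D k F ⟨residue A (φ (MvPolynomial.X i)), hφ i⟩)) = ⊤)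

include hb in
/-- A derivation trivial on constants kills the polynomials mapping into the maximal ideal. -/
theorem derivation_eq_zero (Δ : MvPolynomial (Fin m) k → ResidueField A)
    (hadd : ∀ x y, Δ (x + y) = Δ x + Δ y)
    (hmul : ∀ x y, Δ (x * y) = residue A (φ x) * Δ y + residue A (φ y) * Δ x)
    (hC : ∀ c, Δ (MvPolynomial.C c) = 0) (x : MvPolynomial (Fin m) k) (hx : φ x ∈ maximalIdeal A) :
    Δ x = 0 := by
  let y : Fin m → F := fun i => ⟨residue A (φ (MvPolynomial.X i)), hφ i⟩
  let b : Module.Basis (Fin m) F Ω[F⁄k] := Module.Basis.mk hb.1 hb.2.ge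
  let ℓ : Ω[F⁄k] →ₗ[F] ResidueField A := b.constr F fun i => Δ (MvPolynomial.X i)
  let δ : Derivation k F (ResidueField A) := ℓ.compDer (KaehlerDifferential.D k F)
  have hδ : ∀ i, δ (y i) = Δ (MvPolynomial.X i) := fun i => by
    show ℓ (KaehlerDifferential.D k F (y i)) = _
    rw [show KaehlerDifferential.D k F (y i) = b i from (congrFun (Module.Basis.coe_mk hb.1 hb.2.ge) i).symm]
    exact b.constr_basis F _ i
  have key : ∀ z, Δ z = δ (MvPolynomial.aeval y z) ∧ ((MvPolynomial.aeval y z : F) : ResidueField A) = residue A (φ z) := by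
    intro z
    induction z using MvPolynomial.induction_on with
    | C c =>
      refine ⟨?_, ?_⟩
      · rw [hC, MvPolynomial.aeval_C, Derivation.map_algebraMap]
      · rw [MvPolynomial.aeval_C, ← MvPolynomial.algebraMap_eq, φ.commutes]
        rfl
    | add p q hp hq =>
      refine ⟨?_, ?_⟩
      · rw [hadd, map_add, map_add, hp.1, hq.1]
      · rw [map_add, map_add, map_add, ← hp.2, ← hq.2]
        rfl
    | mul_X p i hp =>
      refine ⟨?_, ?_⟩
      · rw [hmul, map_mul, Derivation.leibniz, MvPolynomial.aeval_X, hp.1, hδ, ← hp.2]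
        rfl
      · rw [map_mul, map_mul, map_mul, MvPolynomial.aeval_X, ← hp.2]
        rfl
  obtain ⟨h1, h2⟩ := key x
  have : MvPolynomial.aeval y x = 0 := Subtype.ext (h2.trans ((residue_eq_zero_iff _).2 hx))
  rw [h1, this, map_zero]

include hb in
theorem main (hA : CAlg.IsGeometricallyRegular k A) :
    letI := φ.toRingHom.toAlgebra
    Module.Flat (MvPolynomial (Fin m) k) A ∧
      IsRegularLocalRing (A ⧸ Ideal.map φ.toRingHom (Ideal.comap φ.toRingHom (maximalIdeal A))) := by
  classical
  letI := φ.toRingHom.toAlgebra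
  let R := MvPolynomial (Fin m) k
  let K := ResidueField A
  have hfs : CAlgX.IsAdicFormallySmooth k A (maximalIdeal A) :=
    EGA4Alg4.GeomFS13.isAdicFormallySmooth_iff_isGeometricallyRegular.2 hA
  have : IsRegularLocalRing A := (EGA4Alg4.GeomFS13.isAdicFormallySmooth_iff_regular_and_injective.1 hfs).1
  have hK : ∀ z : A, algebraMap A K z = residue A z := fun _ => rfl
  let p : Ideal R := (maximalIdeal A).comap φ.toRingHom
  let B := Localization.AtPrime p
  have : IsRegularLocalRing B := IsRegularRing.isRegularLocalRing_localization p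
  have hu : ∀ s : p.primeCompl, IsUnit (φ.toRingHom s) := fun s => notMem_maximalIdeal.1 s.2
  let ψ : B →+* A := IsLocalization.lift hu
  let _ : Algebra B A := ψ.toAlgebra
  have hψ : ∀ x : R, ψ (algebraMap R B x) = φ x := fun x => IsLocalization.lift_eq hu x
  have : IsScalarTower R B A := IsScalarTower.of_algebraMap_eq fun x => (hψ x).symm
  have : IsScalarTower k B A := IsScalarTower.of_algebraMap_eq fun c => by
    rw [IsScalarTower.algebraMap_apply k R B]
    exact ((hψ _).trans (φ.commutes c)).symm
  have hmem : ∀ x : B, x ∈ maximalIdeal B → algebraMap B A x ∈ maximalIdeal A := fun x hx => by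
    obtain ⟨r, s, rfl⟩ := IsLocalization.exists_mk'_eq p.primeCompl x
    have hr : r ∈ p := (IsLocalization.AtPrime.mk'_mem_maximal_iff B p r s).1 hx
    have h1 : algebraMap B A (IsLocalization.mk' B r s) * φ (s : R) = φ r := by
      rw [← hψ (s : R), ← hψ r]
      exact (map_mul ψ _ _).symm.trans (congrArg ψ (IsLocalization.mk'_spec B r s))
    exact (Ideal.IsPrime.mem_or_mem inferInstance (h1 ▸ hr)).resolve_right s.2
  have : IsLocalHom (algebraMap B A) :=
    ((IsLocalRing.local_hom_TFAE (algebraMap B A)).out 0 2).2 (Ideal.map_le_iff_le_comap.2 hmem)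
  obtain ⟨r, f, D, hf, hdim, hD⟩ := exists_dual_derivations k B
  let ι : ResidueField B →+* K := ResidueField.map (algebraMap B A)
  have hι : ∀ x : B, ι (residue B x) = residue A (algebraMap B A x) := fun x => rfl
  have hE : ∀ i, ∃ E : Derivation ℤ A K, ∀ j, E (algebraMap B A (f j)) = if i = j then 1 else 0 := by
    intro i
    let δ0 : Derivation ℤ k K := Derivation.mk' (AddMonoidHom.toIntLinearMap
      { toFun := fun c => ι (D i (algebraMap k B c))
        map_zero' := by simp
        map_add' := fun x y => by simp }) fun x y => by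
      show ι (D i (algebraMap k B (x * y))) = x • ι (D i (algebraMap k B y)) + y • ι (D i (algebraMap k B x))
      simp only [map_mul, Derivation.leibniz, map_add, Algebra.smul_def, IsScalarTower.algebraMap_apply k A K,
        IsScalarTower.algebraMap_apply k B A, ResidueField.algebraMap_eq, hK, hι]
    obtain ⟨E, hE⟩ := EGA4Alg4.KCrit13.extDer_of_isAdicFormallySmooth_residueField hfs δ0
    let Δ : R → K := fun x => E (φ x) - ι (D i (algebraMap R B x))
    have hΔ : ∀ x : R, φ x ∈ maximalIdeal A → Δ x = 0 := by
      refine derivation_eq_zero k A F m φ hφ hb Δ (fun x y => ?_) (fun x y => ?_) fun c => ?_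
      · simp only [Δ, map_add]; ring
      · simp only [Δ, map_mul, Derivation.leibniz, map_add, Algebra.smul_def, ResidueField.algebraMap_eq, hK, hι, hψ,
          RingHom.algebraMap_toAlgebra]
        ring
      · simp only [Δ, ← MvPolynomial.algebraMap_eq, ← IsScalarTower.algebraMap_apply, φ.commutes, hE]
        exact sub_self _
    refine ⟨E, fun j => ?_⟩
    have key : E (algebraMap B A (f j)) = ι (D i (f j)) := by
      obtain ⟨x, s, hxs⟩ := IsLocalization.exists_mk'_eq p.primeCompl (f j)
      have h1 : f j * algebraMap R B s = algebraMap R B x := by rw [← hxs, IsLocalization.mk'_spec]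
      have hfm : f j ∈ maximalIdeal B := hf ▸ Ideal.subset_span ⟨j, rfl⟩
      have hx : φ x ∈ maximalIdeal A := by
        rw [← hψ, ← h1, map_mul]
        exact Ideal.mul_mem_right _ _ (hmem _ hfm)
      have h2 := hΔ x hx
      simp only [Δ, ← hψ x, ← h1, map_mul, Derivation.leibniz, map_add, Algebra.smul_def, ResidueField.algebraMap_eq, hK,
        hι, RingHom.algebraMap_toAlgebra, hψ] at h2
      have h3 : residue A (ψ (f j)) = 0 := (residue_eq_zero_iff _).2 (hmem _ hfm)
      rw [h3, zero_mul, zero_mul, zero_add, zero_add, ← mul_sub] at h2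
      exact sub_eq_zero.1 ((mul_eq_zero.1 h2).resolve_left fun h => s.2 ((residue_eq_zero_iff _).1 h))
    rw [key, hD i j]
    split <;> simp
  choose E hE using hE
  have hfA : ∀ j, algebraMap B A (f j) ∈ maximalIdeal A := fun j => hmem _ (hf ▸ Ideal.subset_span ⟨j, rfl⟩)
  have hkill : ∀ (i : Fin r), ∀ z ∈ maximalIdeal A ^ 2, E i z = 0 := by
    intro i z hz
    rw [pow_two] at hz
    induction hz using Submodule.mul_induction_on' with
    | mem_mul_mem a ha b hb =>
      simp only [Derivation.leibniz, Algebra.smul_def, ResidueField.algebraMap_eq, hK, (residue_eq_zero_iff _).2 ha,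
        (residue_eq_zero_iff _).2 hb, zero_mul, add_zero]
    | add a _ b _ ha hb => rw [map_add, ha, hb, add_zero]
  obtain ⟨hregq, hseq⟩ := DerivRegular.regular_seq A r (fun j => algebraMap B A (f j)) hfA fun a ha i => by
    have h := hkill i _ ha
    simp only [map_sum, Derivation.leibniz, Algebra.smul_def, ResidueField.algebraMap_eq, hK, hE,
      fun j => (residue_eq_zero_iff _).2 (hfA j), zero_mul, add_zero, mul_ite, mul_one, mul_zero] at h
    rw [Finset.sum_ite_eq, if_pos (Finset.mem_univ _)] at h
    exact (residue_eq_zero_iff _).1 h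
  have hmap : (maximalIdeal B).map (algebraMap B A) = Ideal.span (Set.range fun j => algebraMap B A (f j)) := by
    rw [← hf, Ideal.map_span, ← Set.range_comp]
    rfl
  have := EGA4H10.isCohenMacaulayLocalRing_of_regular A
  have hflat : Module.Flat B A := by
    refine CAlg1.miracle_flatness _ B A rfl ?_
    rw [hmap, hdim, ← ringKrullDim_add_length_eq_ringKrullDim_of_isRegular _ hseq, List.length_ofFn, add_comm]
    congr 1
    exact ringKrullDim_eq_of_ringEquiv (Ideal.quotEquivOfEq (congrArg Ideal.span (Set.ext fun z => by simp)))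
  refine ⟨Module.Flat.trans R B A, ?_⟩
  have hp : Ideal.map φ.toRingHom p = (maximalIdeal B).map (algebraMap B A) := by
    rw [← Localization.AtPrime.map_eq_maximalIdeal (I := p), Ideal.map_map,
      ← IsScalarTower.algebraMap_eq]
    rfl
  exact IsRegularLocalRing.of_ringEquiv (R := A ⧸ Ideal.span (Set.range fun j => algebraMap B A (f j)))
    (Ideal.quotEquivOfEq (hp.trans hmap).symm)

end Groth.Agent.CAlg4.RegularBasisMap
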