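import Groth.Agent.CAlg4.ReducedCurve
import Mathlib.RingTheory.Flat.FaithfullyFlat.Algebra
import Mathlib.RingTheory.IntegralClosure.IntegrallyClosed
import Mathlib.LinearAlgebra.TensorProduct.Pi
import Mathlib.RingTheory.Flat.Basic

/-! Descent of `n`-th roots along flat extensions of normal local rings. -/

universe u

open TensorProduct

namespace Groth.Agent.CAlg4.RootDescent

variable {A B : Type u} [CommRing A] [CommRing B] [Algebra A B] [Module.Flat A B]

theorem colon_mem [IsNoetherianRing A] (a : A) (J : Ideal A) (b : B)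
    (h : ∀ j ∈ J, algebraMap A B a ∣ b * algebraMap A B j) :
    b ∈ ((Ideal.span {a}).colon (J : Set A)).map (algebraMap A B) := by
  classical
  obtain ⟨s, hs⟩ := IsNoetherian.noetherian J
  let φ : A →ₗ[A] (↥s → A ⧸ Ideal.span ({a} : Set A)) :=
    LinearMap.pi fun l => (Ideal.Quotient.mkₐ A (Ideal.span ({a} : Set A))).toLinearMap ∘ₗ
      LinearMap.mulRight A (l : A)
  have hker : LinearMap.ker φ ≤ (Ideal.span {a}).colon (J : Set A) := by
    intro x hx
    rw [Submodule.mem_colon]
    intro j hj
    have hj' : j ∈ Submodule.span A (s : Set A) := hs ▸ hj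
    induction hj' using Submodule.span_induction with
    | mem y hy =>
      have := congrFun (LinearMap.mem_ker.1 hx) ⟨y, hy⟩
      exact Ideal.Quotient.eq_zero_iff_mem.1 this
    | zero => simp
    | add u v hu hv ihu ihv => rw [smul_add]; exact add_mem (ihu (hs ▸ hu)) (ihv (hs ▸ hv))
    | smul c u hu ihu => rw [smul_comm]; exact Submodule.smul_mem _ c (ihu (hs ▸ hu))
  have hex := Module.Flat.lTensor_exact B (f := (LinearMap.ker φ).subtype) (g := φ)
    (LinearMap.exact_subtype_ker_map φ)
  have h0 : φ.lTensor B (b ⊗ₜ (1 : A)) = 0 := by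
    rw [LinearMap.lTensor_tmul, ← Finset.univ_sum_single (φ 1), TensorProduct.tmul_sum]
    refine Finset.sum_eq_zero fun l _ => ?_
    obtain ⟨c, hc⟩ := h (l : A) (hs ▸ Submodule.subset_span l.2)
    have : φ 1 l = (l : A) • Ideal.Quotient.mk (Ideal.span ({a} : Set A)) 1 := by
      simp [φ, Algebra.smul_def]
    rw [this, ← LinearMap.coe_single A, LinearMap.map_smul, TensorProduct.tmul_smul,
      TensorProduct.smul_tmul', Algebra.smul_def, mul_comm, hc, ← Algebra.smul_def,
      ← TensorProduct.smul_tmul', ← TensorProduct.tmul_smul, ← LinearMap.map_smul]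
    have : a • Ideal.Quotient.mk (Ideal.span ({a} : Set A)) 1 = 0 := by
      rw [Algebra.smul_def, map_one, mul_one, Ideal.Quotient.algebraMap_eq,
        Ideal.Quotient.eq_zero_iff_mem]
      exact Ideal.mem_span_singleton_self a
    rw [this, map_zero, TensorProduct.tmul_zero]
  obtain ⟨z, hz⟩ := (hex _).1 h0
  have key : ∀ w, TensorProduct.rid A B ((LinearMap.ker φ).subtype.lTensor B w) ∈
      ((Ideal.span {a}).colon (J : Set A)).map (algebraMap A B) := by
    intro w
    induction w using TensorProduct.induction_on with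
    | zero => simp
    | tmul u x =>
      simp only [LinearMap.lTensor_tmul, Submodule.subtype_apply, TensorProduct.rid_tmul,
        Algebra.smul_def]
      exact Ideal.mul_mem_right _ _ (Ideal.mem_map_of_mem _ (hker x.2))
    | add u v hu hv => rw [map_add, map_add]; exact add_mem hu hv
  simpa [hz] using key z

variable [IsDomain A] [IsNoetherianRing A] [IsLocalRing A] [IsIntegrallyClosed A] [IsDomain B]
  [IsLocalRing B] [IsIntegrallyClosed B] [IsNoetherianRing B] [IsLocalHom (algebraMap A B)]

omit [IsDomain A] [IsNoetherianRing A] [IsIntegrallyClosed A] [IsDomain B] [IsIntegrallyClosed B]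
  [IsNoetherianRing B] in
theorem dvd_descend {x y : A} (h : algebraMap A B x ∣ algebraMap A B y) : x ∣ y := by
  have : Module.FaithfullyFlat A B := Module.FaithfullyFlat.of_flat_of_isLocalHom
  rw [← Ideal.mem_span_singleton, ← Ideal.comap_map_eq_self_of_faithfullyFlat (B := B) (Ideal.span {x}),
    Ideal.mem_comap, Ideal.map_span, Set.image_singleton, Ideal.mem_span_singleton]
  exact h

omit [IsLocalRing A] [IsLocalRing B] [IsLocalHom (algebraMap A B)] in
theorem exists_local_root {f : A} (hf0 : f ≠ 0) {h : B} {n : ℕ} (hn : 1 < n) (w : Bˣ)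
    (hf : algebraMap A B f = (w : B) * h ^ n)
    (hram : ∀ (p : Ideal A) [p.IsPrime], p.height = 1 →
      ∃ (q : Ideal B) (_ : q.IsPrime), q.height = 1 ∧ q.comap (algebraMap A B) = p ∧
        Ideal.map (algebraMap B (Localization.AtPrime q)) (Ideal.map (algebraMap A B) p) =
          IsLocalRing.maximalIdeal (Localization.AtPrime q))
    (p : Ideal A) [p.IsPrime] (hp : p.height = 1) :
    ∃ i : A, f ∣ i ^ n ∧
      Associated (algebraMap A (Localization.AtPrime p) (i ^ n)) (algebraMap A (Localization.AtPrime p) f) := by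
  classical
  by_cases hfp : f ∈ p
  · have := ReducedCurve.dvr_of_height_one p hp
    obtain ⟨q, hq, hq1, hqp, hqm⟩ := hram p hp
    have hflatinj : Function.Injective (algebraMap A B) := by
      intro x y hxy
      by_contra hne
      have h1 : IsSMulRegular B (algebraMap A B (x - y)) :=
        IsSMulRegular.of_flat (R := A) (S := B) (fun u v huv => mul_left_cancel₀ (sub_ne_zero.2 hne) huv)
      have h2 : algebraMap A B (x - y) = 0 := by rw [map_sub, hxy, sub_self]
      exact one_ne_zero (h1 (show algebraMap A B (x - y) • (1 : B) = algebraMap A B (x - y) • 0 by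
        rw [h2, zero_smul, zero_smul]))
    have := ReducedCurve.dvr_of_height_one q hq1
    let Ap := Localization.AtPrime p
    let Bq := Localization.AtPrime q
    let ψ : Ap →+* Bq := Localization.localRingHom p q (algebraMap A B) hqp.symm
    obtain ⟨ϖ, hϖ⟩ := IsDiscreteValuationRing.exists_irreducible Ap
    obtain ⟨⟨c, s⟩, hcs⟩ := IsLocalization.surj p.primeCompl ϖ
    have hu : IsUnit (algebraMap A Ap (s : A)) := IsLocalization.map_units Ap s
    have hc : Irreducible (algebraMap A Ap c) := hcs ▸ (irreducible_mul_isUnit hu).2 hϖ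
    have hm : IsLocalRing.maximalIdeal Bq = Ideal.span {ψ (algebraMap A Ap c)} := by
      rw [← hqm, Ideal.map_map, show (algebraMap B Bq).comp (algebraMap A B) = ψ.comp (algebraMap A Ap) from
        RingHom.ext fun x => (Localization.localRingHom_to_map p q _ hqp.symm x).symm,
        ← Ideal.map_map, Localization.AtPrime.map_eq_maximalIdeal, hc.maximalIdeal_eq, Ideal.map_span,
        Set.image_singleton]
    have hirr : Irreducible (ψ (algebraMap A Ap c)) :=
      (IsDiscreteValuationRing.irreducible_iff_uniformizer _).2 hm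
    have hfA : algebraMap A Ap f ≠ 0 := fun h0 =>
      hf0 (IsLocalization.injective Ap p.primeCompl_le_nonZeroDivisors (h0.trans (map_zero _).symm))
    obtain ⟨k, u, hk⟩ := IsDiscreteValuationRing.eq_unit_mul_pow_irreducible hfA hc
    have hhB : algebraMap B Bq h ≠ 0 := by
      intro h0
      have := IsLocalization.injective Bq q.primeCompl_le_nonZeroDivisors (h0.trans (map_zero _).symm)
      rw [this, zero_pow (by omega), mul_zero] at hf
      exact hf0 (hflatinj (hf.trans (map_zero _).symm))
    obtain ⟨l, u', hl⟩ := IsDiscreteValuationRing.eq_unit_mul_pow_irreducible hhB hirr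
    have hkl : k = l * n := by
      have e := congrArg ψ hk
      rw [show ψ (algebraMap A Ap f) = algebraMap B Bq (algebraMap A B f) from
        Localization.localRingHom_to_map p q _ hqp.symm f, hf, map_mul, map_pow, hl, mul_pow,
        ← mul_assoc, ← pow_mul, map_mul, map_pow] at e
      have e2 : ((Units.map (algebraMap B Bq).toMonoidHom w * u' ^ n : Bqˣ) : Bq) *
          ψ (algebraMap A Ap c) ^ (l * n) = ((Units.map ψ.toMonoidHom u : Bqˣ) : Bq) *
          ψ (algebraMap A Ap c) ^ k := by simpa using e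
      exact (IsDiscreteValuationRing.unit_mul_pow_congr_pow hirr hirr _ _ _ _ e2).symm
    let T := (ReducedCurve.finite_height_one hf0).toFinset.erase p
    have hT : ∀ p' ∈ T, p'.IsPrime ∧ p'.height = 1 ∧ f ∈ p' ∧ p' ≠ p := fun p' hp' => by
      simp only [T, Finset.mem_erase, Set.Finite.mem_toFinset, Set.mem_ofPred_eq] at hp'
      exact ⟨hp'.2.1, hp'.2.2.1, hp'.2.2.2, hp'.1⟩
    have hex : ∀ p', ∃ (e : ℕ) (y : A), p' ∈ T → y ∈ p' ∧ y ∉ p ∧
        ∀ (_ : p'.IsPrime), ∀ x ∈ IsLocalRing.maximalIdeal (Localization.AtPrime p'),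
          algebraMap A (Localization.AtPrime p') f ∣ x ^ e := by
      intro p'
      by_cases hp' : p' ∈ T
      · obtain ⟨hpr, hh, hfp', hne⟩ := hT p' hp'
        have := ReducedCurve.dvr_of_height_one p' hh
        obtain ⟨y, hy, hyp⟩ := Set.not_subset.1 (fun hle : (p' : Set A) ⊆ p =>
          hne (ReducedCurve.eq_of_le_of_height_one hle hh hp))
        obtain ⟨π, hπ⟩ := IsDiscreteValuationRing.exists_irreducible (Localization.AtPrime p')
        obtain ⟨e, v, he⟩ := IsDiscreteValuationRing.eq_unit_mul_pow_irreducible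
          (fun h0 => hf0 (IsLocalization.injective (Localization.AtPrime p')
            p'.primeCompl_le_nonZeroDivisors (h0.trans (map_zero _).symm))) hπ
        refine ⟨e, y, fun _ => ⟨hy, hyp, fun _ x hx => ?_⟩⟩
        rw [hπ.maximalIdeal_eq, Ideal.mem_span_singleton] at hx
        rw [he, Units.mul_left_dvd]
        exact pow_dvd_pow_of_dvd hx e
      · exact ⟨0, 0, fun h => absurd h hp'⟩
    choose e y hy using hex
    let N := T.sup e
    let t := ∏ p' ∈ T, y p' ^ N
    refine ⟨c ^ l * t, ?_, ?_⟩
    · refine ReducedCurve.dvd_of_forall_height_one f _ hf0 fun p' hp'p hh hfp' => ?_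
      by_cases he : p' = p
      · subst he
        rw [hk, map_pow, map_mul, map_pow, mul_pow, ← pow_mul, ← hkl, Units.mul_left_dvd]
        exact Dvd.intro _ rfl
      · have hmem : p' ∈ T := Finset.mem_erase.2 ⟨he, (Set.Finite.mem_toFinset _).2 ⟨hp'p, hh, hfp'⟩⟩
        obtain ⟨hy1, -, hy3⟩ := hy p' hmem
        have hx : algebraMap A (Localization.AtPrime p') (y p') ∈
            IsLocalRing.maximalIdeal (Localization.AtPrime p') := by
          rw [← Localization.AtPrime.map_eq_maximalIdeal]; exact Ideal.mem_map_of_mem _ hy1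
        refine (hy3 hp'p _ hx).trans ?_
        rw [← map_pow]
        refine map_dvd _ ?_
        rw [mul_pow]
        refine Dvd.dvd.mul_left (dvd_trans ?_ (dvd_pow_self _ (by omega))) _
        exact (pow_dvd_pow _ (Finset.le_sup hmem)).trans (Finset.dvd_prod_of_mem (fun p' => y p' ^ N) hmem)
    · have ht : t ∈ p.primeCompl :=
        prod_mem fun p' hp' => pow_mem (show y p' ∈ p.primeCompl from (hy p' hp').2.1) N
      rw [map_pow, map_mul, map_pow, mul_pow, ← pow_mul, ← hkl, hk]
      exact (associated_mul_unit_left _ _ ((IsLocalization.map_units Ap ⟨t, ht⟩).pow n)).trans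
        (associated_unit_mul_right _ _ u.isUnit)
  · refine ⟨f, dvd_pow_self f (by omega), ?_⟩
    have hu : IsUnit (algebraMap A (Localization.AtPrime p) f) :=
      IsLocalization.map_units (Localization.AtPrime p) (⟨f, hfp⟩ : p.primeCompl)
    rw [map_pow]
    exact associated_one_iff_isUnit.2 (hu.pow n) |>.trans (associated_one_iff_isUnit.2 hu).symm

theorem main (f : A) (h : B) (n : ℕ) (hn : 1 < n) (w : Bˣ) (hf : algebraMap A B f = (w : B) * h ^ n)
    (hram : ∀ (p : Ideal A) [p.IsPrime], p.height = 1 →
      ∃ (q : Ideal B) (_ : q.IsPrime), q.height = 1 ∧ q.comap (algebraMap A B) = p ∧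
        Ideal.map (algebraMap B (Localization.AtPrime q)) (Ideal.map (algebraMap A B) p) =
          IsLocalRing.maximalIdeal (Localization.AtPrime q)) :
    ∃ (g : A) (u : Aˣ), f = (u : A) * g ^ n := by
  classical
  have hn0 : n ≠ 0 := by omega
  rcases eq_or_ne f 0 with rfl | hf0
  · exact ⟨0, 1, by rw [zero_pow hn0, mul_zero]⟩
  have : Module.FaithfullyFlat A B := Module.FaithfullyFlat.of_flat_of_isLocalHom
  have hh0 : h ≠ 0 := by
    rintro rfl
    rw [zero_pow hn0, mul_zero] at hf
    have hdd : (0 : A) ∣ f := dvd_descend (B := B) (by rw [map_zero, hf])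
    exact hf0 (zero_dvd_iff.1 hdd)
  let I := (Ideal.span {h}).comap (algebraMap A B)
  have hI : ∀ x : A, x ∈ I ↔ h ∣ algebraMap A B x := fun x => Ideal.mem_span_singleton
  have hIn : ∀ x : A, f ∣ x ^ n → x ∈ I := fun x hx => by
    rw [hI, ← IsIntegrallyClosed.pow_dvd_pow_iff hn0]
    obtain ⟨c, hc⟩ := hx
    exact ⟨(w : B) * algebraMap A B c, by rw [← map_pow, hc, map_mul, hf]; ring⟩
  let J := I ^ (n - 1)
  have hJ : ∀ j ∈ J, h ^ (n - 1) ∣ algebraMap A B j := by
    intro j hj
    have := Ideal.mem_map_of_mem (algebraMap A B) hj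
    rw [Ideal.map_pow] at this
    have h2 := Ideal.pow_right_mono (Ideal.map_comap_le (f := algebraMap A B) (K := Ideal.span {h})) (n - 1) this
    rwa [Ideal.span_singleton_pow, Ideal.mem_span_singleton] at h2
  have hcolon : (Ideal.span {f}).colon (J : Set A) ≤ I := by
    intro x hx
    refine hIn x (ReducedCurve.dvd_of_forall_height_one f _ hf0 fun p hp hh hfp => ?_)
    obtain ⟨i, hi, hass⟩ := exists_local_root hf0 hn w hf hram p hh
    have hiJ : i ^ (n - 1) ∈ J := Ideal.pow_mem_pow (hIn i hi) _
    have hx2 := Submodule.mem_colon.1 hx _ hiJ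
    rw [smul_eq_mul, Ideal.mem_span_singleton] at hx2
    have h1 := hass.dvd.trans (map_dvd (algebraMap A (Localization.AtPrime p)) hx2)
    have hi0 : algebraMap A (Localization.AtPrime p) i ≠ 0 := fun h0 => by
      rw [map_pow, h0, zero_pow hn0, Associated.comm, associated_zero_iff_eq_zero] at hass
      exact hf0 (IsLocalization.injective (Localization.AtPrime p) p.primeCompl_le_nonZeroDivisors
        (hass.trans (map_zero _).symm))
    rw [map_pow, map_mul, map_pow, show n = (n - 1) + 1 by omega, pow_succ', Nat.add_sub_cancel] at h1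
    have h2 := (mul_dvd_mul_iff_right (pow_ne_zero _ hi0)).1 h1
    refine hass.symm.dvd.trans ?_
    rw [map_pow, map_pow]
    exact pow_dvd_pow_of_dvd h2 n
  have hhI : h ∈ I.map (algebraMap A B) := by
    refine Ideal.map_mono hcolon (colon_mem f J h fun j hj => ?_)
    obtain ⟨c, hc⟩ := hJ j hj
    refine ⟨((w⁻¹ : Bˣ) : B) * c, ?_⟩
    rw [hc, hf, show n = (n - 1) + 1 by omega, pow_succ, Nat.add_sub_cancel]
    rw [show (w : B) * (h ^ (n - 1) * h) * (((w⁻¹ : Bˣ) : B) * c) =
      ((w : B) * ((w⁻¹ : Bˣ) : B)) * (h ^ (n - 1) * h * c) by ring, Units.mul_inv]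
    ring
  obtain ⟨g, hg, hgm⟩ : ∃ g ∈ I, algebraMap A B g ∉ Ideal.span {h} * IsLocalRing.maximalIdeal B := by
    by_contra hcon
    push Not at hcon
    have hle : I.map (algebraMap A B) ≤ Ideal.span {h} * IsLocalRing.maximalIdeal B :=
      Ideal.map_le_iff_le_comap.2 fun g hg => hcon g hg
    have := hle hhI
    rw [Ideal.mem_span_singleton_mul] at this
    obtain ⟨z, hz, hz2⟩ := this
    have : z = 1 := mul_left_cancel₀ hh0 (hz2.trans (mul_one h).symm)
    exact (IsLocalRing.maximalIdeal.isMaximal B).ne_top ((Ideal.eq_top_iff_one _).2 (this ▸ hz))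
  obtain ⟨z, hz⟩ := (hI g).1 hg
  have hzu : IsUnit z := by
    by_contra hzu
    exact hgm (hz ▸ Ideal.mul_mem_mul (Ideal.mem_span_singleton_self h) hzu)
  have hass : Associated (algebraMap A B f) (algebraMap A B (g ^ n)) := by
    rw [map_pow, hz, hf, mul_pow]
    exact (associated_unit_mul_left _ _ w.isUnit).trans (associated_mul_unit_right _ _ (hzu.pow n))
  obtain ⟨u, hu⟩ := associated_of_dvd_dvd (dvd_descend hass.symm.dvd) (dvd_descend hass.dvd)
  exact ⟨g, u, by rw [← hu]; ring⟩

end Groth.Agent.CAlg4.RootDescent
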