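import Groth.Agent.CAlg4.SerreSplit
import Mathlib.Algebra.Module.FinitePresentation
import Mathlib.RingTheory.Localization.Module
import Mathlib.RingTheory.Localization.Away.Basic
import Mathlib.RingTheory.Localization.AtPrime.Basic

set_option autoImplicit false

namespace Groth.Agent.CAlg4.SerreSplit

universe u

variable {R : Type u} [CommRing R] {M : Type u} [AddCommGroup M] [Module R M]

lemma ind_of_localized_coords [Module.FinitePresentation R M] (x : Ideal R) [x.IsPrime]
    (S : Submonoid R) (hS : ∀ a ∈ S, a ∉ x) {r : ℕ} (s : Fin r → M)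
    (g : LocalizedModule S M →ₗ[Localization S] (Fin r → Localization S)) (u : Fin r → S)
    (hg : ∀ i, g (LocalizedModule.mkLinearMap S M (s i)) =
      Pi.single i (algebraMap R (Localization S) (u i))) :
    Ind x s := by
  classical
  intro c hc j
  obtain ⟨φ, v, hφ⟩ := Module.FinitePresentation.exists_lift_of_isLocalizedModule S
    (Algebra.linearMap R (Localization S))
    (((LinearMap.proj j).comp (g.restrictScalars R)).comp (LocalizedModule.mkLinearMap S M))
  have h := LinearMap.congr_fun hφ (∑ i, c i • s i)
  simp only [LinearMap.comp_apply, Algebra.linearMap_apply, LinearMap.smul_apply, map_sum,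
    map_smul, LinearMap.restrictScalars_apply, hg, LinearMap.proj_apply] at h
  have h' : algebraMap R (Localization S) (∑ i, c i • φ (s i)) =
      algebraMap R (Localization S) (v * (c j * u j)) := by
    simp only [map_sum, smul_eq_mul, map_mul, Algebra.smul_def,
      Submonoid.smul_def] at h ⊢
    rw [h, Finset.sum_eq_single j]
    · rw [Pi.single_eq_same]
      ring
    · intro i _ hij
      simp [Pi.single_eq_of_ne hij.symm]
    · simp
  obtain ⟨t, ht⟩ := (IsLocalization.eq_iff_exists S (Localization S)).mp h'
  have hm : (t : R) * (∑ i, c i • φ (s i)) ∈ x := x.mul_mem_left _ (by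
    have := hc φ
    simp only [map_sum, map_smul] at this
    exact this)
  rw [ht] at hm
  rcases (Ideal.IsPrime.mem_or_mem inferInstance hm) with h1 | h1
  · exact absurd h1 (hS _ t.2)
  rcases (Ideal.IsPrime.mem_or_mem inferInstance h1) with h2 | h2
  · exact absurd h2 (hS _ v.2)
  rcases (Ideal.IsPrime.mem_or_mem inferInstance h2) with h3 | h3
  · exact h3
  · exact absurd h3 (hS _ (u j).2)

lemma exists_retraction_of_det {r : ℕ} (s : Fin r → M) (φ : Fin r → (M →ₗ[R] R)) :
    let f := (Matrix.of fun j i => φ j (s i)).det
    ∃ g : LocalizedModule (Submonoid.powers f) M →ₗ[Localization.Away f]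
        (Fin r → Localization.Away f),
      g ∘ₗ Fintype.linearCombination (Localization.Away f)
        (fun i => LocalizedModule.mkLinearMap (Submonoid.powers f) M (s i)) = LinearMap.id := by
  intro f
  let A : Matrix (Fin r) (Fin r) (Localization.Away f) :=
    (Matrix.of fun j i => φ j (s i)).map (algebraMap R _)
  let Φ : M →ₗ[R] (Fin r → Localization.Away f) :=
    LinearMap.pi fun j => (Algebra.linearMap R (Localization.Away f)).comp (φ j)
  have hunit : ∀ x : Submonoid.powers f,
      IsUnit ((algebraMap R (Module.End R (Fin r → Localization.Away f))) x) := by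
    intro x
    obtain ⟨v, hv⟩ := IsLocalization.map_units (Localization.Away f) x
    rw [Module.End.isUnit_iff]
    constructor
    · intro a b hab
      ext j
      have := congrFun hab j
      simp only [Module.algebraMap_end_apply, Pi.smul_apply, Algebra.smul_def, ← hv] at this
      exact (Units.mul_right_inj v).mp this
    · intro b
      refine ⟨fun j => (↑v⁻¹ : Localization.Away f) * b j, ?_⟩
      ext j
      simp [Module.algebraMap_end_apply, Algebra.smul_def, ← hv]
  let Φ' := (IsLocalizedModule.lift (Submonoid.powers f)
    (LocalizedModule.mkLinearMap (Submonoid.powers f) M) Φ hunit).extendScalarsOfIsLocalization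
      (Submonoid.powers f) (Localization.Away f)
  have hA : IsUnit A.det := by
    simp only [A]
    rw [← RingHom.mapMatrix_apply, ← RingHom.map_det]
    exact IsLocalization.map_units (Localization.Away f) (⟨f, 1, pow_one f⟩ : Submonoid.powers f)
  refine ⟨A⁻¹.mulVecLin.comp Φ', LinearMap.pi_ext' fun i => LinearMap.ext_ring ?_⟩
  have h1 : Φ' (LocalizedModule.mkLinearMap (Submonoid.powers f) M (s i)) =
      A.mulVec (Pi.single i 1) := by
    rw [Matrix.mulVec_single_one]
    show IsLocalizedModule.lift (Submonoid.powers f) _ Φ hunit _ = _
    rw [IsLocalizedModule.lift_apply]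
    rfl
  simp only [LinearMap.comp_apply, LinearMap.coe_single, Fintype.linearCombination_apply_single,
    one_smul, h1, Matrix.mulVecLin_apply, Matrix.mulVec_mulVec, Matrix.nonsing_inv_mul _ hA,
    Matrix.one_mulVec, LinearMap.id_apply]

end Groth.Agent.CAlg4.SerreSplit
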