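import Mathlib.RingTheory.Spectrum.Maximal.Topology
import Mathlib.RingTheory.Spectrum.Maximal.Basic
import Mathlib.Topology.NoetherianSpace
import Mathlib.Topology.KrullDimension
import Mathlib.Order.KrullDimension
import Mathlib.LinearAlgebra.FiniteDimensional.Lemmas
import Mathlib.LinearAlgebra.Matrix.NonsingularInverse
import Mathlib.RingTheory.Ideal.Quotient.Operations
import Mathlib.Algebra.Module.Torsion.Basic
import Mathlib.LinearAlgebra.LinearIndependent.Lemmas
import Mathlib.LinearAlgebra.Matrix.ToLinearEquiv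

set_option autoImplicit false

namespace Groth.Agent.CAlg4.SerreSplit

universe u

variable {R : Type u} [CommRing R] {M : Type u} [AddCommGroup M] [Module R M]

/-- elements all of whose values under linear forms lie in `x` -/
def perp (x : Ideal R) : Submodule R M where
  carrier := {m : M | ∀ φ : M →ₗ[R] R, φ m ∈ x}
  add_mem' := fun ha hb φ => by rw [map_add]; exact x.add_mem (ha φ) (hb φ)
  zero_mem' := fun φ => by simp
  smul_mem' := fun r m hm φ => by rw [map_smul, smul_eq_mul]; exact x.mul_mem_left r (hm φ)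

lemma smul_top_le_perp (x : Ideal R) : (x • ⊤ : Submodule R M) ≤ perp x := by
  rw [Submodule.smul_le]
  intro r hr m _ φ
  rw [map_smul, smul_eq_mul]
  exact x.mul_mem_right _ hr

/-- the subspace `B(x)` -/
def bq (x : Ideal R) : Submodule (R ⧸ x) (M ⧸ (x • ⊤ : Submodule R M)) :=
  Submodule.span (R ⧸ x) ((x • ⊤ : Submodule R M).mkQ '' {m : M | ∀ φ : M →ₗ[R] R, φ m ∈ x})

/-- the space `V(x)` -/
abbrev vSp (x : Ideal R) (M : Type u) [AddCommGroup M] [Module R M] :=
  (M ⧸ (x • ⊤ : Submodule R M)) ⧸ bq (R := R) (M := M) x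

def img (x : Ideal R) : M → vSp x M :=
  fun m => (bq x).mkQ ((x • ⊤ : Submodule R M).mkQ m)

lemma mem_bq_iff (x : Ideal R) (m : M) :
    (x • ⊤ : Submodule R M).mkQ m ∈ bq x ↔ m ∈ perp x := by
  constructor
  · intro h
    have hle : (bq (M := M) x).restrictScalars R ≤ (perp x).map (x • ⊤ : Submodule R M).mkQ := by
      rw [bq, Submodule.restrictScalars_span R (R ⧸ x) Ideal.Quotient.mk_surjective]
      rw [Submodule.span_le]
      rintro _ ⟨m, hm, rfl⟩
      exact ⟨m, hm, rfl⟩
    obtain ⟨m', hm', he⟩ := hle h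
    have : m - m' ∈ (x • ⊤ : Submodule R M) := (Submodule.Quotient.eq _).mp he.symm
    simpa using (perp x).add_mem (smul_top_le_perp x this) hm'
  · intro h
    exact Submodule.subset_span ⟨m, h, rfl⟩

lemma img_eq_zero_iff (x : Ideal R) (m : M) : img x m = 0 ↔ m ∈ perp x := by
  rw [← mem_bq_iff]
  exact Submodule.Quotient.mk_eq_zero _

lemma img_add (x : Ideal R) (a b : M) : img x (a + b) = img x a + img x b := by
  simp [img, map_add]

lemma img_smul (x : Ideal R) (r : R) (a : M) :
    img x (r • a) = Ideal.Quotient.mk x r • img x a := by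
  show (bq x).mkQ ((x • ⊤ : Submodule R M).mkQ (r • a)) = _
  rw [map_smul]
  show (bq x).mkQ (Ideal.Quotient.mk x r • (x • ⊤ : Submodule R M).mkQ a) = _
  rw [map_smul]
  rfl

lemma img_sum (x : Ideal R) {ι : Type*} (t : Finset ι) (f : ι → M) :
    img x (∑ i ∈ t, f i) = ∑ i ∈ t, img x (f i) := by
  simp [img, map_sum]

lemma img_surjective (x : Ideal R) : Function.Surjective (img (M := M) x) :=
  (Submodule.mkQ_surjective _).comp (Submodule.mkQ_surjective _)

/-- independence of the images in `V(x)` -/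
def Ind (x : Ideal R) {r : ℕ} (s : Fin r → M) : Prop :=
  ∀ c : Fin r → R, (∀ φ : M →ₗ[R] R, φ (∑ i, c i • s i) ∈ x) → ∀ i, c i ∈ x

lemma linearIndependent_iff_ind (x : Ideal R) {r : ℕ} (s : Fin r → M) :
    LinearIndependent (R ⧸ x) (fun i => img x (s i)) ↔ Ind x s := by
  rw [Fintype.linearIndependent_iff]
  constructor
  · intro h c hc i
    have := h (fun i => Ideal.Quotient.mk x (c i)) (by
      have h0 : img x (∑ i, c i • s i) = 0 := (img_eq_zero_iff x _).mpr hc
      rw [img_sum] at h0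
      simpa [img_smul] using h0) i
    exact Ideal.Quotient.eq_zero_iff_mem.mp this
  · intro h g hg i
    choose c hc using fun i => Ideal.Quotient.mk_surjective (g i)
    have : img x (∑ i, c i • s i) = 0 := by
      rw [img_sum]
      simpa [img_smul, hc] using hg
    rw [← hc i, Ideal.Quotient.eq_zero_iff_mem]
    exact h c ((img_eq_zero_iff x _).mp this) i

lemma ind_iff_exists_det (x : Ideal R) [x.IsMaximal] {r : ℕ} (s : Fin r → M) :
    Ind x s ↔ ∃ φ : Fin r → (M →ₗ[R] R), (Matrix.of fun j i => φ j (s i)).det ∉ x := by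
  let _ := Ideal.Quotient.field x
  constructor
  · intro h
    let v : (M →ₗ[R] R) → (Fin r → R ⧸ x) := fun φ i => Ideal.Quotient.mk x (φ (s i))
    have htop : Submodule.span (R ⧸ x) (Set.range v) = ⊤ := by
      by_contra hne
      obtain ⟨g, hg, hle⟩ := Submodule.exists_le_ker_of_lt_top _ (lt_top_iff_ne_top.mpr hne)
      apply hg
      choose c hc using fun i => Ideal.Quotient.mk_surjective (g (Pi.single i 1))
      have hv : ∀ φ, g (v φ) = Ideal.Quotient.mk x (φ (∑ i, c i • s i)) := fun φ => by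
        conv_lhs => rw [pi_eq_sum_univ' (v φ)]
        simp only [map_sum, map_smul, smul_eq_mul, map_mul, hc]
        exact Finset.sum_congr rfl fun i _ => mul_comm _ _
      have hcx : ∀ i, c i ∈ x := h c fun φ => by
        rw [← Ideal.Quotient.eq_zero_iff_mem, ← hv]
        exact hle (Submodule.subset_span ⟨φ, rfl⟩)
      refine LinearMap.ext fun w => ?_
      conv_lhs => rw [pi_eq_sum_univ' w]
      simp [← hc, Ideal.Quotient.eq_zero_iff_mem.mpr (hcx _)]
    have hsurj : ∀ w : Fin r → R ⧸ x, ∃ φ, v φ = w := by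
      intro w
      have : w ∈ Submodule.span (R ⧸ x) (Set.range v) := htop ▸ Submodule.mem_top
      induction this using Submodule.span_induction with
      | mem w hw => exact hw
      | zero => exact ⟨0, by ext i; simp [v]⟩
      | add a b _ _ ha hb =>
        obtain ⟨φ, rfl⟩ := ha
        obtain ⟨ψ, rfl⟩ := hb
        exact ⟨φ + ψ, by ext i; simp [v]⟩
      | smul a b _ hb =>
        obtain ⟨φ, rfl⟩ := hb
        obtain ⟨a, rfl⟩ := Ideal.Quotient.mk_surjective a
        exact ⟨a • φ, by ext i; simp [v]⟩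
    choose φ hφ using fun j : Fin r => hsurj (Pi.single j 1)
    refine ⟨φ, fun hd => ?_⟩
    have h1 : (Matrix.of fun j i => φ j (s i)).map (Ideal.Quotient.mk x) = 1 := by
      ext j i
      have := congrFun (hφ j) i
      simp only [v] at this
      simp [this, Matrix.one_apply, Pi.single_apply, eq_comm]
    have := Ideal.Quotient.eq_zero_iff_mem.mpr hd
    rw [RingHom.map_det, RingHom.mapMatrix_apply, h1, Matrix.det_one] at this
    exact one_ne_zero this
  · rintro ⟨φ, hd⟩ c hc i
    set A := (Matrix.of fun j i => φ j (s i)).map (Ideal.Quotient.mk x)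
    have hA : A.det ≠ 0 := by
      simp only [A]
      rw [← RingHom.mapMatrix_apply, ← RingHom.map_det]
      exact fun hh => hd (Ideal.Quotient.eq_zero_iff_mem.mp hh)
    have := Matrix.eq_zero_of_mulVec_eq_zero hA (v := fun i => Ideal.Quotient.mk x (c i)) (by
      ext j
      have := Ideal.Quotient.eq_zero_iff_mem.mpr (hc (φ j))
      simp only [map_sum, map_smul, smul_eq_mul, map_mul] at this
      simp only [A, Matrix.mulVec, dotProduct, Matrix.map_apply, Matrix.of_apply, Pi.zero_apply]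
      rw [← this]
      exact Finset.sum_congr rfl fun i _ => mul_comm _ _)
    exact Ideal.Quotient.eq_zero_iff_mem.mp (congrFun this i)

lemma isClosed_not_ind {r : ℕ} (s : Fin r → M) :
    IsClosed {y : MaximalSpectrum R | ¬ Ind y.asIdeal s} := by
  rw [← isOpen_compl_iff]
  have : {y : MaximalSpectrum R | ¬ Ind y.asIdeal s}ᶜ = ⋃ φ : Fin r → (M →ₗ[R] R),
      MaximalSpectrum.toPrimeSpectrum ⁻¹'
        (PrimeSpectrum.basicOpen (Matrix.of fun j i => φ j (s i)).det : Set (PrimeSpectrum R)) := by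
    ext y
    simp [ind_iff_exists_det]
    rfl
  rw [this]
  exact isOpen_iUnion fun φ =>
    (PrimeSpectrum.basicOpen _).isOpen.preimage MaximalSpectrum.toPrimeSpectrum_continuous

lemma exists_approx (S : Finset (MaximalSpectrum R)) (m : MaximalSpectrum R → M) :
    ∃ t : M, ∀ y ∈ S, img y.asIdeal t = img y.asIdeal (m y) := by
  classical
  have hco : Pairwise fun i j : S => IsCoprime (i : MaximalSpectrum R).asIdeal
      (j : MaximalSpectrum R).asIdeal := fun i j hij =>
    MaximalSpectrum.isCoprime_of_ne fun hh => hij (Subtype.ext hh)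
  choose e he using fun i : S =>
    Ideal.exists_forall_sub_mem_ideal hco (fun j => if i = j then (1 : R) else 0)
  refine ⟨∑ i : S, e i • m i, fun y hy => ?_⟩
  rw [img_sum]
  have : ∀ i : S, img y.asIdeal (e i • m i) =
      if i = ⟨y, hy⟩ then img y.asIdeal (m y) else 0 := fun i => by
    rw [img_smul, Ideal.Quotient.eq.mpr (he i ⟨y, hy⟩)]
    split_ifs with hh
    · simp [hh]
    · simp
  simp [Finset.sum_congr rfl fun i _ => this i]

lemma snoc_img (x : Ideal R) {r : ℕ} (s : Fin r → M) (t : M) :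
    (fun i => img x ((Fin.snoc s t : Fin (r + 1) → M) i)) =
      Fin.snoc (fun i => img x (s i)) (img x t) := by
  ext i
  refine Fin.lastCases ?_ (fun j => ?_) i <;> simp

lemma ind_snoc_iff (x : Ideal R) [x.IsMaximal] {r : ℕ} (s : Fin r → M) (t : M) :
    Ind x (Fin.snoc s t) ↔
      Ind x s ∧ img x t ∉ Submodule.span (R ⧸ x) (Set.range fun i => img x (s i)) := by
  let _ := Ideal.Quotient.field x
  rw [← linearIndependent_iff_ind, snoc_img, linearIndependent_finSnoc, linearIndependent_iff_ind]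

lemma exists_ind_snoc (x : Ideal R) [x.IsMaximal] {r : ℕ} (s : Fin r → M)
    (h : r + 1 ≤ Module.finrank (R ⧸ x) (vSp x M)) (hs : Ind x s) :
    ∃ w : M, Ind x (Fin.snoc s w) := by
  let _ := Ideal.Quotient.field x
  by_contra hw
  push Not at hw
  have htop : Submodule.span (R ⧸ x) (Set.range fun i => img x (s i)) = ⊤ := by
    rw [eq_top_iff]
    intro v _
    obtain ⟨m, rfl⟩ := img_surjective x v
    by_contra hm
    exact hw m ((ind_snoc_iff x s m).mpr ⟨hs, hm⟩)
  have := finrank_range_le_card (R := R ⧸ x) (b := fun i => img x (s i))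
  rw [Set.finrank, htop, finrank_top, Fintype.card_fin] at this
  omega

theorem serre [TopologicalSpace.NoetherianSpace (MaximalSpectrum R)] (k : ℕ) :
    ∀ (h : ℕ) (s : Fin h → M) (F : Set (MaximalSpectrum R)), IsClosed F →
    ∀ (S : Finset (MaximalSpectrum R)), (∀ y ∈ S, y ∈ F) → ∀ (m : MaximalSpectrum R → M),
    (∀ y : MaximalSpectrum R, h + k ≤ Module.finrank (R ⧸ y.asIdeal) (vSp y.asIdeal M)) →
    (∀ y, y ∉ F → Ind y.asIdeal s) →
    ∃ (t : M) (F' : Set (MaximalSpectrum R)), IsClosed F' ∧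
      (∀ y ∈ S, img y.asIdeal t = img y.asIdeal (m y)) ∧
      (∀ y, y ∉ F ∪ F' → Ind y.asIdeal (Fin.snoc s t)) ∧
      ∀ Z : TopologicalSpace.IrreducibleCloseds (MaximalSpectrum R),
        (Z : Set (MaximalSpectrum R)) ⊆ F' → (k : ℕ∞) ≤ Order.coheight Z := by
  induction k with
  | zero =>
    intro h s F hF S hS m _ _
    obtain ⟨t, ht⟩ := exists_approx S m
    exact ⟨t, Set.univ, isClosed_univ, ht, fun y hy => absurd (Or.inr (Set.mem_univ y)) hy,
      fun Z _ => by simp⟩
  | succ k ih =>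
    intro h s F hF S hS m hdim hind
    classical
    obtain ⟨t₁, F₁, hF₁, hS₁, hI₁, hc₁⟩ :=
      ih h s F hF S hS m (fun y => le_trans (by omega) (hdim y)) hind
    -- points in the components of F₁ outside F
    have comp : ∀ (A G : Set (MaximalSpectrum R)), IsClosed A →
        ∃ (Y : Finset (MaximalSpectrum R))
          (C : Finset (TopologicalSpace.IrreducibleCloseds (MaximalSpectrum R))),
          (∀ y ∈ Y, y ∈ A ∧ y ∉ G) ∧ (∀ c ∈ C, (c : Set (MaximalSpectrum R)) ⊆ A) ∧
          (∀ c ∈ C, ∃ y ∈ Y, y ∈ (c : Set (MaximalSpectrum R))) ∧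
          (∀ y ∈ A, y ∉ G → ∃ c ∈ C, y ∈ (c : Set (MaximalSpectrum R))) := by
      intro A G hA
      obtain ⟨T, hTfin, hTc, hTi, hTA⟩ :=
        TopologicalSpace.NoetherianSpace.exists_finite_set_isClosed_irreducible hA
      let T' := (hTfin.toFinset).filter (fun c => ¬ c ⊆ G)
      have hT' : ∀ c ∈ T', c ∈ T ∧ ∃ y ∈ c, y ∉ G := fun c hc => by
        simpa [T', Set.not_subset] using hc
      choose p hp hp' using fun c : T' => (hT' c c.2).2
      refine ⟨T'.attach.image p, T'.attach.image fun c : ↥T' =>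
        ⟨c.1, hTi c.1 (hT' c c.2).1, hTc c.1 (hT' c c.2).1⟩, ?_, ?_, ?_, ?_⟩
      · intro y hy
        obtain ⟨c, _, rfl⟩ := Finset.mem_image.mp hy
        exact ⟨hTA ▸ Set.mem_sUnion.mpr ⟨c.1, (hT' c c.2).1, hp c⟩, hp' c⟩
      · intro c hc
        obtain ⟨c, _, rfl⟩ := Finset.mem_image.mp hc
        exact fun y hy => hTA ▸ Set.mem_sUnion.mpr ⟨c.1, (hT' c c.2).1, hy⟩
      · intro c hc
        obtain ⟨c, _, rfl⟩ := Finset.mem_image.mp hc
        exact ⟨p c, Finset.mem_image.mpr ⟨c, Finset.mem_attach _ _, rfl⟩, hp c⟩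
      · intro y hy hyG
        rw [hTA] at hy
        obtain ⟨c, hc, hyc⟩ := hy
        have : c ∈ T' := by simp [T', hc, Set.not_subset]; exact ⟨y, hyc, hyG⟩
        exact ⟨_, Finset.mem_image.mpr ⟨⟨c, this⟩, Finset.mem_attach _ _, rfl⟩, hyc⟩
    obtain ⟨Y₁, C₁, hY₁, hC₁, hCY₁, hcov₁⟩ := comp F₁ F hF₁
    choose! w hw using fun y (hy : y ∈ Y₁) =>
      exists_ind_snoc y.asIdeal s (le_trans (by omega) (hdim y)) (hind y (hY₁ y hy).2)
    obtain ⟨t₂, F₂, hF₂, hS₂, hI₂, hc₂⟩ :=
      ih (h + 1) (Fin.snoc s t₁) (F ∪ F₁) (hF.union hF₁) (S ∪ Y₁)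
        (fun y hy => by
          rcases Finset.mem_union.mp hy with hy | hy
          exacts [Or.inl (hS y hy), Or.inr (hY₁ y hy).1])
        w (fun y => le_trans (by omega) (hdim y)) hI₁
    obtain ⟨Y₂, C₂, hY₂, hC₂, hCY₂, hcov₂⟩ := comp F₂ (F ∪ F₁) hF₂
    -- the scalar
    have hco : Pairwise fun i j : ((S ∪ Y₁ ∪ Y₂ : Finset _)) =>
        IsCoprime (i : MaximalSpectrum R).asIdeal (j : MaximalSpectrum R).asIdeal := fun i j hij =>
      MaximalSpectrum.isCoprime_of_ne fun hh => hij (Subtype.ext hh)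
    obtain ⟨a, ha⟩ := Ideal.exists_forall_sub_mem_ideal hco (fun i =>
      if (i : MaximalSpectrum R) ∈ Y₁ ∧ ¬ Ind (i : MaximalSpectrum R).asIdeal (Fin.snoc s t₁)
      then (1 : R) else 0)
    set t := t₁ + a • t₂
    have ht : ∀ y (hy : y ∈ S ∪ Y₁ ∪ Y₂), img y.asIdeal t = img y.asIdeal t₁ +
        (if y ∈ Y₁ ∧ ¬ Ind y.asIdeal (Fin.snoc s t₁) then img y.asIdeal t₂ else 0) := fun y hy => by
      rw [img_add, img_smul, Ideal.Quotient.eq.mpr (ha ⟨y, hy⟩)]
      simp only
      split_ifs <;> simp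
    set Z : Set (MaximalSpectrum R) := {y | ¬ Ind y.asIdeal (Fin.snoc s t)}
    set G : Set (MaximalSpectrum R) := ⋃ c ∈ C₁ ∪ C₂, (c : Set (MaximalSpectrum R))
    have hGood : ∀ y ∈ Y₁ ∪ Y₂, y ∉ Z := by
      intro y hy hyZ
      have hy' : y ∈ S ∪ Y₁ ∪ Y₂ := by
        simp only [Finset.mem_union] at hy ⊢; tauto
      have hyF : y ∉ F := by
        rcases Finset.mem_union.mp hy with hy | hy
        exacts [(hY₁ y hy).2, fun hh => (hY₂ y hy).2 (Or.inl hh)]
      apply hyZ
      by_cases h1 : Ind y.asIdeal (Fin.snoc s t₁)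
      · rw [ind_snoc_iff] at h1 ⊢
        refine ⟨h1.1, ?_⟩
        rw [ht y hy', if_neg (fun hh => hh.2 ((ind_snoc_iff _ _ _).mpr h1)), add_zero]
        exact h1.2
      · have hy1 : y ∈ Y₁ := by
          rcases Finset.mem_union.mp hy with hy | hy
          · exact hy
          · exact absurd (hI₁ y (hY₂ y hy).2) h1
        have h2 := hw y hy1
        rw [ind_snoc_iff] at h2 ⊢
        refine ⟨h2.1, fun hh => h2.2 ?_⟩
        rw [ht y hy', if_pos ⟨hy1, h1⟩, hS₂ y (Finset.mem_union_right _ hy1)] at hh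
        have h1' : img y.asIdeal t₁ ∈
            Submodule.span (R ⧸ y.asIdeal) (Set.range fun i => img y.asIdeal (s i)) :=
          not_not.mp fun hh' => h1 ((ind_snoc_iff _ _ _).mpr ⟨hind y hyF, hh'⟩)
        simpa using Submodule.sub_mem _ hh h1'
    have hZ : ∀ y, y ∈ Z → y ∉ F → y ∈ G := by
      intro y hyZ hyF
      by_cases h1 : y ∈ F₁
      · obtain ⟨c, hc, hyc⟩ := hcov₁ y h1 hyF
        exact Set.mem_biUnion (Finset.mem_union_left _ hc) hyc
      by_cases h2 : y ∈ F₂
      · obtain ⟨c, hc, hyc⟩ := hcov₂ y h2 (by simp [hyF, h1])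
        exact Set.mem_biUnion (Finset.mem_union_right _ hc) hyc
      exfalso
      apply hyZ
      have h3 := hI₂ y (by simp [hyF, h1, h2])
      intro c hc
      have h4 := h3 (Fin.snoc c (c (Fin.last h) * a)) (fun φ => by
        convert hc φ using 2
        simp [Fin.sum_univ_castSucc, t, smul_add, mul_smul, add_assoc])
      intro i
      refine Fin.lastCases ?_ (fun j => ?_) i
      · simpa using h4 (Fin.castSucc (Fin.last h))
      · simpa using h4 (Fin.castSucc (Fin.castSucc j))
    refine ⟨t, Z ∩ G, (isClosed_not_ind _).inter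
      (isClosed_biUnion_finset fun c _ => c.isClosed), ?_, ?_, ?_⟩
    · intro y hy
      rw [ht y (Finset.mem_union_left _ (Finset.mem_union_left _ hy))]
      rw [if_neg (fun hh => (hY₁ y hh.1).2 (hS y hy)), add_zero, hS₁ y hy]
    · intro y hy
      by_contra hh
      exact hy (Or.inr ⟨hh, hZ y hh (fun h' => hy (Or.inl h'))⟩)
    · intro W hW
      obtain ⟨c, hc, hWc⟩ : ∃ c ∈ C₁ ∪ C₂, (W : Set (MaximalSpectrum R)) ⊆ c := by
        have := (isIrreducible_iff_sUnion_isClosed.mp W.isIrreducible)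
          ((C₁ ∪ C₂).image fun c : TopologicalSpace.IrreducibleCloseds _ =>
            (c : Set (MaximalSpectrum R)))
          (by
            intro z hz
            obtain ⟨c, _, rfl⟩ := Finset.mem_image.mp hz
            exact c.isClosed)
          (by simpa [G, Set.sUnion_image] using hW.trans Set.inter_subset_right)
        obtain ⟨z, hz, hWz⟩ := this
        obtain ⟨c, hc, rfl⟩ := Finset.mem_image.mp hz
        exact ⟨c, hc, hWz⟩
      obtain ⟨y, hy, hyc⟩ : ∃ y ∈ Y₁ ∪ Y₂, y ∈ (c : Set (MaximalSpectrum R)) := by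
        rcases Finset.mem_union.mp hc with hc | hc
        · obtain ⟨y, hy, hyc⟩ := hCY₁ c hc
          exact ⟨y, Finset.mem_union_left _ hy, hyc⟩
        · obtain ⟨y, hy, hyc⟩ := hCY₂ c hc
          exact ⟨y, Finset.mem_union_right _ hy, hyc⟩
      have hlt : W < c := lt_of_le_of_ne hWc fun hh => hGood y hy (hW (hh ▸ hyc)).1
      have hck : (k : ℕ∞) ≤ Order.coheight c := by
        rcases Finset.mem_union.mp hc with hc | hc
        exacts [hc₁ c (hC₁ c hc), hc₂ c (hC₂ c hc)]
      rw [Nat.cast_add, Nat.cast_one]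
      exact le_trans (by gcongr) (Order.coheight_add_one_le hlt)

end Groth.Agent.CAlg4.SerreSplit
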