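import Groth.Agent.EGA4Alg4.JacAdic
import Mathlib

/-! Smoothness at a prime and adic formal smoothness of the local homomorphism. -/

universe u

namespace Groth.Agent.CAlg4.SmoothAdic

theorem smoothAt_iff (A B : Type u) [CommRing A] [IsNoetherianRing A] [CommRing B] [Algebra A B]
    [Algebra.FiniteType A B] (q : Ideal B) [q.IsPrime]
    [Algebra (Localization.AtPrime (q.comap (algebraMap A B))) (Localization.AtPrime q)]
    [IsScalarTower A (Localization.AtPrime (q.comap (algebraMap A B))) (Localization.AtPrime q)] :
    (∃ g : B, g ∉ q ∧ Algebra.Smooth A (Localization.Away g)) ↔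
      CAlgX.IsAdicFormallySmooth (Localization.AtPrime (q.comap (algebraMap A B))) (Localization.AtPrime q)
        (IsLocalRing.maximalIdeal (Localization.AtPrime q)) := by
  have : Algebra.FinitePresentation A B := Algebra.FinitePresentation.of_finiteType.1 inferInstance
  rw [EGA4Alg4.JacAdic13.isAdicFormallySmooth_localization_base (A := A)
    ((q.comap (algebraMap A B)).primeCompl)]
  constructor
  · rintro ⟨g, hg, hsm⟩
    have hs : Algebra.IsSmoothAt A q :=
      (Algebra.basicOpen_subset_smoothLocus_iff (R := A) (A := B) (f := g)).2 inferInstance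
        (show (⟨q, inferInstance⟩ : PrimeSpectrum B) ∈ (PrimeSpectrum.basicOpen g : Set (PrimeSpectrum B)) from hg)
    exact EGA4Alg4.JacAdic13.exists_lift_of_formallySmooth _
  · intro h
    obtain ⟨n, f, hf⟩ := Algebra.FiniteType.iff_quotient_mvPolynomial''.1 ‹Algebra.FiniteType A B›
    let P := MvPolynomial (Fin n) A
    let := f.toRingHom.toAlgebra
    have : IsScalarTower A P B := IsScalarTower.of_algebraMap_eq fun a => (f.commutes a).symm
    have hinj := EGA4Alg4.JacAdic13.injective_of_isAdicFormallySmooth (A := A) (B := P) hf q h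
    have : Module.Finite P (RingHom.ker (algebraMap P B)).Cotangent :=
      Module.Finite.of_surjective _ (Ideal.toCotangent_surjective _)
    obtain ⟨g, hg, w, hw⟩ := FSAdic12.exists_smul_id_of_injective_residueField hf q hinj
    have hs : Algebra.IsSmoothAt A q :=
      FSAdic12.formallySmooth_of_smul_id hf g w hw q.primeCompl hg (Localization.AtPrime q)
    exact Algebra.IsSmoothAt.exists_notMem_smooth A q

end Groth.Agent.CAlg4.SmoothAdic
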