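import Groth.Agent.CAlg4.SopChoose
import Mathlib.Logic.Relation

set_option autoImplicit false

namespace Groth.Agent.CAlg4.TopLength

universe u

variable {R : Type u} [CommRing R] [IsNoetherianRing R] [IsLocalRing R] {d : ℕ}

/-- the entries lie in the maximal ideal and generate an ideal primary to it -/
def IsSop (w : Fin d → R) : Prop :=
  (∀ i, w i ∈ IsLocalRing.maximalIdeal R) ∧
    IsLocalRing.maximalIdeal R ≤ (Ideal.span (Set.range w)).radical

/-- one entry changes -/
def SopStep (a b : Fin d → R) : Prop :=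
  IsSop a ∧ IsSop b ∧ ∃ i : Fin d, ∀ i' : Fin d, i' ≠ i → a i' = b i'

omit [IsNoetherianRing R] [IsLocalRing R] in
lemma span_range_update (u : Fin d → R) (j : Fin d) (x : R) :
    Ideal.span (Set.range (Function.update u j x)) =
      Ideal.span (u '' {i | i ≠ j}) ⊔ Ideal.span {x} := by
  rw [← Ideal.span_union]
  congr 1
  ext y
  simp only [Set.mem_range, Set.mem_union, Set.mem_image, Set.mem_ofPred_eq, Set.mem_singleton_iff]
  constructor
  · rintro ⟨i, rfl⟩
    rcases eq_or_ne i j with rfl | h
    · exact Or.inr (by simp)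
    · exact Or.inl ⟨i, h, by simp [h]⟩
  · rintro (⟨i, h, rfl⟩ | rfl)
    · exact ⟨i, by simp [h]⟩
    · exact ⟨j, by simp⟩

lemma dim_drop_one (u : Fin d → R) (hu : IsSop u) (j : Fin d) :
    ringKrullDim (R ⧸ Ideal.span (u '' {i | i ≠ j})) ≤ ((0 + 1 : ℕ) : WithBot ℕ∞) := by
  classical
  have hne : Ideal.span (u '' {i | i ≠ j}) ≠ ⊤ := by
    intro h
    refine (IsLocalRing.maximalIdeal.isMaximal R).ne_top (top_le_iff.mp (h ▸ ?_))
    rw [Ideal.span_le]
    rintro _ ⟨i, _, rfl⟩
    exact hu.1 i
  refine (dim_le_dim_sup_span _ {u j} (by simpa using hu.1 j) hne).trans ?_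
  rw [Finset.coe_singleton, Finset.card_singleton, ← span_range_update, Function.update_eq_self]
  exact add_le_add (dim_quotient_zero_of_radical _ hu.2) le_rfl

lemma exists_sop_chain (u v : Fin d → R) (hu : IsSop u) (hv : IsSop v) :
    Relation.ReflTransGen SopStep u v := by
  classical
  suffices ∀ k, k ≤ d → ∀ u v : Fin d → R, IsSop u → IsSop v → (∀ i : Fin d, k ≤ i → u i = v i) →
      Relation.ReflTransGen SopStep u v from
    this d le_rfl u v hu hv fun i hi => absurd i.2 (not_lt.mpr hi)
  intro k
  induction k with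
  | zero =>
    intro _ u v _ _ h
    rw [funext fun i => h i (Nat.zero_le _)]
  | succ k ih =>
    intro hk u v hu hv h
    set j : Fin d := ⟨k, hk⟩
    set Ju := Ideal.span (u '' {i | i ≠ j})
    set Jv := Ideal.span (v '' {i | i ≠ j})
    let s : Finset (Ideal R) := ((Ju.finite_minimalPrimes_of_isNoetherianRing (R := R)).union
      (Jv.finite_minimalPrimes_of_isNoetherianRing (R := R))).toFinset.erase (IsLocalRing.maximalIdeal R)
    have hs : ∀ q ∈ s, q.IsPrime := fun q hq => by
      have hq' := Finset.mem_of_mem_erase hq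
      rw [Set.Finite.mem_toFinset] at hq'
      rcases hq' with h' | h' <;> exact h'.1.1
    obtain ⟨x, hxm, hx⟩ : ∃ x ∈ IsLocalRing.maximalIdeal R, ∀ q ∈ s, x ∉ q := by
      by_contra hne
      push Not at hne
      obtain ⟨q, hq, hle⟩ := (Ideal.subset_union_prime (IsLocalRing.maximalIdeal R)
        (IsLocalRing.maximalIdeal R) (f := fun q : Ideal R => q) (s := s) (fun q hq _ _ => hs q hq)
        (I := IsLocalRing.maximalIdeal R)).mp (fun x hx => by
          obtain ⟨q, hq, hxq⟩ := hne x hx
          exact Set.mem_biUnion hq hxq)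
      exact Finset.ne_of_mem_erase hq
        ((IsLocalRing.maximalIdeal.isMaximal R).eq_of_le (hs q hq).ne_top hle).symm
    have key : ∀ w : Fin d → R, IsSop w →
        (∀ q ∈ (Ideal.span (w '' {i | i ≠ j})).minimalPrimes,
          q ≠ IsLocalRing.maximalIdeal R → x ∉ q) → IsSop (Function.update w j x) := by
      intro w hw hwx
      refine ⟨fun i => ?_, ?_⟩
      · rcases eq_or_ne i j with rfl | hij
        · simpa using hxm
        · simpa [hij] using hw.1 i
      · rw [span_range_update]
        exact maximalIdeal_le_radical_of_dim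
          (by simpa using dim_sup_span_singleton_le 0 (dim_drop_one w hw j) hwx)
    have hu' := key u hu fun q hq hne =>
      hx q (Finset.mem_erase.mpr ⟨hne, (Set.Finite.mem_toFinset _).mpr (Or.inl hq)⟩)
    have hv' := key v hv fun q hq hne =>
      hx q (Finset.mem_erase.mpr ⟨hne, (Set.Finite.mem_toFinset _).mpr (Or.inr hq)⟩)
    refine (Relation.ReflTransGen.single (b := Function.update u j x)
      ⟨hu, hu', j, fun i hi => by simp [hi]⟩).trans ?_
    refine (ih (Nat.le_of_succ_le hk) _ (Function.update v j x) hu' hv' fun i hi => ?_).tail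
      ⟨hv', hv, j, fun i hi => by simp [hi]⟩
    rcases eq_or_ne i j with rfl | hij
    · simp
    · simp only [Function.update_of_ne hij]
      exact h i (Nat.lt_of_le_of_ne hi (fun e => hij (Fin.ext e.symm)))

end Groth.Agent.CAlg4.TopLength
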