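import Groth.Agent.CAlg4.SplitMap
import Mathlib.Algebra.Module.FinitePresentation
import Mathlib.Algebra.Module.LocalizedModule.Basic
import Mathlib.RingTheory.Localization.BaseChange
import Mathlib.Algebra.Module.Projective
import Mathlib.RingTheory.Localization.Away.Basic
import Mathlib.RingTheory.Spectrum.Prime.Basic

/-! Projectivity of cokernels and split maps. -/

universe u v w

open TensorProduct

namespace Groth.Agent.CAlg4.SplitCoker

variable {R : Type u} [CommRing R] {M : Type v} {N : Type w} [AddCommGroup M] [Module R M]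
  [AddCommGroup N] [Module R N]

theorem exists_section_of_split (d : M →ₗ[R] N) (f : R) (g : N →ₗ[R] M) (h : d ∘ₗ g ∘ₗ d = f • d) :
    ∃ σ : (N ⧸ LinearMap.range d) →ₗ[R] N, (LinearMap.range d).mkQ ∘ₗ σ = f • LinearMap.id := by
  refine ⟨(LinearMap.range d).liftQ (f • LinearMap.id - d ∘ₗ g) ?_, Submodule.linearMap_qext _ ?_⟩
  · rintro _ ⟨m, rfl⟩
    have := LinearMap.congr_fun h m
    simp only [LinearMap.comp_apply, LinearMap.smul_apply] at this
    simp [this]
  · refine LinearMap.ext fun n => ?_
    simp only [LinearMap.comp_apply, Submodule.mkQ_apply, Submodule.liftQ_apply, LinearMap.sub_apply,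
      LinearMap.smul_apply, LinearMap.id_apply]
    rw [Submodule.Quotient.mk_sub, Submodule.Quotient.mk_smul,
      (Submodule.Quotient.mk_eq_zero _).2 (LinearMap.mem_range_self d _), sub_zero]

theorem exists_split_of_section [Module.Projective R N] (d : M →ₗ[R] N) (f : R)
    (σ : (N ⧸ LinearMap.range d) →ₗ[R] N) (h : (LinearMap.range d).mkQ ∘ₗ σ = f • LinearMap.id) :
    ∃ g : N →ₗ[R] M, d ∘ₗ g ∘ₗ d = f • d := by
  let e : N →ₗ[R] LinearMap.range d :=
    (f • LinearMap.id - σ ∘ₗ (LinearMap.range d).mkQ).codRestrict _ fun n => by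
      rw [← Submodule.Quotient.mk_eq_zero, LinearMap.sub_apply, Submodule.Quotient.mk_sub, sub_eq_zero]
      exact (LinearMap.congr_fun h ((LinearMap.range d).mkQ n)).symm
  obtain ⟨g, hg⟩ := Module.projective_lifting_property d.rangeRestrict e d.surjective_rangeRestrict
  refine ⟨g, LinearMap.ext fun m => ?_⟩
  have h1 := congrArg Subtype.val (LinearMap.congr_fun hg (d m))
  simp only [LinearMap.comp_apply, LinearMap.rangeRestrict, LinearMap.codRestrict_apply, e,
    LinearMap.sub_apply, LinearMap.smul_apply, LinearMap.id_apply, Submodule.mkQ_apply] at h1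
  rw [(Submodule.Quotient.mk_eq_zero _).2 (LinearMap.mem_range_self d m), map_zero, sub_zero] at h1
  simpa using h1

theorem projective_of_section [Module.Projective R N] (d : M →ₗ[R] N) (f : R)
    (σ : (N ⧸ LinearMap.range d) →ₗ[R] N) (h : (LinearMap.range d).mkQ ∘ₗ σ = f • LinearMap.id) :
    Module.Projective (Localization.Away f)
      (LocalizedModule (Submonoid.powers f) (N ⧸ LinearMap.range d)) := by
  let S := Submonoid.powers f
  have : Module.Projective (Localization S) (LocalizedModule S N) :=
    .of_equiv (IsLocalizedModule.isBaseChange S (Localization S) (LocalizedModule.mkLinearMap S N)).equiv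
  let u : (Localization S)ˣ :=
    (IsLocalization.map_units (Localization S) (⟨f, Submonoid.mem_powers f⟩ : S)).unit
  refine Module.Projective.of_split (P := LocalizedModule S (N ⧸ LinearMap.range d))
    (M := LocalizedModule S N) ((↑u⁻¹ : Localization S) • LocalizedModule.map S σ)
    (LocalizedModule.map S (LinearMap.range d).mkQ) ?_
  refine LinearMap.ext fun x => ?_
  induction x using LocalizedModule.induction_on with
  | _ m s =>
    rw [LinearMap.comp_apply, LinearMap.smul_apply, map_smul, LocalizedModule.map_mk,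
      LocalizedModule.map_mk, LinearMap.id_apply]
    have h1 : (LinearMap.range d).mkQ (σ m) = f • m := LinearMap.congr_fun h m
    rw [h1, ← LocalizedModule.smul'_mk, ← IsScalarTower.algebraMap_smul (Localization S) f, smul_smul,
      show algebraMap R (Localization S) f = (u : Localization S) from (IsUnit.unit_spec _).symm,
      Units.inv_mul, one_smul]

theorem exists_section_of_projective [Module.Finite R M] [Module.Finite R N] [Module.Projective R N]
    (d : M →ₗ[R] N) (f : R)
    [Module.Projective (Localization.Away f)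
      (LocalizedModule (Submonoid.powers f) (N ⧸ LinearMap.range d))] :
    ∃ (k : ℕ) (σ : (N ⧸ LinearMap.range d) →ₗ[R] N),
      (LinearMap.range d).mkQ ∘ₗ σ = f ^ k • LinearMap.id := by
  classical
  let S := Submonoid.powers f
  let C := N ⧸ LinearMap.range d
  have : Module.FinitePresentation R N := Module.finitePresentation_of_projective R N
  have : Module.FinitePresentation R C := Module.finitePresentation_of_surjective _
    (Submodule.mkQ_surjective _) (by rw [Submodule.ker_mkQ, LinearMap.range_eq_map]; exact Module.Finite.fg_top.map _)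
  have hsurj : Function.Surjective (LocalizedModule.map S (LinearMap.range d).mkQ) := by
    intro x
    induction x using LocalizedModule.induction_on with
    | _ m s =>
      obtain ⟨n, rfl⟩ := Submodule.mkQ_surjective _ m
      exact ⟨LocalizedModule.mk n s, LocalizedModule.map_mk _ _ _ _⟩
  obtain ⟨t, ht⟩ := Module.projective_lifting_property (R := Localization.Away f)
    (LocalizedModule.map S (LinearMap.range d).mkQ) LinearMap.id hsurj
  obtain ⟨σ, s, hσ⟩ := Module.FinitePresentation.exists_lift_of_isLocalizedModule S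
    (LocalizedModule.mkLinearMap S N) (t.restrictScalars R ∘ₗ LocalizedModule.mkLinearMap S C)
  have hx : ∀ x : C, ∃ c : S, c • ((LinearMap.range d).mkQ (σ x) - (s : R) • x) = 0 := by
    intro x
    have h1 := congrArg (LocalizedModule.map S (LinearMap.range d).mkQ) (LinearMap.congr_fun hσ x)
    simp only [LinearMap.comp_apply, LocalizedModule.mkLinearMap_apply, LocalizedModule.map_mk,
      LinearMap.smul_apply, LinearMap.restrictScalars_apply, Submonoid.smul_def,
      LinearMap.map_smul_of_tower] at h1
    have h2 : LocalizedModule.map S (LinearMap.range d).mkQ (t (LocalizedModule.mk x 1)) =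
        LocalizedModule.mk x 1 := LinearMap.congr_fun ht _
    rw [h2] at h1
    rw [← IsLocalizedModule.eq_zero_iff S (LocalizedModule.mkLinearMap S C), map_sub, map_smul]
    exact sub_eq_zero.2 h1
  obtain ⟨T, hT⟩ := Module.Finite.fg_top (R := R) (M := C)
  choose c hc using hx
  let c₀ : S := ∏ x ∈ T, c x
  have hall : (c₀ : R) • ((LinearMap.range d).mkQ ∘ₗ σ - (s : R) • LinearMap.id) = 0 :=
    LinearMap.ext_on_range (v := fun x : T => (x : C)) (by simp [hT]) fun x => by
      have : (c₀ : R) = (∏ y ∈ T.erase x, ((c y : S) : R)) * (c x : R) := by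
        simp only [c₀, Submonoid.coe_finsetProd]
        rw [← Finset.mul_prod_erase T _ x.2, mul_comm]
      rw [LinearMap.smul_apply, this, mul_smul]
      have h3 := hc (x : C)
      rw [Submonoid.smul_def] at h3
      simp only [LinearMap.sub_apply, LinearMap.comp_apply, LinearMap.smul_apply, LinearMap.id_apply,
        LinearMap.zero_apply]
      rw [h3, smul_zero]
  obtain ⟨k, hk⟩ := (c₀ * s).2
  refine ⟨k, (c₀ : R) • σ, ?_⟩
  rw [smul_sub, sub_eq_zero, smul_smul, ← LinearMap.comp_smul] at hall
  exact hall.trans (congrArg (· • LinearMap.id) hk.symm)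

theorem cond_iff_exists [Module.Finite R M] [Module.Projective R M] [Module.Finite R N] [Module.Projective R N]
    (d : M →ₗ[R] N) (p : PrimeSpectrum R) :
    LinearMap.ker (d.baseChange p.asIdeal.ResidueField) ≤
        LinearMap.range ((LinearMap.ker d).subtype.baseChange p.asIdeal.ResidueField) ↔
      ∃ f : R, f ∉ p.asIdeal ∧
        Module.Projective (Localization.Away f)
          (LocalizedModule (Submonoid.powers f) (N ⧸ LinearMap.range d)) := by
  constructor
  · intro h
    obtain ⟨f, g, hf, hg⟩ := SplitMap.exists_split (SplitMap.frac_residueField p) d h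
    obtain ⟨σ, hσ⟩ := exists_section_of_split d f g hg
    exact ⟨f, fun hm => hf (Ideal.algebraMap_residueField_eq_zero.2 hm), projective_of_section d f σ hσ⟩
  · rintro ⟨f, hf, hP⟩
    obtain ⟨k, σ, hσ⟩ := exists_section_of_projective d f
    obtain ⟨g, hg⟩ := exists_split_of_section d _ σ hσ
    refine SplitMap.cond_of_split d (f ^ k) g ?_ hg
    rw [map_pow]
    exact pow_ne_zero _ fun h => hf (Ideal.algebraMap_residueField_eq_zero.1 h)

/-- Global splitting from pointwise splitting. -/
theorem exists_global [Module.Projective R N] (d : M →ₗ[R] N)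
    (h : ∀ p : PrimeSpectrum R, ∃ (f : R) (g : N →ₗ[R] M), f ∉ p.asIdeal ∧ d ∘ₗ g ∘ₗ d = f • d) :
    ∃ g : N →ₗ[R] M, d ∘ₗ g ∘ₗ d = d := by
  let J : Ideal R :=
    { carrier := {f | ∃ g : N →ₗ[R] M, d ∘ₗ g ∘ₗ d = f • d}
      zero_mem' := ⟨0, by simp⟩
      add_mem' := by
        rintro a b ⟨g, hg⟩ ⟨g', hg'⟩
        exact ⟨g + g', by rw [LinearMap.add_comp, LinearMap.comp_add, hg, hg', add_smul]⟩
      smul_mem' := by
        rintro c a ⟨g, hg⟩
        exact ⟨c • g, by rw [LinearMap.smul_comp, LinearMap.comp_smul, hg, smul_smul, smul_eq_mul]⟩ }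
  have hJ : (1 : R) ∈ J := by
    by_contra h1
    obtain ⟨m, hm, hJm⟩ := Ideal.exists_le_maximal J (fun e => h1 (e ▸ Submodule.mem_top))
    obtain ⟨f, g, hf, hg⟩ := h ⟨m, hm.isPrime⟩
    exact hf (hJm ⟨g, hg⟩)
  obtain ⟨g, hg⟩ := hJ
  exact ⟨g, hg.trans (one_smul R d)⟩

theorem projective_iff [Module.Finite R M] [Module.Projective R M] [Module.Finite R N] [Module.Projective R N]
    (d : M →ₗ[R] N) :
    Module.Projective R (N ⧸ LinearMap.range d) ↔
      ∀ p : PrimeSpectrum R,
        LinearMap.ker (d.baseChange p.asIdeal.ResidueField) ≤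
          LinearMap.range ((LinearMap.ker d).subtype.baseChange p.asIdeal.ResidueField) := by
  constructor
  · intro hP p
    obtain ⟨σ, hσ⟩ := Module.projective_lifting_property (LinearMap.range d).mkQ LinearMap.id
      (Submodule.mkQ_surjective _)
    obtain ⟨g, hg⟩ := exists_split_of_section d 1 σ (hσ.trans (one_smul R LinearMap.id).symm)
    exact SplitMap.cond_of_split d 1 g (by rw [map_one]; exact one_ne_zero) hg
  · intro h
    obtain ⟨g, hg⟩ := exists_global d fun p => by
      obtain ⟨f, g, hf, hg⟩ := SplitMap.exists_split (SplitMap.frac_residueField p) d (h p)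
      exact ⟨f, g, fun hm => hf (Ideal.algebraMap_residueField_eq_zero.2 hm), hg⟩
    obtain ⟨σ, hσ⟩ := exists_section_of_split d 1 g (hg.trans (one_smul R d).symm)
    exact Module.Projective.of_split σ (LinearMap.range d).mkQ (hσ.trans (one_smul R LinearMap.id))

end Groth.Agent.CAlg4.SplitCoker
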