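import Groth.Agent.S6270
import Mathlib

/-! Completion of a sequence with flat cokernel which is projective modulo the ideal. -/

universe u
open TensorProduct

namespace Groth.Agent.CAlg4.SplitCompletion

variable {R : Type u} [CommRing R] (I : Ideal R) {M : Type u} [AddCommGroup M] [Module R M] [Module.Flat R M]
  [Module.Projective (R ⧸ I) (M ⧸ (I • ⊤ : Submodule R M))]

theorem projective_pow (n : ℕ) : Module.Projective (R ⧸ I ^ n) ((R ⧸ I ^ n) ⊗[R] M) := by
  rcases Nat.eq_zero_or_pos n with rfl | hn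
  · have : Subsingleton (R ⧸ I ^ 0) := Ideal.Quotient.subsingleton_iff.2 (by rw [pow_zero, Ideal.one_eq_top])
    have : Subsingleton ((R ⧸ I ^ 0) ⊗[R] M) := Module.subsingleton (R ⧸ I ^ 0) _
    infer_instance
  let R' := R ⧸ I ^ n
  let J : Ideal R' := I.map (Ideal.Quotient.mk _)
  have hnil : IsNilpotent J := ⟨n, by rw [← Ideal.map_pow, Ideal.map_quotient_self]; rfl⟩
  let e0 : (R ⧸ I) ⊗[R] M ≃ₗ[R ⧸ I] M ⧸ (I • ⊤ : Submodule R M) :=
    (TensorProduct.quotTensorEquivQuotSMul M I).extendScalarsOfSurjective Ideal.Quotient.mk_surjective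
  have hproj : Module.Projective (R ⧸ I) ((R ⧸ I) ⊗[R] M) := .of_equiv e0.symm
  have hle : ∀ a ∈ I, (Ideal.Quotient.mk J).comp (Ideal.Quotient.mk (I ^ n)) a = 0 := fun a ha =>
    Ideal.Quotient.eq_zero_iff_mem.2 (Ideal.mem_map_of_mem _ ha)
  let _ : Algebra (R ⧸ I) (R' ⧸ J) := (Ideal.Quotient.lift I _ hle).toAlgebra
  have : IsScalarTower R (R ⧸ I) (R' ⧸ J) := IsScalarTower.of_algebraMap_eq fun _ => rfl
  have h1 : Module.Projective (R' ⧸ J) ((R' ⧸ J) ⊗[R] M) :=
    .of_equiv (AlgebraTensorModule.cancelBaseChange R (R ⧸ I) (R' ⧸ J) (R' ⧸ J) M)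
  have h2 : Module.Projective (R' ⧸ J) ((R' ⧸ J) ⊗[R'] (R' ⊗[R] M)) :=
    .of_equiv (AlgebraTensorModule.cancelBaseChange R R' (R' ⧸ J) (R' ⧸ J) M).symm
  exact S6270.result J hnil (R' ⊗[R] M) h2

theorem exists_lift (n : ℕ) {X Y : Type u} [AddCommGroup X] [Module R X] [AddCommGroup Y] [Module R Y]
    (g : X →ₗ[R] Y) (hg : Function.Surjective g) (hX : ∀ c ∈ I ^ n, ∀ x : X, c • x = 0) (φ : M →ₗ[R] Y) :
    ∃ h : M →ₗ[R] X, g ∘ₗ h = φ :=
  CAlgH2.exists_lift_of_projective_mod (I ^ n) (projective_pow I n) g φ hg hX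

omit [Module.Flat R M] [Module.Projective (R ⧸ I) (M ⧸ (I • ⊤ : Submodule R M))] in
theorem kill (n : ℕ) {X : Type u} [AddCommGroup X] [Module R X] (c : R) (hc : c ∈ I ^ n)
    (x : X ⧸ (I ^ n • ⊤ : Submodule R X)) : c • x = 0 := by
  obtain ⟨x, rfl⟩ := Submodule.Quotient.mk_surjective _ x
  rw [← Submodule.Quotient.mk_smul, Submodule.Quotient.mk_eq_zero]
  exact Submodule.smul_mem_smul hc trivial

theorem main {K P : Type u} [AddCommGroup K] [Module R K] [AddCommGroup P] [Module R P]
    (f : K →ₗ[R] P) (g : P →ₗ[R] M)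
    (hf : Function.Injective f) (hg : Function.Surjective g) (hfg : Function.Exact f g) :
    Function.Injective (AdicCompletion.map I f) ∧
      Function.Exact (AdicCompletion.map I f) (AdicCompletion.map I g) ∧
      ∃ s : AdicCompletion I M →ₗ[AdicCompletion I R] AdicCompletion I P,
        AdicCompletion.map I g ∘ₗ s = LinearMap.id := by
  let fn := fun n => (f.reduceModIdeal (I ^ n)).restrictScalars R
  let gn := fun n => (g.reduceModIdeal (I ^ n)).restrictScalars R
  have hu := CAlgH2.universallyInjective_of_flat_coker hfg hg hf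
  have hfn : ∀ n, Function.Injective (fn n) := fun n => (injective_iff_map_eq_zero _).2 fun z hz => by
    obtain ⟨z, rfl⟩ := Submodule.Quotient.mk_surjective _ z
    have : f z ∈ (I ^ n • ⊤ : Submodule R P) := (Submodule.Quotient.mk_eq_zero _).1 hz
    exact (Submodule.Quotient.mk_eq_zero _).2 (CAlgH2.mem_smul_top_of_universallyInjective hu (I ^ n) this)
  have hgn : ∀ n, Function.Surjective (gn n) := fun n z => by
    obtain ⟨z, rfl⟩ := Submodule.Quotient.mk_surjective _ z
    obtain ⟨p, rfl⟩ := hg z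
    exact ⟨Submodule.Quotient.mk p, rfl⟩
  have hgf : ∀ n z, gn n (fn n z) = 0 := fun n z => by
    obtain ⟨z, rfl⟩ := Submodule.Quotient.mk_surjective _ z
    show Submodule.Quotient.mk (g (f z)) = 0
    rw [hfg.apply_apply_eq_zero]; rfl
  have hex : ∀ n y, gn n y = 0 → ∃ z, fn n z = y := fun n y hy => by
    obtain ⟨y, rfl⟩ := Submodule.Quotient.mk_surjective _ y
    have h : g y ∈ (I ^ n • ⊤ : Submodule R M) := (Submodule.Quotient.mk_eq_zero _).1 hy
    rw [← LinearMap.range_eq_top.2 hg, ← Submodule.map_top, ← Submodule.map_smul''] at h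
    obtain ⟨y', hy', he⟩ := h
    obtain ⟨z, hz⟩ := (hfg (y - y')).1 (by rw [map_sub, he, sub_self])
    refine ⟨Submodule.Quotient.mk z, ?_⟩
    show Submodule.Quotient.mk (f z) = _
    rw [hz, Submodule.Quotient.eq]
    simpa using hy'
  let tr := fun {m n : ℕ} (h : m ≤ n) => AdicCompletion.transitionMap I P h
  refine ⟨fun x y hxy => AdicCompletion.ext fun n => hfn n ?_, fun y => ⟨fun hy => ?_, ?_⟩, ?_⟩
  · exact congrArg (fun z : AdicCompletion I P => z.val n) hxy
  · choose z hz using fun n => hex n (y.val n) (congrArg (fun w : AdicCompletion I M => w.val n) hy)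
    refine ⟨⟨z, fun {m n} h => hfn m ?_⟩, AdicCompletion.ext hz⟩
    have hnat : fn m (AdicCompletion.transitionMap I K h (z n)) = tr h (fn n (z n)) :=
      (LinearMap.congr_fun (AdicCompletion.transitionMap_comp_reduceModIdeal I f h) (z n)).symm
    rw [hnat, hz, hz]
    exact y.2 h
  · rintro ⟨z, rfl⟩
    exact AdicCompletion.ext fun n => hgf n _
  · -- compatible sections modulo the powers of the ideal
    let Sec := fun n => {s : M →ₗ[R] P ⧸ (I ^ n • ⊤ : Submodule R P) // ∀ x, gn n (s x) = Submodule.Quotient.mk x}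
    have hstep : ∀ n (s : Sec n), ∃ t : Sec (n + 1), ∀ x, tr n.le_succ (t.1 x) = s.1 x := by
      intro n s
      obtain ⟨ψ, hψ⟩ := exists_lift I (n + 1) (gn (n + 1)) (hgn (n + 1)) (kill I (n + 1)) (Submodule.mkQ _)
      let δ : M →ₗ[R] P ⧸ (I ^ n • ⊤ : Submodule R P) := s.1 - tr n.le_succ ∘ₗ ψ
      let q := tr n.le_succ ∘ₗ fn (n + 1)
      have hnatg : ∀ w, gn n (tr n.le_succ w) = AdicCompletion.transitionMap I M n.le_succ (gn (n + 1) w) := fun w =>
        (LinearMap.congr_fun (AdicCompletion.transitionMap_comp_reduceModIdeal I g n.le_succ) w).symm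
      have hδ : ∀ x, δ x ∈ LinearMap.range q := fun x => by
        have h0 : gn n (δ x) = 0 := by
          show gn n (s.1 x - tr n.le_succ (ψ x)) = 0
          rw [map_sub, s.2, hnatg, show gn (n + 1) (ψ x) = Submodule.Quotient.mk x from LinearMap.congr_fun hψ x]
          exact sub_self _
        obtain ⟨z, hz⟩ := hex n _ h0
        obtain ⟨z, rfl⟩ := Submodule.Quotient.mk_surjective _ z
        exact ⟨Submodule.Quotient.mk z, hz⟩
      obtain ⟨δ', hδ'⟩ := exists_lift I (n + 1) q.rangeRestrict q.surjective_rangeRestrict (kill I (n + 1))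
        (δ.codRestrict _ hδ)
      refine ⟨⟨ψ + fn (n + 1) ∘ₗ δ', fun x => ?_⟩, fun x => ?_⟩
      · show gn (n + 1) (ψ x + fn (n + 1) (δ' x)) = _
        rw [map_add, hgf, add_zero]
        exact LinearMap.congr_fun hψ x
      · show tr n.le_succ (ψ x + fn (n + 1) (δ' x)) = _
        rw [map_add, show tr n.le_succ (fn (n + 1) (δ' x)) = δ x from congrArg Subtype.val (LinearMap.congr_fun hδ' x)]
        show _ + (s.1 x - tr n.le_succ (ψ x)) = _
        abel
    choose F hF using hstep
    have h0 : ∀ x : M, gn 0 0 = Submodule.Quotient.mk x := fun x => by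
      rw [map_zero, eq_comm, Submodule.Quotient.mk_eq_zero, pow_zero, Ideal.one_eq_top, Submodule.top_smul]
      trivial
    let s : (n : ℕ) → Sec n := fun n => Nat.rec ⟨0, h0⟩ F n
    have hcomp : ∀ {m n : ℕ} (h : m ≤ n) x, tr h ((s n).1 x) = (s m).1 x := by
      intro m n h
      induction h with
      | refl =>
        intro x
        obtain ⟨y, hy⟩ := Submodule.Quotient.mk_surjective _ ((s m).1 x)
        rw [← hy]; rfl
      | step h ih =>
        rename_i k
        intro x
        obtain ⟨y, hy⟩ := Submodule.Quotient.mk_surjective _ ((s (k + 1)).1 x)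
        rw [← ih x, ← hF k (s k) x, show (F k (s k)).1 x = (s (k + 1)).1 x from rfl, ← hy]
        rfl
    let σ : ∀ n, (M ⧸ (I ^ n • ⊤ : Submodule R M)) →ₗ[R] P ⧸ (I ^ n • ⊤ : Submodule R P) := fun n =>
      Submodule.liftQ _ (s n).1 (Submodule.smul_le.2 fun c hc y _ => by
        rw [LinearMap.mem_ker, map_smul]; exact kill I n c hc _)
    let t : AdicCompletion I M →ₗ[R] AdicCompletion I P := AdicCompletion.lift I (fun n => σ n ∘ₗ AdicCompletion.eval I M n)
      fun {m n} h => LinearMap.ext fun x => by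
        obtain ⟨y, hy⟩ := Submodule.Quotient.mk_surjective _ (x.val n)
        show tr h (σ n (x.val n)) = σ m (x.val m)
        rw [← x.2 h, ← hy]
        exact hcomp h y
    refine ⟨{ toFun := t, map_add' := map_add t, map_smul' := fun r x => AdicCompletion.ext fun n => ?_ }, ?_⟩
    · obtain ⟨a, ha⟩ := Ideal.Quotient.mk_surjective (AdicCompletion.evalₐ I n r)
      show σ n (r.val n • x.val n) = r.val n • σ n (x.val n)
      rw [AdicCompletion.val_smul_eq_evalₐ_smul, AdicCompletion.val_smul_eq_evalₐ_smul, ← ha]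
      exact map_smul (σ n) a (x.val n)
    · refine LinearMap.ext fun x => AdicCompletion.ext fun n => ?_
      show gn n (σ n (x.val n)) = x.val n
      obtain ⟨y, hy⟩ := Submodule.Quotient.mk_surjective _ (x.val n)
      rw [← hy]
      exact (s n).2 y

end Groth.Agent.CAlg4.SplitCompletion
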