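import Mathlib.LinearAlgebra.Matrix.Adjugate
import Mathlib.LinearAlgebra.Matrix.ToLin
import Mathlib.LinearAlgebra.TensorProduct.Tower
import Mathlib.RingTheory.TensorProduct.Basic
import Mathlib.RingTheory.TensorProduct.Finite
import Mathlib.RingTheory.Finiteness.Projective
import Mathlib.RingTheory.Ideal.Maps
import Mathlib.LinearAlgebra.FiniteDimensional.Lemmas
import Mathlib.LinearAlgebra.Basis.VectorSpace
import Mathlib.LinearAlgebra.Matrix.Charpoly.LinearMap
import Mathlib.RingTheory.IntegralDomain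
import Mathlib.RingTheory.LocalRing.ResidueField.Fiber

/-! Maps of finite projective modules which are split near a point. -/

universe u v w x

open TensorProduct

namespace Groth.Agent.CAlg4.SplitMap

variable {R : Type u} [CommRing R] {M : Type v} {N : Type w} [AddCommGroup M] [Module R M]
  [AddCommGroup N] [Module R N] {k : Type x} [Field k] [Algebra R k]

theorem coords_eq_zero [Module.Finite R M] [Module.Projective R M] {n : ℕ} (ι : M →ₗ[R] (Fin n → R))
    {m : M} (hm : (1 : k) ⊗ₜ[R] m = 0) (i : Fin n) : algebraMap R k (ι m i) = 0 := by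
  have := congrArg (fun t => TensorProduct.AlgebraTensorModule.rid R k k
    (((LinearMap.proj i : (Fin n → R) →ₗ[R] R) ∘ₗ ι).baseChange k t)) hm
  simpa [Algebra.smul_def] using this

theorem mem_smul_of_tmul_eq_zero [Module.Finite R M] [Module.Projective R M]
    {m : M} (hm : (1 : k) ⊗ₜ[R] m = 0) :
    m ∈ RingHom.ker (algebraMap R k) • (⊤ : Submodule R M) := by
  obtain ⟨n, ρ, ι, -, -, h⟩ := Module.Finite.exists_comp_eq_id_of_projective R M
  have : m = ∑ i, ι m i • ρ (Pi.single i 1) := by
    conv_lhs => rw [← LinearMap.id_apply (R := R) m, ← h, LinearMap.comp_apply]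
    conv_lhs => rw [pi_eq_sum_univ' (ι m)]
    simp [map_sum]
  rw [this]
  exact Submodule.sum_mem _ fun i _ =>
    Submodule.smul_mem_smul (RingHom.mem_ker.2 (coords_eq_zero ι hm i)) Submodule.mem_top

/-- The fraction property. -/
def Frac (R : Type u) [CommRing R] (k : Type x) [Field k] [Algebra R k] : Prop :=
  ∀ c : k, ∃ a b : R, algebraMap R k b ≠ 0 ∧ c * algebraMap R k b = algebraMap R k a

theorem exists_clear (hk : Frac R k) {ι : Type*} [Fintype ι] (c : ι → k) :
    ∃ (s : R) (a : ι → R), algebraMap R k s ≠ 0 ∧ ∀ i, algebraMap R k (a i) = algebraMap R k s * c i := by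
  classical
  choose a b hb hab using fun i => hk (c i)
  refine ⟨∏ i, b i, fun i => a i * ∏ j ∈ Finset.univ.erase i, b j, ?_, fun i => ?_⟩
  · rw [map_prod]; exact Finset.prod_ne_zero_iff.2 fun i _ => hb i
  · rw [map_mul, ← hab, ← Finset.mul_prod_erase Finset.univ b (Finset.mem_univ i), map_mul]
    ring

theorem frac_residueField (p : PrimeSpectrum R) : Frac R p.asIdeal.ResidueField := by
  intro c
  obtain ⟨x, rfl⟩ := IsLocalRing.residue_surjective c
  obtain ⟨a, b, rfl⟩ := IsLocalization.exists_mk'_eq p.asIdeal.primeCompl x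
  refine ⟨a, b, ?_, ?_⟩
  · intro h
    exact b.2 ((Ideal.algebraMap_residueField_eq_zero).1 h)
  · rw [IsScalarTower.algebraMap_apply R (Localization.AtPrime p.asIdeal) p.asIdeal.ResidueField,
      IsScalarTower.algebraMap_apply R (Localization.AtPrime p.asIdeal) p.asIdeal.ResidueField]
    show IsLocalRing.residue _ _ * IsLocalRing.residue _ _ = IsLocalRing.residue _ _
    rw [← map_mul, IsLocalization.mk'_spec]

/-- Splitting data at a point. -/
structure Data (d : M →ₗ[R] N) (k : Type x) [Field k] [Algebra R k] (r : ℕ) where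
  y : Fin r → M
  lam : N →ₗ[R] (Fin r → R)
  D : R
  hD : algebraMap R k D ≠ 0
  hlam : ∀ i, lam (d (y i)) = D • Pi.single i 1

namespace Data

variable {d : M →ₗ[R] N} {r : ℕ} (S : Data d k r)

/-- The partial inverse. -/
noncomputable def g : N →ₗ[R] M := Fintype.linearCombination R S.y ∘ₗ S.lam

theorem dgd_y (i : Fin r) : d (S.g (d (S.y i))) = S.D • d (S.y i) := by
  simp [g, S.hlam, Fintype.linearCombination_apply, Pi.single_apply, ite_smul]

theorem linearIndependent {k' : Type*} [Field k'] [Algebra R k'] (h : algebraMap R k' S.D ≠ 0) :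
    LinearIndependent k' fun i => d.baseChange k' ((1 : k') ⊗ₜ[R] S.y i) := by
  rw [Fintype.linearIndependent_iff]
  intro c hc i
  have := congrArg (fun t => TensorProduct.AlgebraTensorModule.rid R k' k'
    (((LinearMap.proj i : (Fin r → R) →ₗ[R] R) ∘ₗ S.lam).baseChange k' t)) hc
  simpa [map_sum, S.hlam, Pi.single_apply, Finset.sum_ite_eq, h, TensorProduct.smul_tmul',
    ← Algebra.algebraMap_eq_smul_one, Algebra.smul_def, apply_ite (algebraMap R k')] using this

theorem le_rank {k' : Type*} [Field k'] [Algebra R k'] [Module.Finite R N]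
    (h : algebraMap R k' S.D ≠ 0) :
    r ≤ Module.finrank k' (LinearMap.range (d.baseChange k')) := by
  have hli := S.linearIndependent h
  have h2 : LinearIndependent k' fun i => (⟨d.baseChange k' ((1 : k') ⊗ₜ[R] S.y i),
      LinearMap.mem_range_self _ _⟩ : LinearMap.range (d.baseChange k')) :=
    LinearIndependent.of_comp (Submodule.subtype _) hli
  simpa using h2.fintype_card_le_finrank

theorem vanish {k' : Type*} [Field k'] [Algebra R k'] [Module.Finite R N]
    (h : algebraMap R k' S.D ≠ 0) (hr : Module.finrank k' (LinearMap.range (d.baseChange k')) ≤ r)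
    (m : M) : (1 : k') ⊗ₜ[R] (S.D • d m - d (S.g (d m))) = 0 := by
  let e : N →ₗ[R] N := S.D • LinearMap.id - d ∘ₗ S.g
  have hspan : Submodule.span k' (Set.range fun i => d.baseChange k' ((1 : k') ⊗ₜ[R] S.y i)) =
      LinearMap.range (d.baseChange k') := by
    refine Submodule.eq_of_le_of_finrank_le (Submodule.span_le.2 ?_) ?_
    · rintro _ ⟨i, rfl⟩; exact LinearMap.mem_range_self _ _
    · rw [finrank_span_eq_card (S.linearIndependent h), Fintype.card_fin]; exact hr
  have hm : d.baseChange k' ((1 : k') ⊗ₜ[R] m) ∈ LinearMap.ker (e.baseChange k') := by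
    refine (show Submodule.span k' _ ≤ LinearMap.ker (e.baseChange k') from Submodule.span_le.2 ?_)
      (hspan ▸ LinearMap.mem_range_self _ _)
    rintro _ ⟨i, rfl⟩
    simp [e, S.dgd_y]
  simpa [e, TensorProduct.tmul_sub, TensorProduct.tmul_smul] using hm

end Data

theorem exists_data [Module.Finite R N] [Module.Projective R N] (hk : Frac R k) (d : M →ₗ[R] N) :
    Nonempty (Data d k (Module.finrank k (LinearMap.range (d.baseChange k)))) := by
  classical
  have hgen : Submodule.span k (Set.range fun m : M => d.baseChange k ((1 : k) ⊗ₜ[R] m)) =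
      LinearMap.range (d.baseChange k) := by
    refine le_antisymm (Submodule.span_le.2 ?_) ?_
    · rintro _ ⟨m, rfl⟩; exact LinearMap.mem_range_self _ _
    · rintro _ ⟨t, rfl⟩
      induction t using TensorProduct.induction_on with
      | zero => simp
      | tmul c m =>
        have : c ⊗ₜ[R] m = c • ((1 : k) ⊗ₜ[R] m) := by rw [TensorProduct.smul_tmul', smul_eq_mul, mul_one]
        rw [this, map_smul]
        exact Submodule.smul_mem _ _ (Submodule.subset_span ⟨m, rfl⟩)
      | add a b ha hb => rw [map_add]; exact add_mem ha hb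
  obtain ⟨b, hb, hspan, hli⟩ := exists_linearIndependent k
    (Set.range fun m : M => d.baseChange k ((1 : k) ⊗ₜ[R] m))
  have : Finite b := hli.finite
  have := Fintype.ofFinite b
  have hr : Fintype.card b = Module.finrank k (LinearMap.range (d.baseChange k)) := by
    rw [← hgen, ← hspan, ← finrank_span_eq_card hli]
    rw [Subtype.range_coe_subtype]
    rfl
  rw [← hr]
  let e := Fintype.equivFin b
  choose y hy using fun i : Fin (Fintype.card b) => hb (e.symm i).2
  simp only at hy
  have hliy : LinearIndependent k fun i => d.baseChange k ((1 : k) ⊗ₜ[R] y i) := by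
    simp only [hy]; exact hli.comp e.symm e.symm.injective
  obtain ⟨n, ρ, ι, -, -, h⟩ := Module.Finite.exists_comp_eq_id_of_projective R N
  obtain ⟨P, hP⟩ : ∃ P : (k ⊗[R] N) →ₗ[k] (Fin (Fintype.card b) → k),
      ∀ i, P (d.baseChange k ((1 : k) ⊗ₜ[R] y i)) = Pi.single i 1 := by
    obtain ⟨φ, hφ⟩ := (Fintype.linearCombination k
      fun i => d.baseChange k ((1 : k) ⊗ₜ[R] y i)).exists_leftInverse_of_injective (by
        rw [LinearMap.ker_eq_bot]
        exact linearIndependent_iff_injective_fintypeLinearCombination.1 hliy)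
    exact ⟨φ, fun i => by simpa using LinearMap.congr_fun hφ (Pi.single i 1)⟩
  obtain ⟨s, a, hs, ha⟩ := exists_clear hk
    (fun x : Fin (Fintype.card b) × Fin n => P ((1 : k) ⊗ₜ[R] ρ (Pi.single x.2 1)) x.1)
  let Lam : Matrix (Fin (Fintype.card b)) (Fin n) R := Matrix.of fun i l => a (i, l)
  let μ : N →ₗ[R] (Fin (Fintype.card b) → R) := Lam.mulVecLin ∘ₗ ι
  have hμ : ∀ m i, algebraMap R k (μ m i) = algebraMap R k s * P ((1 : k) ⊗ₜ[R] m) i := by
    intro m i
    have hm : m = ∑ l, ι m l • ρ (Pi.single l 1) := by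
      conv_lhs => rw [← LinearMap.id_apply (R := R) m, ← h, LinearMap.comp_apply, pi_eq_sum_univ' (ι m)]
      simp [map_sum]
    conv_rhs => rw [hm]
    simp only [μ, LinearMap.comp_apply, Matrix.mulVecLin_apply, Matrix.mulVec, dotProduct, map_sum,
      TensorProduct.tmul_sum, TensorProduct.tmul_smul, LinearMap.map_smul_of_tower, Finset.sum_apply,
      Finset.mul_sum, Lam, Matrix.of_apply, map_mul, ha, Algebra.smul_def]
    exact Finset.sum_congr rfl fun l _ => by
      simp only [Pi.mul_apply, Pi.algebraMap_apply]; ring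
  let T : Matrix (Fin (Fintype.card b)) (Fin (Fintype.card b)) R := Matrix.of fun i j => μ (d (y j)) i
  have hT : T.map (algebraMap R k) = algebraMap R k s • (1 : Matrix _ _ k) := by
    ext i j
    have := hP j
    rw [LinearMap.baseChange_tmul] at this
    simp [T, hμ, this, Pi.single_apply, Matrix.one_apply]
  refine ⟨⟨y, T.adjugate.mulVecLin ∘ₗ μ, T.det, ?_, fun j => ?_⟩⟩
  · rw [RingHom.map_det, RingHom.mapMatrix_apply, hT, Matrix.det_smul, Matrix.det_one, mul_one]
    exact pow_ne_zero _ hs
  · have : μ (d (y j)) = T.mulVec (Pi.single j 1) := by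
      ext i; simp [T]
    rw [LinearMap.comp_apply, this, Matrix.mulVecLin_apply, Matrix.mulVec_mulVec, Matrix.adjugate_mul,
      Matrix.smul_mulVec, Matrix.one_mulVec]

theorem exists_annihilator [Module.Finite R M] [Module.Projective R M] (hk : Frac R k) (W : Submodule R M)
    (h : ∀ m : M, (1 : k) ⊗ₜ[R] m ∈ Submodule.span k ((fun w => (1 : k) ⊗ₜ[R] w) '' (W : Set M))) :
    ∃ c : R, algebraMap R k c ≠ 0 ∧ ∀ m : M, c • m ∈ W := by
  classical
  obtain ⟨t, ht⟩ := Module.Finite.fg_top (R := R) (M := M)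
  have hgen : ∀ m : M, ∃ s : R, algebraMap R k s ≠ 0 ∧
      s • m ∈ W ⊔ RingHom.ker (algebraMap R k) • (⊤ : Submodule R M) := by
    intro m
    have hm := h m
    rw [Submodule.mem_span_image_iff_exists_fun] at hm
    obtain ⟨u, hu, c, hc⟩ := hm
    obtain ⟨s, a, hs, ha⟩ := exists_clear hk c
    refine ⟨s, hs, ?_⟩
    have hw : ∑ i : u, a i • (i : M) ∈ W :=
      Submodule.sum_mem _ fun i _ => W.smul_mem _ (hu i.2)
    rw [← add_sub_cancel (∑ i : u, a i • (i : M)) (s • m)]
    refine Submodule.add_mem_sup hw (mem_smul_of_tmul_eq_zero (k := k) ?_)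
    rw [TensorProduct.tmul_sub, TensorProduct.tmul_sum, TensorProduct.tmul_smul, ← hc,
      Finset.smul_sum, sub_eq_zero]
    refine Finset.sum_congr rfl fun i _ => ?_
    rw [TensorProduct.tmul_smul, ← smul_assoc, Algebra.smul_def, ← ha,
      ← algebraMap_smul k (a i) ((1 : k) ⊗ₜ[R] (i : M))]
  choose s hs hsm using hgen
  have hS : ∀ m : M, (∏ x ∈ t, s x) • m ∈ W ⊔ RingHom.ker (algebraMap R k) • (⊤ : Submodule R M) := by
    have hle : Submodule.span R (t : Set M) ≤ (W ⊔ RingHom.ker (algebraMap R k) • (⊤ : Submodule R M)).comap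
        ((∏ x ∈ t, s x) • LinearMap.id) := Submodule.span_le.2 fun x hx => by
      simp only [SetLike.mem_coe, Submodule.mem_comap, LinearMap.smul_apply, LinearMap.id_apply]
      rw [← Finset.mul_prod_erase t s hx, mul_comm, mul_smul]
      exact Submodule.smul_mem _ _ (hsm x)
    exact fun m => hle (ht ▸ Submodule.mem_top)
  obtain ⟨P, hPm, -, hPc', hP⟩ :=
    LinearMap.exists_monic_and_natDegree_eq_and_coeff_mem_pow_and_aeval_eq_zero R
      ((∏ x ∈ t, s x) • (LinearMap.id : (M ⧸ W) →ₗ[R] M ⧸ W)) (RingHom.ker (algebraMap R k)) (by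
        rintro _ ⟨q, rfl⟩
        obtain ⟨m, rfl⟩ := W.mkQ_surjective q
        have h2 := Submodule.mem_map_of_mem (f := W.mkQ) (hS m)
        rw [Submodule.map_sup, Submodule.mkQ_map_self, bot_sup_eq, Submodule.map_smul''] at h2
        exact (Submodule.smul_mono le_rfl le_top) (by simpa using h2))
  have hPc : ∀ j < P.natDegree, P.coeff j ∈ RingHom.ker (algebraMap R k) :=
    fun j hj => Ideal.pow_le_self (Nat.sub_pos_of_lt hj).ne' (hPc' j)
  refine ⟨P.eval (∏ x ∈ t, s x), ?_, fun m => ?_⟩
  · rw [Polynomial.eval_eq_sum_range, Finset.sum_range_succ, map_add, map_sum,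
      Finset.sum_eq_zero fun j hj => by rw [map_mul, RingHom.mem_ker.1 (hPc j (Finset.mem_range.1 hj)), zero_mul],
      zero_add, hPm.coeff_natDegree, one_mul, map_pow, map_prod]
    exact pow_ne_zero _ (Finset.prod_ne_zero_iff.2 fun x _ => hs x)
  · have := LinearMap.congr_fun hP (W.mkQ m)
    rw [show (∏ x ∈ t, s x) • (LinearMap.id : (M ⧸ W) →ₗ[R] M ⧸ W) =
        algebraMap R (Module.End R (M ⧸ W)) (∏ x ∈ t, s x) from (Algebra.algebraMap_eq_smul_one _).symm,
      Polynomial.aeval_algebraMap_apply_eq_algebraMap_eval] at this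
    rwa [LinearMap.zero_apply, Module.algebraMap_end_apply, ← map_smul, Submodule.mkQ_apply,
      Submodule.Quotient.mk_eq_zero] at this

theorem exists_split [Module.Finite R M] [Module.Projective R M] [Module.Finite R N] [Module.Projective R N]
    (hk : Frac R k) (d : M →ₗ[R] N)
    (hcond : LinearMap.ker (d.baseChange k) ≤ LinearMap.range ((LinearMap.ker d).subtype.baseChange k)) :
    ∃ (f : R) (g : N →ₗ[R] M), algebraMap R k f ≠ 0 ∧ d ∘ₗ g ∘ₗ d = f • d := by
  obtain ⟨S⟩ := exists_data hk d
  let W : Submodule R M := Submodule.span R (Set.range S.y) ⊔ LinearMap.ker d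
  let U := Submodule.span k ((fun w => (1 : k) ⊗ₜ[R] w) '' (W : Set M))
  obtain ⟨c, hc, hcW⟩ := exists_annihilator hk W fun m => show _ ∈ U by
    have hspan : Submodule.span k (Set.range fun i => d.baseChange k ((1 : k) ⊗ₜ[R] S.y i)) =
        LinearMap.range (d.baseChange k) := by
      refine Submodule.eq_of_le_of_finrank_le (Submodule.span_le.2 ?_) ?_
      · rintro _ ⟨i, rfl⟩; exact LinearMap.mem_range_self _ _
      · rw [finrank_span_eq_card (S.linearIndependent S.hD), Fintype.card_fin]
    obtain ⟨a, ha⟩ := (Submodule.mem_span_range_iff_exists_fun k).1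
      (hspan.symm ▸ LinearMap.mem_range_self (d.baseChange k) ((1 : k) ⊗ₜ[R] m))
    have hy : ∑ i, a i • ((1 : k) ⊗ₜ[R] S.y i) ∈ U := Submodule.sum_mem _ fun i _ =>
      Submodule.smul_mem _ _ (Submodule.subset_span
        ⟨_, Submodule.mem_sup_left (Submodule.subset_span ⟨i, rfl⟩), rfl⟩)
    have hker : (1 : k) ⊗ₜ[R] m - ∑ i, a i • ((1 : k) ⊗ₜ[R] S.y i) ∈ LinearMap.ker (d.baseChange k) := by
      rw [LinearMap.mem_ker, map_sub, map_sum]
      simp only [map_smul, ha, sub_self]
    have hU : LinearMap.range ((LinearMap.ker d).subtype.baseChange k) ≤ U := by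
      rintro _ ⟨t, rfl⟩
      induction t using TensorProduct.induction_on with
      | zero => simp
      | tmul c z =>
        have : (LinearMap.ker d).subtype.baseChange k (c ⊗ₜ[R] z) = c • ((1 : k) ⊗ₜ[R] (z : M)) := by
          simp [TensorProduct.smul_tmul']
        rw [this]
        exact Submodule.smul_mem _ _ (Submodule.subset_span ⟨_, Submodule.mem_sup_right z.2, rfl⟩)
      | add a b ha hb => rw [map_add]; exact add_mem ha hb
    simpa using add_mem hy (hU (hcond hker))
  refine ⟨S.D * c, c • S.g, by rw [map_mul]; exact mul_ne_zero S.hD hc, LinearMap.ext fun m => ?_⟩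
  have hW : W ≤ LinearMap.ker (d ∘ₗ S.g ∘ₗ d - S.D • d) := by
    refine sup_le (Submodule.span_le.2 ?_) fun z hz => ?_
    · rintro _ ⟨i, rfl⟩; simp [S.dgd_y]
    · rw [LinearMap.mem_ker] at hz ⊢; simp [hz]
  have := hW (hcW m)
  rw [LinearMap.mem_ker, LinearMap.sub_apply, sub_eq_zero] at this
  simp only [LinearMap.comp_apply, LinearMap.smul_apply, map_smul] at this ⊢
  rw [this, smul_comm, mul_smul]

theorem cond_of_split (d : M →ₗ[R] N) (f : R) (g : N →ₗ[R] M) (hf : algebraMap R k f ≠ 0)
    (h : d ∘ₗ g ∘ₗ d = f • d) :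
    LinearMap.ker (d.baseChange k) ≤ LinearMap.range ((LinearMap.ker d).subtype.baseChange k) := by
  intro v hv
  let e : M →ₗ[R] LinearMap.ker d := (f • LinearMap.id - g ∘ₗ d).codRestrict _ fun m => by
    have := LinearMap.congr_fun h m
    simp only [LinearMap.comp_apply, LinearMap.smul_apply] at this
    simp [this]
  refine ⟨(algebraMap R k f)⁻¹ • e.baseChange k v, ?_⟩
  have he : (LinearMap.ker d).subtype.baseChange k (e.baseChange k v) = algebraMap R k f • v := by
    rw [← LinearMap.comp_apply, ← LinearMap.baseChange_comp, LinearMap.subtype_comp_codRestrict,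
      LinearMap.baseChange_sub, LinearMap.baseChange_smul, LinearMap.baseChange_comp,
      LinearMap.baseChange_id, LinearMap.sub_apply, LinearMap.comp_apply, LinearMap.mem_ker.1 hv,
      map_zero, sub_zero, LinearMap.smul_apply, LinearMap.id_apply, algebraMap_smul]
  rw [map_smul, he, inv_smul_smul₀ hf]

end Groth.Agent.CAlg4.SplitMap
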