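import Groth.Agent.CAlg4.SplitCoker
import Mathlib.Algebra.Category.ModuleCat.ChangeOfRings
import Mathlib.Algebra.Homology.ShortComplex.ModuleCat
import Mathlib.Algebra.Homology.HomologicalComplex
import Mathlib.Algebra.Homology.Additive
import Mathlib.Algebra.Homology.ShortComplex.HomologicalComplex
import Mathlib.RingTheory.Spectrum.Prime.Topology
import Mathlib.Topology.LocallyConstant.Basic
import Mathlib.RingTheory.Nilpotent.Lemmas
import Mathlib.LinearAlgebra.Dimension.RankNullity
import Mathlib.LinearAlgebra.Dimension.Constructions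

/-! Over a reduced ring: constant fibre rank of cohomology implies projective cohomology. -/

universe u

open TensorProduct CategoryTheory

namespace Groth.Agent.CAlg4.SplitReduced

variable {R : Type u} [CommRing R]

theorem extend_range_finrank {k : Type u} [Field k] [inst : Algebra R k] {M N : ModuleCat.{u} R}
    (φ : M ⟶ N) :
    Module.finrank k (LinearMap.range ((ModuleCat.extendScalars (algebraMap R k)).map φ).hom) =
      Module.finrank k (LinearMap.range (φ.hom.baseChange k)) := by
  have key : ∀ f : R →+* k, letI := f.toAlgebra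
      Module.finrank k (LinearMap.range ((ModuleCat.extendScalars f).map φ).hom) =
        Module.finrank k (LinearMap.range (φ.hom.baseChange k)) := fun f => rfl
  have h : (algebraMap R k).toAlgebra = inst := Algebra.algebra_ext _ _ fun _ => rfl
  have := key (algebraMap R k)
  rw [h] at this
  exact this

theorem extend_obj_finrank {k : Type u} [Field k] [inst : Algebra R k] (M : ModuleCat.{u} R) :
    Module.finrank k ((ModuleCat.extendScalars (algebraMap R k)).obj M) =
      Module.finrank k (k ⊗[R] M) ∧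
    (Module.Finite R M → Module.Finite k ((ModuleCat.extendScalars (algebraMap R k)).obj M)) := by
  have key : ∀ f : R →+* k, letI := f.toAlgebra
      Module.finrank k ((ModuleCat.extendScalars f).obj M) = Module.finrank k (k ⊗[R] M) ∧
        (Module.Finite R M → Module.Finite k ((ModuleCat.extendScalars f).obj M)) := fun f =>
    letI := f.toAlgebra
    ⟨rfl, fun h => inferInstanceAs (Module.Finite k (k ⊗[R] M))⟩
  have h : (algebraMap R k).toAlgebra = inst := Algebra.algebra_ext _ _ fun _ => rfl
  have := key (algebraMap R k)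
  rw [h] at this
  exact this

theorem homology_finrank {k : Type u} [Field k] (S : ShortComplex (ModuleCat.{u} k))
    [Module.Finite k S.X₂] :
    Module.finrank k S.homology + Module.finrank k (LinearMap.range S.f.hom) +
      Module.finrank k (LinearMap.range S.g.hom) = Module.finrank k S.X₂ := by
  rw [S.moduleCatHomologyIso.toLinearEquiv.finrank_eq]
  change Module.finrank k ((LinearMap.ker S.g.hom) ⧸ LinearMap.range S.moduleCatToCycles) + _ + _ = _
  have h1 := Submodule.finrank_quotient_add_finrank (LinearMap.range S.moduleCatToCycles)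
  have h2 : Module.finrank k (LinearMap.range S.moduleCatToCycles) =
      Module.finrank k (LinearMap.range S.f.hom) := by
    have : (LinearMap.ker S.g.hom).subtype ∘ₗ S.moduleCatToCycles = S.f.hom := rfl
    rw [← this, LinearMap.range_comp]
    exact (Submodule.equivMapOfInjective _ Subtype.val_injective _).finrank_eq
  have h3 := LinearMap.finrank_range_add_finrank_ker S.g.hom
  omega

/-- The rank of `d` at a prime. -/
noncomputable def rho {M N : Type u} [AddCommGroup M] [Module R M] [AddCommGroup N] [Module R N]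
    (d : M →ₗ[R] N) (p : PrimeSpectrum R) : ℕ :=
  Module.finrank p.asIdeal.ResidueField (LinearMap.range (d.baseChange p.asIdeal.ResidueField))

theorem exists_lower {M N : Type u} [AddCommGroup M] [Module R M] [AddCommGroup N] [Module R N]
    [Module.Finite R N] [Module.Projective R N] [IsReduced R] (d : M →ₗ[R] N) (p : PrimeSpectrum R) :
    ∃ (D : R), D ∉ p.asIdeal ∧ (∀ q : PrimeSpectrum R, D ∉ q.asIdeal → rho d p ≤ rho d q) ∧
      ∃ g : N →ₗ[R] M, ∀ f : R, (∀ q : PrimeSpectrum R, f ∉ q.asIdeal → D ∉ q.asIdeal ∧ rho d q = rho d p) →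
        d ∘ₗ (f • g) ∘ₗ d = (f * D) • d := by
  obtain ⟨S⟩ := SplitMap.exists_data (SplitMap.frac_residueField p) d
  refine ⟨S.D, fun h => S.hD (Ideal.algebraMap_residueField_eq_zero.2 h),
    fun q hq => S.le_rank fun h => hq (Ideal.algebraMap_residueField_eq_zero.1 h), S.g,
    fun f hf => LinearMap.ext fun m => ?_⟩
  obtain ⟨n, π, ι, -, -, h⟩ := Module.Finite.exists_comp_eq_id_of_projective R N
  have hinj : Function.Injective ι :=
    Function.LeftInverse.injective fun x => LinearMap.congr_fun h x
  apply hinj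
  funext i
  have hnil : IsNilpotent (f * ι (S.D • d m - d (S.g (d m))) i) := by
    rw [nilpotent_iff_mem_prime]
    intro J hJ
    by_cases hfJ : f ∈ J
    · exact Ideal.mul_mem_right _ _ hfJ
    · obtain ⟨hD, hr⟩ := hf ⟨J, hJ⟩ hfJ
      have := S.vanish (k' := J.ResidueField) (fun h => hD (Ideal.algebraMap_residueField_eq_zero.1 h))
        hr.le m
      exact Ideal.mul_mem_left _ _ (Ideal.algebraMap_residueField_eq_zero.1
        (SplitMap.coords_eq_zero ι this i))
  have := hnil.eq_zero
  simp only [map_sub, map_smul, Pi.sub_apply, Pi.smul_apply, smul_eq_mul] at this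
  simp only [LinearMap.comp_apply, LinearMap.smul_apply, map_smul, Pi.smul_apply, smul_eq_mul]
  linear_combination -this

theorem exists_splittings [IsReduced R] {L M N : Type u} [AddCommGroup L] [Module R L] [AddCommGroup M]
    [Module R M] [AddCommGroup N] [Module R N] [Module.Finite R M] [Module.Projective R M]
    [Module.Finite R N] [Module.Projective R N] (d₀ : L →ₗ[R] M) (d₁ : M →ₗ[R] N)
    (h : IsLocallyConstant fun q => rho d₀ q + rho d₁ q) :
    (∃ g : M →ₗ[R] L, d₀ ∘ₗ g ∘ₗ d₀ = d₀) ∧ ∃ g : N →ₗ[R] M, d₁ ∘ₗ g ∘ₗ d₁ = d₁ := by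
  classical
  have key : ∀ p : PrimeSpectrum R,
      (∃ (f : R) (g : M →ₗ[R] L), f ∉ p.asIdeal ∧ d₀ ∘ₗ g ∘ₗ d₀ = f • d₀) ∧
      ∃ (f : R) (g : N →ₗ[R] M), f ∉ p.asIdeal ∧ d₁ ∘ₗ g ∘ₗ d₁ = f • d₁ := by
    intro p
    obtain ⟨D₀, hD₀, hle₀, g₀, hg₀⟩ := exists_lower d₀ p
    obtain ⟨D₁, hD₁, hle₁, g₁, hg₁⟩ := exists_lower d₁ p
    obtain ⟨U, ⟨a, rfl⟩, hpU, hU⟩ := PrimeSpectrum.isTopologicalBasis_basic_opens.exists_subset_of_mem_open
      (show p ∈ {q | rho d₀ q + rho d₁ q = rho d₀ p + rho d₁ p} from rfl) (h.isOpen_fiber _)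
    have hf : ∀ q : PrimeSpectrum R, a * D₀ * D₁ ∉ q.asIdeal →
        (D₀ ∉ q.asIdeal ∧ rho d₀ q = rho d₀ p) ∧ (D₁ ∉ q.asIdeal ∧ rho d₁ q = rho d₁ p) := by
      intro q hq
      simp only [Ideal.IsPrime.mul_mem_iff_mem_or_mem, not_or] at hq
      have h1 := hU (show q ∈ (PrimeSpectrum.basicOpen a : Set (PrimeSpectrum R)) from hq.1.1)
      have h2 := hle₀ q hq.1.2
      have h3 := hle₁ q hq.2
      rw [Set.mem_ofPred_eq] at h1
      exact ⟨⟨hq.1.2, by omega⟩, hq.2, by omega⟩
    have hp : a * D₀ * D₁ ∉ p.asIdeal := by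
      simp only [Ideal.IsPrime.mul_mem_iff_mem_or_mem, not_or]
      exact ⟨⟨hpU, hD₀⟩, hD₁⟩
    exact ⟨⟨_, _, fun hm => ((Ideal.IsPrime.mem_or_mem inferInstance hm).elim hp hD₀),
        hg₀ _ fun q hq => (hf q hq).1⟩,
      ⟨_, _, fun hm => ((Ideal.IsPrime.mem_or_mem inferInstance hm).elim hp hD₁),
        hg₁ _ fun q hq => (hf q hq).2⟩⟩
  exact ⟨SplitCoker.exists_global d₀ fun p => (key p).1, SplitCoker.exists_global d₁ fun p => (key p).2⟩

theorem finite_projective_homology (S : ShortComplex (ModuleCat.{u} R)) [Module.Finite R S.X₂]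
    [Module.Projective R S.X₂] (g₀ : S.X₂ →ₗ[R] S.X₁) (h₀ : S.f.hom ∘ₗ g₀ ∘ₗ S.f.hom = S.f.hom)
    (g₁ : S.X₃ →ₗ[R] S.X₂) (h₁ : S.g.hom ∘ₗ g₁ ∘ₗ S.g.hom = S.g.hom) :
    Module.Finite R S.homology ∧ Module.Projective R S.homology := by
  let H := (LinearMap.ker S.g.hom) ⧸ LinearMap.range S.moduleCatToCycles
  let e : S.X₂ →ₗ[R] LinearMap.ker S.g.hom :=
    (LinearMap.id - g₁ ∘ₗ S.g.hom).codRestrict _ fun x => by
      have := LinearMap.congr_fun h₁ x
      simp only [LinearMap.comp_apply] at this
      simp [this]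
  let π : S.X₂ →ₗ[R] H := (LinearMap.range S.moduleCatToCycles).mkQ ∘ₗ e
  let σ : H →ₗ[R] S.X₂ := (LinearMap.range S.moduleCatToCycles).liftQ
    ((LinearMap.id - S.f.hom ∘ₗ g₀) ∘ₗ (LinearMap.ker S.g.hom).subtype) (by
      rintro _ ⟨x, rfl⟩
      have := LinearMap.congr_fun h₀ x
      simp only [LinearMap.comp_apply] at this
      show S.f.hom x - S.f.hom (g₀ (S.f.hom x)) = 0
      rw [this, sub_self])
  have hπσ : π ∘ₗ σ = LinearMap.id := by
    refine Submodule.linearMap_qext _ (LinearMap.ext fun z => ?_)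
    have hz : S.g.hom (z : S.X₂) = 0 := z.2
    have hzero : S.g.hom (S.f.hom (g₀ z)) = 0 := S.moduleCat_zero_apply _
    show (Submodule.Quotient.mk (e ((z : S.X₂) - S.f.hom (g₀ z))) : H) = Submodule.Quotient.mk z
    refine (Submodule.Quotient.eq _).2 ?_
    refine ⟨-g₀ z, Subtype.ext ?_⟩
    simp only [map_neg, AddSubgroupClass.coe_sub, NegMemClass.coe_neg, e, LinearMap.codRestrict_apply,
      LinearMap.sub_apply, LinearMap.id_apply, LinearMap.comp_apply, Submodule.coe_subtype, map_sub, hz,
      hzero, sub_zero, map_zero, sub_self]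
    show -(S.f.hom (g₀ z)) = (z : S.X₂) - S.f.hom (g₀ z) - z
    abel
  have hfin : Module.Finite R H := Module.Finite.of_surjective π fun x => ⟨σ x, LinearMap.congr_fun hπσ x⟩
  have hproj : Module.Projective R H := Module.Projective.of_split σ π hπσ
  let E : H ≃ₗ[R] S.homology := S.moduleCatHomologyIso.toLinearEquiv.symm
  exact ⟨Module.Finite.equiv E, Module.Projective.of_equiv E⟩

theorem main [IsReduced R] (P : CochainComplex (ModuleCat.{u} R) ℤ)
    (hP : ∀ j : ℤ, Module.Finite R (P.X j) ∧ Module.Free R (P.X j)) (i : ℤ)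
    (hconst : IsLocallyConstant fun p : PrimeSpectrum R =>
      Module.finrank p.asIdeal.ResidueField
        ((((ModuleCat.extendScalars (algebraMap R p.asIdeal.ResidueField)).mapHomologicalComplex
          (ComplexShape.up ℤ)).obj P).homology i)) :
    Module.Finite R (P.homology i) ∧ Module.Projective R (P.homology i) := by
  let S := P.sc i
  have := (hP i).1
  have := (hP i).2
  have : Module.Finite R S.X₂ := (hP i).1
  have : Module.Free R S.X₂ := (hP i).2
  have : Module.Finite R S.X₃ := (hP _).1
  have : Module.Free R S.X₃ := (hP _).2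
  have key : ∀ p : PrimeSpectrum R,
      Module.finrank p.asIdeal.ResidueField
        ((((ModuleCat.extendScalars (algebraMap R p.asIdeal.ResidueField)).mapHomologicalComplex
          (ComplexShape.up ℤ)).obj P).homology i) + (rho S.f.hom p + rho S.g.hom p) =
        Module.finrank R S.X₂ := by
    intro p
    let F := ModuleCat.extendScalars (algebraMap R p.asIdeal.ResidueField)
    let T := ((F.mapHomologicalComplex (ComplexShape.up ℤ)).obj P).sc i
    have : Module.Finite p.asIdeal.ResidueField T.X₂ :=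
      (extend_obj_finrank (k := p.asIdeal.ResidueField) S.X₂).2 inferInstance
    have h := homology_finrank T
    have e₁ : Module.finrank p.asIdeal.ResidueField (LinearMap.range T.f.hom) = rho S.f.hom p :=
      extend_range_finrank S.f
    have e₂ : Module.finrank p.asIdeal.ResidueField (LinearMap.range T.g.hom) = rho S.g.hom p :=
      extend_range_finrank S.g
    have e₃ : Module.finrank p.asIdeal.ResidueField T.X₂ = Module.finrank R S.X₂ :=
      (extend_obj_finrank S.X₂).1.trans (by
        have : Nontrivial R := p.asIdeal.ne_top_iff_one.1 p.isPrime.ne_top |> fun h => ⟨⟨1, 0, fun e => h (e ▸ zero_mem _)⟩⟩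
        exact Module.finrank_baseChange)
    rw [e₁, e₂, e₃, add_assoc] at h
    exact h
  have hc : IsLocallyConstant fun p => rho S.f.hom p + rho S.g.hom p := by
    have := hconst.comp (fun h => Module.finrank R S.X₂ - h)
    convert this using 1
    funext p
    have := key p
    simp only [Function.comp]
    omega
  obtain ⟨⟨g₀, h₀⟩, g₁, h₁⟩ := exists_splittings S.f.hom S.g.hom hc
  exact finite_projective_homology S g₀ h₀ g₁ h₁

end Groth.Agent.CAlg4.SplitReduced
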