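import Groth.Agent.CAlg4.TopLength
import Mathlib.LinearAlgebra.Quotient.Pi
import Mathlib.Data.ENat.BigOperators
import Mathlib.RingTheory.Nakayama

set_option autoImplicit false

namespace Groth.Agent.CAlg4.TopLength

universe u

variable {R : Type u} [CommRing R]

lemma exists_minimal_dim_le (I : Ideal R) (n : ℕ) (h : (n : WithBot ℕ∞) ≤ ringKrullDim (R ⧸ I)) :
    ∃ q : PrimeSpectrum R, q.asIdeal ∈ I.minimalPrimes ∧
      (n : WithBot ℕ∞) ≤ ringKrullDim (R ⧸ q.asIdeal) := by
  rw [ringKrullDim_quotient, Order.le_krullDim_iff] at h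
  obtain ⟨l, hl⟩ := h
  obtain ⟨q, hq, hql⟩ := Ideal.exists_minimalPrimes_le (J := l.head.1.asIdeal) l.head.2
  refine ⟨⟨q, hq.1.1⟩, hq, ?_⟩
  rw [ringKrullDim_quotient, Order.le_krullDim_iff]
  refine ⟨⟨l.length, fun i => ⟨(l i).1, ?_⟩, l.step⟩, hl⟩
  have : l.head ≤ l i := l.monotone (Fin.zero_le i)
  exact (SetLike.coe_subset_coe.mpr (hql.trans (this : l.head.1.asIdeal ≤ (l i).1.asIdeal)))

lemma dim_quotient_mono {I J : Ideal R} (h : I ≤ J) :
    ringKrullDim (R ⧸ J) ≤ ringKrullDim (R ⧸ I) :=
  ringKrullDim_le_of_surjective (Ideal.Quotient.factor h) (Ideal.Quotient.factor_surjective h)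

lemma dim_quotient_succ_le {q p : Ideal R} [q.IsPrime] (h : q ≤ p) {x : R} (hx : x ∈ p)
    (hxq : x ∉ q) : ringKrullDim (R ⧸ p) + 1 ≤ ringKrullDim (R ⧸ q) := by
  have hnz : Ideal.Quotient.mk q x ∈ nonZeroDivisors (R ⧸ q) :=
    mem_nonZeroDivisors_of_ne_zero (by rwa [Ne, Ideal.Quotient.eq_zero_iff_mem])
  refine le_trans ?_ (ringKrullDim_quotient_succ_le_of_nonZeroDivisor hnz)
  gcongr
  refine ringKrullDim_le_of_surjective (Ideal.Quotient.lift _ (Ideal.Quotient.factor h) ?_) ?_
  · intro a ha
    obtain ⟨b, rfl⟩ := Ideal.mem_span_singleton'.mp ha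
    rw [map_mul, Ideal.Quotient.factor_mk, Ideal.Quotient.eq_zero_iff_mem.mpr hx, mul_zero]
  · intro y
    obtain ⟨y, rfl⟩ := Ideal.Quotient.mk_surjective y
    exact ⟨Ideal.Quotient.mk _ (Ideal.Quotient.mk q y), rfl⟩

lemma dim_le_dim_sup_span [IsNoetherianRing R] [IsLocalRing R] (I : Ideal R) (S : Finset R)
    (hS : (S : Set R) ⊆ IsLocalRing.maximalIdeal R) (hI : I ≠ ⊤) :
    ringKrullDim (R ⧸ I) ≤ ringKrullDim (R ⧸ (I ⊔ Ideal.span (S : Set R))) + S.card := by
  classical
  have : Nontrivial (R ⧸ I) := Ideal.Quotient.nontrivial_iff.mpr hI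
  have : IsLocalRing (R ⧸ I) := .of_surjective' _ Ideal.Quotient.mk_surjective
  have h1 := ringKrullDim_le_ringKrullDim_quotient_add_card (R := R ⧸ I)
    (s := S.image (Ideal.Quotient.mk I)) (by
      rw [IsLocalRing.ringJacobson_eq_maximalIdeal, Finset.coe_image]
      rintro _ ⟨x, hx, rfl⟩
      have : IsLocalHom (Ideal.Quotient.mk I) :=
        IsLocalHom.of_surjective _ Ideal.Quotient.mk_surjective
      exact fun hu => hS hx (IsUnit.of_map _ x hu))
  refine h1.trans ?_
  rw [Finset.coe_image, ← Ideal.map_span]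
  refine add_le_add (le_of_eq ?_) (by exact_mod_cast Finset.card_image_le)
  exact ringKrullDim_eq_of_ringEquiv (DoubleQuot.quotQuotEquivQuotSup I _)

lemma dim_quotient_zero_of_radical [IsLocalRing R] (I : Ideal R)
    (h : IsLocalRing.maximalIdeal R ≤ I.radical) : ringKrullDim (R ⧸ I) ≤ 0 := by
  rw [← Nat.cast_zero, ← Ring.krullDimLE_iff,
    Ideal.krullDimLE_zero_quotient_iff_forall_minimalPrimes_isMaximal]
  intro p hp
  have : p.IsPrime := hp.1.1
  have hle : IsLocalRing.maximalIdeal R ≤ p := h.trans ((this.radical_le_iff).mpr hp.1.2)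
  rw [← (IsLocalRing.maximalIdeal.isMaximal R).eq_of_le this.ne_top hle]
  infer_instance

lemma length_quotient_ne_top [IsNoetherianRing R] [IsLocalRing R] (I : Ideal R)
    (h : IsLocalRing.maximalIdeal R ≤ I.radical) : Module.length R (R ⧸ I) ≠ ⊤ := by
  have : IsArtinianRing (R ⧸ I) := by
    rw [isArtinianRing_iff_krullDimLE_zero, Ring.krullDimLE_iff, Nat.cast_zero]
    exact dim_quotient_zero_of_radical I h
  have : IsArtinian R (R ⧸ I) := isArtinian_of_surjective_algebraMap (R := R ⧸ I)
    (Ideal.Quotient.mk_surjective (I := I))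
  exact Module.length_ne_top

section key

lemma support_ring_quotient (I : Ideal R) :
    Module.support R (R ⧸ I) = PrimeSpectrum.zeroLocus I := by
  rw [Module.support_eq_zeroLocus, Ideal.annihilator_quotient]

variable [IsNoetherianRing R] (Q : Ideal R) [Q.IsPrime]

lemma length_coker_ne_top (g : R) (N : Type u) [AddCommGroup N] [Module R N] [Module.Finite R N]
    (h : ∀ p ∈ Module.support R N, p.asIdeal ≤ Q → g ∈ p.asIdeal → p.asIdeal = Q) :
    Module.length (Localization.AtPrime Q) (LocalizedModule Q.primeCompl N ⧸ LinearMap.range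
      (algebraMap R (Localization.AtPrime Q) g • LinearMap.id :
        LocalizedModule Q.primeCompl N →ₗ[Localization.AtPrime Q] _)) ≠ ⊤ := by
  set S := Localization.AtPrime Q
  let N' := LocalizedModule Q.primeCompl N
  let I : Ideal S := Ideal.span {algebraMap R S g} ⊔ (Module.annihilator R N).map (algebraMap R S)
  have hfinN : Module.Finite S N' := inferInstance
  obtain ⟨k, π, hπ⟩ := Module.Finite.exists_fin' S N'
  have hI : IsLocalRing.maximalIdeal S ≤ I.radical := by
    rw [Ideal.radical_eq_sInf]
    refine le_sInf fun P ⟨hIP, hP⟩ => ?_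
    have hPQ : P.comap (algebraMap R S) ≤ Q := by
      intro x hx
      by_contra hxQ
      exact hP.ne_top (Ideal.eq_top_of_isUnit_mem _ hx (IsLocalization.map_units S (⟨x, hxQ⟩ : Q.primeCompl)))
    have hsupp : (⟨P.comap (algebraMap R S), inferInstance⟩ : PrimeSpectrum R) ∈
        Module.support R N := by
      rw [Module.mem_support_iff_of_finite]
      exact Ideal.map_le_iff_le_comap.mp (le_sup_right.trans hIP)
    have := h _ hsupp hPQ (hIP (Ideal.mem_sup_left (Ideal.mem_span_singleton_self _)))
    rw [← Localization.AtPrime.map_eq_maximalIdeal, Ideal.map_le_iff_le_comap]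
    exact this.ge
  have hq : Module.length S ((Fin k → S ⧸ I)) ≠ ⊤ := by
    rw [Module.length_pi_of_fintype]
    exact ENat.sum_ne_top.mpr fun _ _ => length_quotient_ne_top I hI
  refine ne_top_of_le_ne_top hq ?_
  let ρ := (LinearMap.range (algebraMap R S g • LinearMap.id : N' →ₗ[S] N')).mkQ ∘ₗ π
  have hρ : Function.Surjective ρ := (Submodule.mkQ_surjective _).comp hπ
  have hker : Submodule.pi Set.univ (fun _ : Fin k => I) ≤ LinearMap.ker ρ := by
    intro v hv
    rw [LinearMap.mem_ker, ← Finset.univ_sum_single v, map_sum]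
    refine Finset.sum_eq_zero fun i _ => ?_
    obtain ⟨a, ha, b, hb, hab⟩ := Submodule.mem_sup.mp (hv i trivial)
    obtain ⟨a, rfl⟩ := Ideal.mem_span_singleton'.mp ha
    have hann : ∀ b ∈ (Module.annihilator R N).map (algebraMap R S), ∀ x : N', b • x = 0 := by
      intro b hb x
      induction hb using Submodule.span_induction with
      | mem b hb =>
        obtain ⟨b, hb, rfl⟩ := hb
        rw [algebraMap_smul]
        induction x using LocalizedModule.induction_on with
        | _ m s => rw [LocalizedModule.smul'_mk, Module.mem_annihilator.mp hb m,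
            LocalizedModule.zero_mk]
      | zero => exact zero_smul S x
      | add u w _ _ hu hw => rw [add_smul, hu, hw, add_zero]
      | smul u w _ hw => rw [smul_assoc, hw, smul_zero]
    rw [← hab, Pi.single_add, map_add]
    simp only [ρ, LinearMap.comp_apply, Submodule.mkQ_apply]
    rw [← mul_one b, ← smul_eq_mul b, Pi.single_smul, map_smul, hann b hb,
      Submodule.Quotient.mk_zero, add_zero, mul_comm, ← smul_eq_mul, Pi.single_smul, map_smul,
      Submodule.Quotient.mk_eq_zero]
    exact ⟨π (Pi.single i a), rfl⟩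
  refine (Module.length_le_of_surjective (Submodule.liftQ _ ρ hker) ?_).trans (le_of_eq ?_)
  · intro x
    obtain ⟨v, rfl⟩ := hρ x
    exact ⟨Submodule.Quotient.mk v, rfl⟩
  · exact (Submodule.quotientPi fun _ : Fin k => I).length_eq

theorem key (g : R) (hg : g ∈ Q) (T : Finset (PrimeSpectrum R))
    (N : Type u) [AddCommGroup N] [Module R N] [Module.Finite R N]
    (h : ∀ p ∈ Module.support R N, p.asIdeal ≤ Q → g ∈ p.asIdeal → p.asIdeal = Q)
    (hT : ∀ p ∈ Module.support R N, ∀ P ∈ T,
      p.asIdeal ≤ P.asIdeal → p = P ∧ P.asIdeal ≤ Q ∧ g ∉ P.asIdeal) :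
    Module.length (Localization.AtPrime Q) (LinearMap.ker
        (algebraMap R (Localization.AtPrime Q) g • LinearMap.id :
          LocalizedModule Q.primeCompl N →ₗ[Localization.AtPrime Q] _)) +
      ∑ P ∈ T, locLen P.asIdeal N ≤
    Module.length (Localization.AtPrime Q) (LocalizedModule Q.primeCompl N ⧸ LinearMap.range
      (algebraMap R (Localization.AtPrime Q) g • LinearMap.id :
        LocalizedModule Q.primeCompl N →ₗ[Localization.AtPrime Q] _)) := by
  revert h hT
  induction ‹Module.Finite R N› using IsNoetherianRing.induction_on_isQuotientEquivQuotientPrime R with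
  | subsingleton N =>
    intro _ _
    rw [Module.length_eq_zero, zero_add,
      Finset.sum_eq_zero fun P _ => (Module.length_eq_zero : locLen P.asIdeal N = 0)]
    exact zero_le
  | quotient N p e =>
    intro h hT
    have hsupp : Module.support R N = PrimeSpectrum.zeroLocus p.asIdeal := by
      rw [e.support_eq, support_ring_quotient]
    have hpN : p ∈ Module.support R N := by rw [hsupp]; exact (le_refl p.asIdeal : p.asIdeal ≤ p.asIdeal)
    have hz : ∀ (P : PrimeSpectrum R), ¬ p.asIdeal ≤ P.asIdeal → locLen P.asIdeal N = 0 :=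
      fun P hP => locLen_eq_zero _ (by rw [hsupp]; exact hP)
    have hkill : ∀ a ∈ p.asIdeal, ∀ x : N, a • x = 0 := fun a ha x => e.injective (by
      obtain ⟨y, hy⟩ := Ideal.Quotient.mk_surjective (e x)
      rw [map_smul, map_zero, ← hy]
      exact Ideal.Quotient.eq_zero_iff_mem.mpr (p.asIdeal.mul_mem_right y ha))
    set S := Localization.AtPrime Q
    by_cases hpQ : p.asIdeal ≤ Q
    swap
    · have : Subsingleton (LocalizedModule Q.primeCompl N) :=
        (Module.notMem_support_iff (p := ⟨Q, inferInstance⟩)).mp (by rw [hsupp]; exact hpQ)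
      rw [Module.length_eq_zero, zero_add, Finset.sum_eq_zero fun P hP => hz P
        fun hle => hpQ (hle.trans (hT p hpN P hP hle).2.1)]
      exact zero_le
    by_cases hgp : g ∈ p.asIdeal
    · rw [Finset.sum_eq_zero fun P hP => hz P fun hle => by
        obtain ⟨rfl, _, hgP⟩ := hT p hpN P hP hle
        exact hgP hgp, add_zero]
      have h0 : (algebraMap R S g • LinearMap.id :
          LocalizedModule Q.primeCompl N →ₗ[S] _) = 0 := LinearMap.ext fun x => by
        induction x using LocalizedModule.induction_on with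
        | _ m s =>
          rw [LinearMap.smul_apply, LinearMap.id_apply, algebraMap_smul, LocalizedModule.smul'_mk,
            hkill g hgp, LocalizedModule.zero_mk, LinearMap.zero_apply]
      rw [h0, LinearMap.ker_zero, Module.length_top]
      exact le_of_eq ((Submodule.quotEquivOfEqBot _ LinearMap.range_zero).length_eq).symm
    · have hinj : Function.Injective (algebraMap R S g • LinearMap.id :
          LocalizedModule Q.primeCompl N →ₗ[S] _) := by
        rw [injective_iff_map_eq_zero]
        intro x
        induction x using LocalizedModule.induction_on with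
        | _ m s =>
          intro hx
          rw [LinearMap.smul_apply, LinearMap.id_apply, algebraMap_smul, LocalizedModule.smul'_mk,
            ← LocalizedModule.zero_mk s, LocalizedModule.mk_eq] at hx
          obtain ⟨u, hu⟩ := hx
          simp only [Submonoid.smul_def, smul_zero, ← mul_smul] at hu
          have hm : m = 0 := e.injective (by
            obtain ⟨y, hy⟩ := Ideal.Quotient.mk_surjective (e m)
            have hu' := congrArg e hu
            rw [map_smul, map_zero, ← hy] at hu'
            have hu'' : ((u : R) * (s : R) * g) * y ∈ p.asIdeal := by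
              rw [← Ideal.Quotient.eq_zero_iff_mem, ← hu', Algebra.smul_def, map_mul,
                Ideal.Quotient.algebraMap_eq, mul_assoc (u : R)]
            rcases p.2.mem_or_mem hu'' with h1 | h1
            · rcases p.2.mem_or_mem h1 with h2 | h2
              · rcases p.2.mem_or_mem h2 with h3 | h3
                exacts [absurd (hpQ h3) u.2, absurd (hpQ h3) s.2]
              · exact absurd h2 hgp
            · rw [map_zero, ← hy]
              exact Ideal.Quotient.eq_zero_iff_mem.mpr h1)
          rw [hm, LocalizedModule.zero_mk]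
      rw [LinearMap.ker_eq_bot.mpr hinj, Module.length_bot, zero_add]
      have hQ : (⟨Q, inferInstance⟩ : PrimeSpectrum R) ∈ Module.support R N := by
        rw [hsupp]; exact hpQ
      have : Nontrivial (LocalizedModule Q.primeCompl N) := Module.mem_support_iff.mp hQ
      have hne : LinearMap.range (algebraMap R S g • LinearMap.id :
          LocalizedModule Q.primeCompl N →ₗ[S] _) ≠ ⊤ := by
        intro htop
        have h1 := Submodule.eq_bot_of_le_smul_of_le_jacobson_bot (IsLocalRing.maximalIdeal S)
          (⊤ : Submodule S (LocalizedModule Q.primeCompl N)) Module.Finite.fg_top (by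
            intro x _
            obtain ⟨y, rfl⟩ := (Submodule.eq_top_iff'.mp htop) x
            exact Submodule.smul_mem_smul (by
              rw [← Localization.AtPrime.map_eq_maximalIdeal]
              exact Ideal.mem_map_of_mem _ hg) trivial)
          (IsLocalRing.maximalIdeal_le_jacobson _)
        exact top_ne_bot h1
      have : Nontrivial (LocalizedModule Q.primeCompl N ⧸ LinearMap.range
          (algebraMap R S g • LinearMap.id : LocalizedModule Q.primeCompl N →ₗ[S] _)) :=
        Submodule.Quotient.nontrivial_iff.mpr hne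
      refine le_trans ?_ (Order.one_le_iff_pos.mpr Module.length_pos)
      by_cases hp : p ∈ T
      · rw [Finset.sum_eq_single_of_mem p hp fun P hP hne => hz P fun hle =>
          hne (hT p hpN P hP hle).1.symm]
        exact (Module.length_le_of_surjective (LocalizedModule.map p.asIdeal.primeCompl
          e.symm.toLinearMap) (IsLocalizedModule.map_surjective _ _ _ _ e.symm.surjective)).trans
          (locLen_quotient_self_le _)
      · rw [Finset.sum_eq_zero fun P hP => hz P fun hle => hp ((hT p hpN P hP hle).1 ▸ hP)]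
        exact zero_le
  | exact N₁ N₂ N₃ f₁ f₂ hi hs he ih₁ ih₃ =>
    intro h hT
    have s₁ := Module.support_subset_of_injective f₁ hi
    have s₃ := Module.support_subset_of_surjective f₂ hs
    rw [Finset.sum_congr rfl fun P _ => locLen_exact P.asIdeal f₁ f₂ hi hs he,
      Finset.sum_add_distrib]
    exact weight_of_exact (algebraMap R (Localization.AtPrime Q) g)
      (LocalizedModule.map Q.primeCompl f₁) (LocalizedModule.map Q.primeCompl f₂)
      (IsLocalizedModule.map_injective _ _ _ _ hi) (IsLocalizedModule.map_surjective _ _ _ _ hs)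
      (LocalizedModule.map_exact _ _ _ he)
      (length_coker_ne_top Q g N₁ fun p hp => h p (s₁ hp))
      (ih₁ (fun p hp => h p (s₁ hp)) fun p hp => hT p (s₁ hp))
      (ih₃ (fun p hp => h p (s₃ hp)) fun p hp => hT p (s₃ hp))

end key

open Classical in
theorem count [IsNoetherianRing R] [IsLocalRing R] :
    ∀ (d : ℕ) (I : Ideal R) (g : Fin d → R), (∀ i, g i ∈ IsLocalRing.maximalIdeal R) →
    IsLocalRing.maximalIdeal R ≤ (I ⊔ Ideal.span (Set.range g)).radical →
    ∀ T : Finset (PrimeSpectrum R),
      (∀ P ∈ T, I ≤ P.asIdeal ∧ (d : WithBot ℕ∞) ≤ ringKrullDim (R ⧸ P.asIdeal)) →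
      ∑ P ∈ T, locLen P.asIdeal (R ⧸ I) ≤ Module.length R (R ⧸ (I ⊔ Ideal.span (Set.range g))) := by
  intro d
  induction d with
  | zero =>
    intro I g _ hrad T hT
    rw [Set.range_eq_empty g, Ideal.span_empty, sup_bot_eq] at hrad ⊢
    have hsub : T ⊆ {IsLocalRing.closedPoint R} := by
      intro P hP
      rw [Finset.mem_singleton]
      ext1
      exact ((IsLocalRing.maximalIdeal.isMaximal R).eq_of_le P.2.ne_top
        (hrad.trans (P.2.radical_le_iff.mpr (hT P hP).1))).symm
    refine (Finset.sum_le_sum_of_subset hsub).trans ?_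
    rw [Finset.sum_singleton]
    exact locLen_le _ _
  | succ d ih =>
    intro I g hg hrad T hT
    have hsplit : I ⊔ Ideal.span (Set.range g) =
        (I ⊔ Ideal.span {g 0}) ⊔ Ideal.span (Set.range (Fin.tail g)) := by
      rw [sup_assoc, ← Ideal.span_union]
      congr 2
      conv_lhs => rw [← Fin.cons_self_tail g, Fin.range_cons, Set.insert_eq]
    rw [hsplit] at hrad ⊢
    set J := I ⊔ Ideal.span {g 0}
    rcases T.eq_empty_or_nonempty with rfl | ⟨P₁, hP₁⟩
    · simp
    have hJ : J ≠ ⊤ := by
      intro h
      have hIm : I ≤ IsLocalRing.maximalIdeal R :=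
        (hT P₁ hP₁).1.trans (IsLocalRing.le_maximalIdeal P₁.2.ne_top)
      exact (IsLocalRing.maximalIdeal.isMaximal R).ne_top (top_le_iff.mp (h ▸ sup_le hIm
        ((Ideal.span_singleton_le_iff_mem _).mpr (hg 0))))
    have hdimJ : ringKrullDim (R ⧸ J) ≤ d := by
      refine (dim_le_dim_sup_span J (Finset.univ.image (Fin.tail g)) ?_ hJ).trans ?_
      · rw [Finset.coe_image]
        rintro _ ⟨i, _, rfl⟩
        exact hg _
      · rw [Finset.coe_image, Finset.coe_univ, Set.image_univ]
        refine (add_le_add (dim_quotient_zero_of_radical _ hrad) (le_refl _)).trans ?_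
        rw [zero_add]
        exact_mod_cast Finset.card_image_le.trans_eq (Finset.card_fin d)
    have hfin := J.finite_minimalPrimes_of_isNoetherianRing (R := R)
    let T' : Finset (PrimeSpectrum R) :=
      (hfin.preimage (f := fun q : PrimeSpectrum R => q.asIdeal) fun _ _ _ _ h => PrimeSpectrum.ext h).toFinset.filter
        fun q => (d : WithBot ℕ∞) ≤ ringKrullDim (R ⧸ q.asIdeal)
    have hT' : ∀ q ∈ T', q.asIdeal ∈ J.minimalPrimes ∧
        (d : WithBot ℕ∞) ≤ ringKrullDim (R ⧸ q.asIdeal) := fun q hq => by simpa [T'] using hq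
    have hgP : ∀ P ∈ T, g 0 ∉ P.asIdeal := by
      intro P hP hgP
      have h1 := (hT P hP).2.trans ((dim_quotient_mono (sup_le (hT P hP).1
        ((Ideal.span_singleton_le_iff_mem _).mpr hgP))).trans hdimJ)
      have h2 : d + 1 ≤ d := by exact_mod_cast h1
      omega
    have hstrict : ∀ (p q : Ideal R) [p.IsPrime], p ≤ q → (d : WithBot ℕ∞) ≤ ringKrullDim (R ⧸ q) →
        ringKrullDim (R ⧸ p) ≤ d → p = q := by
      intro p q _ hle hq hp
      by_contra hne
      obtain ⟨x, hx, hxp⟩ := SetLike.exists_of_lt (lt_of_le_of_ne hle hne)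
      have h1 := ((add_le_add_left hq 1).trans (dim_quotient_succ_le hle hx hxp)).trans hp
      have h2 : d + 1 ≤ d := by exact_mod_cast h1
      omega
    have hcover : ∀ P ∈ T, ∃ q ∈ T', P.asIdeal ≤ q.asIdeal := by
      intro P hP
      have h1 := dim_le_dim_sup_span P.asIdeal {g 0} (by simpa using hg 0) P.2.ne_top
      rw [Finset.coe_singleton, Finset.card_singleton] at h1
      have h2 : (d : WithBot ℕ∞) ≤ ringKrullDim (R ⧸ (P.asIdeal ⊔ Ideal.span {g 0})) := by
        have h3 := (hT P hP).2.trans h1
        rw [Nat.cast_add, Nat.cast_one] at h3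
        exact ENat.WithBot.add_le_add_one_right_iff.mp h3
      obtain ⟨q, hq, hqd⟩ := exists_minimal_dim_le _ d h2
      have hJq : J ≤ q.asIdeal := (sup_le_sup_right (hT P hP).1 _).trans hq.1.2
      obtain ⟨q₀, hq₀, hq₀q⟩ := Ideal.exists_minimalPrimes_le hJq
      have := hq₀.1.1
      have heq : q₀ = q.asIdeal := hstrict q₀ _ hq₀q hqd ((dim_quotient_mono hq₀.1.2).trans hdimJ)
      refine ⟨q, ?_, le_sup_left.trans hq.1.2⟩
      simp only [T', Finset.mem_filter, Set.Finite.mem_toFinset, Set.mem_preimage]
      exact ⟨heq ▸ hq₀, hqd⟩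
    refine le_trans ?_ (ih J (Fin.tail g) (fun i => hg _) hrad T' fun q hq =>
      ⟨(hT' q hq).1.1.2, (hT' q hq).2⟩)
    calc ∑ P ∈ T, locLen P.asIdeal (R ⧸ I)
        ≤ ∑ P ∈ T, ∑ q ∈ T' with P.asIdeal ≤ q.asIdeal, locLen P.asIdeal (R ⧸ I) := by
          refine Finset.sum_le_sum fun P hP => ?_
          obtain ⟨q, hq, hPq⟩ := hcover P hP
          exact Finset.single_le_sum (f := fun _ => locLen P.asIdeal (R ⧸ I))
            (fun _ _ => zero_le) (Finset.mem_filter.mpr ⟨hq, hPq⟩)
      _ = ∑ q ∈ T', ∑ P ∈ T with P.asIdeal ≤ q.asIdeal, locLen P.asIdeal (R ⧸ I) := by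
          simp only [Finset.sum_filter]
          exact Finset.sum_comm
      _ ≤ ∑ q ∈ T', locLen q.asIdeal (R ⧸ J) := Finset.sum_le_sum fun q hq => ?_
    have hI : ∀ p ∈ Module.support R (R ⧸ I), I ≤ p.asIdeal := fun p hp => by
      rw [support_ring_quotient] at hp
      exact hp
    have hk := key q.asIdeal (g 0) ((hT' q hq).1.1.2 (Ideal.mem_sup_right
      (Ideal.mem_span_singleton_self _))) ({P ∈ T | P.asIdeal ≤ q.asIdeal}) (R ⧸ I)
      (fun p hp hpq hgp => hstrict _ _ hpq (hT' q hq).2 ((dim_quotient_mono (sup_le (hI p hp)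
        ((Ideal.span_singleton_le_iff_mem _).mpr hgp))).trans hdimJ))
      (fun p hp P hP hpP => ?_)
    · refine le_trans (le_trans le_add_self hk) ?_
      let π : (R ⧸ I) →ₗ[R] R ⧸ J := Submodule.factor (le_sup_left : I ≤ J)
      let πloc := LocalizedModule.map q.asIdeal.primeCompl π
      have hle : LinearMap.ker πloc ≤ LinearMap.range
          (algebraMap R (Localization.AtPrime q.asIdeal) (g 0) • LinearMap.id :
            LocalizedModule q.asIdeal.primeCompl (R ⧸ I) →ₗ[_] _) := by
        have hex : Function.Exact (g 0 • LinearMap.id : (R ⧸ I) →ₗ[R] R ⧸ I) π := by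
          intro x
          obtain ⟨x, rfl⟩ := Submodule.Quotient.mk_surjective _ x
          constructor
          · intro hx
            obtain ⟨a, ha, b, hb, hab⟩ :=
              Submodule.mem_sup.mp ((Submodule.Quotient.mk_eq_zero J).mp hx)
            obtain ⟨c, rfl⟩ := Ideal.mem_span_singleton'.mp hb
            refine ⟨Submodule.Quotient.mk c, (Submodule.Quotient.eq I).mpr ?_⟩
            simp only [LinearMap.id_apply] at hab
            simp only [← hab, smul_eq_mul]
            convert I.neg_mem ha using 1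
            ring
          · rintro ⟨y, hy⟩
            obtain ⟨y, rfl⟩ := Submodule.Quotient.mk_surjective _ y
            rw [← hy]
            show Submodule.Quotient.mk (p := J) (g 0 • y) = 0
            rw [Submodule.Quotient.mk_eq_zero]
            exact Ideal.mem_sup_right (Ideal.mul_mem_right y _ (Ideal.mem_span_singleton_self _))
        intro x hx
        obtain ⟨y, hy⟩ := (LocalizedModule.map_exact q.asIdeal.primeCompl _ _ hex x).mp hx
        refine ⟨y, ?_⟩
        rw [← hy]
        induction y using LocalizedModule.induction_on with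
        | _ m s =>
          rw [LinearMap.smul_apply, LinearMap.id_apply, algebraMap_smul, LocalizedModule.smul'_mk]
          exact (IsLocalizedModule.map_LocalizedModules _ (g 0 • LinearMap.id : (R ⧸ I) →ₗ[R] R ⧸ I) m s).symm
      refine (Module.length_le_of_surjective (Submodule.factor hle)
        (Submodule.factor_surjective hle)).trans (le_of_eq ?_)
      exact (LinearMap.quotKerEquivOfSurjective πloc
        (IsLocalizedModule.map_surjective _ _ _ _ (Submodule.factor_surjective _))).length_eq
    · obtain ⟨hP, hPq⟩ := Finset.mem_filter.mp hP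
      refine ⟨?_, hPq, hgP P hP⟩
      by_contra hne
      obtain ⟨x, hx, hxp⟩ := SetLike.exists_of_lt
        (lt_of_le_of_ne hpP fun h => hne (PrimeSpectrum.ext h))
      have hIdim : ringKrullDim (R ⧸ I) ≤ (d + 1 : ℕ) := by
        refine (dim_le_dim_sup_span I (Finset.univ.image g) ?_
          (fun h => P.2.ne_top (top_le_iff.mp (h ▸ (hT P hP).1)))).trans ?_
        · rw [Finset.coe_image]
          rintro _ ⟨i, _, rfl⟩
          exact hg i
        · rw [Finset.coe_image, Finset.coe_univ, Set.image_univ]
          refine (add_le_add (dim_quotient_zero_of_radical _ (hsplit ▸ hrad)) (le_refl _)).trans ?_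
          rw [zero_add]
          exact_mod_cast Finset.card_image_le.trans_eq (Finset.card_fin _)
      have h1 := ((add_le_add_left (hT P hP).2 1).trans (dim_quotient_succ_le hpP hx hxp)).trans
        ((dim_quotient_mono (hI p hp)).trans hIdim)
      have h2 : d + 1 + 1 ≤ d + 1 := by exact_mod_cast h1
      omega

end Groth.Agent.CAlg4.TopLength
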