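import Mathlib.RingTheory.Length
import Mathlib.RingTheory.Support
import Mathlib.RingTheory.Ideal.AssociatedPrime.Finiteness
import Mathlib.Algebra.Module.SnakeLemma
import Mathlib.Algebra.Module.LocalizedModule.Exact
import Mathlib.RingTheory.KrullDimension.Regular
import Mathlib.RingTheory.KrullDimension.Zero
import Mathlib.RingTheory.Artinian.Ring
import Mathlib.RingTheory.Ideal.MinimalPrime.Noetherian
import Mathlib.RingTheory.Localization.AtPrime.Basic

set_option autoImplicit false

namespace Groth.Agent.CAlg4.TopLength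

universe u v

section exact

variable {S : Type u} [CommRing S] {X Y Z : Type v} [AddCommGroup X] [Module S X]
  [AddCommGroup Y] [Module S Y] [AddCommGroup Z] [Module S Z]

lemma length_eq_range_add (f : X →ₗ[S] Y) (g : Y →ₗ[S] Z) (h : Function.Exact f g) :
    Module.length S Y = Module.length S (LinearMap.range f) + Module.length S (LinearMap.range g) := by
  refine Module.length_eq_add_of_exact (LinearMap.range f).subtype g.rangeRestrict
    (Submodule.subtype_injective _) g.surjective_rangeRestrict ?_
  rw [LinearMap.exact_iff, LinearMap.ker_rangeRestrict, Submodule.range_subtype, h.linearMap_ker_eq]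

lemma length_range_of_injective (f : X →ₗ[S] Y) (h : Function.Injective f) :
    Module.length S (LinearMap.range f) = Module.length S X :=
  (LinearEquiv.ofInjective f h).length_eq.symm

lemma length_range_of_surjective (f : X →ₗ[S] Y) (h : Function.Surjective f) :
    Module.length S (LinearMap.range f) = Module.length S Y := by
  rw [LinearMap.range_eq_top.mpr h, Module.length_top]

/-- length of `g`-torsion plus a weight is at most the length of the cokernel of `g`, in extensions -/
lemma weight_of_exact (g : S) {a b : ℕ∞} (f₁ : X →ₗ[S] Y) (f₂ : Y →ₗ[S] Z)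
    (hi : Function.Injective f₁) (hs : Function.Surjective f₂) (he : Function.Exact f₁ f₂)
    (hfin : Module.length S (X ⧸ LinearMap.range (g • LinearMap.id : X →ₗ[S] X)) ≠ ⊤)
    (ha : Module.length S (LinearMap.ker (g • LinearMap.id : X →ₗ[S] X)) + a ≤
      Module.length S (X ⧸ LinearMap.range (g • LinearMap.id : X →ₗ[S] X)))
    (hb : Module.length S (LinearMap.ker (g • LinearMap.id : Z →ₗ[S] Z)) + b ≤
      Module.length S (Z ⧸ LinearMap.range (g • LinearMap.id : Z →ₗ[S] Z))) :
    Module.length S (LinearMap.ker (g • LinearMap.id : Y →ₗ[S] Y)) + (a + b) ≤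
      Module.length S (Y ⧸ LinearMap.range (g • LinearMap.id : Y →ₗ[S] Y)) := by
  set iX : X →ₗ[S] X := g • LinearMap.id
  set iY : Y →ₗ[S] Y := g • LinearMap.id
  set iZ : Z →ₗ[S] Z := g • LinearMap.id
  have h₁ : f₁.comp iX = iY.comp f₁ := LinearMap.ext fun x => by simp [iX, iY]
  have h₂ : f₂.comp iY = iZ.comp f₂ := LinearMap.ext fun x => by simp [iY, iZ]
  let F₁ : LinearMap.ker iX →ₗ[S] LinearMap.ker iY := f₁.restrict fun x hx => by
    rw [LinearMap.mem_ker] at hx ⊢
    rw [← LinearMap.comp_apply, ← h₁, LinearMap.comp_apply, hx, map_zero]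
  let F₂ : LinearMap.ker iY →ₗ[S] LinearMap.ker iZ := f₂.restrict fun x hx => by
    rw [LinearMap.mem_ker] at hx ⊢
    rw [← LinearMap.comp_apply, ← h₂, LinearMap.comp_apply, hx, map_zero]
  let G₁ := Submodule.mapQ (LinearMap.range iX) (LinearMap.range iY) f₁
    (by rintro _ ⟨x, rfl⟩; exact ⟨f₁ x, (LinearMap.congr_fun h₁ x).symm⟩)
  let G₂ := Submodule.mapQ (LinearMap.range iY) (LinearMap.range iZ) f₂
    (by rintro _ ⟨x, rfl⟩; exact ⟨f₂ x, (LinearMap.congr_fun h₂ x).symm⟩)
  obtain ⟨σ, hσ⟩ := hs.hasRightInverse
  let δ := SnakeLemma.δ iX iY iZ f₁ f₂ he f₁ f₂ he h₁ h₂ σ (funext hσ) (Function.invFun f₁)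
    (funext (Function.leftInverse_invFun hi)) (LinearMap.ker iZ).subtype
    (LinearMap.exact_subtype_ker_map iZ) (LinearMap.range iX).mkQ
    (LinearMap.exact_map_mkQ_range iX)
  have hF₁ : Function.Injective F₁ := fun x y h => Subtype.ext (hi (congrArg Subtype.val h))
  have e₁ : Function.Exact F₁ F₂ := by
    intro y
    constructor
    · intro hy
      obtain ⟨x, hx⟩ := (he y.1).mp (congrArg Subtype.val hy)
      refine ⟨⟨x, hi ?_⟩, Subtype.ext hx⟩
      rw [← LinearMap.comp_apply, h₁, LinearMap.comp_apply, hx, y.2, map_zero]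
    · rintro ⟨x, rfl⟩
      exact Subtype.ext ((he _).mpr ⟨x.1, rfl⟩)
  have e₂ : Function.Exact F₂ δ := by
    refine SnakeLemma.exact_δ_right iX iY iZ f₁ f₂ he f₁ f₂ he h₁ h₂ σ (funext hσ)
      (Function.invFun f₁) (funext (Function.leftInverse_invFun hi)) (LinearMap.ker iY).subtype
      (LinearMap.exact_subtype_ker_map iY) (LinearMap.ker iZ).subtype
      (LinearMap.exact_subtype_ker_map iZ) (LinearMap.range iX).mkQ
      (LinearMap.exact_map_mkQ_range iX) F₂ ?_ (Submodule.subtype_injective _)
    rfl
  have e₃ : Function.Exact δ G₁ := by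
    refine SnakeLemma.exact_δ_left iX iY iZ f₁ f₂ he f₁ f₂ he h₁ h₂ σ (funext hσ)
      (Function.invFun f₁) (funext (Function.leftInverse_invFun hi)) (LinearMap.ker iZ).subtype
      (LinearMap.exact_subtype_ker_map iZ) (LinearMap.range iX).mkQ
      (LinearMap.exact_map_mkQ_range iX) (LinearMap.range iY).mkQ
      (LinearMap.exact_map_mkQ_range iY) G₁ ?_ (Submodule.mkQ_surjective _)
    rfl
  have hG₂ : Function.Surjective G₂ := by
    intro q
    obtain ⟨z, rfl⟩ := Submodule.Quotient.mk_surjective _ q
    obtain ⟨y, rfl⟩ := hs z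
    exact ⟨Submodule.Quotient.mk y, rfl⟩
  have e₄ : Function.Exact G₁ G₂ := by
    intro q
    obtain ⟨y, rfl⟩ := Submodule.Quotient.mk_surjective _ q
    constructor
    · intro hy
      obtain ⟨z, hz⟩ := (Submodule.Quotient.mk_eq_zero _).mp hy
      obtain ⟨w, rfl⟩ := hs z
      obtain ⟨x, hx⟩ := (he (y - iY w)).mp (by
        rw [map_sub, ← LinearMap.comp_apply f₂ iY, h₂, LinearMap.comp_apply, hz, sub_self])
      exact ⟨Submodule.Quotient.mk x, (Submodule.Quotient.eq _).mpr ⟨-w, by simp [hx]⟩⟩
    · rintro ⟨x, hx⟩
      obtain ⟨x, rfl⟩ := Submodule.Quotient.mk_surjective _ x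
      rw [← hx]
      show Submodule.Quotient.mk (f₂ (f₁ x)) = 0
      rw [(he _).mpr ⟨x, rfl⟩]
      rfl
  rw [length_eq_range_add F₁ F₂ e₁, length_range_of_injective F₁ hF₁]
  rw [length_eq_range_add F₂ δ e₂] at hb
  have hC₁ := length_eq_range_add δ G₁ e₃
  rw [length_eq_range_add G₁ G₂ e₄, length_range_of_surjective G₂ hG₂]
  rw [hC₁] at ha hfin
  have hne : Module.length S (LinearMap.range δ) ≠ ⊤ := fun h => hfin (by simp [h])
  refine (ENat.add_le_add_iff_left hne).mp ?_
  calc Module.length S (LinearMap.range δ) + (Module.length S (LinearMap.ker iX) +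
        Module.length S (LinearMap.range F₂) + (a + b))
      = (Module.length S (LinearMap.ker iX) + a) + (Module.length S (LinearMap.range F₂) +
        Module.length S (LinearMap.range δ) + b) := by ring
    _ ≤ (Module.length S (LinearMap.range δ) + Module.length S (LinearMap.range G₁)) +
        Module.length S (Z ⧸ LinearMap.range iZ) := add_le_add ha hb
    _ = _ := add_assoc _ _ _

end exact

variable {R : Type u} [CommRing R]

section loc

variable (P : Ideal R) [P.IsPrime]

/-- length of the stalk -/
noncomputable def locLen (M : Type u) [AddCommGroup M] [Module R M] : ℕ∞ :=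
  Module.length (Localization.AtPrime P) (LocalizedModule P.primeCompl M)

lemma locLen_le (M : Type u) [AddCommGroup M] [Module R M] :
    locLen P M ≤ Module.length R M := by
  rw [locLen]
  apply WithBot.coe_le_coe.mp
  rw [Module.coe_length, Module.coe_length]
  let c : Submodule (Localization.AtPrime P) (LocalizedModule P.primeCompl M) → Submodule R M :=
    fun W => (W.restrictScalars R).comap (LocalizedModule.mkLinearMap P.primeCompl M)
  refine Order.krullDim_le_of_strictMono c (Monotone.strictMono_of_injective
    (fun a b h => Submodule.comap_mono h) fun a b h => ?_)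
  have key : ∀ a b : Submodule (Localization.AtPrime P) (LocalizedModule P.primeCompl M),
      c a ≤ c b → a ≤ b := by
    intro a b hab x hx
    induction x using LocalizedModule.induction_on with
    | _ m s =>
      have hm : LocalizedModule.mkLinearMap P.primeCompl M m ∈ a := by
        have := a.smul_mem (algebraMap R _ (s : R)) hx
        rw [algebraMap_smul, LocalizedModule.smul'_mk, ← Submonoid.smul_def,
          LocalizedModule.mk_cancel] at this
        exact this
      have hb := b.smul_mem (Localization.mk 1 s) (hab hm : LocalizedModule.mkLinearMap _ _ m ∈ b)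
      rwa [LocalizedModule.mkLinearMap_apply, LocalizedModule.mk_smul_mk, one_smul, mul_one] at hb
  exact le_antisymm (key a b h.le) (key b a h.ge)

lemma locLen_exact {X Y Z : Type u} [AddCommGroup X] [Module R X] [AddCommGroup Y] [Module R Y]
    [AddCommGroup Z] [Module R Z] (f₁ : X →ₗ[R] Y) (f₂ : Y →ₗ[R] Z)
    (hi : Function.Injective f₁) (hs : Function.Surjective f₂) (he : Function.Exact f₁ f₂) :
    locLen P Y = locLen P X + locLen P Z :=
  Module.length_eq_add_of_exact (LocalizedModule.map P.primeCompl f₁)
    (LocalizedModule.map P.primeCompl f₂) (IsLocalizedModule.map_injective _ _ _ _ hi)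
    (IsLocalizedModule.map_surjective _ _ _ _ hs) (LocalizedModule.map_exact _ _ _ he)

lemma locLen_eq_zero {M : Type u} [AddCommGroup M] [Module R M]
    (h : (⟨P, inferInstance⟩ : PrimeSpectrum R) ∉ Module.support R M) : locLen P M = 0 := by
  have : Subsingleton (LocalizedModule P.primeCompl M) := Module.notMem_support_iff.mp h
  exact Module.length_eq_zero

lemma locLen_ne_zero {M : Type u} [AddCommGroup M] [Module R M]
    (h : (⟨P, inferInstance⟩ : PrimeSpectrum R) ∈ Module.support R M) : 1 ≤ locLen P M := by
  have : Nontrivial (LocalizedModule P.primeCompl M) := Module.mem_support_iff.mp h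
  exact Order.one_le_iff_pos.mpr Module.length_pos

lemma locLen_quotient_self_le : locLen P (R ⧸ P) ≤ 1 := by
  let e : LocalizedModule P.primeCompl (R ⧸ P) := LocalizedModule.mk (Ideal.Quotient.mk P 1) 1
  let f := LinearMap.toSpanSingleton (Localization.AtPrime P) _ e
  have hf : Function.Surjective f := by
    intro x
    induction x using LocalizedModule.induction_on with
    | _ m s =>
      obtain ⟨r, rfl⟩ := Ideal.Quotient.mk_surjective m
      refine ⟨Localization.mk r s, ?_⟩
      simp [f, e, LinearMap.toSpanSingleton_apply, LocalizedModule.mk_smul_mk, Algebra.smul_def]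
  have hker : IsLocalRing.maximalIdeal (Localization.AtPrime P) ≤ LinearMap.ker f := by
    rw [← Localization.AtPrime.map_eq_maximalIdeal, Ideal.map, Ideal.span_le]
    rintro _ ⟨r, hr, rfl⟩
    show algebraMap R (Localization.AtPrime P) r • e = 0
    rw [algebraMap_smul, LocalizedModule.smul'_mk,
      show r • Ideal.Quotient.mk P 1 = 0 from (Ideal.Quotient.eq_zero_iff_mem).mpr (by simpa using hr)]
    exact LocalizedModule.zero_mk _
  refine (Module.length_le_of_surjective (Submodule.liftQ _ f hker) ?_).trans (le_of_eq ?_)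
  · intro x
    obtain ⟨r, rfl⟩ := hf x
    exact ⟨Submodule.Quotient.mk r, rfl⟩
  · rw [Module.length_eq_one_iff, isSimpleModule_iff_isCoatom]
    exact Ideal.isMaximal_def.mp inferInstance

end loc

end Groth.Agent.CAlg4.TopLength
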