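import Groth.Agent.CAlg4.TorFieldsCat
import Mathlib.LinearAlgebra.TensorProduct.Associator

/-! A map inducing isomorphisms on `Tor` against all residue fields is an isomorphism. -/

universe u

open CategoryTheory CategoryTheory.Limits TensorProduct MonoidalCategory

namespace Groth.Agent.CAlg4.TorFields

variable {A : Type u} [CommRing A] {M N : ModuleCat.{u} A} (P : ProjectiveResolution M)
  (Q : ProjectiveResolution N) (φ : P.complex ⟶ Q.complex)

/-- The cone, shifted by one. -/
noncomputable def coneX : ℕ → ModuleCat.{u} A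
  | 0 => ModuleCat.of A PUnit.{u+1}
  | 1 => Q.complex.X 0
  | n + 2 => ModuleCat.of A (P.complex.X n × Q.complex.X (n + 1))

/-- The differential in high degrees. -/
noncomputable def stepD (n : ℕ) :
    (P.complex.X (n + 1) × Q.complex.X (n + 2)) →ₗ[A] (P.complex.X n × Q.complex.X (n + 1)) :=
  LinearMap.prod (-(P.complex.d (n + 1) n).hom ∘ₗ LinearMap.fst A _ _)
    (LinearMap.coprod (φ.f (n + 1)).hom (Q.complex.d (n + 2) (n + 1)).hom)

/-- The differential in degree one. -/
noncomputable def stepOne : (P.complex.X 0 × Q.complex.X 1) →ₗ[A] Q.complex.X 0 :=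
  LinearMap.coprod (φ.f 0).hom (Q.complex.d 1 0).hom

/-- The differential of the cone. -/
noncomputable def coneD : ∀ n, coneX P Q (n + 1) →ₗ[A] coneX P Q n
  | 0 => 0
  | 1 => stepOne P Q φ
  | n + 2 => stepD P Q φ n

theorem coneD_sq : ∀ n, coneD P Q φ n ∘ₗ coneD P Q φ (n + 1) = 0
  | 0 => LinearMap.ext fun _ => rfl
  | 1 => LinearMap.ext fun ⟨p, q⟩ => by
    show (φ.f 0).hom (-(P.complex.d 1 0).hom p) + (Q.complex.d 1 0).hom ((φ.f 1).hom p + (Q.complex.d 2 1).hom q) = 0
    have h1 : (Q.complex.d 1 0).hom ((φ.f 1).hom p) = (φ.f 0).hom ((P.complex.d 1 0).hom p) :=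
      congrArg (fun f => f.hom p) (φ.comm 1 0)
    have h2 : (Q.complex.d 1 0).hom ((Q.complex.d 2 1).hom q) = 0 :=
      congrArg (fun f => f.hom q) (Q.complex.d_comp_d 2 1 0)
    rw [map_neg, map_add, h1, h2, add_zero, neg_add_cancel]
  | n + 2 => LinearMap.ext fun ⟨p, q⟩ => by
    have h0 : (P.complex.d (n + 1) n).hom ((P.complex.d (n + 2) (n + 1)).hom p) = 0 :=
      congrArg (fun f => f.hom p) (P.complex.d_comp_d (n + 2) (n + 1) n)
    have h1 : (Q.complex.d (n + 2) (n + 1)).hom ((φ.f (n + 2)).hom p) =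
        (φ.f (n + 1)).hom ((P.complex.d (n + 2) (n + 1)).hom p) :=
      congrArg (fun f => f.hom p) (φ.comm (n + 2) (n + 1))
    have h2 : (Q.complex.d (n + 2) (n + 1)).hom ((Q.complex.d (n + 3) (n + 2)).hom q) = 0 :=
      congrArg (fun f => f.hom q) (Q.complex.d_comp_d (n + 3) (n + 2) (n + 1))
    refine Prod.ext ?_ ?_
    · show -(P.complex.d (n + 1) n).hom (-(P.complex.d (n + 2) (n + 1)).hom p) = 0
      rw [map_neg, h0, neg_zero, neg_zero]
    · show (φ.f (n + 1)).hom (-(P.complex.d (n + 2) (n + 1)).hom p) +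
        (Q.complex.d (n + 2) (n + 1)).hom ((φ.f (n + 2)).hom p + (Q.complex.d (n + 3) (n + 2)).hom q) = 0
      rw [map_neg, map_add, h1, h2, add_zero, neg_add_cancel]

theorem cone_flat : ∀ n, Module.Flat A (coneX P Q n)
  | 0 => inferInstanceAs (Module.Flat A PUnit.{u+1})
  | 1 => flat_resolution Q 0
  | n + 2 => by
    have := flat_resolution P n
    have := flat_resolution Q (n + 1)
    exact inferInstanceAs (Module.Flat A (P.complex.X n × Q.complex.X (n + 1)))

/-- Bijectivity in homology after tensoring, elementwise. -/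
def Good (X : ModuleCat.{u} A) : Prop :=
  (∀ i (z : X ⊗[A] P.complex.X (i + 1)), (P.complex.d (i + 1) i).hom.lTensor X z = 0 →
      (φ.f (i + 1)).hom.lTensor X z ∈ LinearMap.range ((Q.complex.d (i + 2) (i + 1)).hom.lTensor X) →
      z ∈ LinearMap.range ((P.complex.d (i + 2) (i + 1)).hom.lTensor X)) ∧
    (∀ (z : X ⊗[A] P.complex.X 0),
      (φ.f 0).hom.lTensor X z ∈ LinearMap.range ((Q.complex.d 1 0).hom.lTensor X) →
      z ∈ LinearMap.range ((P.complex.d 1 0).hom.lTensor X)) ∧
    (∀ i (q : X ⊗[A] Q.complex.X (i + 1)), (Q.complex.d (i + 1) i).hom.lTensor X q = 0 →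
      ∃ z, (P.complex.d (i + 1) i).hom.lTensor X z = 0 ∧
        q - (φ.f (i + 1)).hom.lTensor X z ∈ LinearMap.range ((Q.complex.d (i + 2) (i + 1)).hom.lTensor X)) ∧
    ∀ (q : X ⊗[A] Q.complex.X 0), ∃ z,
        q - (φ.f 0).hom.lTensor X z ∈ LinearMap.range ((Q.complex.d 1 0).hom.lTensor X)

theorem good_of_isIso_tor (u : M ⟶ N) (comm : φ.f 0 ≫ Q.π.f 0 = P.π.f 0 ≫ u) (X : ModuleCat.{u} A)
    (h : ∀ i : ℕ, IsIso (((Tor (ModuleCat.{u} A) i).obj X).map u)) : Good P Q φ X := by
  let F := (tensoringLeft (ModuleCat.{u} A)).obj X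
  have hiso : ∀ i, IsIso (HomologicalComplex.homologyMap ((F.mapHomologicalComplex _).map φ) i) := by
    intro i
    have e := ProjectiveResolution.isoLeftDerivedObj_hom_naturality u P Q φ comm F i
    have hi : IsIso ((F.leftDerived i).map u) := h i
    have : IsIso ((P.isoLeftDerivedObj F i).hom ≫
        (F.mapHomologicalComplex _ ⋙ HomologicalComplex.homologyFunctor _ _ i).map φ) := by
      exact (congrArg (fun f => IsIso f) e).mp (inferInstanceAs (IsIso ((F.leftDerived i).map u ≫ (Q.isoLeftDerivedObj F i).hom)))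
    exact @IsIso.of_isIso_comp_left _ _ _ _ _ (P.isoLeftDerivedObj F i).hom _ _ this
  have key : ∀ (i j k : ℕ) (hj : (ComplexShape.down ℕ).prev i = j) (hk : (ComplexShape.down ℕ).next i = k),
      IsIso (ShortComplex.homologyMap ((HomologicalComplex.shortComplexFunctor' _ _ j i k).map
        ((F.mapHomologicalComplex _).map φ))) := by
    intro i j k hj hk
    subst hj
    subst hk
    exact hiso i
  have ks : ∀ i : ℕ, IsIso (ShortComplex.homologyMap ((HomologicalComplex.shortComplexFunctor' _ _ (i + 2) (i + 1) i).map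
        ((F.mapHomologicalComplex (ComplexShape.down ℕ)).map φ))) :=
    fun i => key (i + 1) (i + 2) i (by simp) (by simp)
  have k0 : IsIso (ShortComplex.homologyMap ((HomologicalComplex.shortComplexFunctor' _ _ 1 0 0).map
        ((F.mapHomologicalComplex (ComplexShape.down ℕ)).map φ))) :=
    key 0 1 0 (by simp) (by simp)
  have hd00 : ∀ R : ProjectiveResolution M, (R.complex.d 0 0).hom.lTensor X = 0 := fun R => by
    rw [R.complex.shape 0 0 (by simp)]; exact LinearMap.lTensor_zero X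
  have hd00' : (Q.complex.d 0 0).hom.lTensor X = 0 := by
    rw [Q.complex.shape 0 0 (by simp)]; exact LinearMap.lTensor_zero X
  refine ⟨fun i => ?_, fun z hz => ?_, fun i => ?_, fun q => ?_⟩
  · have := ks i
    exact (homology_iso_elements ((HomologicalComplex.shortComplexFunctor' _ _ (i + 2) (i + 1) i).map
        ((F.mapHomologicalComplex (ComplexShape.down ℕ)).map φ))).1
  · exact (homology_iso_elements ((HomologicalComplex.shortComplexFunctor' _ _ 1 0 0).map
        ((F.mapHomologicalComplex (ComplexShape.down ℕ)).map φ))).1 z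
      (show (P.complex.d 0 0).hom.lTensor X z = 0 by rw [hd00 P]; rfl) hz
  · have := ks i
    exact (homology_iso_elements ((HomologicalComplex.shortComplexFunctor' _ _ (i + 2) (i + 1) i).map
        ((F.mapHomologicalComplex (ComplexShape.down ℕ)).map φ))).2
  · obtain ⟨z, -, hz⟩ := (homology_iso_elements ((HomologicalComplex.shortComplexFunctor' _ _ 1 0 0).map
        ((F.mapHomologicalComplex (ComplexShape.down ℕ)).map φ))).2 q
      (show (Q.complex.d 0 0).hom.lTensor X q = 0 by rw [hd00']; rfl)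
    exact ⟨z, hz⟩

section Exact

variable (X : Type u) [AddCommGroup X] [Module A X]

omit [AddCommGroup X] [Module A X] in
theorem prodRight_cone (X : Type u) [AddCommGroup X] [Module A X] (n : ℕ)
    (w : X ⊗[A] (P.complex.X (n + 1) × Q.complex.X (n + 2))) :
    TensorProduct.prodRight A A X (P.complex.X n) (Q.complex.X (n + 1)) ((stepD P Q φ n).lTensor X w) =
      (-(P.complex.d (n + 1) n).hom.lTensor X (TensorProduct.prodRight A A X _ _ w).1,
        (φ.f (n + 1)).hom.lTensor X (TensorProduct.prodRight A A X _ _ w).1 +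
          (Q.complex.d (n + 2) (n + 1)).hom.lTensor X (TensorProduct.prodRight A A X _ _ w).2) := by
  induction w using TensorProduct.induction_on with
  | zero => simp [Prod.zero_eq_mk]
  | tmul x y => exact Prod.ext (by simp [stepD, TensorProduct.tmul_neg]) (by simp [stepD, TensorProduct.tmul_add])
  | add a b ha hb =>
    rw [map_add, map_add, map_add, ha, hb]
    simp only [map_add, Prod.fst_add, Prod.snd_add, Prod.mk_add_mk]
    congr 1 <;> abel

theorem prodRight_cone_one (w : X ⊗[A] (P.complex.X 0 × Q.complex.X 1)) :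
    (stepOne P Q φ).lTensor X w =
      (φ.f 0).hom.lTensor X (TensorProduct.prodRight A A X _ _ w).1 +
        (Q.complex.d 1 0).hom.lTensor X (TensorProduct.prodRight A A X _ _ w).2 := by
  induction w using TensorProduct.induction_on with
  | zero => simp
  | tmul x y => simp [stepOne, TensorProduct.tmul_add]
  | add a b ha hb =>
    rw [map_add, map_add, ha, hb]
    simp only [map_add, Prod.fst_add, Prod.snd_add]
    abel

end Exact

theorem comm_tensor (X : Type u) [AddCommGroup X] [Module A X] (n : ℕ) (z : X ⊗[A] P.complex.X (n + 1)) :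
    (Q.complex.d (n + 1) n).hom.lTensor X ((φ.f (n + 1)).hom.lTensor X z) =
      (φ.f n).hom.lTensor X ((P.complex.d (n + 1) n).hom.lTensor X z) := by
  rw [← LinearMap.lTensor_comp_apply, ← LinearMap.lTensor_comp_apply]
  exact congrArg (fun f : P.complex.X (n + 1) ⟶ Q.complex.X n => f.hom.lTensor X z) (φ.comm (n + 1) n)

theorem surj_one (X : ModuleCat.{u} A) (hG : Good P Q φ X) (q : X ⊗[A] Q.complex.X 0) :
    ∃ w, (stepOne P Q φ).lTensor X w = q := by
  obtain ⟨a, b, hb⟩ := hG.2.2.2 q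
  refine ⟨(TensorProduct.prodRight A A X _ _).symm (a, b), ?_⟩
  rw [prodRight_cone_one, LinearEquiv.apply_symm_apply, hb, add_sub_cancel]

theorem exact_one (X : ModuleCat.{u} A) (hG : Good P Q φ X)
    (z : X ⊗[A] (P.complex.X 0 × Q.complex.X 1)) (hz : (stepOne P Q φ).lTensor X z = 0) :
    ∃ w, (stepD P Q φ 0).lTensor X w = z := by
  obtain ⟨hinj, hinj0, hsurj, hsurj0⟩ := hG
  rw [prodRight_cone_one] at hz
  let e := TensorProduct.prodRight A A X (P.complex.X 0) (Q.complex.X 1)
  obtain ⟨z₁, hz₁⟩ := hinj0 (e z).1 ⟨-(e z).2, by rw [map_neg, neg_eq_iff_add_eq_zero]; exact (add_comm _ _).trans hz⟩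
  obtain ⟨z₂, hz₂, q₂, hq₂⟩ := hsurj 0 ((e z).2 + (φ.f 1).hom.lTensor X z₁) (by
    rw [map_add, comm_tensor, hz₁]; exact (add_comm _ _).trans hz)
  refine ⟨(TensorProduct.prodRight A A X _ _).symm (z₂ - z₁, q₂), e.injective ?_⟩
  rw [prodRight_cone, LinearEquiv.apply_symm_apply]
  refine Prod.ext ?_ ?_
  · simp only []
    rw [map_sub, hz₂, hz₁, zero_sub, neg_neg]
  · simp only []
    rw [map_sub, hq₂]
    abel

theorem exact_succ (X : ModuleCat.{u} A) (hG : Good P Q φ X) (n : ℕ)
    (z : X ⊗[A] (P.complex.X (n + 1) × Q.complex.X (n + 2))) (hz : (stepD P Q φ n).lTensor X z = 0) :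
    ∃ w, (stepD P Q φ (n + 1)).lTensor X w = z := by
  obtain ⟨hinj, hinj0, hsurj, hsurj0⟩ := hG
  have hz' := (prodRight_cone P Q φ X n z).symm
  rw [hz, map_zero, Prod.mk_eq_zero, neg_eq_zero] at hz'
  let e := TensorProduct.prodRight A A X (P.complex.X (n + 1)) (Q.complex.X (n + 2))
  obtain ⟨hzP, hzQ⟩ := hz'
  obtain ⟨z₁, hz₁⟩ := hinj n (e z).1 hzP ⟨-(e z).2, by
    rw [map_neg, neg_eq_iff_add_eq_zero]; exact (add_comm _ _).trans hzQ⟩
  obtain ⟨z₂, hz₂, q₂, hq₂⟩ := hsurj (n + 1) ((e z).2 + (φ.f (n + 2)).hom.lTensor X z₁) (by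
    rw [map_add, comm_tensor, hz₁]; exact (add_comm _ _).trans hzQ)
  refine ⟨(TensorProduct.prodRight A A X _ _).symm (z₂ - z₁, q₂), e.injective ?_⟩
  rw [prodRight_cone, LinearEquiv.apply_symm_apply]
  refine Prod.ext ?_ ?_
  · simp only []
    rw [map_sub, hz₂, hz₁, zero_sub, neg_neg]
  · simp only []
    rw [map_sub, hq₂]
    abel

theorem ex_of_good (X : ModuleCat.{u} A) (hG : Good P Q φ X) : ∀ i : ℕ,
    Ex (fun n => coneX P Q n) (coneD P Q φ) X i
  | 0 => fun z => ⟨fun _ => surj_one P Q φ X hG z,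
      fun ⟨w, hw⟩ => hw ▸ dd (C := fun n => coneX P Q n) (d := coneD P Q φ) (coneD_sq P Q φ) X 0 w⟩
  | 1 => fun z => ⟨fun hz => exact_one P Q φ X hG z hz,
      fun ⟨w, hw⟩ => hw ▸ dd (C := fun n => coneX P Q n) (d := coneD P Q φ) (coneD_sq P Q φ) X 1 w⟩
  | n + 2 => fun z => ⟨fun hz => exact_succ P Q φ X hG n z hz,
      fun ⟨w, hw⟩ => hw ▸ dd (C := fun n => coneX P Q n) (d := coneD P Q φ) (coneD_sq P Q φ) X (n + 2) w⟩

theorem isIso_of_tor_fields [IsNoetherianRing A] (u : M ⟶ N)
    (h : ∀ (x : Ideal A) [x.IsPrime] (i : ℕ),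
      IsIso (((Tor (ModuleCat.{u} A) i).obj (ModuleCat.of A x.ResidueField)).map u)) :
    IsIso u := by
  let P := projectiveResolution M
  let Q := projectiveResolution N
  let φ := ProjectiveResolution.lift u P Q
  have comm : φ.f 0 ≫ Q.π.f 0 = P.π.f 0 ≫ u := ProjectiveResolution.lift_commutes_zero u P Q
  have := cone_flat P Q
  have hex : ∀ i, Ex (fun n => coneX P Q n) (coneD P Q φ) A i := fun i =>
    ex_all (coneD_sq P Q φ) 0 (fun p k _ =>
      ex_of_good P Q φ (ModuleCat.of A p.asIdeal.ResidueField)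
        (good_of_isIso_tor P Q φ u comm _ (fun j => h p.asIdeal j)) k) A i i.zero_le
  have hexact : ∀ i (z : coneX P Q (i + 1)), coneD P Q φ i z = 0 → ∃ w, coneD P Q φ (i + 1) w = z := by
    intro i z hz
    obtain ⟨w, hw⟩ := ((hex i) ((1 : A) ⊗ₜ z)).1 (by rw [LinearMap.lTensor_tmul, hz, TensorProduct.tmul_zero])
    refine ⟨TensorProduct.lid A _ w, ?_⟩
    have := congrArg (TensorProduct.lid A (coneX P Q (i + 1))) hw
    rw [TensorProduct.lid_tmul, one_smul] at this
    rw [← this]
    clear hw this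
    induction w using TensorProduct.induction_on with
    | zero => simp
    | tmul a x => simp
    | add a b ha hb => simp only [map_add, ha, hb]
  rw [ConcreteCategory.isIso_iff_bijective]
  have hc : ∀ p, u.hom ((P.π.f 0).hom p) = (Q.π.f 0).hom ((φ.f 0).hom p) := fun p =>
    (congrArg (fun f => f.hom p) comm).symm
  have hPsurj : Function.Surjective (P.π.f 0).hom := (ModuleCat.epi_iff_surjective _).1 inferInstance
  have hQsurj : Function.Surjective (Q.π.f 0).hom := (ModuleCat.epi_iff_surjective _).1 inferInstance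
  refine ⟨fun x x' hxx => ?_, fun y => ?_⟩
  · obtain ⟨p, hp⟩ := hPsurj (x - x')
    have h0 : (Q.π.f 0).hom ((φ.f 0).hom p) = 0 := by
      rw [← hc, hp]
      show u.hom (x - x') = 0
      rw [map_sub, sub_eq_zero]
      exact hxx
    obtain ⟨q, hq⟩ := (ShortComplex.moduleCat_exact_iff _).1 Q.exact₀ _ h0
    obtain ⟨⟨p', q'⟩, hw⟩ := hexact 1 ((p, -q) : P.complex.X 0 × Q.complex.X 1) (by
      show (φ.f 0).hom p + (Q.complex.d 1 0).hom (-q) = 0
      rw [map_neg]; erw [hq]; exact add_neg_cancel _)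
    have h1 : -(P.complex.d 1 0).hom p' = p := congrArg Prod.fst hw
    have h2 : (P.π.f 0).hom p = 0 := by
      rw [← h1, map_neg]
      have : (P.π.f 0).hom ((P.complex.d 1 0).hom p') = 0 :=
        congrArg (fun f => f.hom p') P.complex_d_comp_π_f_zero
      erw [this]; exact neg_zero
    rw [← sub_eq_zero, ← hp]
    exact h2
  · obtain ⟨q, hq⟩ := hQsurj y
    obtain ⟨⟨p, q₁⟩, hw⟩ := hexact 0 q rfl
    refine ⟨(P.π.f 0).hom p, ?_⟩
    have hw' : (φ.f 0).hom p + (Q.complex.d 1 0).hom q₁ = q := hw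
    have h0 : (Q.π.f 0).hom ((Q.complex.d 1 0).hom q₁) = 0 :=
      congrArg (fun f => f.hom q₁) Q.complex_d_comp_π_f_zero
    show u.hom ((P.π.f 0).hom p) = y
    rw [hc, ← hq, ← hw', map_add]
    erw [h0]; exact (add_zero _).symm

end Groth.Agent.CAlg4.TorFields
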