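import Groth.Agent.CAlg4.KosGhost
import Groth.Agent.CAlg4.DExt
import Groth.Agent.CAlg4.TorFieldsCat
import Mathlib.Algebra.Homology.DerivedCategory.KInjective
import Mathlib.Algebra.Homology.HomotopyCategory.KInjective
import Mathlib.Algebra.Homology.Embedding.ExtendHomotopy
import Mathlib.RingTheory.Flat.Tensor
import Mathlib.Algebra.Category.ModuleCat.Injective

/-! Vanishing of transition maps on `Tor` via the character dual of a resolution. -/

universe u

open CategoryTheory CategoryTheory.Limits TensorProduct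

attribute [local instance] HasDerivedCategory.standard

namespace Groth.Agent.CAlg4.TorPro

variable {A : Type u} [CommRing A] (P : ChainComplex (ModuleCat.{u} A) ℕ)

/-- The character dual of a morphism. -/
noncomputable def D {X Y : ModuleCat.{u} A} (f : X ⟶ Y) :
    ModuleCat.of A (CharacterModule Y) ⟶ ModuleCat.of A (CharacterModule X) :=
  ModuleCat.ofHom (CharacterModule.dual f.hom)

theorem D_comp {X Y Z : ModuleCat.{u} A} (f : X ⟶ Y) (g : Y ⟶ Z) : D (f ≫ g) = D g ≫ D f :=
  congrArg ModuleCat.ofHom (CharacterModule.dual_comp f.hom g.hom)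

theorem D_zero (X Y : ModuleCat.{u} A) : D (0 : X ⟶ Y) = 0 :=
  congrArg ModuleCat.ofHom CharacterModule.dual_zero

theorem D_add {X Y : ModuleCat.{u} A} (f g : X ⟶ Y) : D (f + g) = D f + D g := by
  ext (χ : CharacterModule Y) m
  exact map_add χ _ _

theorem D_smul_id (x : A) (X : ModuleCat.{u} A) : D (x • 𝟙 X) = x • 𝟙 (ModuleCat.of A (CharacterModule X)) := by
  ext (χ : CharacterModule X) m
  rfl

/-- The character dual of a chain complex. -/
noncomputable abbrev W : CochainComplex (ModuleCat.{u} A) ℕ :=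
  CochainComplex.of (fun i => ModuleCat.of A (CharacterModule (P.X i))) (fun i => D (P.d (i + 1) i))
    (fun i => by rw [← D_comp, P.d_comp_d, D_zero])

theorem W_d (i : ℕ) : (W P).d i (i + 1) = D (P.d (i + 1) i) :=
  by simp [W]

/-- Dual of a null-homotopy of a scalar. -/
noncomputable def dualHomotopy (x : A) (h : Homotopy (x • 𝟙 P) 0) : Homotopy (x • 𝟙 (W P)) 0 where
  hom i j := D (h.hom j i)
  zero i j hij := (congrArg D (h.zero j i hij)).trans (D_zero _ _)
  comm i := by
    have hx : (x • 𝟙 (W P)).f i = D ((x • 𝟙 P).f i) := (D_smul_id x (P.X i)).symm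
    rw [hx, h.comm i, HomologicalComplex.zero_f, HomologicalComplex.zero_f, add_zero, add_zero]
    rcases i with _ | i
    · rw [Homotopy.dNext_cochainComplex, Homotopy.prevD_zero_cochainComplex, W_d, Homotopy.dNext_zero_chainComplex, Homotopy.prevD_chainComplex,
        zero_add, add_zero, D_comp]
    · rw [Homotopy.dNext_cochainComplex, Homotopy.prevD_succ_cochainComplex, W_d, W_d, Homotopy.dNext_succ_chainComplex,
        Homotopy.prevD_chainComplex, D_add, D_comp, D_comp]
      exact add_comm _ _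

theorem extend_smul {ι ι' : Type*} {c : ComplexShape ι} {c' : ComplexShape ι'}
    (K : HomologicalComplex (ModuleCat.{u} A) c) (e : c.Embedding c') (x : A) :
    HomologicalComplex.extendMap (x • 𝟙 K) e = x • 𝟙 (K.extend e) := by
  ext i' : 1
  by_cases h : ∃ i, e.f i = i'
  · obtain ⟨i, rfl⟩ := h
    rw [HomologicalComplex.extendMap_f _ _ rfl]
    simp
  · exact (HomologicalComplex.isZero_extend_X _ _ _ (not_exists.1 h)).eq_of_src _ _

/-- The character dual in `ℤ`-degrees. -/
noncomputable abbrev WZ : DRing.Cx A := (W P).extend ComplexShape.embeddingUpNat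

theorem kills (x : A) (h : Homotopy (x • 𝟙 P) 0) : x • 𝟙 (DerivedCategory.Q.obj (WZ P)) = 0 := by
  rw [← Kos.Q_smul_id, ← extend_smul, DerivedCategory.Q_map_eq_of_homotopy _
    ((dualHomotopy P x h).extend ComplexShape.embeddingUpNat), HomologicalComplex.extendMap_zero,
    Functor.map_zero]

/-- A multiplication killing the resolved module is null-homotopic on a resolution. -/
noncomputable def resHomotopy {N : ModuleCat.{u} A} (R : ProjectiveResolution N) (x : A)
    (hx : ∀ y : N, x • y = 0) : Homotopy (x • 𝟙 R.complex) 0 :=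
  ProjectiveResolution.liftHomotopyZero _ (by
    apply HomologicalComplex.to_single_hom_ext
    ext z
    exact (map_smul (R.π.f 0).hom x z).trans (hx _))

theorem injective_W (hP : ∀ i, Module.Flat A (P.X i)) (i : ℕ) : Injective ((W P).X i) := by
  have := Module.Flat.iff_characterModule_injective.1 (hP i)
  exact Module.injective_object_of_injective_module A (CharacterModule (P.X i))

theorem comp_eq_zero_of_shift {M M' : ModuleCat.{u} A} (f : M' ⟶ M) (n : ℤ) (X : Dual.D A)
    (h : ∀ u : Dual.inD A M ⟶ X⟦n⟧, (DerivedCategory.singleFunctor (ModuleCat.{u} A) 0).map f ≫ u = 0)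
    (g : DerivedCategory.Q.obj ((HomologicalComplex.single (ModuleCat.{u} A) (ComplexShape.up ℤ) n).obj M) ⟶ X) :
    DerivedCategory.Q.map ((HomologicalComplex.single (ModuleCat.{u} A) (ComplexShape.up ℤ) n).map f) ≫ g = 0 := by
  let e := (DerivedCategory.singleFunctors (ModuleCat.{u} A)).shiftIso n 0 n (add_zero n)
  apply (shiftFunctor (Dual.D A) n).map_injective
  rw [Functor.map_comp, Functor.map_zero]
  refine (cancel_epi (e.inv.app M')).1 (Eq.trans ?_ comp_zero.symm)
  exact (Category.assoc _ _ _).symm.trans ((congrArg (· ≫ g⟦n⟧') (e.inv.naturality f).symm).trans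
    ((Category.assoc _ _ _).trans (h (e.inv.app M ≫ g⟦n⟧'))))

/-- Components of the extension. -/
noncomputable def WX (R : ChainComplex (ModuleCat.{u} A) ℕ) (i : ℕ) : (WZ R).X (i : ℤ) ≅ ModuleCat.of A (CharacterModule (R.X i)) :=
  (W R).extendXIso ComplexShape.embeddingUpNat rfl

theorem WZ_d (R : ChainComplex (ModuleCat.{u} A) ℕ) (i : ℕ) :
    (WZ R).d (i : ℤ) ((i + 1 : ℕ) : ℤ) = (WX R i).hom ≫ D (R.d (i + 1) i) ≫ (WX R (i + 1)).inv := by
  exact ((W R).extend_d_eq ComplexShape.embeddingUpNat rfl rfl).trans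
    (congrArg (fun d => (WX R i).hom ≫ d ≫ (WX R (i + 1)).inv) (W_d R i))

theorem rTensor_mem_range {M M' : ModuleCat.{u} A} (f : M' ⟶ M) (R : ChainComplex (ModuleCat.{u} A) ℕ)
    (hR : ∀ i, Module.Flat A (R.X i)) (p : ℕ)
    (h : ∀ g : DerivedCategory.Q.obj ((HomologicalComplex.single (ModuleCat.{u} A) (ComplexShape.up ℤ) (p : ℤ)).obj M) ⟶
      DerivedCategory.Q.obj (WZ R),
      DerivedCategory.Q.map ((HomologicalComplex.single (ModuleCat.{u} A) (ComplexShape.up ℤ) (p : ℤ)).map f) ≫ g = 0)
    (z : M' ⊗[A] R.X p) (hz : ∀ q, q + 1 = p → (R.d p q).hom.lTensor M' z = 0) :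
    f.hom.rTensor (R.X p) z ∈ LinearMap.range ((R.d (p + 1) p).hom.lTensor M) := by
  rw [← Submodule.Quotient.mk_eq_zero]
  refine CharacterModule.eq_zero_of_character_apply fun χ₀ => ?_
  let χ : CharacterModule (M ⊗[A] R.X p) :=
    CharacterModule.dual (LinearMap.range ((R.d (p + 1) p).hom.lTensor M)).mkQ χ₀
  let φ : M →ₗ[A] CharacterModule (R.X p) := CharacterModule.homEquiv.symm χ
  have hφ : ModuleCat.ofHom φ ≫ D (R.d (p + 1) p) = 0 := by
    ext m y
    exact (congrArg χ₀ ((Submodule.Quotient.mk_eq_zero _).2 ⟨m ⊗ₜ y, rfl⟩)).trans (map_zero χ₀)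
  let ψ : (HomologicalComplex.single (ModuleCat.{u} A) (ComplexShape.up ℤ) (p : ℤ)).obj M ⟶ WZ R :=
    HomologicalComplex.mkHomFromSingle (ModuleCat.ofHom φ ≫ (WX R p).inv) fun j (hj : (p : ℤ) + 1 = j) => by
      obtain rfl : j = ((p + 1 : ℕ) : ℤ) := by omega
      rw [WZ_d, Category.assoc, Iso.inv_hom_id_assoc, ← Category.assoc]
      exact (congrArg (· ≫ _) hφ).trans zero_comp
  have := injective_W R hR
  have h0 := h (DerivedCategory.Q.map ψ)
  rw [← Functor.map_comp] at h0
  set F := (HomologicalComplex.single (ModuleCat.{u} A) (ComplexShape.up ℤ) (p : ℤ)).map f ≫ ψ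
  have heq : (HomotopyCategory.quotient (ModuleCat.{u} A) (ComplexShape.up ℤ)).map F = 0 := by
    apply (CochainComplex.IsKInjective.Qh_map_bijective _ (WZ R)).1
    rw [Functor.map_zero, ← cancel_epi ((DerivedCategory.quotientCompQhIso _).inv.app _), comp_zero]
    have := (DerivedCategory.quotientCompQhIso (ModuleCat.{u} A)).inv.naturality F
    rw [h0, zero_comp] at this
    exact this.symm
  let ho := HomotopyCategory.homotopyOfEq F 0 (heq.trans ((HomotopyCategory.quotient _ _).map_zero _ _).symm)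
  have hψ : F.f (p : ℤ) = (HomologicalComplex.singleObjXSelf (ComplexShape.up ℤ) (p : ℤ) M').hom ≫ f ≫
      ModuleCat.ofHom φ ≫ (WX R p).inv := by
    show _ ≫ ψ.f (p : ℤ) = _
    rw [HomologicalComplex.single_map_f_self, show ψ.f (p : ℤ) = (HomologicalComplex.singleObjXSelf
      (ComplexShape.up ℤ) (p : ℤ) M).hom ≫ ModuleCat.ofHom φ ≫ (WX R p).inv from
      HomologicalComplex.mkHomFromSingle_f _ _]
    simp
  have hc := ho.comm (p : ℤ)
  rw [hψ, HomologicalComplex.zero_f, add_zero,
    dNext_eq _ (show (ComplexShape.up ℤ).Rel (p : ℤ) (p + 1) from rfl),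
    HomologicalComplex.single_obj_d, zero_comp, zero_add] at hc
  rcases p with _ | q
  · rw [prevD_eq _ (show (ComplexShape.up ℤ).Rel (-1 : ℤ) ((0 : ℕ) : ℤ) from rfl)] at hc
    rw [(HomologicalComplex.isZero_extend_X (W R) ComplexShape.embeddingUpNat (-1) fun i => by
          show (i : ℤ) ≠ -1
          omega).eq_of_tgt (ho.hom _ (-1)) 0, zero_comp] at hc
    have hzero : f ≫ ModuleCat.ofHom φ = 0 := by
      rw [← cancel_epi (HomologicalComplex.singleObjXSelf (ComplexShape.up ℤ) ((0 : ℕ) : ℤ) M').hom,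
        comp_zero, ← cancel_mono (WX R 0).inv, zero_comp, Category.assoc, Category.assoc]
      exact hc
    have key : ∀ t, χ (f.hom.rTensor (R.X 0) t) = 0 := by
      intro t
      induction t using TensorProduct.induction_on with
      | zero => simp
      | tmul m y => exact congrArg (fun F => F.hom m y) hzero
      | add a b ha hb => simp [map_add, ha, hb]
    exact key z
  · rw [prevD_eq _ (show (ComplexShape.up ℤ).Rel (q : ℤ) ((q + 1 : ℕ) : ℤ) from by simp), WZ_d] at hc
    let w : M' ⟶ (W R).X q :=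
      (HomologicalComplex.singleObjXSelf (ComplexShape.up ℤ) ((q + 1 : ℕ) : ℤ) M').inv ≫
        ho.hom _ (q : ℤ) ≫ (WX R q).hom
    have hw : f ≫ ModuleCat.ofHom φ = w ≫ D (R.d (q + 1) q) := by
      rw [← cancel_epi (HomologicalComplex.singleObjXSelf (ComplexShape.up ℤ) ((q + 1 : ℕ) : ℤ) M').hom,
        ← cancel_mono (WX R (q + 1)).inv]
      simp only [w, Category.assoc, Iso.hom_inv_id_assoc]
      exact hc
    let η : CharacterModule (M' ⊗[A] R.X q) := CharacterModule.homEquiv w.hom
    have key : ∀ t, χ (f.hom.rTensor (R.X (q + 1)) t) = η ((R.d (q + 1) q).hom.lTensor M' t) := by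
      intro t
      induction t using TensorProduct.induction_on with
      | zero => simp
      | tmul m y => exact congrArg (fun F => F.hom m y) hw
      | add a b ha hb => simp [map_add, ha, hb]
    refine ((key z).trans ?_)
    rw [hz q rfl, map_zero]

end Groth.Agent.CAlg4.TorPro

namespace Groth.Agent.CAlg4.TorPro

variable {A : Type u} [CommRing A]

theorem range_d_prev {C : ChainComplex (ModuleCat.{u} A) ℕ} (p : ℕ) :
    ∀ j, j = p + 1 → LinearMap.range (C.d j p).hom = LinearMap.range (C.d (p + 1) p).hom := by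
  rintro _ rfl; rfl

theorem d_next_eq_zero {C : ChainComplex (ModuleCat.{u} A) ℕ} (p : ℕ) (z : C.X p) :
    ∀ j, (C.d p j).hom z = 0 → ∀ q, j = q → (C.d p q).hom z = 0 := by
  rintro _ h _ rfl; exact h

theorem tor_map_eq_zero [IsNoetherianRing A] (I : Ideal A) (M : ModuleCat.{u} A) [Module.Finite A M]
    (N : ModuleCat.{u} A) (hN : ∀ a ∈ I, ∀ y : N, a • y = 0) :
    ∃ n : ℕ, 0 < n ∧ ∀ (M' : ModuleCat.{u} A) (f : M' ⟶ M),
      (∀ x, f.hom x ∈ (I ^ n • ⊤ : Submodule A M)) →
        ∀ p : ℕ, ((CategoryTheory.Tor (ModuleCat.{u} A) p).map f).app N = 0 := by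
  obtain ⟨n, hn0, hn⟩ := Kos.exists_comp_eq_zero I M
  refine ⟨n, hn0, fun M' f hf p => ?_⟩
  let R := projectiveResolution N
  have hker : ∀ x ∈ I, x • 𝟙 (DerivedCategory.Q.obj (WZ R.complex)) = 0 := fun x hx =>
    kills R.complex x (resHomotopy R x (hN x hx))
  have hg : ∀ g, DerivedCategory.Q.map
      ((HomologicalComplex.single (ModuleCat.{u} A) (ComplexShape.up ℤ) (p : ℤ)).map f) ≫ g = 0 :=
    fun g => comp_eq_zero_of_shift f (p : ℤ) (DerivedCategory.Q.obj (WZ R.complex))
      (fun u => hn M' f hf _ (fun x hx => Kos.smul_id_iso (A := A) (Iso.refl _)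
        (show x • 𝟙 ((DerivedCategory.Q.obj (WZ R.complex))⟦(p : ℤ)⟧) = 0 by
          rw [← CategoryTheory.Functor.map_id, ← Functor.map_smul, hker x hx, Functor.map_zero])) u) g
  show (NatTrans.leftDerived ((MonoidalCategory.tensoringLeft (ModuleCat.{u} A)).map f) p).app N = 0
  rw [ProjectiveResolution.leftDerived_app_eq _ R]
  have h0 : (HomologicalComplex.homologyFunctor (ModuleCat.{u} A) (ComplexShape.down ℕ) p).map
      ((NatTrans.mapHomologicalComplex ((MonoidalCategory.tensoringLeft (ModuleCat.{u} A)).map f)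
        (ComplexShape.down ℕ)).app R.complex) = 0 := Kos.homologyMap_eq_zero _ fun z hz => by
    have hmem := rTensor_mem_range f R.complex (TorFields.flat_resolution R) p hg z (fun q hq =>
      d_next_eq_zero (C := (((MonoidalCategory.tensoringLeft (ModuleCat.{u} A)).obj M').mapHomologicalComplex
        (ComplexShape.down ℕ)).obj R.complex) p z _ hz q (by subst hq; exact ChainComplex.next_nat_succ q))
    exact (range_d_prev (C := (((MonoidalCategory.tensoringLeft (ModuleCat.{u} A)).obj M).mapHomologicalComplex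
        (ComplexShape.down ℕ)).obj R.complex) p _ (ChainComplex.prev ℕ p)).ge hmem
  rw [h0, zero_comp, comp_zero]

end Groth.Agent.CAlg4.TorPro
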